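import Cfsg.Agent.Lib.Sporadic.RuMult.Outer

/-!
# The five-part of the multiplier

A Sylow five-subgroup is extraspecial of exponent five with two generators inverted by an involution, so
it has a complement in a central extension by an elementary abelian five-group.
-/

set_option autoImplicit false
set_option maxRecDepth 100000
set_option maxHeartbeats 1000000

namespace CfsgLib.Sporadic.RuMult

open CfsgLib.Sporadic CfsgLib.Sporadic.RuMod
open scoped commutatorElement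

section generic

variable {G : Type*} [Group G]

/-- Two elements of order `p` with central commutator of order dividing `p`. -/
structure Heis (p : ℕ) (a b c : G) : Prop where
  pa : a ^ p = 1
  pb : b ^ p = 1
  pc : c ^ p = 1
  ca : Commute c a
  cb : Commute c b
  ab : a * b = c * (b * a)

namespace Heis

variable {p : ℕ} {a b c : G} (H : Heis p a b c)
include H

theorem a_bpow : ∀ j : ℕ, a * b ^ j = b ^ j * a * c ^ j
  | 0 => by simp
  | j + 1 => by
    have e1 : a * b = b * a * c := by rw [H.ab, ← mul_assoc, H.cb.eq, mul_assoc b, H.ca.eq, ← mul_assoc]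
    rw [pow_succ b, ← mul_assoc, a_bpow j, mul_assoc (b ^ j * a), (H.cb.pow_left j).eq, ← mul_assoc,
      mul_assoc (b ^ j) a, e1, pow_succ' c]
    simp only [mul_assoc]

theorem b_apow (hp : 0 < p) : ∀ i : ℕ, b * a ^ i = a ^ i * b * c ^ ((p - 1) * i)
  | 0 => by simp
  | i + 1 => by
    have e1 : b * a = a * b * c ^ (p - 1) := by
      rw [H.ab, mul_assoc c, ← ((H.cb.pow_left (p - 1)).mul_right (H.ca.pow_left (p - 1))).eq, ← mul_assoc,
        ← pow_succ', Nat.sub_add_cancel hp, H.pc, one_mul]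
    rw [pow_succ a, ← mul_assoc, b_apow hp i, mul_assoc (a ^ i * b), (H.ca.pow_left _).eq, ← mul_assoc,
      mul_assoc (a ^ i) b, e1, Nat.mul_succ, add_comm, pow_add]
    simp only [mul_assoc]

theorem inj (hp : p.Prime) (hc : c ≠ 1) {i j k i' j' k' : ℕ} (hi : i < p) (hj : j < p) (hk : k < p)
    (hi' : i' < p) (hj' : j' < p) (hk' : k' < p) (e : a ^ i * b ^ j * c ^ k = a ^ i' * b ^ j' * c ^ k') :
    i = i' ∧ j = j' ∧ k = k' := by
  haveI := Fact.mk hp
  have ho : orderOf c = p := orderOf_eq_prime H.pc hc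
  have hinj : ∀ m n : ℕ, c ^ m = c ^ n → m % p = n % p := fun m n h => by
    rw [pow_eq_pow_iff_modEq, ho] at h; exact h
  have conjb : ∀ i j k : ℕ, b * (a ^ i * b ^ j * c ^ k) = a ^ i * b ^ j * c ^ k * b * c ^ ((p - 1) * i) := by
    intro i j k
    rw [← mul_assoc, ← mul_assoc, H.b_apow hp.pos i, mul_assoc (a ^ i * b), (H.cb.pow_pow ((p - 1) * i) j).eq]
    have h1 : c ^ k * b = b * c ^ k := (H.cb.pow_left k).eq
    have h2 : b * b ^ j = b ^ j * b := (pow_mul_comm' b j).symm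
    calc a ^ i * b * (b ^ j * c ^ ((p - 1) * i)) * c ^ k
        = a ^ i * (b * b ^ j) * (c ^ ((p - 1) * i) * c ^ k) := by group
      _ = a ^ i * (b ^ j * b) * (c ^ k * c ^ ((p - 1) * i)) := by rw [h2, ← pow_add, ← pow_add, add_comm]
      _ = a ^ i * b ^ j * (b * c ^ k) * c ^ ((p - 1) * i) := by group
      _ = _ := by rw [← h1]; group
  have hi0 : i = i' := by
    have h := conjb i j k
    rw [e, conjb i' j' k', mul_right_inj] at h
    have hh := hinj _ _ h
    have hcop : Nat.Coprime p (p - 1) := (Nat.coprime_self_sub_right hp.one_le).2 (Nat.coprime_one_right p)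
    have := Nat.ModEq.cancel_left_of_coprime hcop (show (p - 1) * i' ≡ (p - 1) * i [MOD p] from hh)
    exact (Nat.ModEq.eq_of_lt_of_lt this hi' hi).symm
  subst hi0
  rw [mul_assoc, mul_assoc, mul_right_inj] at e
  have conja : ∀ j k : ℕ, a * (b ^ j * c ^ k) = b ^ j * c ^ k * a * c ^ j := by
    intro j k
    rw [← mul_assoc, H.a_bpow j]
    have h1 : c ^ k * a = a * c ^ k := (H.ca.pow_left k).eq
    calc b ^ j * a * c ^ j * c ^ k = b ^ j * a * (c ^ j * c ^ k) := by group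
      _ = b ^ j * (a * c ^ k) * c ^ j := by rw [← pow_add, add_comm, pow_add]; group
      _ = _ := by rw [← h1]; group
  have hj0 : j = j' := by
    have h := conja j k
    rw [e, conja j' k', mul_right_inj] at h
    have hh := hinj _ _ h
    rw [Nat.mod_eq_of_lt hj, Nat.mod_eq_of_lt hj'] at hh
    exact hh.symm
  subst hj0
  rw [mul_right_inj] at e
  have hh := hinj _ _ e
  rw [Nat.mod_eq_of_lt hk, Nat.mod_eq_of_lt hk'] at hh
  exact ⟨rfl, rfl, hh⟩

theorem form [Finite G] (hp : 0 < p) {x : G} (hx : x ∈ Subgroup.closure ({a, b} : Set G)) :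
    ∃ i < p, ∃ j < p, ∃ k < p, x = a ^ i * b ^ j * c ^ k := by
  suffices ∃ i j k : ℕ, x = a ^ i * b ^ j * c ^ k by
    obtain ⟨i, j, k, rfl⟩ := this
    refine ⟨i % p, Nat.mod_lt _ hp, j % p, Nat.mod_lt _ hp, k % p, Nat.mod_lt _ hp, ?_⟩
    rw [← pow_mod_orderOf a, ← pow_mod_orderOf b, ← pow_mod_orderOf c,
      ← Nat.mod_mod_of_dvd i (orderOf_dvd_of_pow_eq_one H.pa), ← Nat.mod_mod_of_dvd j (orderOf_dvd_of_pow_eq_one H.pb),
      ← Nat.mod_mod_of_dvd k (orderOf_dvd_of_pow_eq_one H.pc), pow_mod_orderOf, pow_mod_orderOf, pow_mod_orderOf]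
  rw [← Subgroup.mem_toSubmonoid, Subgroup.closure_toSubmonoid_of_finite] at hx
  induction hx using Submonoid.closure_induction_left with
  | one => exact ⟨0, 0, 0, by simp⟩
  | mul_left y hy z _ ih =>
    obtain ⟨i, j, k, rfl⟩ := ih
    rcases hy with hy | hy
    · exact ⟨i + 1, j, k, by rw [hy, pow_succ' a]; simp only [mul_assoc]⟩
    · refine ⟨i, j + 1, (p - 1) * i + k, ?_⟩
      rw [Set.mem_singleton_iff.1 hy, ← mul_assoc, ← mul_assoc, H.b_apow hp i, mul_assoc (a ^ i * b),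
        (H.cb.pow_pow _ j).eq, pow_succ' b, pow_add]
      simp only [mul_assoc]

theorem card_closure [Finite G] (hp : p.Prime) (hc : c ≠ 1) :
    Nat.card (Subgroup.closure ({a, b} : Set G)) = p * (p * p) := by
  have hcm : c ∈ Subgroup.closure ({a, b} : Set G) := by
    rw [show c = a * b * (b * a)⁻¹ by rw [H.ab, mul_inv_cancel_right]]
    exact mul_mem (mul_mem (Subgroup.subset_closure (Or.inl rfl)) (Subgroup.subset_closure (Or.inr rfl)))
      (inv_mem (mul_mem (Subgroup.subset_closure (Or.inr rfl)) (Subgroup.subset_closure (Or.inl rfl))))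
  have ham : a ∈ Subgroup.closure ({a, b} : Set G) := Subgroup.subset_closure (Or.inl rfl)
  have hbm : b ∈ Subgroup.closure ({a, b} : Set G) := Subgroup.subset_closure (Or.inr rfl)
  let f : Fin p × Fin p × Fin p → Subgroup.closure ({a, b} : Set G) := fun t =>
    ⟨a ^ t.1.val * b ^ t.2.1.val * c ^ t.2.2.val, mul_mem (mul_mem
      (pow_mem ham _) (pow_mem hbm _))
      (pow_mem hcm _)⟩
  have hf : Function.Bijective f := by
    refine ⟨fun s t h => ?_, fun x => ?_⟩
    · obtain ⟨h1, h2, h3⟩ := H.inj hp hc s.1.isLt s.2.1.isLt s.2.2.isLt t.1.isLt t.2.1.isLt t.2.2.isLt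
        (congrArg Subtype.val h)
      exact Prod.ext (Fin.ext h1) (Prod.ext (Fin.ext h2) (Fin.ext h3))
    · obtain ⟨i, hi, j, hj, k, hk, e⟩ := H.form hp.pos x.2
      exact ⟨(⟨i, hi⟩, ⟨j, hj⟩, ⟨k, hk⟩), Subtype.ext e.symm⟩
  rw [← Nat.card_eq_of_bijective f hf, Nat.card_prod, Nat.card_prod, Nat.card_fin]

end Heis

/-- The commutators of a lifted subgroup lie in a subgroup covering it. -/
theorem commutator_le_cover {Γ : Type*} [Group Γ] (σ : Γ →* G) (hc : σ.ker ≤ Subgroup.center Γ) {U : Subgroup G}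
    {S : Subgroup Γ} (h : S.map σ = U) : ⁅U.comap σ, U.comap σ⁆ ≤ S := by
  rw [Subgroup.commutator_le]
  intro x hx y hy
  rw [Subgroup.mem_comap, ← h] at hx hy
  obtain ⟨s, hs1, ex⟩ := hx
  obtain ⟨s', hs2, ey⟩ := hy
  have hk : ∀ {s x : Γ}, σ s = σ x → ∃ z, (∀ t, Commute t z) ∧ x = s * z := fun {s x} e =>
    ⟨s⁻¹ * x, fun t => Subgroup.mem_center_iff.1
      (hc (by rw [MonoidHom.mem_ker, map_mul, map_inv, e, inv_mul_cancel])) t, (mul_inv_cancel_left _ _).symm⟩
  obtain ⟨z, hz, rfl⟩ := hk ex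
  obtain ⟨w, hw, rfl⟩ := hk ey
  have e : ⁅s * z, s' * w⁆ = ⁅s, s'⁆ := by
    rw [commutatorElement_def, commutatorElement_def, mul_inv_rev, mul_inv_rev]
    calc s * z * (s' * w) * (z⁻¹ * s⁻¹) * (w⁻¹ * s'⁻¹)
        = s * (z * (s' * w)) * z⁻¹ * s⁻¹ * (w⁻¹ * s'⁻¹) := by group
      _ = s * s' * (w * s⁻¹) * w⁻¹ * s'⁻¹ := by rw [← (hz _).eq]; group
      _ = s * s' * (s⁻¹ * w) * w⁻¹ * s'⁻¹ := by rw [← (hw _).eq]
      _ = _ := by group
  rw [e, commutatorElement_def]
  exact mul_mem (mul_mem (mul_mem hs1 hs2) (inv_mem hs1)) (inv_mem hs2)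

/-- Lifts of an element inverted by another, the kernel having odd exponent `p`. -/
theorem exists_inverted_lift {Γ : Type*} [Group Γ] (σ : Γ →* G) (hs : Function.Surjective σ)
    (hc : σ.ker ≤ Subgroup.center Γ) {p : ℕ} (hp : Odd p) (he : ∀ z ∈ σ.ker, z ^ p = 1) {t a : G}
    (h : t * a = a⁻¹ * t) (ha : a ^ p = 1) {T : Γ} (hT : σ T = t) :
    ∃ A, σ A = a ∧ T * A * T⁻¹ = A⁻¹ ∧ A ^ p = 1 := by
  obtain ⟨A, hA⟩ := hs a
  set k := A * (T * A * T⁻¹) with hkdef
  have hk : k ∈ σ.ker := by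
    rw [hkdef, MonoidHom.mem_ker, map_mul, map_mul, map_mul, map_inv, hA, hT, h, mul_inv_cancel_right, mul_inv_cancel]
  have hcm : ∀ (n : ℕ) g, Commute g (k ^ n) := fun n g => Commute.pow_right (Subgroup.mem_center_iff.1 (hc hk) g) n
  obtain ⟨m, hm⟩ := hp
  set A' := A * k ^ m with hA'def
  have hσ : σ A' = a := by rw [hA'def, map_mul, map_pow, MonoidHom.mem_ker.1 hk, one_pow, mul_one, hA]
  have hinv : T * A' * T⁻¹ = A'⁻¹ := by
    refine eq_inv_of_mul_eq_one_right ?_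
    calc A' * (T * A' * T⁻¹) = A * k ^ m * (T * A * k ^ m * T⁻¹) := by rw [hA'def]; group
      _ = A * k ^ m * (T * A * (T⁻¹ * k ^ m)) := by rw [(hcm m T⁻¹).eq]; group
      _ = A * (k ^ m * (T * A * T⁻¹)) * k ^ m := by group
      _ = k * k ^ m * k ^ m := by rw [← (hcm m (T * A * T⁻¹)).eq, hkdef]; group
      _ = k ^ p := by rw [hm, ← pow_succ', ← pow_add]; congr 1; omega
      _ = 1 := he k hk
  refine ⟨A', hσ, hinv, ?_⟩
  have hw : A' ^ p ∈ σ.ker := by rw [MonoidHom.mem_ker, map_pow, hσ, ha]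
  have e : A' ^ p = (A' ^ p)⁻¹ := by
    conv_lhs => rw [← mul_inv_cancel_right (A' ^ p) T, ← Subgroup.mem_center_iff.1 (hc hw) T]
    rw [← conj_pow, hinv, inv_pow]
  have h2 : (A' ^ p) ^ 2 = 1 := by rw [sq]; conv_lhs => arg 2; rw [e]
                                   exact mul_inv_cancel _
  have hg : (A' ^ p) ^ Nat.gcd 2 p = 1 := pow_gcd_eq_one.2 ⟨h2, he _ hw⟩
  rwa [Nat.Coprime.gcd_eq_one (Nat.coprime_two_left.2 ⟨m, hm⟩), pow_one] at hg

/-- Inverted lifts of the generators satisfy the relations of the group. -/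
theorem heis_lift {Γ : Type*} [Group Γ] (σ : Γ →* G) (hc : σ.ker ≤ Subgroup.center Γ) {p : ℕ} (hp : Odd p)
    (he : ∀ z ∈ σ.ker, z ^ p = 1) {a b c : G} (H : Heis p a b c) {T A B : Γ} (hA : σ A = a) (hB : σ B = b)
    (iA : T * A * T⁻¹ = A⁻¹) (iB : T * B * T⁻¹ = B⁻¹) (pA : A ^ p = 1) (pB : B ^ p = 1) :
    Heis p A B ⁅A, B⁆ ∧ σ ⁅A, B⁆ = c := by
  have hσC : σ ⁅A, B⁆ = c := by
    rw [map_commutatorElement, hA, hB, commutatorElement_def, H.ab]; group
  have cen : ∀ {w : Γ}, σ w = 1 → ∀ t, Commute t w := fun hw t => Subgroup.mem_center_iff.1 (hc hw) t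
  set C := ⁅A, B⁆ with hC
  have hC' : T * C * T⁻¹ = ⁅A⁻¹, B⁻¹⁆ := by
    rw [hC, ← iA, ← iB, commutatorElement_def, commutatorElement_def]; group
  have hσC' : σ ⁅A⁻¹, B⁻¹⁆ = c := by
    rw [map_commutatorElement, map_inv, map_inv, hA, hB, commutatorElement_def, inv_inv, inv_inv]
    calc a⁻¹ * b⁻¹ * a * b = a⁻¹ * b⁻¹ * (a * b) := by group
      _ = a⁻¹ * b⁻¹ * (c * (b * a)) := by rw [H.ab]
      _ = a⁻¹ * b⁻¹ * ((b * a) * c) := by rw [(H.cb.mul_right H.ca).eq]
      _ = c := by group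
  have comm : ∀ {X : Γ}, T * X * T⁻¹ = X⁻¹ → Commute c (σ X) → Commute C X := by
    intro X iX hcX
    set k := ⁅C, X⁆ with hk
    have hkk : σ k = 1 := by
      rw [hk, map_commutatorElement, hσC, commutatorElement_eq_one_iff_commute]; exact hcX
    set w := C⁻¹ * ⁅A⁻¹, B⁻¹⁆ with hw
    have hww : σ w = 1 := by rw [hw, map_mul, map_inv, hσC, hσC', inv_mul_cancel]
    have e1 : k = ⁅C * w, X⁻¹⁆ := by
      rw [show C * w = T * C * T⁻¹ by rw [hC', hw, mul_inv_cancel_left], ← iX]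
      conv_lhs => rw [← mul_inv_cancel_right k T, ← (cen hkk T).eq]
      rw [hk, commutatorElement_def, commutatorElement_def]; group
    have e2 : ⁅C * w, X⁻¹⁆ = k⁻¹ := by
      rw [commutatorElement_def, inv_inv, mul_inv_rev]
      calc C * w * X⁻¹ * (w⁻¹ * C⁻¹) * X = C * (w * X⁻¹) * w⁻¹ * C⁻¹ * X := by group
        _ = C * X⁻¹ * C⁻¹ * X := by rw [← (cen hww X⁻¹).eq]; group
        _ = X⁻¹ * (k⁻¹ * X) := by rw [hk, commutatorElement_def]; group
        _ = X⁻¹ * (X * k⁻¹) := by rw [((cen hkk X).inv_right).eq]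
        _ = _ := by group
    have h2 : k ^ 2 = 1 := by rw [sq]; conv_lhs => arg 2; rw [e1, e2]
                              exact mul_inv_cancel _
    have hg : k ^ Nat.gcd 2 p = 1 := pow_gcd_eq_one.2 ⟨h2, he _ (MonoidHom.mem_ker.2 hkk)⟩
    rw [Nat.Coprime.gcd_eq_one (Nat.coprime_two_left.2 hp), pow_one] at hg
    exact commutatorElement_eq_one_iff_commute.1 hg
  have hCA : Commute C A := comm iA (hA ▸ H.ca)
  have hCB : Commute C B := comm iB (hB ▸ H.cb)
  refine ⟨⟨pA, pB, ?_, hCA, hCB, by rw [hC, commutatorElement_def]; group⟩, hσC⟩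
  have e3 : A * B * A⁻¹ = C * B := by rw [hC, commutatorElement_def]; group
  have e4 := congrArg (· ^ p) e3
  simp only [conj_pow, pB, mul_one, mul_inv_cancel, hCB.mul_pow] at e4
  exact e4.symm

end generic

/-- The relations on the two generators of a five-subgroup and its inverting involution. -/
noncomputable def fiveChecks : Bool :=
  Nat.beq (mpow (code 8) 5) one && Nat.beq (mpow (code 9) 5) one && Nat.beq (mpow (code 10) 5) one &&
    Nat.beq (mm (code 10) (code 8)) (mm (code 8) (code 10)) && Nat.beq (mm (code 10) (code 9)) (mm (code 9) (code 10)) &&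
    Nat.beq (mm (code 8) (code 9)) (mm (code 10) (mm (code 9) (code 8))) &&
    Nat.beq (mm (code 11) (code 8)) (mm (codeInv 8) (code 11)) &&
    Nat.beq (mm (code 11) (code 9)) (mm (codeInv 9) (code 11)) && !Nat.beq (code 10) one

theorem five_ok : fiveChecks = true ∧ code 10 < 2 ^ 784 := by decide +kernel

attribute [local irreducible] mm dec in
theorem five_facts : Heis 5 (el 8) (el 9) (el 10) ∧ el 11 * el 8 = (el 8)⁻¹ * el 11 ∧
    el 11 * el 9 = (el 9)⁻¹ * el 11 ∧ el 10 ≠ 1 ∧ el 10 ∈ RG := by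
  obtain ⟨h, hlt⟩ := five_ok
  simp only [fiveChecks, Bool.and_eq_true, Bool.not_eq_true', Nat.beq_eq] at h
  obtain ⟨⟨⟨⟨⟨⟨⟨⟨h1, h2⟩, h3⟩, h4⟩, h5⟩, h6⟩, h7⟩, h8⟩, h9⟩ := h
  have hp : ∀ i < 12, mpow (code i) 5 = one → el i ^ 5 = 1 := fun i hi h => Units.ext (by
    rw [Units.val_pow_eq_pow_val, el_val hi, ← dec_mpow, h, dec_one, Units.val_one])
  have hab : el 8 * el 9 = el 10 * (el 9 * el 8) := Units.ext (by
    simp only [Units.val_mul]
    rw [el_val (by omega), el_val (by omega), el_val (by omega), ← dec_mm, ← dec_mm, ← dec_mm, h6])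
  refine ⟨⟨hp 8 (by omega) h1, hp 9 (by omega) h2, hp 10 (by omega) h3, Units.ext ?_, Units.ext ?_, hab⟩,
    Units.ext ?_, Units.ext ?_, fun e => ?_, ?_⟩
  · rw [Units.val_mul, Units.val_mul, el_val (by omega), el_val (by omega), ← dec_mm, ← dec_mm, h4]
  · rw [Units.val_mul, Units.val_mul, el_val (by omega), el_val (by omega), ← dec_mm, ← dec_mm, h5]
  · rw [Units.val_mul, Units.val_mul, el_val (by omega), el_val (by omega), el_inv_val (by omega), ← dec_mm, ← dec_mm, h7]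
  · rw [Units.val_mul, Units.val_mul, el_val (by omega), el_val (by omega), el_inv_val (by omega), ← dec_mm, ← dec_mm, h8]
  · have e' := congrArg (fun g : G28 => (g : Mat)) e
    simp only [el_val (show 10 < 12 by omega), Units.val_one, ← dec_one] at e'
    rw [dec_inj hlt one_lt e'] at h9
    simp at h9
  · rw [show el 10 = el 8 * el 9 * (el 9 * el 8)⁻¹ by rw [hab, mul_inv_cancel_right]]
    have m := members
    exact mul_mem (mul_mem m.2.2.2.2.2.2.2.2.1 m.2.2.2.2.2.2.2.2.2.1)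
      (inv_mem (mul_mem m.2.2.2.2.2.2.2.2.2.1 m.2.2.2.2.2.2.2.2.1))

/-- A Sylow five-subgroup splits in a central extension by a group of exponent five. -/
theorem five_part {Γ : Type*} [Group Γ] [Finite Γ] (σ : Γ →* RG) (hσ : Cfsg.IsStemExtension σ)
    (he : ∀ z ∈ σ.ker, z ^ 5 = 1) : ∃ U : Subgroup RG, ¬ 5 ∣ U.index ∧
      ∀ (z : Γ) (h : z ∈ U.comap σ), z ∈ σ.ker → (⟨z, h⟩ : U.comap σ) ∈ commutator (U.comap σ) → z = 1 := by
  obtain ⟨hs, hc, -⟩ := hσ
  obtain ⟨hH, ht8, ht9, hne, h10⟩ := five_facts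
  have h8 : el 8 ∈ RG := members.2.2.2.2.2.2.2.2.1
  have h9 : el 9 ∈ RG := members.2.2.2.2.2.2.2.2.2.1
  have h11 : el 11 ∈ RG := members.2.2.2.2.2.2.2.2.2.2.1
  haveI : Finite RG := Nat.finite_of_card_ne_zero (by rw [card_RG]; norm_num)
  have H : Heis 5 (gE 8) (gE 9) (gE 10) := by
    refine ⟨?_, ?_, ?_, ?_, ?_, ?_⟩ <;> refine Subtype.ext ?_ <;>
      simp only [SubmonoidClass.coe_pow, Subgroup.coe_mul, OneMemClass.coe_one, gE_val h8, gE_val h9, gE_val h10]
    exacts [hH.pa, hH.pb, hH.pc, hH.ca, hH.cb, hH.ab]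
  have hne' : gE 10 ≠ 1 := fun e => hne (by rw [← gE_val h10, e]; rfl)
  have t8 : gE 11 * gE 8 = (gE 8)⁻¹ * gE 11 := Subtype.ext (by
    simp only [Subgroup.coe_mul, Subgroup.coe_inv, gE_val h8, gE_val h11]; exact ht8)
  have t9 : gE 11 * gE 9 = (gE 9)⁻¹ * gE 11 := Subtype.ext (by
    simp only [Subgroup.coe_mul, Subgroup.coe_inv, gE_val h9, gE_val h11]; exact ht9)
  obtain ⟨T, hT⟩ := hs (gE 11)
  obtain ⟨A, hA, iA, pA⟩ := exists_inverted_lift σ hs hc (by decide) he t8 H.pa hT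
  obtain ⟨B, hB, iB, pB⟩ := exists_inverted_lift σ hs hc (by decide) he t9 H.pb hT
  obtain ⟨HL, hC⟩ := heis_lift σ hc (by decide) he H hA hB iA iB pA pB
  have hcard := H.card_closure (by norm_num) hne'
  refine ⟨Subgroup.closure {gE 8, gE 9}, fun hd => ?_, fun z h hk hcom => ?_⟩
  · have h1 := Subgroup.card_mul_index (Subgroup.closure ({gE 8, gE 9} : Set RG))
    rw [hcard, card_RG] at h1
    omega
  · have hmap : (Subgroup.closure ({A, B} : Set Γ)).map σ = Subgroup.closure {gE 8, gE 9} := by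
      rw [MonoidHom.map_closure, Set.image_pair, hA, hB]
    have hz : z ∈ ⁅(Subgroup.closure ({gE 8, gE 9} : Set RG)).comap σ,
        (Subgroup.closure ({gE 8, gE 9} : Set RG)).comap σ⁆ := by
      rw [← Subgroup.map_subtype_commutator]
      exact ⟨_, hcom, rfl⟩
    obtain ⟨i, hi, j, hj, k, hk', rfl⟩ := HL.form (by norm_num) (commutator_le_cover σ hc hmap hz)
    rw [MonoidHom.mem_ker, map_mul, map_mul, map_pow, map_pow, map_pow, hA, hB, hC] at hk
    obtain ⟨rfl, rfl, rfl⟩ := H.inj (by norm_num) hne' hi hj hk' (show 0 < 5 by norm_num) (show 0 < 5 by norm_num)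
      (show 0 < 5 by norm_num) (hk.trans (by simp))
    simp

end CfsgLib.Sporadic.RuMult
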