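import Cfsg.Agent.Lib.Sporadic.RuMult.TwoPart
import Cfsg.Agent.Lib.Sporadic.RuMult.FivePart
import Cfsg.Agent.Lib.Sporadic.MultiplierEngine
import Cfsg.Agent.Lib.Schur.TwoGen

/-!
# The multiplier has order at most two
-/

set_option autoImplicit false
set_option maxRecDepth 100000
set_option maxHeartbeats 1000000

namespace CfsgLib.Sporadic.RuMult

open CfsgLib.Sporadic CfsgLib.Sporadic.RuMod

section generic

variable {Γ Q : Type*} [Group Γ] [Group Q] (σ : Γ →* Q) (N : Subgroup Γ)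

/-- A stem extension divided by part of its kernel. -/
theorem quotient_stem [N.Normal] (hσ : Cfsg.IsStemExtension σ) (hN : N ≤ σ.ker) :
    Cfsg.IsStemExtension (QuotientGroup.lift N σ hN) ∧
      (QuotientGroup.lift N σ hN).ker = σ.ker.map (QuotientGroup.mk' N) := by
  obtain ⟨hs, hc, hder⟩ := hσ
  have hk : (QuotientGroup.lift N σ hN).ker = σ.ker.map (QuotientGroup.mk' N) := by
    ext q
    obtain ⟨x, rfl⟩ := QuotientGroup.mk_surjective q
    constructor
    · intro hx; exact ⟨x, hx, rfl⟩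
    · rintro ⟨y, hy, e⟩
      show QuotientGroup.lift N σ hN (QuotientGroup.mk x) = 1
      rw [← e]; exact hy
  refine ⟨⟨fun q => ?_, ?_, ?_⟩, hk⟩
  · obtain ⟨x, rfl⟩ := hs q
    exact ⟨QuotientGroup.mk x, rfl⟩
  · rw [hk]
    rintro _ ⟨x, hx, rfl⟩
    refine Subgroup.mem_center_iff.2 fun q => ?_
    obtain ⟨y, rfl⟩ := QuotientGroup.mk_surjective q
    exact congrArg (QuotientGroup.mk' N) (Subgroup.mem_center_iff.1 (hc hx) y)
  · rw [hk]
    refine (Subgroup.map_mono hder).trans ?_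
    rw [commutator_def, commutator_def, Subgroup.map_commutator]
    exact Subgroup.commutator_mono le_top le_top

theorem normal_of_central (hc : σ.ker ≤ Subgroup.center Γ) (hN : N ≤ σ.ker) : N.Normal :=
  ⟨fun n hn g => by rw [Subgroup.mem_center_iff.1 (hc (hN hn)) g, mul_inv_cancel_right]; exact hn⟩

/-- In a finite two-group where every square is a fourth power all squares are trivial. -/
theorem square_one [Finite Γ] {H : Subgroup Γ} (h2 : ∀ x ∈ H, ∃ m, orderOf x = 2 ^ m)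
    (h : ∀ x ∈ H, ∃ y ∈ H, x ^ 2 = y ^ 4) : ∀ x ∈ H, x ^ 2 = 1 := by
  intro x hx
  have key : ∀ n : ℕ, ∃ y ∈ H, x ^ 2 = y ^ 2 ^ (n + 1) := by
    intro n
    induction n with
    | zero => exact ⟨x, hx, rfl⟩
    | succ n ih =>
      obtain ⟨y, hy, e⟩ := ih
      obtain ⟨y', hy', e'⟩ := h y hy
      refine ⟨y', hy', ?_⟩
      rw [e, show 2 ^ (n + 1) = 2 * 2 ^ n by ring, pow_mul, e', ← pow_mul]
      congr 1
      ring
  obtain ⟨y, hy, e⟩ := key (Nat.card Γ)
  obtain ⟨m, hm⟩ := h2 y hy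
  have hle : 2 ^ m ≤ Nat.card Γ := hm ▸ Nat.le_of_dvd Nat.card_pos (orderOf_dvd_natCard y)
  have hm' : m ≤ Nat.card Γ + 1 := by have := @Nat.lt_two_pow_self m; omega
  rw [e, ← Nat.sub_add_cancel hm', pow_add, mul_comm, pow_mul, ← hm, pow_orderOf_eq_one, one_pow]

end generic

theorem index_TS : TS.index = 8120 := by
  have h := Subgroup.card_mul_index TS
  rw [card_TS, card_RG] at h
  omega

/-- The index of the Tits subgroup kills the kernel. -/
theorem pow_index {Γ : Type*} [Group Γ] [Finite Γ] (σ : Γ →* RG) (hσ : Cfsg.IsStemExtension σ) {z : Γ}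
    (hz : z ∈ σ.ker) : z ^ 8120 = 1 := by
  obtain ⟨hmap, hbot⟩ := tits_lift σ hσ.1 hσ.2.1
  rw [← index_TS]
  refine CfsgLib.Known.SL2Mult.pow_index_eq_one σ hσ TS (fun w h hk hcom => ?_) hz
  have : w ∈ titsPart σ ⊓ σ.ker := ⟨by
    rw [titsPart, ← Subgroup.map_subtype_commutator]
    exact ⟨_, hcom, rfl⟩, hk⟩
  rwa [hbot, Subgroup.mem_bot] at this

/-- The kernel is a two-group. -/
theorem order_two_pow {Γ : Type*} [Group Γ] [Finite Γ] (σ : Γ →* RG) (hσ : Cfsg.IsStemExtension σ) {z : Γ}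
    (hz : z ∈ σ.ker) : ∃ m, orderOf z = 2 ^ m := by
  haveI : Finite RG := Nat.finite_of_card_ne_zero (by rw [card_RG]; norm_num)
  refine ⟨_, Nat.eq_prime_pow_of_unique_prime_dvd (orderOf_pos z).ne' fun {r} hr hd => ?_⟩
  by_contra h2
  have := Fact.mk hr
  have h8 : r ∣ 8120 := hd.trans (orderOf_dvd_of_pow_eq_one (pow_index σ hσ hz))
  have hcases : r = 5 ∨ r = 7 ∨ r = 29 := by
    rw [show (8120 : ℕ) = 2 ^ 3 * (5 * (7 * 29)) by norm_num] at h8
    rcases hr.dvd_mul.1 h8 with h | h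
    · exact absurd ((Nat.prime_dvd_prime_iff_eq hr Nat.prime_two).1 (hr.dvd_of_dvd_pow h)) h2
    · rcases hr.dvd_mul.1 h with h | h
      · exact Or.inl ((Nat.prime_dvd_prime_iff_eq hr (by norm_num)).1 h)
      · rcases hr.dvd_mul.1 h with h | h
        · exact Or.inr (Or.inl ((Nat.prime_dvd_prime_iff_eq hr (by norm_num)).1 h))
        · exact Or.inr (Or.inr ((Nat.prime_dvd_prime_iff_eq hr (by norm_num)).1 h))
  by_cases h5 : r = 5
  · subst h5
    exact CfsgLib.Sporadic.Mult.kills_prime σ hσ 5 (fun Δ _ _ τ hτ he => five_part τ hτ he) hz hd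
  have hr7 : r = 7 ∨ r = 29 := hcases.resolve_left h5
  obtain ⟨x, hx⟩ := exists_prime_orderOf_dvd_card' (G := RG) r
    (by rw [card_RG]; rcases hr7 with rfl | rfl <;> norm_num)
  have hidx : ¬ r ∣ (Subgroup.zpowers x).index := by
    intro h
    have h1 := Subgroup.card_mul_index (Subgroup.zpowers x)
    rw [Nat.card_zpowers, hx, card_RG] at h1
    obtain ⟨q, hq⟩ := h
    rw [hq] at h1
    rcases hr7 with rfl | rfl <;> omega
  exact hidx (hd.trans (orderOf_dvd_of_pow_eq_one (CfsgLib.Known.SL2Mult.pow_index_eq_one σ hσ _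
    (fun w h hk hcom => CfsgLib.Known.SL2Mult.trivial_of_mult σ hσ _
      (CfsgLib.Schur.hasCyclicSchurMultiplier_one_of_isCyclic _) w h hk hcom) hz)))

theorem titsPart_map {Γ : Type*} [Group Γ] (σ : Γ →* RG) (N : Subgroup Γ) [N.Normal] (hN : N ≤ σ.ker) :
    (titsPart σ).map (QuotientGroup.mk' N) ≤ titsPart (QuotientGroup.lift N σ hN) := by
  rw [titsPart, Subgroup.map_commutator]
  refine Subgroup.commutator_mono ?_ ?_ <;>
  · rintro _ ⟨g, hg, rfl⟩
    exact hg

/-- With kernel of exponent four there are at most two elements in the kernel. -/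
theorem bound_four {Γ : Type*} [Group Γ] [Finite Γ] (σ : Γ →* RG) (hσ : Cfsg.IsStemExtension σ)
    (he : ∀ z ∈ σ.ker, z ^ 4 = 1) : Nat.card σ.ker ≤ 2 := by
  obtain ⟨u, hu⟩ := hσ.1 (gE 5)
  obtain ⟨z0, hz0, hz02, l, hl, huu⟩ := outer_square σ hσ.1 hσ.2.1 he u hu
  set S : Set Γ := {y | y = z0 ∨ ∃ x ∈ σ.ker, y = x ^ 2} with hS
  have hN : Subgroup.closure S ≤ σ.ker := by
    refine (Subgroup.closure_le _).2 ?_
    rintro y (rfl | ⟨x, hx, rfl⟩)
    exacts [hz0, pow_mem hx 2]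
  haveI := normal_of_central σ (Subgroup.closure S) hσ.2.1 hN
  obtain ⟨hτ, hτk⟩ := quotient_stem σ (Subgroup.closure S) hσ hN
  set mk := QuotientGroup.mk' (Subgroup.closure S)
  have hmk : ∀ y ∈ S, mk y = 1 := fun y hy => (QuotientGroup.eq_one_iff y).2 (Subgroup.subset_closure hy)
  have hbot := two_part (QuotientGroup.lift (Subgroup.closure S) σ hN) hτ (fun q hq => by
      rw [hτk] at hq
      obtain ⟨x, hx, rfl⟩ := hq
      rw [← map_mul, ← sq]
      exact hmk _ (Or.inr ⟨x, hx, rfl⟩))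
    (mk u) hu (by
      rw [← map_mul, huu, map_mul, hmk z0 (Or.inl rfl), mul_one]
      exact titsPart_map σ _ hN ⟨l, hl, rfl⟩)
  have hle : σ.ker ≤ Subgroup.closure S := fun x hx =>
    (QuotientGroup.eq_one_iff x).1 ((Subgroup.eq_bot_iff_forall _).1 hbot _ (hτk ▸ ⟨x, hx, rfl⟩))
  have hsq : ∀ x ∈ Subgroup.closure S, x ^ 2 = 1 := by
    intro x hx
    induction hx using Subgroup.closure_induction with
    | mem y hy =>
      rcases hy with rfl | ⟨w, hw, rfl⟩
      · rw [sq, hz02]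
      · rw [← pow_mul]; exact he w hw
    | one => exact one_pow 2
    | mul a b ha hb iha ihb =>
      rw [(show Commute a b from Subgroup.mem_center_iff.1 (hσ.2.1 (hN hb)) a).mul_pow, iha, ihb, mul_one]
    | inv a _ iha => rw [inv_pow, iha, inv_one]
  have hle2 : σ.ker ≤ Subgroup.zpowers z0 := by
    refine hle.trans ((Subgroup.closure_le _).2 ?_)
    rintro y (rfl | ⟨x, hx, rfl⟩)
    · exact Subgroup.mem_zpowers _
    · rw [SetLike.mem_coe, hsq x (hle hx)]
      exact one_mem _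
  refine (Subgroup.card_le_of_le hle2).trans ?_
  rw [Nat.card_zpowers]
  exact Nat.le_of_dvd (by norm_num) (orderOf_dvd_of_pow_eq_one (by rw [sq, hz02]))

theorem card_ker_le {Γ : Type*} [Group Γ] [Finite Γ] (σ : Γ →* RG) (hσ : Cfsg.IsStemExtension σ) :
    Nat.card σ.ker ≤ 2 := by
  set S : Set Γ := {y | ∃ x ∈ σ.ker, y = x ^ 4} with hS
  have hN : Subgroup.closure S ≤ σ.ker := by
    refine (Subgroup.closure_le _).2 ?_
    rintro y ⟨x, hx, rfl⟩
    exact pow_mem hx 4
  haveI := normal_of_central σ (Subgroup.closure S) hσ.2.1 hN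
  obtain ⟨hτ, hτk⟩ := quotient_stem σ (Subgroup.closure S) hσ hN
  have h2 := bound_four (QuotientGroup.lift (Subgroup.closure S) σ hN) hτ (fun q hq => by
    rw [hτk] at hq
    obtain ⟨x, hx, rfl⟩ := hq
    rw [← map_pow]
    exact (QuotientGroup.eq_one_iff _).2 (Subgroup.subset_closure ⟨x, hx, rfl⟩))
  have hmem : ∀ y ∈ Subgroup.closure S, ∃ w ∈ σ.ker, y = w ^ 4 := by
    intro y hy
    induction hy using Subgroup.closure_induction with
    | mem y hy => exact hy
    | one => exact ⟨1, one_mem _, (one_pow 4).symm⟩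
    | mul a b _ _ iha ihb =>
      obtain ⟨v, hv, rfl⟩ := iha
      obtain ⟨w, hw, rfl⟩ := ihb
      exact ⟨v * w, mul_mem hv hw,
        ((show Commute v w from Subgroup.mem_center_iff.1 (hσ.2.1 hw) v).mul_pow 4).symm⟩
    | inv a _ iha =>
      obtain ⟨v, hv, rfl⟩ := iha
      exact ⟨v⁻¹, inv_mem hv, (inv_pow v 4).symm⟩
  have hsq : ∀ x ∈ σ.ker, x ^ 2 = 1 := by
    refine square_one (fun x hx => order_two_pow σ hσ hx) fun x hx => hmem _ ?_
    rw [← QuotientGroup.eq_one_iff]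
    set q : (QuotientGroup.lift (Subgroup.closure S) σ hN).ker := ⟨QuotientGroup.mk x, hx⟩ with hq
    have hd : Nat.card (QuotientGroup.lift (Subgroup.closure S) σ hN).ker ∣ 2 := by
      have key : ∀ {n : ℕ}, 0 < n → n ≤ 2 → n ∣ 2 := fun {n} h1 h2 => by interval_cases n <;> norm_num
      exact key Nat.card_pos h2
    have := congrArg Subtype.val (orderOf_dvd_iff_pow_eq_one.1 ((orderOf_dvd_natCard q).trans hd))
    simpa using this
  exact bound_four σ hσ fun z hz => by rw [show z ^ 4 = (z ^ 2) ^ 2 by rw [← pow_mul], hsq z hz, one_pow]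

end CfsgLib.Sporadic.RuMult
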