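import Cfsg.Agent.Lib.Sporadic.RuMult.CocData

/-!
# Edge checks of the coset table, part 1
-/

set_option autoImplicit false
set_option maxRecDepth 100000
set_option maxHeartbeats 0
set_option Elab.async false

namespace CfsgLib.Sporadic.RuMult.CocData

theorem part14 : coc.edgesPart 1400 = true := by decide +kernel

theorem part15 : coc.edgesPart 1500 = true := by decide +kernel

theorem part16 : coc.edgesPart 1600 = true := by decide +kernel

theorem part17 : coc.edgesPart 1700 = true := by decide +kernel

theorem part18 : coc.edgesPart 1800 = true := by decide +kernel

theorem part19 : coc.edgesPart 1900 = true := by decide +kernel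

theorem part20 : coc.edgesPart 2000 = true := by decide +kernel

theorem part21 : coc.edgesPart 2100 = true := by decide +kernel

theorem part22 : coc.edgesPart 2200 = true := by decide +kernel

theorem part23 : coc.edgesPart 2300 = true := by decide +kernel

theorem part24 : coc.edgesPart 2400 = true := by decide +kernel

theorem part25 : coc.edgesPart 2500 = true := by decide +kernel

theorem part26 : coc.edgesPart 2600 = true := by decide +kernel

theorem part27 : coc.edgesPart 2700 = true := by decide +kernel

end CfsgLib.Sporadic.RuMult.CocData
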