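import Cfsg.Agent.Lib.Sporadic.RuMult.CocData

/-!
# Edge checks of the coset table, part 2
-/

set_option autoImplicit false
set_option maxRecDepth 100000
set_option maxHeartbeats 0
set_option Elab.async false

namespace CfsgLib.Sporadic.RuMult.CocData

theorem part28 : coc.edgesPart 2800 = true := by decide +kernel

theorem part29 : coc.edgesPart 2900 = true := by decide +kernel

theorem part30 : coc.edgesPart 3000 = true := by decide +kernel

theorem part31 : coc.edgesPart 3100 = true := by decide +kernel

theorem part32 : coc.edgesPart 3200 = true := by decide +kernel

theorem part33 : coc.edgesPart 3300 = true := by decide +kernel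

theorem part34 : coc.edgesPart 3400 = true := by decide +kernel

theorem part35 : coc.edgesPart 3500 = true := by decide +kernel

theorem part36 : coc.edgesPart 3600 = true := by decide +kernel

theorem part37 : coc.edgesPart 3700 = true := by decide +kernel

theorem part38 : coc.edgesPart 3800 = true := by decide +kernel

theorem part39 : coc.edgesPart 3900 = true := by decide +kernel

theorem part40 : coc.edgesPart 4000 = true := by decide +kernel

end CfsgLib.Sporadic.RuMult.CocData
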