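import Cfsg.Agent.Lib.Sporadic.RuMult.CocEdges0
import Cfsg.Agent.Lib.Sporadic.RuMult.CocEdges1
import Cfsg.Agent.Lib.Sporadic.RuMult.CocEdges2

/-!
# Checks of the coset table
-/

set_option autoImplicit false
set_option maxRecDepth 100000
set_option maxHeartbeats 0
set_option Elab.async false

namespace CfsgLib.Sporadic.RuMult.CocData

theorem edges_check : ∀ c < coc.n, ∀ x < coc.k, coc.edgeOK c x = true := by
  refine coc.edges_of_parts 41 (by decide +kernel) fun j hj => ?_
  match j with
  | 0 => exact part0
  | 1 => exact part1
  | 2 => exact part2
  | 3 => exact part3
  | 4 => exact part4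
  | 5 => exact part5
  | 6 => exact part6
  | 7 => exact part7
  | 8 => exact part8
  | 9 => exact part9
  | 10 => exact part10
  | 11 => exact part11
  | 12 => exact part12
  | 13 => exact part13
  | 14 => exact part14
  | 15 => exact part15
  | 16 => exact part16
  | 17 => exact part17
  | 18 => exact part18
  | 19 => exact part19
  | 20 => exact part20
  | 21 => exact part21
  | 22 => exact part22
  | 23 => exact part23
  | 24 => exact part24
  | 25 => exact part25
  | 26 => exact part26
  | 27 => exact part27
  | 28 => exact part28
  | 29 => exact part29
  | 30 => exact part30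
  | 31 => exact part31
  | 32 => exact part32
  | 33 => exact part33
  | 34 => exact part34
  | 35 => exact part35
  | 36 => exact part36
  | 37 => exact part37
  | 38 => exact part38
  | 39 => exact part39
  | 40 => exact part40
  | j + 41 => omega

theorem eqs_check : eqs.all coc.eqOK = true := by decide +kernel

theorem combos_check : coc.ns + coc.free.length = combos.length ∧
    ((List.range combos.length).all fun j =>
      Nat.beq (select (gauge ++ eqs.map Prod.fst) (combos.getD j 0)) (Nat.shiftLeft 1 j)) = true := by
  decide +kernel

end CfsgLib.Sporadic.RuMult.CocData
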