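import Mathlib
import Cfsg.Agent.Lib.Sporadic.J3LineTree

/-!
# Coset tables with central values in an elementary abelian two-group

A value is a bit mask of unknowns.  An edge is settled by the spanning tree, as a free unknown, or by a relator
through edges settled before; closed traces of relators give equations between the unknowns.
-/

set_option autoImplicit false

namespace CfsgLib.Sporadic.RuMult

/-- The data of a certificate. -/
structure Coc where
  /-- cosets -/
  n : ℕ
  /-- generators -/
  k : ℕ
  /-- the generators below this number lie in the complement -/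
  low : ℕ
  /-- unknowns that are values of relators -/
  ns : ℕ
  /-- the table -/
  tab : ℕ → ℕ → ℕ
  /-- the value of an edge -/
  val : ℕ → ℕ → ℕ
  /-- rank, relator, position and base of an edge -/
  step : ℕ → ℕ → ℕ
  /-- parent, generator and direction of a coset -/
  tree : ℕ → ℕ
  /-- the free edges -/
  free : List ℕ
  /-- the relators -/
  rels : List (List ℕ)
  /-- their values -/
  rv : List ℕ

namespace Coc

variable (C : Coc)

/-- The rank of an edge. -/
noncomputable def rank (c x : ℕ) : ℕ := Nat.land (C.step c x) 65535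

/-- The end of a trace. -/
noncomputable def trace (w : List ℕ) (c : ℕ) : ℕ :=
  List.rec (motive := fun _ => ℕ → ℕ) (fun c => c) (fun x _ ih c => ih (C.tab c x)) w c

/-- The value of a trace. -/
noncomputable def sum (w : List ℕ) (c : ℕ) : ℕ :=
  List.rec (motive := fun _ => ℕ → ℕ) (fun _ => 0) (fun x _ ih c => Nat.xor (C.val c x) (ih (C.tab c x))) w c

/-- All edges of a trace are proper and of rank below `k`. -/
noncomputable def below (k : ℕ) (w : List ℕ) (c : ℕ) : Bool :=
  List.rec (motive := fun _ => ℕ → Bool) (fun _ => true)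
    (fun x _ ih c => Nat.blt x C.k && Nat.blt c C.n && Nat.blt (C.rank c x) k && ih (C.tab c x)) w c

/-- An edge of the tree, or a loop at the first coset. -/
noncomputable def treeEdge (c x : ℕ) : Bool :=
  (Nat.beq (C.tree (C.tab c x)) (Nat.add (Nat.mul c 16) (Nat.add (Nat.mul 2 x) 1)) && Nat.blt c (C.tab c x)) ||
    (Nat.beq (C.tree c) (Nat.add (Nat.mul (C.tab c x) 16) (Nat.mul 2 x)) && Nat.blt (C.tab c x) c) ||
    (Nat.beq c 0 && Nat.beq (C.tab c x) 0 && Nat.blt x C.low)

/-- An edge is settled. -/
noncomputable def edgeOK (c x : ℕ) : Bool :=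
  Nat.blt (C.tab c x) C.n &&
  cond (Nat.beq (C.rank c x) 0)
    (cond (Nat.beq (Nat.shiftRight (C.step c x) 16) 0) (Nat.beq (C.val c x) 0 && C.treeEdge c x)
      (let i := Nat.sub (Nat.shiftRight (C.step c x) 16) 1
       Nat.blt i C.free.length && Nat.beq (C.free.getD i 0) (Nat.add (Nat.mul c 8) x) &&
         Nat.beq (C.val c x) (Nat.shiftLeft 1 (Nat.add C.ns i))))
    (let s := C.step c x
     let r := Nat.land (Nat.shiftRight s 16) 255
     let p := Nat.land (Nat.shiftRight s 24) 255
     let b := Nat.shiftRight s 32
     let w := C.rels.getD r []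
     let u := w.take p
     let u' := w.drop (p + 1)
     Nat.blt r C.rels.length && Nat.blt p w.length && Nat.beq (w.getD p C.k) x &&
       Nat.beq (C.trace u b) c && Nat.beq (C.trace u' (C.tab c x)) b &&
       C.below (C.rank c x) u b && C.below (C.rank c x) u' (C.tab c x) &&
       Nat.beq (Nat.xor (Nat.xor (C.sum u b) (C.val c x)) (C.sum u' (C.tab c x))) (C.rv.getD r 0))

/-- The edges at one hundred cosets. -/
noncomputable def edgesPart (lo : ℕ) : Bool :=
  (List.range 100).all fun i => !Nat.blt (lo + i) C.n || (List.range C.k).all fun x => C.edgeOK (lo + i) x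

theorem edges_of_parts (m : ℕ) (hm : C.n ≤ 100 * m) (h : ∀ j < m, C.edgesPart (100 * j) = true) :
    ∀ c < C.n, ∀ x < C.k, C.edgeOK c x = true := by
  intro c hc x hx
  have h' := h (c / 100) (by omega)
  simp only [edgesPart, List.all_eq_true, List.mem_range, Bool.or_eq_true, Bool.not_eq_true'] at h'
  rcases h' (c % 100) (Nat.mod_lt _ (by norm_num)) with e | e
  · rw [Nat.div_add_mod, ← Bool.not_eq_true, Nat.blt_eq] at e
    exact absurd hc e
  · rw [Nat.div_add_mod] at e
    exact e x hx

/-- An equation: mask, relator and base. -/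
noncomputable def eqOK (e : ℕ × ℕ × ℕ) : Bool :=
  Nat.blt e.2.1 C.rels.length && C.below 65536 (C.rels.getD e.2.1 []) e.2.2 &&
    Nat.beq (C.trace (C.rels.getD e.2.1 []) e.2.2) e.2.2 &&
    Nat.beq (Nat.xor (C.sum (C.rels.getD e.2.1 []) e.2.2) (C.rv.getD e.2.1 0)) e.1

end Coc

/-- The sum of the masks selected by the bits of a number. -/
noncomputable def select (L : List ℕ) (s : ℕ) : ℕ :=
  List.rec (motive := fun _ => ℕ → ℕ) (fun _ => 0)
    (fun a _ ih s => cond (Nat.beq (Nat.land s 1) 1) (Nat.xor a (ih (Nat.shiftRight s 1))) (ih (Nat.shiftRight s 1))) L s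

end CfsgLib.Sporadic.RuMult
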