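import Cfsg.Agent.Lib.Sporadic.RuMult.CocData

/-!
# Edge checks of the coset table, part 0
-/

set_option autoImplicit false
set_option maxRecDepth 100000
set_option maxHeartbeats 0
set_option Elab.async false

namespace CfsgLib.Sporadic.RuMult.CocData

theorem part0 : coc.edgesPart 0 = true := by decide +kernel

theorem part1 : coc.edgesPart 100 = true := by decide +kernel

theorem part2 : coc.edgesPart 200 = true := by decide +kernel

theorem part3 : coc.edgesPart 300 = true := by decide +kernel

theorem part4 : coc.edgesPart 400 = true := by decide +kernel

theorem part5 : coc.edgesPart 500 = true := by decide +kernel

theorem part6 : coc.edgesPart 600 = true := by decide +kernel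

theorem part7 : coc.edgesPart 700 = true := by decide +kernel

theorem part8 : coc.edgesPart 800 = true := by decide +kernel

theorem part9 : coc.edgesPart 900 = true := by decide +kernel

theorem part10 : coc.edgesPart 1000 = true := by decide +kernel

theorem part11 : coc.edgesPart 1100 = true := by decide +kernel

theorem part12 : coc.edgesPart 1200 = true := by decide +kernel

theorem part13 : coc.edgesPart 1300 = true := by decide +kernel

end CfsgLib.Sporadic.RuMult.CocData
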