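import Cfsg.Agent.Lib.Sporadic.RuMult.CocCode
import Cfsg.Agent.Lib.Recog.SporBound.Cocycle

/-!
# The meaning of a coset table with values in an elementary abelian two-group
-/

set_option autoImplicit false

namespace CfsgLib.Sporadic.RuMult

open CfsgLib.Recog.SporBound.Cocycle (edge_alg)

variable {Γ : Type*} [Group Γ]

/-- The element with given coordinates among the first `N`. -/
def evm (v : ℕ → Γ) : ℕ → ℕ → Γ
  | 0, _ => 1
  | N + 1, m => evm v N m * if m.testBit N then v N else 1

section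

variable {v : ℕ → Γ} (hc : ∀ j γ, Commute γ (v j))
include hc

theorem evm_comm (γ : Γ) : ∀ N m, Commute γ (evm v N m)
  | 0, _ => Commute.one_right γ
  | N + 1, m => (evm_comm γ N m).mul_right (by split_ifs; exacts [hc N γ, Commute.one_right γ])

theorem evm_xor (h2 : ∀ j, v j * v j = 1) : ∀ N a b, evm v N (Nat.xor a b) = evm v N a * evm v N b
  | 0, _, _ => (one_mul _).symm
  | N + 1, a, b => by
    have e : (Nat.xor a b).testBit N = (a.testBit N ^^ b.testBit N) := Nat.testBit_xor a b N
    simp only [evm, e, evm_xor h2 N a b]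
    rw [mul_mul_mul_comm' (evm_comm hc _ N b)]
    cases a.testBit N <;> cases b.testBit N <;> simp [h2]
where
  mul_mul_mul_comm' {A B C D : Γ} (h : Commute C B) : A * C * (B * D) = A * B * (C * D) := by
    rw [mul_assoc A C, ← mul_assoc C B D, h.eq, mul_assoc B C D, ← mul_assoc A B]

end

theorem evm_one {v : ℕ → Γ} : ∀ {N m : ℕ}, (∀ j < N, v j = 1) → evm v N m = 1
  | 0, _, _ => rfl
  | N + 1, m, h => by
    rw [evm, evm_one fun j hj => h j (by omega), h N (by omega)]
    simp

theorem evm_zero {v : ℕ → Γ} : ∀ N, evm v N 0 = 1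
  | 0 => rfl
  | N + 1 => by rw [evm, evm_zero N]; simp

theorem evm_bit {v : ℕ → Γ} {i : ℕ} : ∀ {N : ℕ}, i < N → evm v N (Nat.shiftLeft 1 i) = v i
  | 0, h => absurd h (Nat.not_lt_zero i)
  | N + 1, h => by
    have e : (Nat.shiftLeft 1 i).testBit N = decide (i = N) := by
      show (1 <<< i).testBit N = _
      rw [Nat.shiftLeft_eq, one_mul, Nat.testBit_two_pow]
    rw [evm, e]
    by_cases hi : i = N
    · subst hi
      have h0 : ∀ M, M ≤ i → evm v M (Nat.shiftLeft 1 i) = 1 := by
        intro M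
        induction M with
        | zero => intro _; rfl
        | succ M ih =>
          intro hM
          have e' : (Nat.shiftLeft 1 i).testBit M = decide (i = M) := by
            show (1 <<< i).testBit M = _
            rw [Nat.shiftLeft_eq, one_mul, Nat.testBit_two_pow]
          rw [evm, ih (by omega), e', decide_eq_false (by omega)]
          simp
      rw [h0 i le_rfl]
      simp
    · rw [evm_bit (show i < N by omega), decide_eq_false hi]
      simp

namespace Coc

variable (C : Coc)

/-- The number of unknowns. -/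
def nu : ℕ := C.ns + C.free.length

/-- The lift of a representative along the tree. -/
noncomputable def rep (t : ℕ → Γ) (c : ℕ) : Γ :=
  Nat.strongRecOn (motive := fun _ => Γ) c fun c ih =>
    if h : c ≠ 0 ∧ C.tree c / 16 < c then
      (if C.tree c % 2 = 1 then t (C.tree c % 16 / 2) else (t (C.tree c % 16 / 2))⁻¹) * ih _ h.2
    else 1

theorem rep_zero (t : ℕ → Γ) : C.rep t 0 = 1 := by
  rw [rep, Nat.strongRecOn_eq, dif_neg fun h => h.1 rfl]

theorem rep_fwd (t : ℕ → Γ) {q c x : ℕ} (hx : x < 8) (hcq : c < q) (h : C.tree q = c * 16 + (2 * x + 1)) :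
    t x * C.rep t c = C.rep t q := by
  conv_rhs => rw [rep, Nat.strongRecOn_eq]
  have h1 : C.tree q / 16 = c := by omega
  have h2 : C.tree q % 16 / 2 = x := by omega
  rw [dif_pos ⟨by omega, by omega⟩, if_pos (by omega), h2]
  congr 1
  show C.rep t c = C.rep t (C.tree q / 16)
  rw [h1]

theorem rep_bwd (t : ℕ → Γ) {q c x : ℕ} (hx : x < 8) (hqc : q < c) (h : C.tree c = q * 16 + 2 * x) :
    t x * C.rep t c = C.rep t q := by
  conv_lhs => rw [rep, Nat.strongRecOn_eq]
  have h1 : C.tree c / 16 = q := by omega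
  have h2 : C.tree c % 16 / 2 = x := by omega
  rw [dif_pos ⟨by omega, by omega⟩, if_neg (by omega), h2]
  show t x * ((t x)⁻¹ * C.rep t (C.tree c / 16)) = _
  rw [h1, mul_inv_cancel_left]

end Coc

/-- Lifts of the generators fitting a certificate. -/
structure CocFit (C : Coc) (L : Subgroup Γ) (t v : ℕ → Γ) : Prop where
  central : ∀ j γ, Commute γ (v j)
  sq : ∀ j, v j * v j = 1
  free : ∀ m, evm v C.nu m ∈ L → evm v C.nu m = 1
  low : ∀ x < C.low, t x ∈ L
  small : C.k ≤ 8
  rel : ∀ r < C.rels.length, ((C.rels.getD r []).reverse.map t).prod = evm v C.nu (C.rv.getD r 0)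
  var : ∀ i < C.free.length, ∀ c x, x < C.k → C.free.getD i 0 = c * 8 + x → ∃ l ∈ L,
    t x * C.rep t c = C.rep t (C.tab c x) * v (C.ns + i) * l

namespace CocFit

variable {C : Coc} {L : Subgroup Γ} {t v : ℕ → Γ} (F : CocFit C L t v)

/-- An edge is right. -/
def Good (C : Coc) (L : Subgroup Γ) (t v : ℕ → Γ) (c x : ℕ) : Prop :=
  ∃ l ∈ L, t x * C.rep t c = C.rep t (C.tab c x) * evm v C.nu (C.val c x) * l

include F

theorem trace_eq {k : ℕ} (h : ∀ c < C.n, ∀ x < C.k, C.rank c x < k → Good C L t v c x) :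
    ∀ (w : List ℕ) (c : ℕ), C.below k w c = true → ∃ l ∈ L, (w.reverse.map t).prod * C.rep t c =
      C.rep t (C.trace w c) * evm v C.nu (C.sum w c) * l := by
  intro w
  induction w with
  | nil =>
    intro c _
    refine ⟨1, one_mem L, ?_⟩
    show _ = C.rep t c * evm v C.nu 0 * 1
    rw [evm_zero, mul_one, mul_one, List.reverse_nil, List.map_nil, List.prod_nil, one_mul]
  | cons x w ih =>
    intro c hb
    change (Nat.blt x C.k && Nat.blt c C.n && Nat.blt (C.rank c x) k && C.below k w (C.tab c x)) = true at hb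
    simp only [Bool.and_eq_true, Nat.blt_eq] at hb
    obtain ⟨⟨⟨hx, hc⟩, hr⟩, hb⟩ := hb
    obtain ⟨l, hl, e⟩ := h c hc x hx hr
    obtain ⟨l', hl', e'⟩ := ih _ hb
    refine ⟨l' * l, mul_mem hl' hl, ?_⟩
    rw [List.reverse_cons, List.map_append, List.prod_append, List.map_singleton, List.prod_singleton, mul_assoc, e,
      ← mul_assoc, ← mul_assoc, e']
    show _ = C.rep t (C.trace w (C.tab c x)) * evm v C.nu (Nat.xor (C.val c x) (C.sum w (C.tab c x))) * _
    rw [evm_xor F.central F.sq]
    have h1 : l' * evm v C.nu (C.val c x) = evm v C.nu (C.val c x) * l' := (evm_comm F.central l' _ _).eq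
    have h2 := (evm_comm F.central (evm v C.nu (C.sum w (C.tab c x))) C.nu (C.val c x)).eq
    calc C.rep t (C.trace w (C.tab c x)) * evm v C.nu (C.sum w (C.tab c x)) * l' * evm v C.nu (C.val c x) * l
        = C.rep t (C.trace w (C.tab c x)) * evm v C.nu (C.sum w (C.tab c x)) *
          (l' * evm v C.nu (C.val c x)) * l := by group
      _ = C.rep t (C.trace w (C.tab c x)) * (evm v C.nu (C.sum w (C.tab c x)) * evm v C.nu (C.val c x)) *
          l' * l := by rw [h1]; group
      _ = _ := by rw [h2]; group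

theorem good (hall : ∀ c < C.n, ∀ x < C.k, C.edgeOK c x = true) :
    ∀ c < C.n, ∀ x < C.k, Good C L t v c x := by
  suffices ∀ k, ∀ c < C.n, ∀ x < C.k, C.rank c x < k → Good C L t v c x from
    fun c hc x hx => this _ c hc x hx (Nat.lt_succ_self _)
  intro k
  induction k with
  | zero => intro c _ x _ h; exact absurd h (Nat.not_lt_zero _)
  | succ k ih =>
    intro c hc x hx hk
    rcases Nat.lt_succ_iff_lt_or_eq.1 hk with h' | rfl
    · exact ih c hc x hx h'
    have hok := hall c hc x hx
    have hx8 : x < 8 := lt_of_lt_of_le hx F.small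
    unfold Coc.edgeOK at hok
    rw [Bool.and_eq_true] at hok
    replace hok := hok.2
    by_cases h0 : C.rank c x = 0
    · rw [h0, show Nat.beq 0 0 = true from rfl, cond_true] at hok
      cases hkind : Nat.beq (Nat.shiftRight (C.step c x) 16) 0
      · rw [hkind, cond_false] at hok
        simp only [Bool.and_eq_true, Nat.blt_eq, Nat.beq_eq] at hok
        set i := Nat.sub (Nat.shiftRight (C.step c x) 16) 1
        obtain ⟨⟨hi, hf⟩, hval⟩ := hok
        obtain ⟨l, hl, e⟩ := F.var i hi c x hx hf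
        refine ⟨l, hl, ?_⟩
        rw [e, hval, show Nat.add C.ns i = C.ns + i from rfl, evm_bit (show C.ns + i < C.nu by unfold Coc.nu; omega)]
      · rw [hkind, cond_true] at hok
        simp only [Coc.treeEdge, Bool.and_eq_true, Bool.or_eq_true, Nat.beq_eq, Nat.blt_eq] at hok
        obtain ⟨hval, ht⟩ := hok
        unfold Good
        rw [hval, evm_zero, mul_one]
        rcases ht with (⟨e, hlt⟩ | ⟨e, hlt⟩) | ⟨⟨rfl, e⟩, hlow⟩
        · exact ⟨1, one_mem L, by rw [C.rep_fwd t hx8 hlt e, mul_one]⟩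
        · exact ⟨1, one_mem L, by rw [C.rep_bwd t hx8 hlt e, mul_one]⟩
        · exact ⟨t x, F.low x hlow, by rw [e, C.rep_zero, mul_one, one_mul]⟩
    · rw [Bool.eq_false_iff.2 fun q => h0 (Nat.eq_of_beq_eq_true q), cond_false] at hok
      simp only [Bool.and_eq_true, Nat.blt_eq, Nat.beq_eq] at hok
      obtain ⟨⟨⟨⟨⟨⟨⟨hr, hp⟩, hwx⟩, hu⟩, hu'⟩, hb⟩, hb'⟩, hsum⟩ := hok
      set r := Nat.land (Nat.shiftRight (C.step c x) 16) 255
      set p := Nat.land (Nat.shiftRight (C.step c x) 24) 255
      set b := Nat.shiftRight (C.step c x) 32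
      set w := C.rels.getD r [] with hw
      obtain ⟨l₁, m₁, e1⟩ := F.trace_eq ih _ _ hb
      obtain ⟨l₂, m₂, e2⟩ := F.trace_eq ih _ _ hb'
      rw [hu] at e1
      rw [hu'] at e2
      have hsplit : w = w.take p ++ x :: w.drop (p + 1) := by
        conv_lhs => rw [← List.take_append_drop p w, List.drop_eq_getElem_cons hp]
        rw [← List.getD_eq_getElem _ C.k hp, hwx]
      have hrel := F.rel r hr
      rw [← hw, hsplit, List.reverse_append, List.reverse_cons, List.map_append, List.map_append, List.prod_append,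
        List.prod_append, List.map_singleton, List.prod_singleton, ← hsum, evm_xor F.central F.sq,
        evm_xor F.central F.sq] at hrel
      exact ⟨l₂⁻¹ * l₁⁻¹, mul_mem (inv_mem m₂) (inv_mem m₁),
        edge_alg (fun g => evm_comm F.central g _ _) (fun g => evm_comm F.central g _ _)
          (fun g => evm_comm F.central g _ _) e1 e2 hrel⟩

theorem equation (hgood : ∀ c < C.n, ∀ x < C.k, Good C L t v c x) {e : ℕ × ℕ × ℕ} (h : C.eqOK e = true) :
    evm v C.nu e.1 = 1 := by
  simp only [Coc.eqOK, Bool.and_eq_true, Nat.blt_eq, Nat.beq_eq] at h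
  obtain ⟨⟨⟨hr, hb⟩, htr⟩, hm⟩ := h
  obtain ⟨l, hl, eq⟩ := F.trace_eq (fun c hc x hx _ => hgood c hc x hx) _ _ hb
  rw [htr, F.rel _ hr, (evm_comm F.central _ _ _).symm.eq, mul_assoc, mul_right_inj] at eq
  have el : l = evm v C.nu e.1 := by
    rw [← hm, evm_xor F.central F.sq, eq, ← mul_assoc, ← evm_xor F.central F.sq,
      show Nat.xor (C.sum (C.rels.getD e.2.1 []) e.2.2) (C.sum (C.rels.getD e.2.1 []) e.2.2) = 0 from Nat.xor_self _,
      evm_zero, one_mul]
  exact F.free _ (el ▸ hl)

theorem select_one : ∀ (Ls : List ℕ) (s : ℕ), (∀ m ∈ Ls, evm v C.nu m = 1) → evm v C.nu (select Ls s) = 1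
  | [], _, _ => evm_zero _
  | a :: Ls, s, h => by
    have ih := select_one Ls (Nat.shiftRight s 1) fun m hm => h m (List.mem_cons_of_mem _ hm)
    show evm v C.nu (cond _ (Nat.xor a (select Ls (Nat.shiftRight s 1))) (select Ls (Nat.shiftRight s 1))) = 1
    cases Nat.beq (Nat.land s 1) 1
    · exact ih
    · rw [cond_true, evm_xor F.central F.sq, ih, h a List.mem_cons_self, one_mul]

/-- With enough equations every value is trivial, so the representatives cover the lifts. -/
theorem cover [Finite Γ] (hall : ∀ c < C.n, ∀ x < C.k, C.edgeOK c x = true) (hn : 0 < C.n)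
    {eqs : List (ℕ × ℕ × ℕ)} {gauge combos : List ℕ} (heq : eqs.all C.eqOK = true)
    (hg : ∀ m ∈ gauge, evm v C.nu m = 1)
    (hcomb : C.nu = combos.length ∧ ((List.range combos.length).all fun j =>
      Nat.beq (select (gauge ++ eqs.map Prod.fst) (combos.getD j 0)) (Nat.shiftLeft 1 j)) = true) :
    (∀ j < C.nu, v j = 1) ∧
      ∀ γ ∈ Subgroup.closure (t '' {x | x < C.k}), ∃ c < C.n, ∃ l ∈ L, γ = C.rep t c * l := by
  have hgood := F.good hall
  have hall1 : ∀ m ∈ gauge ++ eqs.map Prod.fst, evm v C.nu m = 1 := by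
    intro m hm
    rcases List.mem_append.1 hm with hm | hm
    · exact hg m hm
    · obtain ⟨e, he, rfl⟩ := List.mem_map.1 hm
      exact F.equation hgood (List.all_eq_true.1 heq e he)
  have hv : ∀ j < C.nu, v j = 1 := by
    intro j hj
    have h := List.all_eq_true.1 hcomb.2 j (List.mem_range.2 (hcomb.1 ▸ hj))
    rw [← evm_bit (v := v) hj, ← Nat.eq_of_beq_eq_true h]
    exact F.select_one _ _ hall1
  refine ⟨hv, fun γ hγ => ?_⟩
  rw [← Subgroup.mem_toSubmonoid, Subgroup.closure_toSubmonoid_of_finite] at hγ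
  induction hγ using Submonoid.closure_induction_left with
  | one => exact ⟨0, hn, 1, one_mem L, by rw [C.rep_zero, one_mul]⟩
  | mul_left y hy z _ ih =>
    obtain ⟨x, hx, rfl⟩ := hy
    obtain ⟨c, hc, l, hl, rfl⟩ := ih
    obtain ⟨l', hl', e⟩ := hgood c hc x hx
    have hb := hall c hc x hx
    rw [Coc.edgeOK, Bool.and_eq_true, Nat.blt_eq] at hb
    refine ⟨C.tab c x, hb.1, l' * l, mul_mem hl' hl, ?_⟩
    rw [← mul_assoc, e, evm_one hv, mul_one, mul_assoc]

end CocFit

end CfsgLib.Sporadic.RuMult
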