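import Cfsg.Agent.Lib.Sporadic.RuMult.Bound
import Cfsg.Agent.Lib.Sporadic.RuLink.Link
import Cfsg.Agent.Lib.PGroups.NonabTwo.RudvalisWitness
import Cfsg.Agent.Lib.Schur.Multiplier

/-!
# The double cover and the multiplier of the Rudvalis group

The derived group of the automorphism group of the lattice covers the group, and contains `-1` as the
commutator of the right multiplications by two quaternion units.
-/

set_option autoImplicit false
set_option maxRecDepth 100000
set_option maxHeartbeats 1000000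

namespace CfsgLib.Sporadic.RuMult

open Cfsg
open CfsgLib.Sporadic CfsgLib.Sporadic.RuLink
open CfsgLib.PGroups.NonabTwo.RuWitness (mkEquiv jElt)
open scoped commutatorElement

/-- The source of right multiplication by `k`. -/
def kSrc (p : Spor.RuIdx) : Spor.RuIdx := (p.1, ![2, 3, 0, 1] p.2)

theorem Rk_Rk (v : Spor.RuVec) : Spor.ruRk (Spor.ruRk v) = -v := by
  funext ⟨n, t⟩
  have hg : ∀ x : GaussianInt, Spor.gI * (Spor.gI * x) = -x := fun x => by
    rw [← mul_assoc, show Spor.gI * Spor.gI = -1 by decide, neg_one_mul]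
  fin_cases t <;> simp [Spor.ruRk, hg]

theorem Rk_norm (v : Spor.RuVec) : Spor.ruNorm (Spor.ruRk v) = Spor.ruNorm v := by
  have hj : ∀ p, kSrc (kSrc p) = p := by decide +kernel
  refine Fintype.sum_equiv ⟨kSrc, kSrc, hj, hj⟩ _ _ fun p => ?_
  obtain ⟨n, t⟩ := p
  fin_cases t <;> simp [Spor.ruRk, kSrc, Spor.gI, Zsqrtd.norm_def] <;> ring

/-- Right multiplication by `k`. -/
def kElt : Spor.fourRu :=
  ⟨mkEquiv Spor.ruRk (fun v => -Spor.ruRk v) (fun _ h => (PGroups.NonabTwo.RuWitness.op_mem h).2.2.1)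
      (fun _ h => neg_mem (PGroups.NonabTwo.RuWitness.op_mem h).2.2.1)
      (fun v => by rw [Rk_Rk, neg_neg]) (fun v => by
        have hn : Spor.ruRk (-Spor.ruRk v) = -Spor.ruRk (Spor.ruRk v) := by
          funext ⟨n, t⟩; fin_cases t <;> simp [Spor.ruRk]
        rw [hn, Rk_Rk, neg_neg]),
    fun v w => Subtype.ext (by funext ⟨n, t⟩; fin_cases t <;> simp [mkEquiv, Spor.ruRk, mul_add] <;> ring),
    fun v => Subtype.ext (by funext ⟨n, t⟩; fin_cases t <;> simp [mkEquiv, Spor.ruRk, Spor.ruI, mul_left_comm]),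
    fun v => Rk_norm _⟩

theorem Rj_Rk (v : Spor.RuVec) : Spor.ruRj (Spor.ruRk v) = Spor.gI • (Spor.gI • Spor.ruRk (Spor.ruRj v)) := by
  funext ⟨n, t⟩
  have hg : ∀ x : GaussianInt, Spor.gI * (Spor.gI * x) = -x := fun x => by
    rw [← mul_assoc, show Spor.gI * Spor.gI = -1 by decide, neg_one_mul]
  fin_cases t <;> simp [Spor.ruRj, Spor.ruRk, hg, smul_eq_mul]

theorem quaternion : ⁅jElt, kElt⁆ = iEl ^ 2 := by
  have e : jElt * kElt = iEl ^ 2 * (kElt * jElt) := act_ext fun v => by
    rw [sq, mul_assoc iEl, act_mul, act_mul, act_mul, act_mul, act_iEl, act_iEl]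
    exact Subtype.ext (Rj_Rk v.1)
  rw [commutatorElement_def, e]
  group

section generic

variable {G M : Type*} [Group G] [Group M] (f : G →* M)

/-- The derived group of a central extension of a perfect group covers it and is a stem extension. -/
theorem derived_stem {R : Subgroup M} (hrange : f.range = R) (hperf : commutator R = ⊤)
    (hc : f.ker ≤ Subgroup.center G) (π : commutator G →* R) (hπ : ∀ x, (π x : M) = f x) :
    Cfsg.IsStemExtension π := by
  have hmap : (commutator G).map f = R := by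
    rw [commutator_def, Subgroup.map_commutator, ← MonoidHom.range_eq_map, hrange,
      ← Subgroup.map_subtype_commutator, hperf, ← MonoidHom.range_eq_map, Subgroup.range_subtype]
  have hker : π.ker ≤ Subgroup.center (commutator G) := fun x hx => by
    refine Subgroup.mem_center_iff.2 fun y => Subtype.ext (Subgroup.mem_center_iff.1 (hc ?_) y.1)
    rw [MonoidHom.mem_ker, ← hπ, MonoidHom.mem_ker.1 hx]
    rfl
  refine ⟨fun r => ?_, hker, ?_⟩
  · have hr : (r : M) ∈ (commutator G).map f := by rw [hmap]; exact r.2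
    obtain ⟨x, hx, e⟩ := hr
    exact ⟨⟨x, hx⟩, Subtype.ext ((hπ _).trans e)⟩
  · have hsplit : ∀ g : G, ∃ d : commutator G, ∃ z ∈ Subgroup.center G, g = d.1 * z := by
      intro g
      have hg : f g ∈ (commutator G).map f := by rw [hmap, ← hrange]; exact ⟨g, rfl⟩
      obtain ⟨d, hd, e⟩ := hg
      exact ⟨⟨d, hd⟩, d⁻¹ * g, hc (by rw [MonoidHom.mem_ker, map_mul, map_inv, e, inv_mul_cancel]),
        (mul_inv_cancel_left _ _).symm⟩
    have hle : commutator G ≤ (commutator (commutator G)).map (commutator G).subtype := by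
      refine (le_of_eq (commutator_def G)).trans (Subgroup.commutator_le.2 ?_)
      intro x _ y _
      obtain ⟨d, z, hz, rfl⟩ := hsplit x
      obtain ⟨d', z', hz', rfl⟩ := hsplit y
      refine ⟨⁅d, d'⁆, Subgroup.commutator_mem_commutator (Subgroup.mem_top _) (Subgroup.mem_top _), ?_⟩
      have h1 := Subgroup.mem_center_iff.1 hz
      have h2 := Subgroup.mem_center_iff.1 hz'
      rw [map_commutatorElement, Subgroup.coe_subtype, commutatorElement_def, commutatorElement_def, mul_inv_rev,
        mul_inv_rev]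
      symm
      calc (d : G) * z * (d' * z') * (z⁻¹ * (d : G)⁻¹) * (z'⁻¹ * (d' : G)⁻¹)
          = (d : G) * (z * (d' * z')) * z⁻¹ * (d : G)⁻¹ * (z'⁻¹ * (d' : G)⁻¹) := by group
        _ = (d : G) * d' * (z' * (d : G)⁻¹) * z'⁻¹ * (d' : G)⁻¹ := by rw [← h1]; group
        _ = (d : G) * d' * ((d : G)⁻¹ * z') * z'⁻¹ * (d' : G)⁻¹ := by rw [← h2]
        _ = _ := by group
    intro x _
    obtain ⟨y, hy, e⟩ := hle x.2
    rwa [show x = y from Subtype.ext e.symm]

end generic

theorem commutator_RG : commutator RuMod.RG = ⊤ :=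
  perfect_of_simple RuMod.simple_RG RuMod.card_RG (by norm_num) (by norm_num)

/-- The map of the double cover. -/
noncomputable def coverMap : commutator Spor.fourRu →* RuMod.RG :=
  (glHom.comp (commutator Spor.fourRu).subtype).codRestrict RuMod.RG fun x => by
    rw [← ker_range.2]; exact ⟨x.1, rfl⟩

theorem ker_central : glHom.ker ≤ Subgroup.center Spor.fourRu := by rw [center_eq_ker]

theorem coverMap_stem : IsStemExtension coverMap :=
  derived_stem glHom ker_range.2 commutator_RG ker_central coverMap fun _ => rfl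

theorem finite_cover : Finite (commutator Spor.fourRu) :=
  haveI := card_fourRu_le.1
  inferInstance

theorem commutatorElement_mem {G : Type*} [Group G] (a b : G) : ⁅a, b⁆ ∈ commutator G :=
  Subgroup.commutator_mem_commutator (Subgroup.mem_top _) (Subgroup.mem_top _)

theorem card_ker_two {G M : Type*} [Group G] [Group M] {D : Subgroup G} [Finite D] {R : Subgroup M} (f : G →* M)
    (π : D →* R) (hπ : ∀ x, (π x : M) = f x) (hle : Nat.card π.ker ≤ 2) (a : G) (ha : a ∈ D) (hf : f a = 1)
    (hne : a ≠ 1) : Nat.card π.ker = 2 := by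
  have hk : (⟨a, ha⟩ : D) ∈ π.ker := Subtype.ext ((hπ _).trans hf)
  have : 1 < Nat.card π.ker := Finite.one_lt_card_iff_nontrivial.2
    ⟨⟨⟨_, hk⟩, 1, fun h => hne (congrArg (fun x : π.ker => ((x : D) : G)) h)⟩⟩
  omega

theorem iEl_sq_mem : iEl ^ 2 ∈ commutator Spor.fourRu := quaternion ▸ commutatorElement_mem jElt kElt

theorem glHom_iEl_sq : glHom (iEl ^ 2) = 1 := by rw [map_pow, glHom_iEl, one_pow]

theorem card_coverMap_ker : Nat.card coverMap.ker = 2 := by
  haveI := finite_cover
  exact card_ker_two glHom coverMap (fun _ => rfl) (card_ker_le coverMap coverMap_stem) (iEl ^ 2) iEl_sq_mem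
    glHom_iEl_sq iEl_two

theorem ker_comp_equiv {A B C : Type*} [Group A] [Group B] [Group C] (e : B ≃* C) (σ : A →* B) :
    (e.toMonoidHom.comp σ).ker = σ.ker := by
  ext x; simp

theorem stem_comp_equiv {A B C : Type*} [Group A] [Group B] [Group C] (e : B ≃* C) (σ : A →* B)
    (h : IsStemExtension σ) : IsStemExtension (e.toMonoidHom.comp σ) :=
  ⟨e.surjective.comp h.1, (ker_comp_equiv e σ).symm ▸ h.2.1, (ker_comp_equiv e σ).symm ▸ h.2.2⟩

theorem multiplier_of {G H : Type} [Group G] [Group H] [Finite H] {Δ : Type} [Group Δ] (e : G ≃* H) (π : Δ →* H)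
    (hπ : IsStemExtension π) (hcard : Nat.card π.ker = 2)
    (hb : ∀ (Γ : Type) [Group Γ] [Finite Γ] (σ : Γ →* H), IsStemExtension σ → Nat.card σ.ker ≤ 2) :
    HasCyclicSchurMultiplier G 2 := by
  have : Fact (Nat.Prime 2) := ⟨Nat.prime_two⟩
  have : Finite G := Finite.of_equiv _ e.symm.toEquiv
  have : IsCyclic π.ker := isCyclic_of_prime_card hcard
  have hA : Nat.card (Multiplicative (ZMod 2)) = 2 := by simp
  refine CfsgLib.Schur.hasSchurMultiplier_of_witness (e.symm.toMonoidHom.comp π) (stem_comp_equiv e.symm π hπ)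
    ((MulEquiv.subgroupCongr (ker_comp_equiv e.symm π)).trans (mulEquivOfCyclicCardEq (hcard.trans hA.symm))) ?_
  intro Γ _ _ σ hσ
  rw [hA, ← ker_comp_equiv e σ]
  exact hb Γ _ (stem_comp_equiv e σ hσ)

theorem finite_RG : Finite RuMod.RG := Nat.finite_of_card_ne_zero (by rw [RuMod.card_RG]; norm_num)

theorem multiplier_Ru : HasCyclicSchurMultiplier Spor.Ru 2 := by
  have h := @multiplier_of Spor.Ru RuMod.RG _ _ finite_RG _ _ ruEquiv coverMap coverMap_stem card_coverMap_ker
    fun Γ _ _ σ hσ => card_ker_le σ hσ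
  exact h

end CfsgLib.Sporadic.RuMult
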