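import Cfsg.Agent.Lib.Sporadic.RuMult.Words

/-!
# Where the listed elements lie
-/

set_option autoImplicit false
set_option maxRecDepth 100000
set_option maxHeartbeats 1000000

namespace CfsgLib.Sporadic.RuMult

open CfsgLib.Sporadic CfsgLib.Sporadic.RuMod

/-- The sifts of the listed elements and of the products formed with the outer element. -/
noncomputable def siftChecks : Bool :=
  forallLt 5 (fun i => siftOK gChain (code i) (Elts.siftG.getD i 0)) &&
    forallLt 4 (fun i => siftOK [g1, g2, g3, g4] (code i) (Elts.siftK.getD i 0)) &&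
    forallLt 3 (fun i => siftOK tChain (code i) (Elts.siftT.getD i 0)) &&
    siftOK [g1, g2, g3, g4] (code 5) (Elts.siftOuter.getD 0 0) &&
    siftOK tChain (mm (code 5) (code 5)) (Elts.siftOuter.getD 1 0) &&
    forallLt 2 (fun i => siftOK tChain (mm (mm (code 5) (code i)) (codeInv 5)) (Elts.siftOuter.getD (Nat.add i 2) 0)) &&
    siftOK gChain (code 6) (Elts.siftConj.getD 0 0) && siftOK tChain (code 7) (Elts.siftConj.getD 1 0) &&
    siftOK gChain (code 8) (Elts.siftFive.getD 0 0) && siftOK gChain (code 9) (Elts.siftFive.getD 1 0) &&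
    siftOK gChain (code 11) (Elts.siftFive.getD 2 0) &&
    Nat.beq (mm (code 6) (code 5)) (mm (code 7) (code 6)) &&
    Nat.beq (mpow (code 5) 4) one && Nat.beq (mpow (code 7) 4) one

theorem sifts_ok : siftChecks = true := by decide +kernel

theorem word_checks : genWord [0, 1] (nextGens tChain) Elts.wordsT = true ∧
    genWord [0, 1, 5] (nextGens [g1, g2, g3, g4]) Elts.wordsOuter = true ∧
    genWord [0, 1, 3] (nextGens [g1, g2, g3, g4]) Elts.wordsK = true ∧
    genWord [0, 1, 2, 3, 4] (nextGens gChain) Elts.wordsG = true := by decide +kernel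

attribute [local irreducible] mm dec prodFrom Level.R in
theorem members :
    (∀ i < 5, el i ∈ RG) ∧ (∀ i < 4, el i ∈ RK) ∧ (∀ i < 3, el i ∈ RT) ∧ el 5 ∈ RK ∧ el 5 * el 5 ∈ RT ∧
      (∀ i < 2, el 5 * el i * (el 5)⁻¹ ∈ RT) ∧ el 6 ∈ RG ∧ el 7 ∈ RT ∧ el 8 ∈ RG ∧ el 9 ∈ RG ∧ el 11 ∈ RG ∧
      el 6 * el 5 = el 7 * el 6 ∧ el 5 ^ 4 = 1 := by
  have h := sifts_ok
  simp only [siftChecks, Bool.and_eq_true] at h
  obtain ⟨⟨⟨⟨⟨⟨⟨⟨⟨⟨⟨⟨⟨hG, hK⟩, hT⟩, hu⟩, hu2⟩, hn⟩, h6⟩, h7⟩, h8⟩, h9⟩, h11⟩, hc⟩, h4⟩, -⟩ := h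
  refine ⟨fun i hi => ?_, fun i hi => ?_, fun i hi => ?_, ?_, ?_, fun i hi => ?_, ?_, ?_, ?_, ?_, ?_, ?_, ?_⟩
  · exact mem_of_sift gChain_ok (forallLt_elim hG hi) (el_val (by omega))
  · exact mem_of_sift RK_ok (forallLt_elim hK hi) (el_val (by omega))
  · exact mem_of_sift tChain_ok (forallLt_elim hT hi) (el_val (by omega))
  · exact mem_of_sift RK_ok hu (el_val (by omega))
  · exact mem_of_sift tChain_ok hu2 (by rw [Units.val_mul, el_val (by omega), ← dec_mm])
  · refine mem_of_sift tChain_ok (forallLt_elim hn hi) ?_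
    rw [Units.val_mul, Units.val_mul, el_val (by omega), el_val (by omega), el_inv_val (by omega), ← dec_mm, ← dec_mm]
  · exact mem_of_sift gChain_ok h6 (el_val (by omega))
  · exact mem_of_sift tChain_ok h7 (el_val (by omega))
  · exact mem_of_sift gChain_ok h8 (el_val (by omega))
  · exact mem_of_sift gChain_ok h9 (el_val (by omega))
  · exact mem_of_sift gChain_ok h11 (el_val (by omega))
  · exact Units.ext (by rw [Units.val_mul, Units.val_mul, el_val (by omega), el_val (by omega), el_val (by omega),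
      ← dec_mm, ← dec_mm, Nat.eq_of_beq_eq_true hc])
  · refine Units.ext ?_
    rw [Units.val_pow_eq_pow_val, el_val (by omega), ← dec_mpow, Nat.eq_of_beq_eq_true h4, dec_one, Units.val_one]

theorem RT_gen : RT ≤ Subgroup.closure {el 0, el 1} := by
  refine genGroup_le word_checks.1 _ fun x => Subgroup.subset_closure ?_
  match x with
  | 0 => exact Or.inl rfl
  | 1 => exact Or.inr rfl
  | n + 2 => exact Or.inl rfl

theorem RK_gen_outer : RK ≤ Subgroup.closure {el 0, el 1, el 5} := by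
  refine genGroup_le word_checks.2.1 _ fun x => Subgroup.subset_closure ?_
  match x with
  | 0 => exact Or.inl rfl
  | 1 => exact Or.inr (Or.inl rfl)
  | 2 => exact Or.inr (Or.inr rfl)
  | n + 3 => exact Or.inl rfl

theorem RK_gen : RK ≤ Subgroup.closure {el 0, el 1, el 3} := by
  refine genGroup_le word_checks.2.2.1 _ fun x => Subgroup.subset_closure ?_
  match x with
  | 0 => exact Or.inl rfl
  | 1 => exact Or.inr (Or.inl rfl)
  | 2 => exact Or.inr (Or.inr rfl)
  | n + 3 => exact Or.inl rfl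

theorem RG_gen : RG ≤ Subgroup.closure (el '' {x | x < 5}) := by
  refine genGroup_le word_checks.2.2.2 _ fun x => Subgroup.subset_closure ?_
  match x with
  | 0 => exact ⟨0, by norm_num, rfl⟩
  | 1 => exact ⟨1, by norm_num, rfl⟩
  | 2 => exact ⟨2, by norm_num, rfl⟩
  | 3 => exact ⟨3, by norm_num, rfl⟩
  | 4 => exact ⟨4, by norm_num, rfl⟩
  | n + 5 => exact ⟨0, by norm_num, rfl⟩

end CfsgLib.Sporadic.RuMult
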