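import Cfsg.Agent.Lib.Sporadic.RuMult.Tits
import Cfsg.Agent.Lib.Sporadic.RuOut.Points

/-!
# The lift of the point stabiliser
-/

set_option autoImplicit false
set_option maxRecDepth 100000
set_option maxHeartbeats 1000000

namespace CfsgLib.Sporadic.RuMult

open CfsgLib.Sporadic CfsgLib.Sporadic.RuMod

section generic

variable {Γ G : Type*} [Group Γ] [Group G]

/-- Conjugation keeping a subgroup keeps its derived subgroup. -/
theorem conj_commutator_mem {P : Subgroup Γ} {u : Γ} (h : ∀ p ∈ P, u * p * u⁻¹ ∈ P) {x : Γ} (hx : x ∈ ⁅P, P⁆) :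
    u * x * u⁻¹ ∈ ⁅P, P⁆ := by
  have hm : (MulAut.conj u).toMonoidHom x ∈ ⁅P, P⁆.map (MulAut.conj u).toMonoidHom := ⟨x, hx, rfl⟩
  rw [Subgroup.map_commutator] at hm
  refine Subgroup.commutator_mono ?_ ?_ hm <;>
  · rintro _ ⟨p, hp, rfl⟩
    exact h p hp

theorem conj_closure_mem {S : Set Γ} {H : Subgroup Γ} (a : Γ) (hS : ∀ s ∈ S, a * s * a⁻¹ ∈ H) {x : Γ}
    (hx : x ∈ Subgroup.closure S) : a * x * a⁻¹ ∈ H :=
  (Subgroup.closure_le (H.comap (MulAut.conj a).toMonoidHom)).2 hS hx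

/-- The subgroup generated by a lifted subgroup and an element whose square it contains. -/
theorem sup_outer [Finite Γ] (σ : Γ →* G) (L : Subgroup Γ) (T : Subgroup G) (hmap : L.map σ = T)
    (hbot : L ⊓ σ.ker = ⊥) (u : Γ) (hn : ∀ x ∈ L, u * x * u⁻¹ ∈ L) (hu2 : u * u ∈ L) (hout : σ u ∉ T) :
    (∀ x ∈ Subgroup.closure ((L : Set Γ) ∪ {u}), x ∈ L ∨ ∃ l ∈ L, x = l * u) ∧
      Subgroup.closure ((L : Set Γ) ∪ {u}) ⊓ σ.ker = ⊥ ∧
      (Subgroup.closure ((L : Set Γ) ∪ {u})).map σ = Subgroup.closure ((T : Set G) ∪ {σ u}) := by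
  have hel : ∀ x ∈ Subgroup.closure ((L : Set Γ) ∪ {u}), x ∈ L ∨ ∃ l ∈ L, x = l * u := by
    intro x hx
    rw [← Subgroup.mem_toSubmonoid, Subgroup.closure_toSubmonoid_of_finite] at hx
    induction hx using Submonoid.closure_induction_left with
    | one => exact Or.inl (one_mem L)
    | mul_left y hy z _ ih =>
      rcases hy with hy | hy
      · rcases ih with hz | ⟨l, hl, rfl⟩
        · exact Or.inl (mul_mem hy hz)
        · exact Or.inr ⟨y * l, mul_mem hy hl, (mul_assoc _ _ _).symm⟩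
      · rw [Set.mem_singleton_iff] at hy
        subst hy
        rcases ih with hz | ⟨l, hl, rfl⟩
        · exact Or.inr ⟨y * z * y⁻¹, hn z hz, (inv_mul_cancel_right _ _).symm⟩
        · refine Or.inl ?_
          rw [show y * (l * y) = y * l * y⁻¹ * (y * y) by group]
          exact mul_mem (hn l hl) hu2
  refine ⟨hel, (Subgroup.eq_bot_iff_forall _).2 ?_, ?_⟩
  · rintro x ⟨hx, hk⟩
    rcases hel x hx with hl | ⟨l, hl, rfl⟩
    · have : x ∈ L ⊓ σ.ker := ⟨hl, hk⟩
      rwa [hbot, Subgroup.mem_bot] at this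
    · refine absurd ?_ hout
      have e : σ u = (σ l)⁻¹ := by
        refine (inv_eq_of_mul_eq_one_right ?_).symm
        rw [← map_mul]; exact hk
      rw [e, ← hmap]
      exact inv_mem ⟨l, hl, rfl⟩
  · rw [MonoidHom.map_closure, Set.image_union, Set.image_singleton, ← hmap]
    rfl

end generic

/-- A listed element in the group. -/
noncomputable def gE (i : ℕ) : RG :=
  haveI := Classical.dec (el i ∈ RG)
  if h : el i ∈ RG then ⟨el i, h⟩ else 1

theorem gE_val {i : ℕ} (h : el i ∈ RG) : ((gE i : RG) : G28) = el i := by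
  rw [gE, dif_pos h]

theorem gE_TS {i : ℕ} (h : el i ∈ RT) : gE i ∈ TS := by
  rw [Subgroup.mem_subgroupOf, gE_val (RT_le_RG h)]
  exact h

theorem el5_RG : el 5 ∈ RG := RK_le members.2.2.2.1

theorem el5_not_RT : el 5 ∉ RT := by
  intro h
  have hle : RK ≤ RT := RK_gen_outer.trans ((Subgroup.closure_le _).2 (by
    rintro x (rfl | rfl | rfl)
    exacts [members.2.2.1 0 (by norm_num), members.2.2.1 1 (by norm_num), h]))
  have := Subgroup.card_le_of_le hle
  rw [card_RK, card_RT] at this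
  norm_num at this

theorem el3_not_RT : el 3 ∉ RT := by
  intro h
  have hle : RK ≤ RT := RK_gen.trans ((Subgroup.closure_le _).2 (by
    rintro x (rfl | rfl | rfl)
    exacts [members.2.2.1 0 (by norm_num), members.2.2.1 1 (by norm_num), h]))
  have := Subgroup.card_le_of_le hle
  rw [card_RK, card_RT] at this
  norm_num at this

theorem conj_RT {x : G28} (hx : x ∈ RT) : el 5 * x * (el 5)⁻¹ ∈ RT := by
  refine conj_closure_mem (el 5) ?_ (RT_gen hx)
  rintro y (rfl | rfl)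
  exacts [members.2.2.2.2.2.1 0 (by norm_num), members.2.2.2.2.2.1 1 (by norm_num)]

theorem conj_TS {g : RG} (hg : g ∈ TS) : gE 5 * g * (gE 5)⁻¹ ∈ TS := by
  rw [Subgroup.mem_subgroupOf] at hg ⊢
  rw [Subgroup.coe_mul, Subgroup.coe_mul, Subgroup.coe_inv, gE_val el5_RG]
  exact conj_RT hg

/-- The point stabiliser in the group. -/
noncomputable abbrev KS : Subgroup RG := RK.subgroupOf RG

theorem closure_KS : Subgroup.closure ((TS : Set RG) ∪ {gE 5}) = KS := by
  refine le_antisymm ((Subgroup.closure_le _).2 ?_) fun g hg => ?_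
  · rintro x (hx | hx)
    · exact RT_le hx
    · rw [Set.mem_singleton_iff] at hx
      rw [hx, SetLike.mem_coe, Subgroup.mem_subgroupOf, gE_val el5_RG]
      exact members.2.2.2.1
  · have hle : RK ≤ (Subgroup.closure ((TS : Set RG) ∪ {gE 5})).map RG.subtype := by
      refine RK_gen_outer.trans ((Subgroup.closure_le _).2 ?_)
      rintro x (rfl | rfl | rfl)
      · exact ⟨gE 0, Subgroup.subset_closure (Or.inl (gE_TS (members.2.2.1 0 (by norm_num)))),
          gE_val (members.1 0 (by norm_num))⟩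
      · exact ⟨gE 1, Subgroup.subset_closure (Or.inl (gE_TS (members.2.2.1 1 (by norm_num)))),
          gE_val (members.1 1 (by norm_num))⟩
      · exact ⟨gE 5, Subgroup.subset_closure (Or.inr rfl), gE_val el5_RG⟩
    obtain ⟨y, hy, e⟩ := hle hg
    rwa [show g = y from Subtype.ext e.symm]

/-- What the lift of the outer element gives. -/
theorem outer_lift {Γ : Type*} [Group Γ] [Finite Γ] (σ : Γ →* RG) (hs : Function.Surjective σ)
    (hc : σ.ker ≤ Subgroup.center Γ) (u : Γ) (hu : σ u = gE 5) (hu2 : u * u ∈ titsPart σ) :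
    let M := Subgroup.closure ((titsPart σ : Set Γ) ∪ {u})
    (∀ x ∈ M, x ∈ titsPart σ ∨ ∃ l ∈ titsPart σ, x = l * u) ∧ M ⊓ σ.ker = ⊥ ∧ M.map σ = KS := by
  obtain ⟨hmap, hbot⟩ := tits_lift σ hs hc
  have hout : σ u ∉ TS := by
    rw [hu, Subgroup.mem_subgroupOf, gE_val el5_RG]
    exact el5_not_RT
  have hn : ∀ x ∈ titsPart σ, u * x * u⁻¹ ∈ titsPart σ := fun x hx =>
    conj_commutator_mem (fun p hp => by
      rw [Subgroup.mem_comap] at hp ⊢
      rw [map_mul, map_mul, map_inv, hu]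
      exact conj_TS hp) hx
  obtain ⟨h1, h2, h3⟩ := sup_outer σ (titsPart σ) TS hmap hbot u hn hu2 hout
  exact ⟨h1, h2, by rw [h3, hu, closure_KS]⟩

/-- With kernel of exponent four the square of an outer lift meets the Tits part in an involution. -/
theorem outer_square {Γ : Type*} [Group Γ] [Finite Γ] (σ : Γ →* RG) (hs : Function.Surjective σ)
    (hc : σ.ker ≤ Subgroup.center Γ) (he : ∀ z ∈ σ.ker, z ^ 4 = 1) (u : Γ) (hu : σ u = gE 5) :
    ∃ z ∈ σ.ker, z * z = 1 ∧ ∃ l ∈ titsPart σ, u * u = l * z := by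
  obtain ⟨hmap, hbot⟩ := tits_lift σ hs hc
  obtain ⟨-, -, -, -, hsq, -, h6, h7, -, -, -, hconj, h54⟩ := members
  have hone : ∀ l ∈ titsPart σ, σ l = 1 → l = 1 := fun l hl h => by
    have : l ∈ titsPart σ ⊓ σ.ker := ⟨hl, h⟩
    rwa [hbot, Subgroup.mem_bot] at this
  have huu : σ (u * u) ∈ TS := by
    rw [map_mul, hu, Subgroup.mem_subgroupOf, Subgroup.coe_mul, gE_val el5_RG]
    exact hsq
  rw [← hmap] at huu
  obtain ⟨l, hl, el_eq⟩ := huu
  obtain ⟨H, hH⟩ := hs (gE 6)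
  obtain ⟨Y, hY, eY⟩ := (hmap.symm ▸ gE_TS h7 : gE 7 ∈ (titsPart σ).map σ)
  have e57 : gE 6 * gE 5 = gE 7 * gE 6 := Subtype.ext (by
    rw [Subgroup.coe_mul, Subgroup.coe_mul, gE_val h6, gE_val el5_RG, gE_val (RT_le_RG h7)]
    exact hconj)
  have h5 : gE 5 ^ 4 = 1 := Subtype.ext (by
    rw [SubmonoidClass.coe_pow, gE_val el5_RG, h54]; rfl)
  have h74 : gE 7 ^ 4 = 1 := by
    rw [show gE 7 = gE 6 * gE 5 * (gE 6)⁻¹ by rw [e57, mul_inv_cancel_right], conj_pow, h5, mul_one, mul_inv_cancel]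
  have hY4 : Y ^ 4 = 1 := hone _ (pow_mem hY 4) (by rw [map_pow, eY, h74])
  have hk : Y⁻¹ * (H * u * H⁻¹) ∈ σ.ker := by
    rw [MonoidHom.mem_ker, map_mul, map_inv, map_mul, map_mul, map_inv, eY, hH, hu, e57, mul_inv_cancel_right,
      inv_mul_cancel]
  have hu4 : u ^ 4 = 1 := by
    have e1 : (H * u * H⁻¹) ^ 4 = 1 := by
      rw [show H * u * H⁻¹ = Y * (Y⁻¹ * (H * u * H⁻¹)) by group,
        (show Commute Y (Y⁻¹ * (H * u * H⁻¹)) from Subgroup.mem_center_iff.1 (hc hk) Y).mul_pow, hY4, he _ hk, mul_one]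
    rwa [conj_pow, conj_eq_one_iff] at e1
  have hzk : l⁻¹ * (u * u) ∈ σ.ker := by
    rw [MonoidHom.mem_ker, map_mul, map_inv, el_eq, inv_mul_cancel]
  refine ⟨l⁻¹ * (u * u), hzk, ?_, l, hl, (mul_inv_cancel_left _ _).symm⟩
  set z := l⁻¹ * (u * u) with hz
  have hcz : l * z = z * l := Subgroup.mem_center_iff.1 (hc hzk) l
  have e2 : l * l * (z * z) = 1 := by
    calc l * l * (z * z) = l * (l * z) * z := by group
      _ = l * (z * l) * z := by rw [hcz]
      _ = u ^ 4 := by rw [hz, show u ^ 4 = u * u * (u * u) by simp [pow_succ, mul_assoc]]; group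
      _ = 1 := hu4
  have e3 : z * z = (l * l)⁻¹ := (inv_eq_of_mul_eq_one_right e2).symm
  refine hone _ ?_ (mul_mem hzk hzk)
  rw [e3]
  exact inv_mem (mul_mem hl hl)

end CfsgLib.Sporadic.RuMult
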