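import Cfsg.Agent.Lib.Sporadic.RuMult.Words
import Cfsg.Agent.Lib.Sporadic.RuMult.CocData

/-!
# The coset table agrees with the action on points, and its relators hold
-/

set_option autoImplicit false
set_option maxRecDepth 100000
set_option maxHeartbeats 0
set_option Elab.async false

namespace CfsgLib.Sporadic.RuMult

open CfsgLib.Sporadic CfsgLib.Sporadic.RuMod CocData
open CfsgLib.Sporadic.J3 (T4)

/-- The point of a coset. -/
noncomputable def oldPt (c : ℕ) : ℕ := CocData.old.field 16 c

/-- The vector of a coset. -/
noncomputable def ptVec (c : ℕ) : ℕ := g0.img (oldPt c)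

/-- A tree edge moves the parent to the child. -/
noncomputable def treePt (q : ℕ) : Bool :=
  Nat.blt (oldPt q) 4060 &&
  (Nat.beq q 0 && Nat.beq (oldPt q) 0 ||
    !Nat.beq (oldPt q) 0 &&
    (let p := Nat.div (coc.tree q) 16
     let x := Nat.div (Nat.mod (coc.tree q) 16) 2
     Nat.blt p q && Nat.blt x 5 &&
      cond (Nat.beq (Nat.mod (coc.tree q) 2) 1) (Nat.beq (mm (code x) (ptVec p)) (ptVec q))
        (Nat.beq (mm (code x) (ptVec q)) (ptVec p))))

/-- A free edge moves points as the table says. -/
noncomputable def freePt (i : ℕ) : Bool :=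
  let c := Nat.div (coc.free.getD i 0) 8
  let x := Nat.mod (coc.free.getD i 0) 8
  Nat.blt c 4060 && Nat.blt (coc.tab c x) 4060 && Nat.beq (mm (code x) (ptVec c)) (ptVec (coc.tab c x))

/-- The tree checks on a range of one thousand cosets. -/
noncomputable def treePart (lo : ℕ) : Bool :=
  forallLt 1000 fun i => !Nat.blt (Nat.add lo i) 4060 || treePt (Nat.add lo i)

theorem tree_part0 : treePart 0 = true := by decide +kernel

theorem tree_part1 : treePart 1000 = true := by decide +kernel

theorem tree_part2 : treePart 2000 = true := by decide +kernel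

theorem tree_part3 : treePart 3000 = true := by decide +kernel

theorem tree_part4 : treePart 4000 = true := by decide +kernel

theorem tree_pts : ∀ q < 4060, treePt q = true := by
  intro q hq
  have key : ∀ lo, treePart lo = true → lo ≤ q → q < lo + 1000 → treePt q = true := by
    intro lo h h1 h2
    have h' := forallLt_elim h (show q - lo < 1000 by omega)
    rw [show Nat.add lo (q - lo) = q from Nat.add_sub_cancel' h1, Bool.or_eq_true, Bool.not_eq_true'] at h'
    rcases h' with e | e
    · rw [← Bool.not_eq_true, Nat.blt_eq] at e; omega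
    · exact e
  rcases (by omega : q < 1000 ∨ (1000 ≤ q ∧ q < 2000) ∨ (2000 ≤ q ∧ q < 3000) ∨ (3000 ≤ q ∧ q < 4000) ∨ 4000 ≤ q)
    with h | h | h | h | h
  · exact key _ tree_part0 (by omega) (by omega)
  · exact key _ tree_part1 h.1 (by omega)
  · exact key _ tree_part2 h.1 (by omega)
  · exact key _ tree_part3 h.1 (by omega)
  · exact key _ tree_part4 h (by omega)

theorem free_pts : forallLt coc.free.length freePt = true := by decide +kernel

theorem base_only : forallLt 4060 (fun i => Nat.beq i 0 || !Nat.beq (g0.img i) (g0.img 0)) = true := by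
  decide +kernel

/-- The relators hold, and each has no unknown and stays among the first four generators or has one unknown of its own. -/
noncomputable def relPt (r : ℕ) : Bool :=
  lettersOK [0, 1, 2, 3, 4] (coc.rels.getD r []) && (coc.rels.getD r []).all (fun x => Nat.blt x 5) &&
    Nat.beq (wcode [0, 1, 2, 3, 4] (coc.rels.getD r [])) one &&
    (cond (Nat.beq (coc.rv.getD r 0) 0) ((coc.rels.getD r []).all fun x => Nat.blt x 4)
      ((List.range coc.ns).any fun j => Nat.beq (coc.rv.getD r 0) (Nat.shiftLeft 1 j) &&
        Nat.beq (coc.rv.idxOf (Nat.shiftLeft 1 j)) r))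

theorem rel_pts : forallLt coc.rels.length relPt = true := by decide +kernel

theorem slot_lengths : coc.rv.length = coc.rels.length ∧
    forallLt coc.ns (fun j => Nat.blt (coc.rv.idxOf (Nat.shiftLeft 1 j)) coc.rels.length) = true := by decide +kernel

/-- The gauge relators: their masks, and the parities of the exponents of the fourth and fifth generators. -/
theorem gauge_facts :
    CocData.gauge = [coc.rv.getD (Elts.gaugeAt.getD 0 0) 0, coc.rv.getD (Elts.gaugeAt.getD 1 0) 0] ∧
      Elts.gaugeAt.getD 0 0 < coc.rels.length ∧ Elts.gaugeAt.getD 1 0 < coc.rels.length ∧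
      (coc.rels.getD (Elts.gaugeAt.getD 0 0) []).count 3 % 2 = 0 ∧
      (coc.rels.getD (Elts.gaugeAt.getD 0 0) []).count 4 % 2 = 1 ∧
      (coc.rels.getD (Elts.gaugeAt.getD 1 0) []).count 3 % 2 = 1 ∧
      (coc.rels.getD (Elts.gaugeAt.getD 1 0) []).count 4 % 2 = 0 := by decide +kernel

end CfsgLib.Sporadic.RuMult
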