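import Cfsg.Agent.Lib.Sporadic.RuMult.TitsData

/-!
# Checks of coset table 1 of the Tits subgroup
-/

set_option autoImplicit false
set_option maxRecDepth 100000
set_option maxHeartbeats 0
set_option Elab.async false

namespace CfsgLib.Sporadic.RuMult.TitsChain

open CfsgLib.Schur.Cert CfsgLib.Sporadic

theorem shape1rest : shapeRest rels level1 [level2, level3] (nextWords top level0) = true := by decide +kernel

theorem edges1part0 : edgesPart rows level1 [level2, level3] 0 = true := by decide +kernel

theorem edges1part1 : edgesPart rows level1 [level2, level3] 100 = true := by decide +kernel

theorem edges1part2 : edgesPart rows level1 [level2, level3] 200 = true := by decide +kernel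

theorem edges1part3 : edgesPart rows level1 [level2, level3] 300 = true := by decide +kernel

theorem edges1part4 : edgesPart rows level1 [level2, level3] 400 = true := by decide +kernel

theorem edges1part5 : edgesPart rows level1 [level2, level3] 500 = true := by decide +kernel

theorem edges1part6 : edgesPart rows level1 [level2, level3] 600 = true := by decide +kernel

theorem edges1part7 : edgesPart rows level1 [level2, level3] 700 = true := by decide +kernel

theorem edges1part8 : edgesPart rows level1 [level2, level3] 800 = true := by decide +kernel

theorem edges1part9 : edgesPart rows level1 [level2, level3] 900 = true := by decide +kernel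

theorem shape1 : shapeOK rels rows level1 [level2, level3] (nextWords top level0) = true := by
  refine shape_of_parts rels rows level1 [level2, level3] _ shape1rest 10 (by decide +kernel) fun j hj => ?_
  match j with
  | 0 => exact edges1part0
  | 1 => exact edges1part1
  | 2 => exact edges1part2
  | 3 => exact edges1part3
  | 4 => exact edges1part4
  | 5 => exact edges1part5
  | 6 => exact edges1part6
  | 7 => exact edges1part7
  | 8 => exact edges1part8
  | 9 => exact edges1part9
  | j + 10 => omega

theorem eqns1 : eqnsOK level1 [level2, level3] = true := by decide +kernel

theorem deds1part0 : dedsPart level1 [level2, level3] 0 = true := by decide +kernel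

theorem deds1part1 : dedsPart level1 [level2, level3] 25 = true := by decide +kernel

theorem deds1part2 : dedsPart level1 [level2, level3] 50 = true := by decide +kernel

theorem deds1part3 : dedsPart level1 [level2, level3] 75 = true := by decide +kernel

theorem deds1part4 : dedsPart level1 [level2, level3] 100 = true := by decide +kernel

theorem deds1part5 : dedsPart level1 [level2, level3] 125 = true := by decide +kernel

theorem deds1part6 : dedsPart level1 [level2, level3] 150 = true := by decide +kernel

theorem deds1part7 : dedsPart level1 [level2, level3] 175 = true := by decide +kernel

theorem deds1part8 : dedsPart level1 [level2, level3] 200 = true := by decide +kernel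

theorem deds1part9 : dedsPart level1 [level2, level3] 225 = true := by decide +kernel

theorem deds1part10 : dedsPart level1 [level2, level3] 250 = true := by decide +kernel

theorem deds1part11 : dedsPart level1 [level2, level3] 275 = true := by decide +kernel

theorem deds1part12 : dedsPart level1 [level2, level3] 300 = true := by decide +kernel

theorem deds1part13 : dedsPart level1 [level2, level3] 325 = true := by decide +kernel

theorem deds1part14 : dedsPart level1 [level2, level3] 350 = true := by decide +kernel

theorem deds1part15 : dedsPart level1 [level2, level3] 375 = true := by decide +kernel

theorem deds1part16 : dedsPart level1 [level2, level3] 400 = true := by decide +kernel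

theorem deds1part17 : dedsPart level1 [level2, level3] 425 = true := by decide +kernel

theorem deds1part18 : dedsPart level1 [level2, level3] 450 = true := by decide +kernel

theorem deds1part19 : dedsPart level1 [level2, level3] 475 = true := by decide +kernel

theorem deds1part20 : dedsPart level1 [level2, level3] 500 = true := by decide +kernel

theorem deds1part21 : dedsPart level1 [level2, level3] 525 = true := by decide +kernel

theorem deds1part22 : dedsPart level1 [level2, level3] 550 = true := by decide +kernel

theorem deds1part23 : dedsPart level1 [level2, level3] 575 = true := by decide +kernel

theorem deds1part24 : dedsPart level1 [level2, level3] 600 = true := by decide +kernel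

theorem deds1part25 : dedsPart level1 [level2, level3] 625 = true := by decide +kernel

theorem deds1part26 : dedsPart level1 [level2, level3] 650 = true := by decide +kernel

theorem deds1part27 : dedsPart level1 [level2, level3] 675 = true := by decide +kernel

theorem deds1part28 : dedsPart level1 [level2, level3] 700 = true := by decide +kernel

theorem deds1part29 : dedsPart level1 [level2, level3] 725 = true := by decide +kernel

theorem deds1part30 : dedsPart level1 [level2, level3] 750 = true := by decide +kernel

theorem deds1part31 : dedsPart level1 [level2, level3] 775 = true := by decide +kernel

theorem deds1part32 : dedsPart level1 [level2, level3] 800 = true := by decide +kernel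

theorem deds1part33 : dedsPart level1 [level2, level3] 825 = true := by decide +kernel

theorem deds1part34 : dedsPart level1 [level2, level3] 850 = true := by decide +kernel

theorem deds1part35 : dedsPart level1 [level2, level3] 875 = true := by decide +kernel

theorem deds1part36 : dedsPart level1 [level2, level3] 900 = true := by decide +kernel

theorem deds1part37 : dedsPart level1 [level2, level3] 925 = true := by decide +kernel

theorem deds1part38 : dedsPart level1 [level2, level3] 950 = true := by decide +kernel

theorem deds1part39 : dedsPart level1 [level2, level3] 975 = true := by decide +kernel

theorem deds1part40 : dedsPart level1 [level2, level3] 1000 = true := by decide +kernel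

theorem deds1part41 : dedsPart level1 [level2, level3] 1025 = true := by decide +kernel

theorem deds1part42 : dedsPart level1 [level2, level3] 1050 = true := by decide +kernel

theorem deds1part43 : dedsPart level1 [level2, level3] 1075 = true := by decide +kernel

theorem deds1part44 : dedsPart level1 [level2, level3] 1100 = true := by decide +kernel

theorem deds1part45 : dedsPart level1 [level2, level3] 1125 = true := by decide +kernel

theorem deds1part46 : dedsPart level1 [level2, level3] 1150 = true := by decide +kernel

theorem deds1part47 : dedsPart level1 [level2, level3] 1175 = true := by decide +kernel

theorem deds1part48 : dedsPart level1 [level2, level3] 1200 = true := by decide +kernel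

theorem deds1part49 : dedsPart level1 [level2, level3] 1225 = true := by decide +kernel

theorem deds1part50 : dedsPart level1 [level2, level3] 1250 = true := by decide +kernel

theorem deds1part51 : dedsPart level1 [level2, level3] 1275 = true := by decide +kernel

theorem deds1part52 : dedsPart level1 [level2, level3] 1300 = true := by decide +kernel

theorem deds1part53 : dedsPart level1 [level2, level3] 1325 = true := by decide +kernel

theorem deds1part54 : dedsPart level1 [level2, level3] 1350 = true := by decide +kernel

theorem deds1part55 : dedsPart level1 [level2, level3] 1375 = true := by decide +kernel

theorem deds1part56 : dedsPart level1 [level2, level3] 1400 = true := by decide +kernel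

theorem deds1part57 : dedsPart level1 [level2, level3] 1425 = true := by decide +kernel

theorem deds1part58 : dedsPart level1 [level2, level3] 1450 = true := by decide +kernel

theorem deds1part59 : dedsPart level1 [level2, level3] 1475 = true := by decide +kernel

theorem deds1part60 : dedsPart level1 [level2, level3] 1500 = true := by decide +kernel

theorem deds1part61 : dedsPart level1 [level2, level3] 1525 = true := by decide +kernel

theorem deds1part62 : dedsPart level1 [level2, level3] 1550 = true := by decide +kernel

theorem deds1part63 : dedsPart level1 [level2, level3] 1575 = true := by decide +kernel

theorem deds1part64 : dedsPart level1 [level2, level3] 1600 = true := by decide +kernel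

theorem deds1part65 : dedsPart level1 [level2, level3] 1625 = true := by decide +kernel

theorem deds1part66 : dedsPart level1 [level2, level3] 1650 = true := by decide +kernel

theorem deds1part67 : dedsPart level1 [level2, level3] 1675 = true := by decide +kernel

theorem deds1part68 : dedsPart level1 [level2, level3] 1700 = true := by decide +kernel

theorem deds1part69 : dedsPart level1 [level2, level3] 1725 = true := by decide +kernel

theorem deds1part70 : dedsPart level1 [level2, level3] 1750 = true := by decide +kernel

theorem deds1part71 : dedsPart level1 [level2, level3] 1775 = true := by decide +kernel

theorem deds1part72 : dedsPart level1 [level2, level3] 1800 = true := by decide +kernel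

theorem deds1part73 : dedsPart level1 [level2, level3] 1825 = true := by decide +kernel

theorem deds1part74 : dedsPart level1 [level2, level3] 1850 = true := by decide +kernel

theorem deds1part75 : dedsPart level1 [level2, level3] 1875 = true := by decide +kernel

theorem deds1part76 : dedsPart level1 [level2, level3] 1900 = true := by decide +kernel

theorem deds1part77 : dedsPart level1 [level2, level3] 1925 = true := by decide +kernel

theorem deds1part78 : dedsPart level1 [level2, level3] 1950 = true := by decide +kernel

theorem deds1 : dedsOK level1 [level2, level3] = true := by
  refine deds_of_parts level1 [level2, level3] 79 (by decide +kernel) fun j hj => ?_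
  match j with
  | 0 => exact deds1part0
  | 1 => exact deds1part1
  | 2 => exact deds1part2
  | 3 => exact deds1part3
  | 4 => exact deds1part4
  | 5 => exact deds1part5
  | 6 => exact deds1part6
  | 7 => exact deds1part7
  | 8 => exact deds1part8
  | 9 => exact deds1part9
  | 10 => exact deds1part10
  | 11 => exact deds1part11
  | 12 => exact deds1part12
  | 13 => exact deds1part13
  | 14 => exact deds1part14
  | 15 => exact deds1part15
  | 16 => exact deds1part16
  | 17 => exact deds1part17
  | 18 => exact deds1part18
  | 19 => exact deds1part19
  | 20 => exact deds1part20
  | 21 => exact deds1part21
  | 22 => exact deds1part22
  | 23 => exact deds1part23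
  | 24 => exact deds1part24
  | 25 => exact deds1part25
  | 26 => exact deds1part26
  | 27 => exact deds1part27
  | 28 => exact deds1part28
  | 29 => exact deds1part29
  | 30 => exact deds1part30
  | 31 => exact deds1part31
  | 32 => exact deds1part32
  | 33 => exact deds1part33
  | 34 => exact deds1part34
  | 35 => exact deds1part35
  | 36 => exact deds1part36
  | 37 => exact deds1part37
  | 38 => exact deds1part38
  | 39 => exact deds1part39
  | 40 => exact deds1part40
  | 41 => exact deds1part41
  | 42 => exact deds1part42
  | 43 => exact deds1part43
  | 44 => exact deds1part44
  | 45 => exact deds1part45
  | 46 => exact deds1part46
  | 47 => exact deds1part47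
  | 48 => exact deds1part48
  | 49 => exact deds1part49
  | 50 => exact deds1part50
  | 51 => exact deds1part51
  | 52 => exact deds1part52
  | 53 => exact deds1part53
  | 54 => exact deds1part54
  | 55 => exact deds1part55
  | 56 => exact deds1part56
  | 57 => exact deds1part57
  | 58 => exact deds1part58
  | 59 => exact deds1part59
  | 60 => exact deds1part60
  | 61 => exact deds1part61
  | 62 => exact deds1part62
  | 63 => exact deds1part63
  | 64 => exact deds1part64
  | 65 => exact deds1part65
  | 66 => exact deds1part66
  | 67 => exact deds1part67
  | 68 => exact deds1part68
  | 69 => exact deds1part69
  | 70 => exact deds1part70
  | 71 => exact deds1part71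
  | 72 => exact deds1part72
  | 73 => exact deds1part73
  | 74 => exact deds1part74
  | 75 => exact deds1part75
  | 76 => exact deds1part76
  | 77 => exact deds1part77
  | 78 => exact deds1part78
  | j + 79 => omega

end CfsgLib.Sporadic.RuMult.TitsChain
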