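import Cfsg.Agent.Lib.Sporadic.RuMult.TitsCheck0
import Cfsg.Agent.Lib.Sporadic.RuMult.TitsCheck1

/-!
# The checks of the chain of the Tits subgroup
-/

set_option autoImplicit false
set_option maxRecDepth 100000
set_option maxHeartbeats 0
set_option Elab.async false

namespace CfsgLib.Sporadic.RuMult.TitsChain

open CfsgLib.Schur.Cert CfsgLib.Sporadic

theorem small_checks : (shapeOK rels rows level2 [level3] (nextWords (nextWords top level0) level1) = true ∧
    dedsOK level2 [level3] = true ∧ eqnsOK level2 [level3] = true) ∧
    (shapeOK rels rows level3 [] (nextWords (nextWords (nextWords top level0) level1) level2) = true ∧ dedsOK level3 [] = true ∧ eqnsOK level3 [] = true) ∧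
    (nextWords (nextWords (nextWords (nextWords top level0) level1) level2) level3).isEmpty = true := by decide +kernel

theorem tables_check : tablesOK rels rows chain top = true := by
  obtain ⟨⟨a1, a2, a3⟩, ⟨b1, b2, b3⟩, c⟩ := small_checks
  show tablesOK rels rows [level0, level1, level2, level3] top = true
  simp only [tablesOK, shape0, deds0, eqns0, shape1, deds1, eqns1, a1, a2, a3, b1, b2, b3, c, Bool.and_self]

theorem rows_check : rows = relRows rels ∧ chainExp chain = top.map (wexp vunit) ∧ chainGen chain = 2 ∧
    chainSize chain = 17971200 ∧ lin.bound = 1 := by decide +kernel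

theorem lin_check : lin.ok rows 2 (chainEqns chain) = true := by decide +kernel

end CfsgLib.Sporadic.RuMult.TitsChain
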