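import Cfsg.Agent.Lib.Sporadic.RuMult.Members
import Cfsg.Agent.Lib.Sporadic.RuMult.TitsChecks
import Cfsg.Agent.Lib.Schur.CosetBound

/-!
# Central extensions of the Rudvalis group split over the Tits subgroup
-/

set_option autoImplicit false
set_option maxRecDepth 100000
set_option maxHeartbeats 1000000

namespace CfsgLib.Sporadic.RuMult

open CfsgLib.Sporadic CfsgLib.Sporadic.RuMod
open CfsgLib.Schur.Cert (Word wval lett Frame exists_frame card_ker_inf_le wexp vunit cf relRows cf_vadd cf_vneg
  cf_nil)

/-- The relations of the chain hold on the two generators. -/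
noncomputable def titsRelsOK : Bool :=
  TitsChain.rels.all fun w =>
    (w.all fun l => Nat.blt l.1 2) && Nat.beq (wmat (w.map fun l => cond l.2 (code l.1) (codeInv l.1))) one

theorem tits_rels_ok : titsRelsOK = true := by decide +kernel

attribute [local irreducible] mm dec in
theorem tits_rels : ∀ w ∈ TitsChain.rels, (∀ l ∈ w, l.1 < 2) ∧ wval el w = 1 := by
  intro w hw
  have h := tits_rels_ok
  simp only [titsRelsOK, List.all_eq_true] at h
  have h' := h w hw
  simp only [Bool.and_eq_true, List.all_eq_true, Nat.blt_eq, Nat.beq_eq] at h'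
  refine ⟨h'.1, Units.ext ?_⟩
  rw [wval, val_prod (lett el) (fun l => cond l.2 (code l.1) (codeInv l.1)) w fun l hl => ?_, h'.2, dec_one,
    Units.val_one]
  have := h'.1 l hl
  obtain ⟨x, s⟩ := l
  cases s
  · exact el_inv_val (by omega)
  · exact el_val (by omega)

/-- The Tits subgroup in the group. -/
noncomputable abbrev TS : Subgroup RG := RT.subgroupOf RG

theorem RT_le_RG : RT ≤ RG := RT_le.trans RK_le

theorem card_subgroupOf {A : Type*} [Group A] {H K : Subgroup A} (h : H ≤ K) :
    Nat.card (H.subgroupOf K) = Nat.card H :=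
  Nat.card_congr (Subgroup.subgroupOfEquivOfLe h).toEquiv

theorem commutator_subgroupOf {A : Type*} [Group A] {H K : Subgroup A} (h : H ≤ K) (hH : commutator H = ⊤) :
    ⁅H.subgroupOf K, H.subgroupOf K⁆ = H.subgroupOf K := by
  have e := congrArg (Subgroup.map ((Subgroup.subgroupOfEquivOfLe h).symm : H →* H.subgroupOf K)) hH
  rw [commutator_def, Subgroup.map_commutator,
    Subgroup.map_top_of_surjective _ (Subgroup.subgroupOfEquivOfLe h).symm.surjective] at e
  have e2 := congrArg (Subgroup.map (H.subgroupOf K).subtype) e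
  rwa [Subgroup.map_commutator, ← MonoidHom.range_eq_map, Subgroup.range_subtype] at e2

theorem card_TS : Nat.card TS = 17971200 := (card_subgroupOf RT_le_RG).trans card_RT

theorem perfect_of_simple {A : Type*} [Group A] (hA : IsSimpleGroup A) {n : ℕ} (hn : Nat.card A = n)
    (h0 : n ≠ 0) (hp : ¬ n.Prime) : commutator A = ⊤ := by
  haveI := hA
  refine (IsSimpleGroup.eq_bot_or_eq_top_of_normal (commutator A) inferInstance).resolve_left fun h => ?_
  have hab : ∀ u v : A, u * v = v * u := fun u v => by
    refine commutatorElement_eq_one_iff_mul_comm.mp ?_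
    have := Subgroup.commutator_mem_commutator (Subgroup.mem_top u) (Subgroup.mem_top v)
    rwa [← commutator_def, h, Subgroup.mem_bot] at this
  let _ : CommGroup A := { (inferInstance : Group A) with mul_comm := hab }
  haveI : Finite A := Nat.finite_of_card_ne_zero (hn.symm ▸ h0)
  exact hp (hn ▸ IsSimpleGroup.prime_card (α := A))

theorem commutator_RT : commutator RT = ⊤ :=
  perfect_of_simple simple_RT card_RT (by norm_num) (by norm_num)

theorem commutator_TS : ⁅TS, TS⁆ = TS := commutator_subgroupOf RT_le_RG commutator_RT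

theorem el_TS {i : ℕ} (hi : i < 3) : (⟨el i, RT_le_RG (members.2.2.1 i hi)⟩ : RG) ∈ TS :=
  members.2.2.1 i hi

theorem wval_map {A B : Type*} [Group A] [Group B] (f : A →* B) (a : ℕ → A) (w : Word) :
    f (wval a w) = wval (fun j => f (a j)) w := by
  simp only [wval, map_list_prod, List.map_map]
  refine congrArg List.prod (List.map_congr_left fun l _ => ?_)
  obtain ⟨x, s⟩ := l
  cases s <;> simp [lett]

theorem wval_congr {A : Type*} [Group A] {a b : ℕ → A} {w : Word} (h : ∀ l ∈ w, a l.1 = b l.1) :
    wval a w = wval b w := by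
  refine congrArg List.prod (List.map_congr_left fun l hl => ?_)
  simp only [lett, h l hl]

/-- The lift of the Tits subgroup in a central extension. -/
noncomputable def titsPart {Γ : Type*} [Group Γ] (σ : Γ →* RG) : Subgroup Γ := ⁅TS.comap σ, TS.comap σ⁆

/-- The lift of the Tits subgroup is mapped isomorphically onto it. -/
theorem tits_lift {Γ : Type*} [Group Γ] [Finite Γ] (σ : Γ →* RG) (hs : Function.Surjective σ)
    (hc : σ.ker ≤ Subgroup.center Γ) : (titsPart σ).map σ = TS ∧ titsPart σ ⊓ σ.ker = ⊥ := by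
  classical
  let P : Subgroup Γ := TS.comap σ
  let ξ : P →* TS := (σ.comp P.subtype).codRestrict TS fun x => x.2
  have hξs : Function.Surjective ξ := fun u => by
    obtain ⟨g, hg⟩ := hs u.1
    exact ⟨⟨g, show σ g ∈ TS from hg ▸ u.2⟩, Subtype.ext hg⟩
  have hξc : ξ.ker ≤ Subgroup.center P := fun x hx => by
    refine Subgroup.mem_center_iff.2 fun y => Subtype.ext ?_
    exact Subgroup.mem_center_iff.1 (hc (show σ x.1 = 1 from congrArg Subtype.val (MonoidHom.mem_ker.1 hx))) y.1
  haveI : Finite TS := Nat.finite_of_card_ne_zero (by rw [card_TS]; norm_num)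
  let a : ℕ → TS := fun j => if h : j < 2 then ⟨_, el_TS (show j < 3 by omega)⟩ else 1
  have ha : ∀ j < 2, ((a j : RG) : G28) = el j := fun j hj => by simp only [a, dif_pos hj]
  have hval : ∀ w ∈ TitsChain.rels, wval a w = 1 := by
    intro w hw
    obtain ⟨hlt, h1⟩ := tits_rels w hw
    refine Subtype.ext (Subtype.ext ?_)
    have e := wval_map (RG.subtype.comp TS.subtype) a w
    simp only [MonoidHom.comp_apply, Subgroup.coe_subtype] at e
    rw [e, wval_congr fun l hl => ha l.1 (hlt l hl), h1]
    rfl
  have hgen : Subgroup.closure (a '' Set.Iio 2) = ⊤ := by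
    have hle : RT ≤ (Subgroup.closure (a '' Set.Iio 2)).map (RG.subtype.comp TS.subtype) := by
      refine RT_gen.trans ((Subgroup.closure_le _).2 ?_)
      rintro x (rfl | rfl)
      · exact ⟨a 0, Subgroup.subset_closure ⟨0, (by simp), rfl⟩, ha 0 (by norm_num)⟩
      · exact ⟨a 1, Subgroup.subset_closure ⟨1, (by simp), rfl⟩, ha 1 (by norm_num)⟩
    refine eq_top_iff.2 fun x _ => ?_
    obtain ⟨y, hy, e⟩ := hle x.2
    rwa [show x = y from Subtype.ext (Subtype.ext e.symm)]
  obtain ⟨hrows, hexp, hgenlen, hsize, hbound⟩ := TitsChain.rows_check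
  obtain ⟨F⟩ := exists_frame ξ hξs hξc a TitsChain.rels hval
  have htab := TitsChain.tables_check
  have hlin := TitsChain.lin_check
  rw [hrows] at htab hlin
  obtain ⟨hS, hE⟩ := chain_sound F TitsChain.chain TitsChain.top htab
  have hsound : CfsgLib.Schur.Cert.Sound F.E (relRows TitsChain.rels) F.b 2 vunit (chainSize TitsChain.chain)
      (chainMachine TitsChain.chain) := by
    rw [hgenlen] at hS
    obtain ⟨elt, pot, hN, he, hp, hstep⟩ := hS
    refine ⟨elt, pot, hN, he, hp, fun i hi l hl => ?_⟩
    obtain ⟨h1, h2, h3⟩ := hstep i hi l hl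
    have htop : TitsChain.top.getD l.1 [] = [(l.1, true)] := by
      rw [TitsChain.top, List.getD_eq_getElem _ _ (by simpa using hl)]; simp
    have hwl : wval F.b (TitsChain.top.getD l.1 []) = F.b l.1 := by rw [htop]; simp [wval, lett]
    refine ⟨h1, by simpa only [lett, hwl] using h2, fun j => ?_⟩
    have := h3 j
    simp only [hexp, TitsChain.top] at this
    obtain ⟨x, s⟩ := l
    rw [show cf (wexp (fun j => (((List.range 2).map fun j => [(j, true)]).map (wexp vunit)).getD j []) [(x, s)]) j
      = cf (wexp vunit [(x, s)]) j by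
        simp only [wexp]
        rw [List.getD_eq_getElem _ _ (by simpa using hl)]
        cases s <;> simp [wexp, cf_vadd, cf_vneg, cf_nil]] at this
    exact this
  have hle := card_ker_inf_le hξs hξc F hgen (card_TS.trans hsize.symm) hsound TitsChain.lin _ hlin hE
  rw [hbound] at hle
  show ⁅P, P⁆.map σ = TS ∧ ⁅P, P⁆ ⊓ σ.ker = ⊥
  refine ⟨?_, ?_⟩
  · rw [Subgroup.map_commutator, Subgroup.map_comap_eq_self_of_surjective hs, commutator_TS]
  · refine (Subgroup.eq_bot_iff_forall _).2 ?_
    rintro z ⟨hz, hzk⟩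
    rw [← Subgroup.map_subtype_commutator] at hz
    obtain ⟨y, hy, rfl⟩ := hz
    have hbot : (ξ.ker ⊓ commutator P : Subgroup P) = ⊥ := Subgroup.eq_bot_of_card_le _ hle
    have : y ∈ (ξ.ker ⊓ commutator P : Subgroup P) := ⟨MonoidHom.mem_ker.2 (Subtype.ext hzk), hy⟩
    rw [hbot, Subgroup.mem_bot] at this
    rw [this, map_one]

end CfsgLib.Sporadic.RuMult
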