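import Cfsg.Agent.Lib.Sporadic.RuMult.TitsData

/-!
# Deductions of coset table 0
-/

set_option autoImplicit false
set_option maxRecDepth 100000
set_option maxHeartbeats 0
set_option Elab.async false

namespace CfsgLib.Sporadic.RuMult.TitsChain

open CfsgLib.Schur.Cert CfsgLib.Sporadic

theorem deds0part76 : dedsPart level0 [level1, level2, level3] 1900 = true := by decide +kernel

theorem deds0part77 : dedsPart level0 [level1, level2, level3] 1925 = true := by decide +kernel

theorem deds0part78 : dedsPart level0 [level1, level2, level3] 1950 = true := by decide +kernel

theorem deds0part79 : dedsPart level0 [level1, level2, level3] 1975 = true := by decide +kernel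

theorem deds0part80 : dedsPart level0 [level1, level2, level3] 2000 = true := by decide +kernel

theorem deds0part81 : dedsPart level0 [level1, level2, level3] 2025 = true := by decide +kernel

theorem deds0part82 : dedsPart level0 [level1, level2, level3] 2050 = true := by decide +kernel

theorem deds0part83 : dedsPart level0 [level1, level2, level3] 2075 = true := by decide +kernel

theorem deds0part84 : dedsPart level0 [level1, level2, level3] 2100 = true := by decide +kernel

end CfsgLib.Sporadic.RuMult.TitsChain
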