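import Cfsg.Agent.Lib.Sporadic.RuMult.TitsData

/-!
# Deductions of coset table 0
-/

set_option autoImplicit false
set_option maxRecDepth 100000
set_option maxHeartbeats 0
set_option Elab.async false

namespace CfsgLib.Sporadic.RuMult.TitsChain

open CfsgLib.Schur.Cert CfsgLib.Sporadic

theorem deds0part85 : dedsPart level0 [level1, level2, level3] 2125 = true := by decide +kernel

theorem deds0part86 : dedsPart level0 [level1, level2, level3] 2150 = true := by decide +kernel

theorem deds0part87 : dedsPart level0 [level1, level2, level3] 2175 = true := by decide +kernel

theorem deds0part88 : dedsPart level0 [level1, level2, level3] 2200 = true := by decide +kernel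

theorem deds0part89 : dedsPart level0 [level1, level2, level3] 2225 = true := by decide +kernel

theorem deds0part90 : dedsPart level0 [level1, level2, level3] 2250 = true := by decide +kernel

theorem deds0part91 : dedsPart level0 [level1, level2, level3] 2275 = true := by decide +kernel

theorem deds0part92 : dedsPart level0 [level1, level2, level3] 2300 = true := by decide +kernel

end CfsgLib.Sporadic.RuMult.TitsChain
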