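import Cfsg.Agent.Lib.Sporadic.RuMult.TitsDeds0
import Cfsg.Agent.Lib.Sporadic.RuMult.TitsDeds1
import Cfsg.Agent.Lib.Sporadic.RuMult.TitsDeds2
import Cfsg.Agent.Lib.Sporadic.RuMult.TitsData

/-!
# Checks of coset table 0 of the Tits subgroup
-/

set_option autoImplicit false
set_option maxRecDepth 100000
set_option maxHeartbeats 0
set_option Elab.async false

namespace CfsgLib.Sporadic.RuMult.TitsChain

open CfsgLib.Schur.Cert CfsgLib.Sporadic

theorem shape0rest : shapeRest rels level0 [level1, level2, level3] (top) = true := by decide +kernel

theorem edges0part0 : edgesPart rows level0 [level1, level2, level3] 0 = true := by decide +kernel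

theorem edges0part1 : edgesPart rows level0 [level1, level2, level3] 100 = true := by decide +kernel

theorem edges0part2 : edgesPart rows level0 [level1, level2, level3] 200 = true := by decide +kernel

theorem edges0part3 : edgesPart rows level0 [level1, level2, level3] 300 = true := by decide +kernel

theorem edges0part4 : edgesPart rows level0 [level1, level2, level3] 400 = true := by decide +kernel

theorem edges0part5 : edgesPart rows level0 [level1, level2, level3] 500 = true := by decide +kernel

theorem edges0part6 : edgesPart rows level0 [level1, level2, level3] 600 = true := by decide +kernel

theorem edges0part7 : edgesPart rows level0 [level1, level2, level3] 700 = true := by decide +kernel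

theorem edges0part8 : edgesPart rows level0 [level1, level2, level3] 800 = true := by decide +kernel

theorem edges0part9 : edgesPart rows level0 [level1, level2, level3] 900 = true := by decide +kernel

theorem edges0part10 : edgesPart rows level0 [level1, level2, level3] 1000 = true := by decide +kernel

theorem edges0part11 : edgesPart rows level0 [level1, level2, level3] 1100 = true := by decide +kernel

theorem edges0part12 : edgesPart rows level0 [level1, level2, level3] 1200 = true := by decide +kernel

theorem edges0part13 : edgesPart rows level0 [level1, level2, level3] 1300 = true := by decide +kernel

theorem edges0part14 : edgesPart rows level0 [level1, level2, level3] 1400 = true := by decide +kernel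

theorem edges0part15 : edgesPart rows level0 [level1, level2, level3] 1500 = true := by decide +kernel

theorem edges0part16 : edgesPart rows level0 [level1, level2, level3] 1600 = true := by decide +kernel

theorem edges0part17 : edgesPart rows level0 [level1, level2, level3] 1700 = true := by decide +kernel

theorem edges0part18 : edgesPart rows level0 [level1, level2, level3] 1800 = true := by decide +kernel

theorem edges0part19 : edgesPart rows level0 [level1, level2, level3] 1900 = true := by decide +kernel

theorem edges0part20 : edgesPart rows level0 [level1, level2, level3] 2000 = true := by decide +kernel

theorem edges0part21 : edgesPart rows level0 [level1, level2, level3] 2100 = true := by decide +kernel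

theorem edges0part22 : edgesPart rows level0 [level1, level2, level3] 2200 = true := by decide +kernel

theorem edges0part23 : edgesPart rows level0 [level1, level2, level3] 2300 = true := by decide +kernel

theorem shape0 : shapeOK rels rows level0 [level1, level2, level3] (top) = true := by
  refine shape_of_parts rels rows level0 [level1, level2, level3] _ shape0rest 24 (by decide +kernel) fun j hj => ?_
  match j with
  | 0 => exact edges0part0
  | 1 => exact edges0part1
  | 2 => exact edges0part2
  | 3 => exact edges0part3
  | 4 => exact edges0part4
  | 5 => exact edges0part5
  | 6 => exact edges0part6
  | 7 => exact edges0part7
  | 8 => exact edges0part8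
  | 9 => exact edges0part9
  | 10 => exact edges0part10
  | 11 => exact edges0part11
  | 12 => exact edges0part12
  | 13 => exact edges0part13
  | 14 => exact edges0part14
  | 15 => exact edges0part15
  | 16 => exact edges0part16
  | 17 => exact edges0part17
  | 18 => exact edges0part18
  | 19 => exact edges0part19
  | 20 => exact edges0part20
  | 21 => exact edges0part21
  | 22 => exact edges0part22
  | 23 => exact edges0part23
  | j + 24 => omega

theorem eqns0 : eqnsOK level0 [level1, level2, level3] = true := by decide +kernel

theorem deds0part0 : dedsPart level0 [level1, level2, level3] 0 = true := by decide +kernel

theorem deds0part1 : dedsPart level0 [level1, level2, level3] 25 = true := by decide +kernel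

theorem deds0part2 : dedsPart level0 [level1, level2, level3] 50 = true := by decide +kernel

theorem deds0part3 : dedsPart level0 [level1, level2, level3] 75 = true := by decide +kernel

theorem deds0part4 : dedsPart level0 [level1, level2, level3] 100 = true := by decide +kernel

theorem deds0part5 : dedsPart level0 [level1, level2, level3] 125 = true := by decide +kernel

theorem deds0part6 : dedsPart level0 [level1, level2, level3] 150 = true := by decide +kernel

theorem deds0part7 : dedsPart level0 [level1, level2, level3] 175 = true := by decide +kernel

theorem deds0part8 : dedsPart level0 [level1, level2, level3] 200 = true := by decide +kernel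

theorem deds0part9 : dedsPart level0 [level1, level2, level3] 225 = true := by decide +kernel

theorem deds0part10 : dedsPart level0 [level1, level2, level3] 250 = true := by decide +kernel

theorem deds0part11 : dedsPart level0 [level1, level2, level3] 275 = true := by decide +kernel

theorem deds0part12 : dedsPart level0 [level1, level2, level3] 300 = true := by decide +kernel

theorem deds0part13 : dedsPart level0 [level1, level2, level3] 325 = true := by decide +kernel

theorem deds0part14 : dedsPart level0 [level1, level2, level3] 350 = true := by decide +kernel

theorem deds0part15 : dedsPart level0 [level1, level2, level3] 375 = true := by decide +kernel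

theorem deds0part16 : dedsPart level0 [level1, level2, level3] 400 = true := by decide +kernel

theorem deds0part17 : dedsPart level0 [level1, level2, level3] 425 = true := by decide +kernel

theorem deds0part18 : dedsPart level0 [level1, level2, level3] 450 = true := by decide +kernel

theorem deds0part19 : dedsPart level0 [level1, level2, level3] 475 = true := by decide +kernel

theorem deds0part20 : dedsPart level0 [level1, level2, level3] 500 = true := by decide +kernel

theorem deds0part21 : dedsPart level0 [level1, level2, level3] 525 = true := by decide +kernel

theorem deds0part22 : dedsPart level0 [level1, level2, level3] 550 = true := by decide +kernel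

theorem deds0part23 : dedsPart level0 [level1, level2, level3] 575 = true := by decide +kernel

theorem deds0part24 : dedsPart level0 [level1, level2, level3] 600 = true := by decide +kernel

theorem deds0part25 : dedsPart level0 [level1, level2, level3] 625 = true := by decide +kernel

theorem deds0part26 : dedsPart level0 [level1, level2, level3] 650 = true := by decide +kernel

theorem deds0part27 : dedsPart level0 [level1, level2, level3] 675 = true := by decide +kernel

theorem deds0part28 : dedsPart level0 [level1, level2, level3] 700 = true := by decide +kernel

theorem deds0part29 : dedsPart level0 [level1, level2, level3] 725 = true := by decide +kernel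

theorem deds0part30 : dedsPart level0 [level1, level2, level3] 750 = true := by decide +kernel

theorem deds0part31 : dedsPart level0 [level1, level2, level3] 775 = true := by decide +kernel

theorem deds0part32 : dedsPart level0 [level1, level2, level3] 800 = true := by decide +kernel

theorem deds0part33 : dedsPart level0 [level1, level2, level3] 825 = true := by decide +kernel

theorem deds0part34 : dedsPart level0 [level1, level2, level3] 850 = true := by decide +kernel

theorem deds0part35 : dedsPart level0 [level1, level2, level3] 875 = true := by decide +kernel

theorem deds0part36 : dedsPart level0 [level1, level2, level3] 900 = true := by decide +kernel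

theorem deds0part37 : dedsPart level0 [level1, level2, level3] 925 = true := by decide +kernel

theorem deds0part38 : dedsPart level0 [level1, level2, level3] 950 = true := by decide +kernel

theorem deds0part39 : dedsPart level0 [level1, level2, level3] 975 = true := by decide +kernel

theorem deds0part40 : dedsPart level0 [level1, level2, level3] 1000 = true := by decide +kernel

theorem deds0part41 : dedsPart level0 [level1, level2, level3] 1025 = true := by decide +kernel

theorem deds0part42 : dedsPart level0 [level1, level2, level3] 1050 = true := by decide +kernel

theorem deds0part43 : dedsPart level0 [level1, level2, level3] 1075 = true := by decide +kernel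

theorem deds0part44 : dedsPart level0 [level1, level2, level3] 1100 = true := by decide +kernel

theorem deds0part45 : dedsPart level0 [level1, level2, level3] 1125 = true := by decide +kernel

theorem deds0part46 : dedsPart level0 [level1, level2, level3] 1150 = true := by decide +kernel

theorem deds0part47 : dedsPart level0 [level1, level2, level3] 1175 = true := by decide +kernel

theorem deds0part48 : dedsPart level0 [level1, level2, level3] 1200 = true := by decide +kernel

theorem deds0part49 : dedsPart level0 [level1, level2, level3] 1225 = true := by decide +kernel

theorem deds0part50 : dedsPart level0 [level1, level2, level3] 1250 = true := by decide +kernel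

theorem deds0part51 : dedsPart level0 [level1, level2, level3] 1275 = true := by decide +kernel

theorem deds0part52 : dedsPart level0 [level1, level2, level3] 1300 = true := by decide +kernel

theorem deds0part53 : dedsPart level0 [level1, level2, level3] 1325 = true := by decide +kernel

theorem deds0part54 : dedsPart level0 [level1, level2, level3] 1350 = true := by decide +kernel

theorem deds0part55 : dedsPart level0 [level1, level2, level3] 1375 = true := by decide +kernel

theorem deds0part56 : dedsPart level0 [level1, level2, level3] 1400 = true := by decide +kernel

theorem deds0part57 : dedsPart level0 [level1, level2, level3] 1425 = true := by decide +kernel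

theorem deds0part58 : dedsPart level0 [level1, level2, level3] 1450 = true := by decide +kernel

theorem deds0part59 : dedsPart level0 [level1, level2, level3] 1475 = true := by decide +kernel

theorem deds0part60 : dedsPart level0 [level1, level2, level3] 1500 = true := by decide +kernel

theorem deds0part61 : dedsPart level0 [level1, level2, level3] 1525 = true := by decide +kernel

theorem deds0part62 : dedsPart level0 [level1, level2, level3] 1550 = true := by decide +kernel

theorem deds0part63 : dedsPart level0 [level1, level2, level3] 1575 = true := by decide +kernel

theorem deds0 : dedsOK level0 [level1, level2, level3] = true := by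
  refine deds_of_parts level0 [level1, level2, level3] 93 (by decide +kernel) fun j hj => ?_
  match j with
  | 0 => exact deds0part0
  | 1 => exact deds0part1
  | 2 => exact deds0part2
  | 3 => exact deds0part3
  | 4 => exact deds0part4
  | 5 => exact deds0part5
  | 6 => exact deds0part6
  | 7 => exact deds0part7
  | 8 => exact deds0part8
  | 9 => exact deds0part9
  | 10 => exact deds0part10
  | 11 => exact deds0part11
  | 12 => exact deds0part12
  | 13 => exact deds0part13
  | 14 => exact deds0part14
  | 15 => exact deds0part15
  | 16 => exact deds0part16
  | 17 => exact deds0part17
  | 18 => exact deds0part18
  | 19 => exact deds0part19
  | 20 => exact deds0part20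
  | 21 => exact deds0part21
  | 22 => exact deds0part22
  | 23 => exact deds0part23
  | 24 => exact deds0part24
  | 25 => exact deds0part25
  | 26 => exact deds0part26
  | 27 => exact deds0part27
  | 28 => exact deds0part28
  | 29 => exact deds0part29
  | 30 => exact deds0part30
  | 31 => exact deds0part31
  | 32 => exact deds0part32
  | 33 => exact deds0part33
  | 34 => exact deds0part34
  | 35 => exact deds0part35
  | 36 => exact deds0part36
  | 37 => exact deds0part37
  | 38 => exact deds0part38
  | 39 => exact deds0part39
  | 40 => exact deds0part40
  | 41 => exact deds0part41
  | 42 => exact deds0part42
  | 43 => exact deds0part43
  | 44 => exact deds0part44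
  | 45 => exact deds0part45
  | 46 => exact deds0part46
  | 47 => exact deds0part47
  | 48 => exact deds0part48
  | 49 => exact deds0part49
  | 50 => exact deds0part50
  | 51 => exact deds0part51
  | 52 => exact deds0part52
  | 53 => exact deds0part53
  | 54 => exact deds0part54
  | 55 => exact deds0part55
  | 56 => exact deds0part56
  | 57 => exact deds0part57
  | 58 => exact deds0part58
  | 59 => exact deds0part59
  | 60 => exact deds0part60
  | 61 => exact deds0part61
  | 62 => exact deds0part62
  | 63 => exact deds0part63
  | 64 => exact deds0part64
  | 65 => exact deds0part65
  | 66 => exact deds0part66
  | 67 => exact deds0part67
  | 68 => exact deds0part68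
  | 69 => exact deds0part69
  | 70 => exact deds0part70
  | 71 => exact deds0part71
  | 72 => exact deds0part72
  | 73 => exact deds0part73
  | 74 => exact deds0part74
  | 75 => exact deds0part75
  | 76 => exact deds0part76
  | 77 => exact deds0part77
  | 78 => exact deds0part78
  | 79 => exact deds0part79
  | 80 => exact deds0part80
  | 81 => exact deds0part81
  | 82 => exact deds0part82
  | 83 => exact deds0part83
  | 84 => exact deds0part84
  | 85 => exact deds0part85
  | 86 => exact deds0part86
  | 87 => exact deds0part87
  | 88 => exact deds0part88
  | 89 => exact deds0part89
  | 90 => exact deds0part90
  | 91 => exact deds0part91
  | 92 => exact deds0part92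
  | j + 93 => omega

end CfsgLib.Sporadic.RuMult.TitsChain
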