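import Cfsg.Agent.Lib.Sporadic.ChainCertificate

/-!
# Packed words and vectors for the chain of the Tits subgroup
-/

set_option autoImplicit false

namespace CfsgLib.Sporadic.RuMult.TitsChain

open CfsgLib.Schur.Cert

/-- read `n` letters of three bits -/
def unWordAux : ℕ → ℕ → Word
  | 0, _ => []
  | n + 1, c => forceN (c / 8) fun d => forceN (c % 8) fun r => (r / 2, r % 2 == 1) :: unWordAux n d

/-- a packed word: the length in the lowest 12 bits -/
def unWord (c : ℕ) : Word := unWordAux (c % 4096) (c / 4096)

/-- the integer of a field: the sign in the lowest bit -/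
def unInt (r : ℕ) : ℤ := bif r % 2 == 1 then Int.negSucc (r / 2) else Int.ofNat (r / 2)

/-- read `n` fields of `w` bits -/
def unVecAux (b : ℕ) : ℕ → ℕ → Vec
  | 0, _ => []
  | n + 1, c => forceN (c / b) fun d => forceN (c % b) fun r => unInt r :: unVecAux b n d

/-- a packed vector: the length in the lowest 8 bits, then the width in 8 bits -/
def unVec (c : ℕ) : Vec := unVecAux (2 ^ (c / 256 % 256)) (c % 256) (c / 65536)

open CfsgLib.Sporadic in
/-- The side conditions of a level apart from its edges. -/
def shapeRest (rels : List Word) (l : ChainLevel) (ls : List ChainLevel) (h : List Word) : Bool :=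
  let g := nextWords h l
  decide (l.table.ngen = h.length) && (l.gexp == h.map (wexp vunit)) && decide (l.table.innerSize = chainSize ls) &&
    decide (l.table.innerGen = chainGen ls) && decide (g.length = chainGen ls) && l.table.baseOK &&
    (l.table.rels.all fun r => relTop rels (fun j => h.getD j []) (fun j => g.getD j []) r)

open CfsgLib.Sporadic in
/-- The edges at one hundred vertices. -/
def edgesPart (rows : List Vec) (l : ChainLevel) (ls : List ChainLevel) (lo : ℕ) : Bool :=
  (List.range 100).all fun i => !decide (lo + i < l.table.size) || (List.range l.table.ngen).all fun x =>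
    l.table.edgeOK (fun j => l.gexp.getD j []) (fun j => (chainExp ls).getD j []) rows (lo + i) x

open CfsgLib.Sporadic in
theorem shape_of_parts (rels : List Word) (rows : List Vec) (l : ChainLevel) (ls : List ChainLevel) (h : List Word)
    (h0 : shapeRest rels l ls h = true) (n : ℕ) (hn : l.table.size ≤ 100 * n)
    (hp : ∀ j < n, edgesPart rows l ls (100 * j) = true) : shapeOK rels rows l ls h = true := by
  simp only [shapeRest] at h0
  simp only [shapeOK, h0, Bool.true_and]
  rw [List.all_eq_true]
  intro v hv
  rw [List.mem_range] at hv
  have h' := hp (v / 100) (by omega)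
  simp only [edgesPart, List.all_eq_true, List.mem_range] at h'
  have h'' := h' (v % 100) (Nat.mod_lt _ (by norm_num))
  rw [Nat.div_add_mod] at h''
  rw [decide_eq_true hv, Bool.not_true, Bool.false_or] at h''
  exact h''

open CfsgLib.Sporadic in
/-- Twenty-five deductions of a level. -/
def dedsPart (l : ChainLevel) (ls : List ChainLevel) (lo : ℕ) : Bool :=
  (List.range 25).all fun i => !decide (lo + i < l.table.nded) || l.table.dedOK (chainMachine ls) (lo + i)

open CfsgLib.Sporadic in
theorem deds_of_parts (l : ChainLevel) (ls : List ChainLevel) (n : ℕ) (hn : l.table.nded ≤ 25 * n)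
    (h : ∀ j < n, dedsPart l ls (25 * j) = true) : dedsOK l ls = true := by
  simp only [dedsOK, List.all_eq_true, List.mem_range]
  intro i hi
  have h' := h (i / 25) (by omega)
  simp only [dedsPart, List.all_eq_true, List.mem_range] at h'
  have h'' := h' (i % 25) (Nat.mod_lt _ (by norm_num))
  rw [Nat.div_add_mod] at h''
  simpa [hi] using h''

end CfsgLib.Sporadic.RuMult.TitsChain
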