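import Cfsg.Agent.Lib.Sporadic.RuMult.TitsData

/-!
# Deductions of coset table 0
-/

set_option autoImplicit false
set_option maxRecDepth 100000
set_option maxHeartbeats 0
set_option Elab.async false

namespace CfsgLib.Sporadic.RuMult.TitsChain

open CfsgLib.Schur.Cert CfsgLib.Sporadic

theorem deds0part64 : dedsPart level0 [level1, level2, level3] 1600 = true := by decide +kernel

theorem deds0part65 : dedsPart level0 [level1, level2, level3] 1625 = true := by decide +kernel

theorem deds0part66 : dedsPart level0 [level1, level2, level3] 1650 = true := by decide +kernel

theorem deds0part67 : dedsPart level0 [level1, level2, level3] 1675 = true := by decide +kernel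

theorem deds0part68 : dedsPart level0 [level1, level2, level3] 1700 = true := by decide +kernel

theorem deds0part69 : dedsPart level0 [level1, level2, level3] 1725 = true := by decide +kernel

theorem deds0part70 : dedsPart level0 [level1, level2, level3] 1750 = true := by decide +kernel

theorem deds0part71 : dedsPart level0 [level1, level2, level3] 1775 = true := by decide +kernel

theorem deds0part72 : dedsPart level0 [level1, level2, level3] 1800 = true := by decide +kernel

theorem deds0part73 : dedsPart level0 [level1, level2, level3] 1825 = true := by decide +kernel

theorem deds0part74 : dedsPart level0 [level1, level2, level3] 1850 = true := by decide +kernel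

theorem deds0part75 : dedsPart level0 [level1, level2, level3] 1875 = true := by decide +kernel

end CfsgLib.Sporadic.RuMult.TitsChain
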