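import Cfsg.Agent.Lib.Sporadic.RuMult.TitsCode

/-!
# Coset table 0 of the Tits subgroup of the Rudvalis group
-/

set_option autoImplicit false
set_option maxRecDepth 100000
set_option maxHeartbeats 0
set_option Elab.async false

namespace CfsgLib.Sporadic.RuMult.TitsChain

open CfsgLib.Schur.Cert CfsgLib.Sporadic

/-- data -/
def next0p0 : Trie (ℕ) := .node (.node (.node (.node (.node (.node (.node (.node (.node (.leaf 1) (.leaf 2182)) (.leaf 1220)) (.node (.leaf 637) (.leaf 1734))) (.node (.node (.leaf 241) (.leaf 1087)) (.node (.leaf 935) (.leaf 1648)))) (.node (.node (.node (.node (.leaf 95) (.leaf 2034)) (.leaf 961)) (.node (.leaf 781) (.leaf 1464))) (.node (.node (.leaf 484) (.leaf 1201)) (.node (.leaf 734) (.leaf 2072))))) (.node (.node (.node (.node (.node (.leaf 87) (.leaf 1964)) (.leaf 902)) (.node (.leaf 708) (.leaf 1393))) (.node (.node (.leaf 411) (.leaf 1550)) (.node (.leaf 1008) (.leaf 1891)))) (.node (.node (.node (.node (.leaf 144) (.leaf 2160))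 (.leaf 1045)) (.node (.leaf 572) (.leaf 1532))) (.node (.node (.leaf 563) (.leaf 1258)) (.node (.leaf 787) (.leaf 2132)))))) (.node (.node (.node (.node (.node (.node (.leaf 44) (.leaf 2207)) (.leaf 1250)) (.node (.leaf 433) (.leaf 1365))) (.node (.node (.leaf 222) (.leaf 1116)) (.node (.leaf 977) (.leaf 1631)))) (.node (.node (.node (.node (.leaf 211) (.leaf 2267)) (.leaf 1390)) (.node (.leaf 543) (.leaf 1886))) (.node (.node (.leaf 507) (.leaf 1230)) (.node (.leaf 1118) (.leaf 1775))))) (.node (.node (.node (.node (.node (.leaf 71) (.leaf 1997)) (.leaf 929)) (.node (.leaf 488) (.leaf 1423))) (.node (.node (.leaf 450) (.leaf 1583)) (.node (.leaf 1044) (.leaf 1902)))) (.node (.node (.node (.node (.leaf 290) (.leaf 2285)) (.leaf 1064)) (.node (.leaf 602) (.leaf 1939))) (.node (.node (.leaf 600) (.leaf 1699)) (.node (.leaf 828) (.leaf 2162))))))) (.node (.node (.node (.node (.node (.node (.node (.leaf 23) (.leaf 2075)) (.leaf 861)) (.node (.leaf 655) (.leaf 1346)))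 (.node (.node (.leaf 349) (.leaf 1105)) (.node (.leaf 956) (.leaf 1614)))) (.node (.node (.node (.node (.leaf 192) (.leaf 2222)) (.leaf 976)) (.node (.leaf 529) (.leaf 1865))) (.node (.node (.leaf 505) (.leaf 1213)) (.node (.leaf 1093) (.leaf 1758))))) (.node (.node (.node (.node (.node (.leaf 108) (.leaf 2225)) (.leaf 1295)) (.node (.leaf 474) (.leaf 1407))) (.node (.node (.leaf 429) (.leaf 1155)) (.node (.leaf 906) (.leaf 1681)))) (.node (.node (.node (.node (.leaf 158) (.leaf 2187)) (.leaf 1037)) (.node (.leaf 881) (.leaf 1544))) (.node (.node (.leaf 581) (.leaf 1283)) (.node (.leaf 1168) (.leaf 1830)))))) (.node (.node (.node (.node (.node (.node (.leaf 65) (.leaf 2067)) (.leaf 890)) (.node (.leaf 559) (.leaf 1778))) (.node (.node (.leaf 391) (.leaf 1131)) (.node (.leaf 993) (.leaf 1646)))) (.node (.node (.node (.node (.leaf 132) (.leaf 2189)) (.leaf 1007)) (.node (.leaf 840) (.leaf 1898))) (.node (.node (.leaf 338) (.leaf 1244)) (.node (.leaf 1013) (.leaf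 2116))))) (.node (.node (.node (.node (.node (.leaf 83) (.leaf 2240)) (.leaf 1336)) (.node (.leaf 763) (.leaf 1792))) (.node (.node (.leaf 466) (.leaf 1484)) (.node (.leaf 1062) (.leaf 1719)))) (.node (.node (.node (.node (.leaf 309) (.leaf 2264)) (.leaf 1479)) (.node (.leaf 916) (.leaf 1581))) (.node (.node (.leaf 619) (.leaf 1340)) (.node (.leaf 832) (.leaf 2164)))))))) (.node (.node (.node (.node (.node (.node (.node (.node (.leaf 12) (.leaf 2055)) (.leaf 854)) (.node (.leaf 645) (.leaf 1744))) (.node (.node (.leaf 339) (.leaf 1499)) (.node (.leaf 946) (.leaf 1606)))) (.node (.node (.node (.node (.leaf 101) (.leaf 2253)) (.leaf 969)) (.node (.leaf 791) (.leaf 1473))) (.node (.node (.leaf 495) (.leaf 1623)) (.node (.leaf 1091) (.leaf 2082))))) (.node (.node (.node (.node (.node (.leaf 53) (.leaf 1972)) (.leaf 945)) (.node (.leaf 716) (.leaf 1802))) (.node (.node (.leaf 420) (.leaf 1559)) (.node (.leaf 688) (.leaf 1674)))) (.node (.node (.node (.node (.leaf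 262) (.leaf 2178)) (.leaf 1435)) (.node (.leaf 820) (.leaf 1771))) (.node (.node (.leaf 573) (.leaf 1656)) (.node (.leaf 793) (.leaf 2138)))))) (.node (.node (.node (.node (.node (.node (.leaf 29) (.leaf 2210)) (.leaf 1248)) (.node (.leaf 439) (.leaf 1377))) (.node (.node (.leaf 229) (.leaf 1123)) (.node (.leaf 865) (.leaf 1640)))) (.node (.node (.node (.node (.leaf 221) (.leaf 2271)) (.leaf 1397)) (.node (.leaf 830) (.leaf 1893))) (.node (.node (.leaf 330) (.leaf 1238)) (.node (.leaf 1126) (.leaf 1784))))) (.node (.node (.node (.node (.node (.leaf 140) (.leaf 2024)) (.leaf 1325)) (.node (.leaf 494) (.leaf 1832))) (.node (.node (.leaf 280) (.leaf 1180)) (.node (.leaf 1052) (.leaf 2054)))) (.node (.node (.node (.node (.leaf 299) (.leaf 2296)) (.leaf 1063)) (.node (.leaf 907) (.leaf 1567))) (.node (.node (.leaf 608) (.leaf 1300)) (.node (.leaf 824) (.leaf 2152))))))) (.node (.node (.node (.node (.node (.node (.node (.leaf 17) (.leaf 1920)) (.leaf 869)) (.node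 (.leaf 425) (.leaf 1763))) (.node (.node (.leaf 360) (.leaf 1111)) (.node (.leaf 967) (.leaf 1622)))) (.node (.node (.node (.node (.leaf 113) (.leaf 2260)) (.leaf 1379)) (.node (.leaf 535) (.leaf 1492))) (.node (.node (.leaf 515) (.leaf 1222)) (.node (.leaf 1031) (.leaf 1765))))) (.node (.node (.node (.node (.node (.leaf 118) (.leaf 2119)) (.leaf 1306)) (.node (.leaf 480) (.leaf 1513))) (.node (.node (.leaf 440) (.leaf 1572)) (.node (.leaf 1034) (.leaf 1690)))) (.node (.node (.node (.node (.leaf 260) (.leaf 2288)) (.leaf 1046)) (.node (.leaf 596) (.leaf 1549))) (.node (.node (.leaf 591) (.leaf 1355)) (.node (.leaf 1175) (.leaf 2155)))))) (.node (.node (.node (.node (.node (.node (.leaf 41) (.leaf 1953)) (.leaf 1273)) (.node (.leaf 452) (.leaf 1785))) (.node (.node (.leaf 401) (.leaf 1136)) (.node (.leaf 1000) (.leaf 2015)))) (.node (.node (.node (.node (.leaf 243) (.leaf 2147)) (.leaf 1014)) (.node (.leaf 852) (.leaf 1523))) (.node (.node (.leaf 344) (.leaf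 1664)) (.node (.leaf 1143) (.leaf 1801))))) (.node (.node (.node (.node (.node (.leaf 161) (.leaf 2023)) (.leaf 953)) (.node (.leaf 508) (.leaf 1480))) (.node (.node (.leaf 292) (.leaf 1607)) (.node (.leaf 727) (.leaf 1729)))) (.node (.node (.node (.node (.leaf 189) (.leaf 2280)) (.leaf 1338)) (.node (.leaf 622) (.leaf 1960))) (.node (.node (.leaf 627) (.leaf 1725)) (.node (.leaf 839) (.leaf 1883))))))))

/-- data -/
def next0p1 : Trie (ℕ) := .node (.node (.node (.node (.node (.node (.node (.node (.node (.leaf 2) (.leaf 2139)) (.leaf 1015)) (.node (.leaf 638) (.leaf 1129))) (.node (.node (.leaf 146) (.leaf 1471)) (.node (.leaf 936) (.leaf 1390)))) (.node (.node (.node (.node (.leaf 171) (.leaf 2246)) (.leaf 1356)) (.node (.leaf 406) (.leaf 1856))) (.node (.node (.leaf 231) (.leaf 1618)) (.node (.leaf 1080) (.leaf 2068))))) (.node (.node (.node (.node (.node (.leaf 88) (.leaf 2022)) (.leaf 1088)) (.node (.leaf 589) (.leaf 1596))) (.node (.node (.leaf 412) (.leaf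 950)) (.node (.leaf 551) (.leaf 1630)))) (.node (.node (.node (.node (.leaf 252) (.leaf 2279)) (.leaf 844)) (.node (.leaf 862) (.leaf 1728))) (.node (.node (.leaf 564) (.leaf 1477)) (.node (.leaf 1151) (.leaf 2104)))))) (.node (.node (.node (.node (.node (.node (.leaf 15) (.leaf 2208)) (.leaf 714)) (.node (.leaf 410) (.leaf 1585))) (.node (.node (.leaf 371) (.leaf 1524)) (.node (.leaf 527) (.leaf 1994)))) (.node (.node (.node (.node (.leaf 212) (.leaf 1926)) (.leaf 1391)) (.node (.leaf 820) (.leaf 1887))) (.node (.node (.leaf 526) (.leaf 1646)) (.node (.leaf 1119) (.leaf 2103))))) (.node (.node (.node (.node (.node (.leaf 130) (.leaf 2220)) (.leaf 1316)) (.node (.leaf 743) (.leaf 1826))) (.node (.node (.leaf 451) (.leaf 979)) (.node (.leaf 573) (.leaf 2045)))) (.node (.node (.node (.node (.leaf 126) (.leaf 2230)) (.leaf 1454)) (.node (.leaf 899) (.leaf 1940))) (.node (.node (.leaf 601) (.leaf 1100)) (.node (.leaf 1183) (.leaf 1655))))))) (.node (.node (.node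 (.node (.node (.node (.node (.leaf 6) (.leaf 2124)) (.leaf 1237)) (.node (.leaf 324) (.leaf 1755))) (.node (.node (.leaf 157) (.leaf 1508)) (.node (.leaf 957) (.leaf 1985)))) (.node (.node (.node (.node (.leaf 79) (.leaf 1900)) (.leaf 1374)) (.node (.leaf 802) (.leaf 1267))) (.node (.node (.leaf 506) (.leaf 1633)) (.node (.leaf 1099) (.leaf 1759))))) (.node (.node (.node (.node (.node (.leaf 109) (.leaf 1802)) (.leaf 750)) (.node (.leaf 724) (.leaf 1810))) (.node (.node (.leaf 199) (.leaf 1564)) (.node (.leaf 562) (.leaf 1672)))) (.node (.node (.node (.node (.leaf 230) (.leaf 2285)) (.leaf 1444)) (.node (.leaf 468) (.leaf 1923))) (.node (.node (.leaf 582) (.leaf 1079)) (.node (.leaf 1169) (.leaf 1827)))))) (.node (.node (.node (.node (.node (.node (.leaf 24) (.leaf 1761)) (.leaf 1264)) (.node (.leaf 691) (.leaf 1172))) (.node (.node (.leaf 178) (.leaf 1537)) (.node (.leaf 538) (.leaf 2006)))) (.node (.node (.node (.node (.leaf 233) (.leaf 2153)) (.leaf 1407))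 (.node (.leaf 442) (.leaf 1303))) (.node (.node (.leaf 543) (.leaf 1658)) (.node (.leaf 632) (.leaf 1599))))) (.node (.node (.node (.node (.node (.leaf 151) (.leaf 1847)) (.leaf 775)) (.node (.leaf 764) (.leaf 1232))) (.node (.node (.leaf 220) (.leaf 1036)) (.node (.leaf 1063) (.leaf 2059)))) (.node (.node (.node (.node (.leaf 136) (.leaf 2289)) (.leaf 1140)) (.node (.leaf 917) (.leaf 1953))) (.node (.node (.leaf 620) (.leaf 1281)) (.node (.leaf 1202) (.leaf 1763)))))))) (.node (.node (.node (.node (.node (.node (.node (.node (.leaf 13) (.leaf 1897)) (.leaf 795)) (.node (.leaf 646) (.leaf 1745))) (.node (.node (.leaf 152) (.leaf 910)) (.node (.leaf 509) (.leaf 1975)))) (.node (.node (.node (.node (.leaf 181) (.leaf 2087)) (.leaf 1366)) (.node (.leaf 792) (.leaf 1862))) (.node (.node (.leaf 236) (.leaf 1624)) (.node (.leaf 1092) (.leaf 2083))))) (.node (.node (.node (.node (.node (.leaf 97) (.leaf 2206)) (.leaf 745)) (.node (.leaf 367) (.leaf 1737))) (.node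 (.node (.leaf 421) (.leaf 956)) (.node (.leaf 863) (.leaf 2028)))) (.node (.node (.node (.node (.leaf 112) (.leaf 2281)) (.leaf 1394)) (.node (.leaf 542) (.leaf 1916))) (.node (.node (.leaf 574) (.leaf 1678)) (.node (.leaf 1159) (.leaf 1625)))))) (.node (.node (.node (.node (.node (.node (.leaf 55) (.leaf 2211)) (.leaf 1257)) (.node (.leaf 682) (.leaf 1341))) (.node (.node (.leaf 381) (.leaf 1532)) (.node (.leaf 532) (.leaf 1960)))) (.node (.node (.node (.node (.leaf 222) (.leaf 1939)) (.leaf 1398)) (.node (.leaf 437) (.leaf 1295))) (.node (.node (.leaf 535) (.leaf 1654)) (.node (.leaf 627) (.leaf 2108))))) (.node (.node (.node (.node (.node (.leaf 56) (.leaf 1945)) (.leaf 769)) (.node (.leaf 753) (.leaf 1833))) (.node (.node (.leaf 360) (.leaf 1592)) (.node (.leaf 579) (.leaf 1958)))) (.node (.node (.node (.node (.leaf 131) (.leaf 2176)) (.leaf 1470)) (.node (.leaf 908) (.leaf 1947))) (.node (.node (.leaf 300) (.leaf 1710)) (.node (.leaf 1192) (.leaf 1668)))))))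 (.node (.node (.node (.node (.node (.node (.node (.leaf 34) (.leaf 2202)) (.leaf 1243)) (.node (.leaf 666) (.leaf 1450))) (.node (.node (.leaf 163) (.leaf 1516)) (.node (.leaf 522) (.leaf 1522)))) (.node (.node (.node (.node (.leaf 201) (.leaf 2261)) (.leaf 1380)) (.node (.leaf 811) (.leaf 1878))) (.node (.node (.leaf 516) (.leaf 1499)) (.node (.leaf 1109) (.leaf 1944))))) (.node (.node (.node (.node (.node (.leaf 47) (.leaf 1815)) (.leaf 1307)) (.node (.leaf 734) (.leaf 1207))) (.node (.node (.leaf 204) (.leaf 970)) (.node (.leaf 568) (.leaf 2025)))) (.node (.node (.node (.node (.leaf 280) (.leaf 2073)) (.leaf 1451)) (.node (.leaf 890) (.leaf 1930))) (.node (.node (.leaf 290) (.leaf 1091)) (.node (.leaf 1082) (.leaf 1647)))))) (.node (.node (.node (.node (.node (.node (.leaf 77) (.leaf 1807)) (.leaf 1274)) (.node (.leaf 699) (.leaf 1735))) (.node (.node (.leaf 183) (.leaf 1546)) (.node (.leaf 1001) (.leaf 1448)))) (.node (.node (.node (.node (.leaf 102) (.leaf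 2035)) (.leaf 1417)) (.node (.leaf 449) (.leaf 1905))) (.node (.node (.leaf 554) (.leaf 1665)) (.node (.leaf 987) (.leaf 2126))))) (.node (.node (.node (.node (.node (.leaf 65) (.leaf 2018)) (.leaf 1347)) (.node (.leaf 774) (.leaf 1240))) (.node (.node (.leaf 475) (.leaf 1433)) (.node (.leaf 1070) (.leaf 2066)))) (.node (.node (.node (.node (.leaf 320) (.leaf 2270)) (.leaf 1488)) (.node (.leaf 926) (.leaf 1961))) (.node (.node (.leaf 628) (.leaf 1120)) (.node (.leaf 1210) (.leaf 1929))))))))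

/-- data -/
def next0p2 : Trie (ℕ) := .node (.node (.node (.node (.node (.node (.node (.node (.node (.leaf 0) (.leaf 2143)) (.leaf 1221)) (.node (.leaf 639) (.leaf 1735))) (.node (.node (.leaf 196) (.leaf 1089)) (.node (.leaf 628) (.leaf 1967)))) (.node (.node (.node (.node (.leaf 172) (.leaf 2247)) (.leaf 1357)) (.node (.leaf 782) (.leaf 1685))) (.node (.node (.leaf 485) (.leaf 1202)) (.node (.leaf 1081) (.leaf 2073))))) (.node (.node (.node (.node (.node (.leaf 48) (.leaf 2110)) (.leaf 1281)) (.node (.leaf 459) (.leaf 1395))) (.node (.node (.leaf 249) (.leaf 1148)) (.node (.leaf 682) (.leaf 1666)))) (.node (.node (.node (.node (.leaf 145) (.leaf 2217)) (.leaf 1022)) (.node (.leaf 863) (.leaf 1912))) (.node (.node (.leaf 351) (.leaf 1672)) (.node (.leaf 1152) (.leaf 2129)))))) (.node (.node (.node (.node (.node (.node (.leaf 45) (.leaf 2036)) (.leaf 876)) (.node (.leaf 434) (.leaf 1366))) (.node (.node (.leaf 372) (.leaf 1525)) (.node (.leaf 964) (.leaf 1995))))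 (.node (.node (.node (.node (.leaf 120) (.leaf 2086)) (.leaf 994)) (.node (.leaf 821) (.leaf 1789))) (.node (.node (.leaf 527) (.leaf 1647)) (.node (.leaf 1120) (.leaf 2104))))) (.node (.node (.node (.node (.node (.leaf 131) (.leaf 1998)) (.leaf 1317)) (.node (.leaf 489) (.leaf 1827))) (.node (.node (.leaf 275) (.leaf 1576)) (.node (.leaf 808) (.leaf 2046)))) (.node (.node (.node (.node (.leaf 291) (.leaf 2228)) (.leaf 1462)) (.node (.leaf 900) (.leaf 1558))) (.node (.node (.leaf 381) (.leaf 1700)) (.node (.leaf 816) (.leaf 2163))))))) (.node (.node (.node (.node (.node (.node (.node (.leaf 24) (.leaf 1911)) (.leaf 862)) (.node (.leaf 656) (.leaf 1756))) (.node (.node (.leaf 350) (.leaf 1509)) (.node (.leaf 643) (.leaf 1615)))) (.node (.node (.node (.node (.leaf 193) (.leaf 2058)) (.leaf 1375)) (.node (.leaf 530) (.leaf 1872))) (.node (.node (.leaf 312) (.leaf 1634)) (.node (.leaf 1100) (.leaf 2091))))) (.node (.node (.node (.node (.node (.leaf 60) (.leaf 1985))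 (.leaf 1296)) (.node (.leaf 475) (.leaf 1811))) (.node (.node (.leaf 430) (.leaf 1565)) (.node (.leaf 694) (.leaf 1682)))) (.node (.node (.node (.node (.leaf 159) (.leaf 2196)) (.leaf 1038)) (.node (.leaf 647) (.leaf 1817))) (.node (.node (.leaf 583) (.leaf 1686)) (.node (.leaf 800) (.leaf 2148)))))) (.node (.node (.node (.node (.node (.node (.leaf 66) (.leaf 2114)) (.leaf 1265)) (.node (.leaf 446) (.leaf 1378))) (.node (.node (.leaf 374) (.leaf 1538)) (.node (.leaf 669) (.leaf 2007)))) (.node (.node (.node (.node (.leaf 234) (.leaf 2128)) (.leaf 1408)) (.node (.leaf 827) (.leaf 1899))) (.node (.node (.leaf 544) (.leaf 1449)) (.node (.leaf 1096) (.leaf 1794))))) (.node (.node (.node (.node (.node (.leaf 152) (.leaf 2219)) (.leaf 1337)) (.node (.leaf 765) (.leaf 1445))) (.node (.node (.leaf 287) (.leaf 1600)) (.node (.leaf 720) (.leaf 1828)))) (.node (.node (.node (.node (.leaf 256) (.leaf 2265)) (.leaf 1073)) (.node (.leaf 918) (.leaf 1582))) (.node (.node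 (.leaf 394) (.leaf 1717)) (.node (.leaf 1203) (.leaf 1871)))))))) (.node (.node (.node (.node (.node (.node (.node (.node (.leaf 5) (.leaf 2191)) (.leaf 1229)) (.node (.leaf 412) (.leaf 1335))) (.node (.node (.leaf 340) (.leaf 1500)) (.node (.leaf 947) (.leaf 1976)))) (.node (.node (.node (.node (.leaf 182) (.leaf 2051)) (.leaf 1367)) (.node (.leaf 523) (.leaf 1475))) (.node (.node (.leaf 306) (.leaf 1625)) (.node (.leaf 742) (.leaf 1751))))) (.node (.node (.node (.node (.node (.leaf 98) (.leaf 2066)) (.leaf 1053)) (.node (.leaf 717) (.leaf 1803))) (.node (.node (.leaf 422) (.leaf 1150)) (.node (.leaf 1018) (.leaf 1680)))) (.node (.node (.node (.node (.leaf 263) (.leaf 2281)) (.leaf 1028)) (.node (.leaf 873) (.leaf 1539))) (.node (.node (.leaf 358) (.leaf 1266)) (.node (.leaf 1160) (.leaf 2139)))))) (.node (.node (.node (.node (.node (.node (.leaf 56) (.leaf 2166)) (.leaf 883)) (.node (.leaf 683) (.leaf 1372))) (.node (.node (.leaf 382) (.leaf 1124)) (.node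 (.leaf 985) (.leaf 1695)))) (.node (.node (.node (.node (.leaf 223) (.leaf 2241)) (.leaf 1001)) (.node (.leaf 831) (.leaf 1508))) (.node (.node (.leaf 536) (.leaf 1457)) (.node (.leaf 1127) (.leaf 2109))))) (.node (.node (.node (.node (.node (.leaf 78) (.leaf 2006)) (.leaf 938)) (.node (.leaf 754) (.leaf 1436))) (.node (.node (.leaf 355) (.leaf 1181)) (.node (.leaf 713) (.leaf 1710)))) (.node (.node (.node (.node (.leaf 300) (.leaf 2249)) (.leaf 1471)) (.node (.leaf 610) (.leaf 1662))) (.node (.node (.leaf 609) (.leaf 1624)) (.node (.leaf 1193) (.leaf 1861))))))) (.node (.node (.node (.node (.node (.node (.node (.leaf 35) (.leaf 1921)) (.leaf 870)) (.node (.leaf 667) (.leaf 1362))) (.node (.node (.leaf 217) (.leaf 1517)) (.node (.leaf 968) (.leaf 1745)))) (.node (.node (.node (.node (.leaf 202) (.leaf 2071)) (.leaf 986)) (.node (.leaf 812) (.leaf 1879))) (.node (.node (.leaf 517) (.leaf 1223)) (.node (.leaf 884) (.leaf 1766))))) (.node (.node (.node (.node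 (.node (.leaf 119) (.leaf 2167)) (.leaf 1308)) (.node (.leaf 735) (.leaf 1417))) (.node (.node (.leaf 426) (.leaf 1573)) (.node (.leaf 1035) (.leaf 2039)))) (.node (.node (.node (.node (.leaf 281) (.leaf 2289)) (.leaf 1452)) (.node (.leaf 597) (.leaf 1931))) (.node (.node (.leaf 375) (.leaf 1692)) (.node (.leaf 809) (.leaf 1843)))))) (.node (.node (.node (.node (.node (.node (.leaf 42) (.leaf 2165)) (.leaf 897)) (.node (.leaf 700) (.leaf 1770))) (.node (.node (.leaf 402) (.leaf 1137)) (.node (.leaf 676) (.leaf 1859)))) (.node (.node (.node (.node (.leaf 139) (.leaf 2252)) (.leaf 1418)) (.node (.leaf 566) (.leaf 1524))) (.node (.node (.leaf 555) (.leaf 1251)) (.node (.leaf 1144) (.leaf 2059))))) (.node (.node (.node (.node (.node (.leaf 90) (.leaf 2243)) (.leaf 1066)) (.node (.leaf 550) (.leaf 1850))) (.node (.node (.leaf 293) (.leaf 1195)) (.node (.leaf 1071) (.leaf 1731)))) (.node (.node (.node (.node (.leaf 321) (.leaf 2283)) (.leaf 1080)) (.node (.leaf 927)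 (.leaf 1592))) (.node (.node (.leaf 400) (.leaf 1318)) (.node (.leaf 1211) (.leaf 1962))))))))

/-- data -/
def next0p3 : Trie (ℕ) := .node (.node (.node (.node (.node (.node (.node (.node (.node (.leaf 3) (.leaf 1702)) (.leaf 1222)) (.node (.leaf 640) (.leaf 1634))) (.node (.node (.leaf 330) (.leaf 1308)) (.node (.leaf 937) (.leaf 1968)))) (.node (.node (.node (.node (.leaf 70) (.leaf 2232)) (.leaf 1358)) (.node (.leaf 783) (.leaf 1250))) (.node (.node (.leaf 486) (.leaf 1619)) (.node (.leaf 600) (.leaf 2074))))) (.node (.node (.node (.node (.node (.leaf 89) (.leaf 2155)) (.leaf 739)) (.node (.leaf 709) (.leaf 1794))) (.node (.node (.leaf 413) (.leaf 1551)) (.node (.leaf 1009) (.leaf 2023)))) (.node (.node (.node (.node (.leaf 253) (.leaf 2015)) (.leaf 1426)) (.node (.leaf 864) (.leaf 1320))) (.node (.node (.leaf 565) (.leaf 1065)) (.node (.leaf 644) (.leaf 2037)))))) (.node (.node (.node (.node (.node (.node (.leaf 46) (.leaf 1748)) (.leaf 1251)) (.node (.leaf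 674) (.leaf 1186))) (.node (.node (.leaf 373) (.leaf 927)) (.node (.leaf 978) (.leaf 1422)))) (.node (.node (.node (.node (.leaf 213) (.leaf 2199)) (.leaf 1392)) (.node (.leaf 432) (.leaf 1290))) (.node (.node (.leaf 528) (.leaf 1034)) (.node (.leaf 684) (.leaf 2105))))) (.node (.node (.node (.node (.node (.leaf 132) (.leaf 2231)) (.leaf 1318)) (.node (.leaf 744) (.leaf 1828))) (.node (.node (.leaf 452) (.leaf 1584)) (.node (.leaf 1045) (.leaf 2047)))) (.node (.node (.node (.node (.leaf 292) (.leaf 2291)) (.leaf 1463)) (.node (.leaf 481) (.leaf 1941))) (.node (.node (.leaf 602) (.leaf 1701)) (.node (.leaf 1184) (.leaf 2164))))))) (.node (.node (.node (.node (.node (.node (.node (.leaf 25) (.leaf 2079)) (.leaf 1238)) (.node (.leaf 326) (.leaf 1143))) (.node (.node (.leaf 351) (.leaf 916)) (.node (.leaf 958) (.leaf 1641)))) (.node (.node (.node (.node (.leaf 194) (.leaf 1995)) (.leaf 799)) (.node (.leaf 803) (.leaf 1268))) (.node (.node (.leaf 507) (.leaf 1020))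 (.node (.leaf 1101) (.leaf 1555))))) (.node (.node (.node (.node (.node (.leaf 110) (.leaf 2138)) (.leaf 1297)) (.node (.leaf 725) (.leaf 1200))) (.node (.node (.leaf 431) (.leaf 965)) (.node (.leaf 1025) (.leaf 1541)))) (.node (.node (.node (.node (.leaf 273) (.leaf 2145)) (.leaf 1445)) (.node (.leaf 882) (.leaf 1334))) (.node (.node (.leaf 584) (.leaf 1687)) (.node (.leaf 700) (.leaf 1637)))))) (.node (.node (.node (.node (.node (.node (.leaf 67) (.leaf 2217)) (.leaf 728)) (.node (.leaf 692) (.leaf 1779))) (.node (.node (.leaf 392) (.leaf 939)) (.node (.leaf 994) (.leaf 1440)))) (.node (.node (.node (.node (.leaf 98) (.leaf 2031)) (.leaf 831)) (.node (.leaf 841) (.leaf 1304))) (.node (.node (.leaf 263) (.leaf 1049)) (.node (.leaf 1136) (.leaf 2117))))) (.node (.node (.node (.node (.node (.leaf 153) (.leaf 2241)) (.leaf 1338)) (.node (.leaf 766) (.leaf 1843))) (.node (.node (.leaf 467) (.leaf 1569)) (.node (.leaf 1064) (.leaf 2060)))) (.node (.node (.node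 (.node (.leaf 310) (.leaf 2299)) (.leaf 1480)) (.node (.leaf 919) (.leaf 1954))) (.node (.node (.leaf 621) (.leaf 1718)) (.node (.leaf 1204) (.leaf 2091)))))))) (.node (.node (.node (.node (.node (.node (.node (.node (.leaf 14) (.leaf 2192)) (.leaf 804)) (.node (.leaf 647) (.leaf 1746))) (.node (.node (.leaf 341) (.leaf 1501)) (.node (.leaf 510) (.leaf 1977)))) (.node (.node (.node (.node (.leaf 75) (.leaf 2254)) (.leaf 1368)) (.node (.leaf 793) (.leaf 1863))) (.node (.node (.leaf 496) (.leaf 1626)) (.node (.leaf 1093) (.leaf 2084))))) (.node (.node (.node (.node (.node (.leaf 38) (.leaf 1797)) (.leaf 1288)) (.node (.leaf 718) (.leaf 1804))) (.node (.node (.leaf 423) (.leaf 1560)) (.node (.leaf 557) (.leaf 1476)))) (.node (.node (.node (.node (.leaf 264) (.leaf 2038)) (.leaf 1436)) (.node (.leaf 874) (.leaf 1401))) (.node (.node (.leaf 575) (.leaf 1559)) (.node (.leaf 649) (.leaf 2140)))))) (.node (.node (.node (.node (.node (.node (.leaf 20) (.leaf 1756))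 (.leaf 1258)) (.node (.leaf 343) (.leaf 1773))) (.node (.node (.leaf 208) (.leaf 1503)) (.node (.leaf 986) (.leaf 1435)))) (.node (.node (.node (.node (.leaf 224) (.leaf 1942)) (.leaf 1399)) (.node (.leaf 832) (.leaf 1485))) (.node (.node (.leaf 257) (.leaf 1041)) (.node (.leaf 1128) (.leaf 1590))))) (.node (.node (.node (.node (.node (.leaf 141) (.leaf 2123)) (.leaf 1326)) (.node (.leaf 391) (.leaf 1834))) (.node (.node (.leaf 460) (.leaf 1593)) (.node (.leaf 1053) (.leaf 1899)))) (.node (.node (.node (.node (.leaf 301) (.leaf 2235)) (.leaf 881)) (.node (.leaf 909) (.leaf 1364))) (.node (.node (.leaf 610) (.leaf 1108)) (.node (.leaf 675) (.leaf 2150))))))) (.node (.node (.node (.node (.node (.node (.node (.leaf 11) (.leaf 2203)) (.leaf 1244)) (.node (.leaf 331) (.leaf 1282))) (.node (.node (.leaf 361) (.leaf 922)) (.node (.leaf 969) (.leaf 1413)))) (.node (.node (.node (.node (.leaf 84) (.leaf 2262)) (.leaf 1381)) (.node (.leaf 424) (.leaf 1278))) (.node (.node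 (.leaf 518) (.leaf 1194)) (.node (.leaf 1110) (.leaf 2005))))) (.node (.node (.node (.node (.node (.leaf 120) (.leaf 2228)) (.leaf 758)) (.node (.leaf 380) (.leaf 1819))) (.node (.node (.leaf 441) (.leaf 1574)) (.node (.leaf 977) (.leaf 1494)))) (.node (.node (.node (.node (.leaf 282) (.leaf 2120)) (.leaf 866)) (.node (.leaf 891) (.leaf 1343))) (.node (.node (.leaf 471) (.leaf 1693)) (.node (.leaf 1176) (.leaf 2156)))))) (.node (.node (.node (.node (.node (.node (.leaf 78) (.leaf 1776)) (.leaf 1275)) (.node (.leaf 353) (.leaf 1786))) (.node (.node (.leaf 403) (.leaf 1547)) (.node (.leaf 1002) (.leaf 2016)))) (.node (.node (.node (.node (.leaf 244) (.leaf 2275)) (.leaf 837)) (.node (.leaf 853) (.leaf 1721))) (.node (.node (.leaf 268) (.leaf 1666)) (.node (.leaf 1145) (.leaf 1607))))) (.node (.node (.node (.node (.node (.leaf 162) (.leaf 1857)) (.leaf 781)) (.node (.leaf 402) (.leaf 1851))) (.node (.node (.leaf 476) (.leaf 1608)) (.node (.leaf 595) (.leaf 2067))))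 (.node (.node (.node (.node (.leaf 142) (.leaf 2302)) (.leaf 1489)) (.node (.leaf 498) (.leaf 1962))) (.node (.node (.leaf 629) (.leaf 1726)) (.node (.leaf 687) (.leaf 1692))))))))

/-- data -/
def next0p4 : Trie (ℕ) := .node (.node (.node (.node (.node (.node (.node (.node (.node (.leaf 4) (.leaf 1892)) (.leaf 850)) (.node (.leaf 407) (.leaf 1329))) (.node (.node (.leaf 331) (.leaf 1090)) (.node (.leaf 629) (.leaf 1969)))) (.node (.node (.node (.node (.leaf 173) (.leaf 2248)) (.leaf 1359)) (.node (.leaf 516) (.leaf 1857))) (.node (.node (.leaf 487) (.leaf 1411)) (.node (.leaf 1082) (.leaf 1743))))) (.node (.node (.node (.node (.node (.leaf 49) (.leaf 2097)) (.leaf 1282)) (.node (.leaf 710) (.leaf 1795))) (.node (.node (.leaf 414) (.leaf 1552)) (.node (.leaf 1010) (.leaf 1667)))) (.node (.node (.node (.node (.leaf 254) (.leaf 2211)) (.leaf 1427)) (.node (.leaf 574) (.leaf 1749))) (.node (.node (.leaf 352) (.leaf 1260)) (.node (.leaf 788) (.leaf 1908)))))) (.node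 (.node (.node (.node (.node (.node (.leaf 47) (.leaf 1928)) (.leaf 885)) (.node (.leaf 675) (.leaf 1571))) (.node (.node (.leaf 224) (.leaf 1526)) (.node (.leaf 979) (.leaf 1996)))) (.node (.node (.node (.node (.leaf 214) (.leaf 2088)) (.leaf 995)) (.node (.leaf 822) (.leaf 1842))) (.node (.node (.leaf 325) (.leaf 1231)) (.node (.leaf 764) (.leaf 2106))))) (.node (.node (.node (.node (.node (.leaf 73) (.leaf 1999)) (.leaf 931)) (.node (.leaf 745) (.leaf 1425))) (.node (.node (.leaf 453) (.leaf 1585)) (.node (.leaf 707) (.leaf 1701)))) (.node (.node (.node (.node (.leaf 171) (.leaf 2229)) (.leaf 1056)) (.node (.leaf 604) (.leaf 1942))) (.node (.node (.leaf 454) (.leaf 1702)) (.node (.leaf 1185) (.leaf 1851))))))) (.node (.node (.node (.node (.node (.node (.node (.leaf 26) (.leaf 2121)) (.leaf 1043)) (.node (.leaf 657) (.leaf 1347))) (.node (.node (.leaf 210) (.leaf 1510)) (.node (.leaf 959) (.leaf 1959)))) (.node (.node (.node (.node (.leaf 109) (.leaf 2083))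 (.leaf 978)) (.node (.leaf 804) (.leaf 1873))) (.node (.node (.leaf 313) (.leaf 1490)) (.node (.leaf 749) (.leaf 2092))))) (.node (.node (.node (.node (.node (.leaf 61) (.leaf 2226)) (.leaf 917)) (.node (.leaf 726) (.leaf 1415))) (.node (.node (.leaf 432) (.leaf 1561)) (.node (.leaf 1026) (.leaf 2035)))) (.node (.node (.node (.node (.leaf 274) (.leaf 2198)) (.leaf 1261)) (.node (.leaf 590) (.leaf 1924))) (.node (.node (.leaf 368) (.leaf 1426)) (.node (.leaf 1170) (.leaf 1834)))))) (.node (.node (.node (.node (.node (.node (.leaf 36) (.leaf 2156)) (.leaf 891)) (.node (.leaf 447) (.leaf 1380))) (.node (.node (.leaf 393) (.leaf 1132)) (.node (.leaf 698) (.leaf 1698)))) (.node (.node (.node (.node (.leaf 134) (.leaf 2130)) (.leaf 1409)) (.node (.leaf 842) (.leaf 1900))) (.node (.node (.leaf 545) (.leaf 1659)) (.node (.leaf 776) (.leaf 1799))))) (.node (.node (.node (.node (.node (.leaf 85) (.leaf 2016)) (.leaf 1339)) (.node (.leaf 503) (.leaf 1844))) (.node (.node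 (.leaf 334) (.leaf 1187)) (.node (.leaf 1047) (.leaf 1722)))) (.node (.node (.node (.node (.leaf 311) (.leaf 2268)) (.leaf 1481)) (.node (.leaf 617) (.leaf 1584))) (.node (.node (.leaf 395) (.leaf 1311)) (.node (.leaf 834) (.leaf 2176)))))))) (.node (.node (.node (.node (.node (.node (.node (.node (.leaf 15) (.leaf 2193)) (.leaf 856)) (.node (.leaf 413) (.leaf 1739))) (.node (.node (.leaf 203) (.leaf 1099)) (.node (.leaf 948) (.leaf 1608)))) (.node (.node (.node (.node (.leaf 183) (.leaf 2052)) (.leaf 971)) (.node (.leaf 524) (.leaf 1864))) (.node (.node (.leaf 497) (.leaf 1209)) (.node (.leaf 848) (.leaf 2085))))) (.node (.node (.node (.node (.node (.leaf 99) (.leaf 2077)) (.leaf 911)) (.node (.leaf 518) (.leaf 1403))) (.node (.node (.leaf 424) (.leaf 1151)) (.node (.leaf 690) (.leaf 1675)))) (.node (.node (.node (.node (.leaf 153) (.leaf 2282)) (.leaf 1029)) (.node (.leaf 582) (.leaf 1917))) (.node (.node (.leaf 359) (.leaf 1679)) (.node (.leaf 794) (.leaf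 2141)))))) (.node (.node (.node (.node (.node (.node (.leaf 57) (.leaf 1935)) (.leaf 1145)) (.node (.leaf 684) (.leaf 1373))) (.node (.node (.leaf 383) (.leaf 1125)) (.node (.leaf 987) (.leaf 2002)))) (.node (.node (.node (.node (.leaf 127) (.leaf 2099)) (.leaf 1002)) (.node (.leaf 833) (.leaf 1773))) (.node (.node (.leaf 345) (.leaf 1239)) (.node (.leaf 1129) (.leaf 2041))))) (.node (.node (.node (.node (.node (.leaf 142) (.leaf 2011)) (.leaf 1327)) (.node (.leaf 755) (.leaf 1835))) (.node (.node (.leaf 282) (.leaf 1594)) (.node (.leaf 1054) (.leaf 1712)))) (.node (.node (.node (.node (.leaf 177) (.leaf 2250)) (.leaf 1472)) (.node (.leaf 910) (.leaf 1593))) (.node (.node (.leaf 611) (.leaf 1711)) (.node (.leaf 1194) (.leaf 2117))))))) (.node (.node (.node (.node (.node (.node (.node (.leaf 18) (.leaf 2179)) (.leaf 1245)) (.node (.leaf 428) (.leaf 1467))) (.node (.node (.leaf 362) (.leaf 1112)) (.node (.leaf 970) (.leaf 1990)))) (.node (.node (.node (.node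 (.leaf 133) (.leaf 2157)) (.leaf 988)) (.node (.leaf 723) (.leaf 1880))) (.node (.node (.leaf 319) (.leaf 1310)) (.node (.leaf 756) (.leaf 1876))))) (.node (.node (.node (.node (.node (.leaf 121) (.leaf 1992)) (.leaf 1309)) (.node (.leaf 736) (.leaf 1820))) (.node (.node (.leaf 442) (.leaf 1575)) (.node (.leaf 1036) (.leaf 2020)))) (.node (.node (.node (.node (.leaf 165) (.leaf 2231)) (.leaf 1453)) (.node (.leaf 892) (.leaf 1551))) (.node (.node (.leaf 592) (.leaf 1694)) (.node (.leaf 1177) (.leaf 1854)))))) (.node (.node (.node (.node (.node (.node (.leaf 79) (.leaf 1954)) (.leaf 898)) (.node (.leaf 701) (.leaf 1386))) (.node (.node (.leaf 244) (.leaf 1272)) (.node (.leaf 1003) (.leaf 1657)))) (.node (.node (.node (.node (.leaf 212) (.leaf 2276)) (.leaf 1419)) (.node (.leaf 818) (.leaf 1906))) (.node (.node (.leaf 346) (.leaf 1252)) (.node (.leaf 1146) (.leaf 2127))))) (.node (.node (.node (.node (.node (.leaf 163) (.leaf 2027)) (.leaf 954)) (.node (.leaf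 775) (.leaf 1652))) (.node (.node (.leaf 477) (.leaf 1196)) (.node (.leaf 1072) (.leaf 1767)))) (.node (.node (.node (.node (.leaf 191) (.leaf 2284)) (.leaf 1358)) (.node (.leaf 623) (.leaf 1723))) (.node (.node (.leaf 630) (.leaf 1319)) (.node (.leaf 841) (.leaf 1948))))))))

/-- data -/
def next0p5 : Trie (ℕ) := .node (.node (.node (.node (.node (.node (.node (.node (.node (.leaf 5) (.leaf 2184)) (.leaf 1223)) (.node (.leaf 422) (.leaf 1736))) (.node (.node (.leaf 147) (.leaf 1354)) (.node (.leaf 938) (.leaf 1877)))) (.node (.node (.node (.node (.leaf 174) (.leaf 2249)) (.leaf 789)) (.node (.leaf 784) (.leaf 1791))) (.node (.node (.leaf 488) (.leaf 1008)) (.node (.leaf 1083) (.leaf 2075))))) (.node (.node (.node (.node (.node (.leaf 90) (.leaf 2146)) (.leaf 1283)) (.node (.leaf 362) (.leaf 1189))) (.node (.node (.leaf 415) (.leaf 1553)) (.node (.leaf 552) (.leaf 1864)))) (.node (.node (.node (.node (.leaf 108) (.leaf 2174)) (.leaf 845)) (.node (.leaf 865)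 (.leaf 1322))) (.node (.node (.leaf 566) (.leaf 1481)) (.node (.leaf 1153) (.leaf 1616)))))) (.node (.node (.node (.node (.node (.node (.leaf 48) (.leaf 1803)) (.leaf 716)) (.node (.leaf 339) (.leaf 1160))) (.node (.node (.leaf 374) (.leaf 1527)) (.node (.leaf 980) (.leaf 1997)))) (.node (.node (.node (.node (.leaf 215) (.leaf 2245)) (.leaf 1393)) (.node (.leaf 823) (.leaf 1321))) (.node (.node (.leaf 529) (.leaf 1552)) (.node (.leaf 1121) (.leaf 2019))))) (.node (.node (.node (.node (.node (.leaf 133) (.leaf 1966)) (.leaf 1319)) (.node (.leaf 387) (.leaf 1328))) (.node (.node (.leaf 211) (.leaf 1453)) (.node (.leaf 1046) (.leaf 2048)))) (.node (.node (.node (.node (.leaf 293) (.leaf 2292)) (.leaf 1464)) (.node (.leaf 901) (.leaf 1351))) (.node (.node (.leaf 296) (.leaf 1103)) (.node (.leaf 1164) (.leaf 2165))))))) (.node (.node (.node (.node (.node (.node (.node (.leaf 27) (.leaf 1783)) (.leaf 704)) (.node (.leaf 658) (.leaf 1757))) (.node (.node (.leaf 352)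 (.leaf 1511)) (.node (.leaf 517) (.leaf 1986)))) (.node (.node (.node (.node (.leaf 195) (.leaf 1901)) (.leaf 1245)) (.node (.leaf 419) (.leaf 1705))) (.node (.node (.leaf 508) (.leaf 1466)) (.node (.leaf 1102) (.leaf 1936))))) (.node (.node (.node (.node (.node (.leaf 111) (.leaf 1990)) (.leaf 1298)) (.node (.leaf 376) (.leaf 1812))) (.node (.node (.leaf 433) (.leaf 1215)) (.node (.leaf 563) (.leaf 2036)))) (.node (.node (.node (.node (.leaf 118) (.leaf 2286)) (.leaf 859)) (.node (.leaf 883) (.leaf 1925))) (.node (.node (.leaf 585) (.leaf 1081)) (.node (.leaf 655) (.leaf 1967)))))) (.node (.node (.node (.node (.node (.node (.leaf 68) (.leaf 2172)) (.leaf 1266)) (.node (.leaf 693) (.leaf 1780))) (.node (.node (.leaf 394) (.leaf 1539)) (.node (.leaf 995) (.leaf 2008)))) (.node (.node (.node (.node (.leaf 235) (.leaf 2256)) (.leaf 1410)) (.node (.leaf 843) (.leaf 1734))) (.node (.node (.leaf 546) (.leaf 1170)) (.node (.leaf 1137) (.leaf 2118))))) (.node (.node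 (.node (.node (.node (.leaf 154) (.leaf 1983)) (.leaf 1340)) (.node (.leaf 767) (.leaf 1233))) (.node (.node (.leaf 221) (.leaf 1027)) (.node (.leaf 588) (.leaf 2061)))) (.node (.node (.node (.node (.leaf 312) (.leaf 2296)) (.leaf 1482)) (.node (.leaf 920) (.leaf 1375))) (.node (.node (.leaf 622) (.leaf 1719)) (.node (.leaf 1205) (.leaf 1679)))))))) (.node (.node (.node (.node (.node (.node (.node (.node (.leaf 16) (.leaf 2194)) (.leaf 1230)) (.node (.leaf 648) (.leaf 1747))) (.node (.node (.leaf 342) (.leaf 1502)) (.node (.leaf 949) (.leaf 1978)))) (.node (.node (.node (.node (.leaf 184) (.leaf 2255)) (.leaf 1369)) (.node (.leaf 794) (.leaf 1865))) (.node (.node (.leaf 237) (.leaf 1627)) (.node (.leaf 608) (.leaf 2086))))) (.node (.node (.node (.node (.node (.leaf 100) (.leaf 2223)) (.leaf 1289)) (.node (.leaf 369) (.leaf 1805))) (.node (.node (.leaf 425) (.leaf 1561)) (.node (.leaf 1019) (.leaf 2029)))) (.node (.node (.node (.node (.leaf 265) (.leaf 2283))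 (.leaf 1437)) (.node (.leaf 875) (.leaf 1330))) (.node (.node (.leaf 576) (.leaf 1074)) (.node (.leaf 1161) (.leaf 2142)))))) (.node (.node (.node (.node (.node (.node (.leaf 58) (.leaf 2212)) (.leaf 722)) (.node (.leaf 685) (.leaf 1651))) (.node (.node (.leaf 384) (.leaf 1533)) (.node (.leaf 534) (.leaf 1809)))) (.node (.node (.node (.node (.leaf 225) (.leaf 2240)) (.leaf 1400)) (.node (.leaf 834) (.leaf 1296))) (.node (.node (.leaf 537) (.leaf 1353)) (.node (.leaf 1130) (.leaf 2110))))) (.node (.node (.node (.node (.node (.leaf 57) (.leaf 2191)) (.leaf 770)) (.node (.leaf 756) (.leaf 1225))) (.node (.node (.leaf 461) (.leaf 990)) (.node (.leaf 581) (.leaf 2055)))) (.node (.node (.node (.node (.leaf 302) (.leaf 2293)) (.leaf 1473)) (.node (.leaf 911) (.leaf 1367))) (.node (.node (.leaf 612) (.leaf 1572)) (.node (.leaf 1195) (.leaf 1669))))))) (.node (.node (.node (.node (.node (.node (.node (.leaf 36) (.leaf 1742)) (.leaf 710)) (.node (.leaf 668) (.leaf 1764)))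 (.node (.node (.leaf 164) (.leaf 1518)) (.node (.leaf 971) (.leaf 1717)))) (.node (.node (.node (.node (.leaf 203) (.leaf 2094)) (.leaf 1382)) (.node (.leaf 813) (.leaf 1881))) (.node (.node (.leaf 519) (.leaf 1026)) (.node (.leaf 1111) (.leaf 1565))))) (.node (.node (.node (.node (.node (.leaf 122) (.leaf 1980)) (.leaf 1310)) (.node (.leaf 737) (.leaf 1208))) (.node (.node (.leaf 443) (.leaf 1229)) (.node (.leaf 1037) (.leaf 1495)))) (.node (.node (.node (.node (.leaf 283) (.leaf 2101)) (.leaf 868)) (.node (.leaf 477) (.leaf 1932))) (.node (.node (.leaf 291) (.leaf 1315)) (.node (.leaf 662) (.leaf 1649)))))) (.node (.node (.node (.node (.node (.node (.leaf 30) (.leaf 2162)) (.leaf 807)) (.node (.leaf 702) (.leaf 1787))) (.node (.node (.leaf 404) (.leaf 946)) (.node (.leaf 547) (.leaf 2017)))) (.node (.node (.node (.node (.leaf 103) (.leaf 2247)) (.leaf 1420)) (.node (.leaf 854) (.leaf 1907))) (.node (.node (.leaf 556) (.leaf 1217)) (.node (.leaf 1147) (.leaf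 2128))))) (.node (.node (.node (.node (.node (.leaf 66) (.leaf 2170)) (.leaf 1348)) (.node (.leaf 776) (.leaf 1852))) (.node (.node (.leaf 226) (.leaf 1609)) (.node (.leaf 1073) (.leaf 1534)))) (.node (.node (.node (.node (.leaf 322) (.leaf 2273)) (.leaf 896)) (.node (.leaf 928) (.leaf 1385))) (.node (.node (.leaf 311) (.leaf 1727)) (.node (.leaf 1212) (.leaf 1694))))))))

/-- data -/
def next0p6 : Trie (ℕ) := .node (.node (.node (.node (.node (.node (.node (.node (.node (.leaf 6) (.leaf 2185)) (.leaf 851)) (.node (.leaf 408) (.leaf 1737))) (.node (.node (.leaf 332) (.leaf 1488)) (.node (.leaf 939) (.leaf 1602)))) (.node (.node (.node (.node (.leaf 97) (.leaf 2074)) (.leaf 1360)) (.node (.leaf 785) (.leaf 1858))) (.node (.node (.leaf 301) (.leaf 1410)) (.node (.leaf 1084) (.leaf 2076))))) (.node (.node (.node (.node (.node (.leaf 91) (.leaf 2159)) (.leaf 904)) (.node (.leaf 462) (.leaf 1396))) (.node (.node (.leaf 251) (.leaf 1554)) (.node (.leaf 1011) (.leaf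 1849)))) (.node (.node (.node (.node (.leaf 255) (.leaf 2169)) (.leaf 1428)) (.node (.leaf 866) (.leaf 1913))) (.node (.node (.leaf 567) (.leaf 1673)) (.node (.leaf 1051) (.leaf 2133)))))) (.node (.node (.node (.node (.node (.node (.leaf 25) (.leaf 2194)) (.leaf 878)) (.node (.leaf 435) (.leaf 1570))) (.node (.node (.leaf 225) (.leaf 1119)) (.node (.leaf 798) (.leaf 1633)))) (.node (.node (.node (.node (.leaf 122) (.leaf 2242)) (.leaf 1394)) (.node (.leaf 546) (.leaf 1504))) (.node (.node (.leaf 327) (.leaf 1342)) (.node (.leaf 1122) (.leaf 1779))))) (.node (.node (.node (.node (.node (.leaf 74) (.leaf 2232)) (.leaf 1320)) (.node (.leaf 490) (.leaf 1829))) (.node (.node (.leaf 361) (.leaf 1176)) (.node (.leaf 715) (.leaf 1856)))) (.node (.node (.node (.node (.leaf 294) (.leaf 2293)) (.leaf 1465)) (.node (.leaf 605) (.leaf 1560))) (.node (.node (.leaf 603) (.leaf 1703)) (.node (.leaf 1186) (.leaf 1852))))))) (.node (.node (.node (.node (.node (.node (.node (.leaf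 13) (.leaf 2096)) (.leaf 1042)) (.node (.leaf 659) (.leaf 1348))) (.node (.node (.leaf 353) (.leaf 1107)) (.node (.leaf 960) (.leaf 1617)))) (.node (.node (.node (.node (.leaf 110) (.leaf 2061)) (.leaf 1277)) (.node (.leaf 531) (.leaf 1486))) (.node (.node (.leaf 509) (.leaf 1218)) (.node (.leaf 1103) (.leaf 1760))))) (.node (.node (.node (.node (.node (.leaf 112) (.leaf 1982)) (.leaf 1299)) (.node (.leaf 476) (.leaf 1726))) (.node (.node (.leaf 264) (.leaf 1157)) (.node (.leaf 1027) (.leaf 2037)))) (.node (.node (.node (.node (.leaf 160) (.leaf 2286)) (.leaf 1039)) (.node (.leaf 666) (.leaf 1926))) (.node (.node (.leaf 575) (.leaf 1563)) (.node (.leaf 802) (.leaf 2149)))))) (.node (.node (.node (.node (.node (.node (.leaf 69) (.leaf 2218)) (.leaf 1267)) (.node (.leaf 448) (.leaf 1381))) (.node (.node (.leaf 238) (.leaf 1540)) (.node (.leaf 671) (.leaf 2009)))) (.node (.node (.node (.node (.leaf 236) (.leaf 2134)) (.leaf 1009)) (.node (.leaf 844) (.leaf 1733)))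 (.node (.node (.leaf 547) (.leaf 1246)) (.node (.leaf 777) (.leaf 1796))))) (.node (.node (.node (.node (.node (.leaf 86) (.leaf 2017)) (.leaf 1341)) (.node (.leaf 504) (.leaf 1446))) (.node (.node (.leaf 468) (.leaf 1601)) (.node (.leaf 1065) (.leaf 2062)))) (.node (.node (.node (.node (.leaf 184) (.leaf 2299)) (.leaf 1075)) (.node (.leaf 618) (.leaf 1955))) (.node (.node (.leaf 500) (.leaf 1720)) (.node (.leaf 835) (.leaf 1874)))))))) (.node (.node (.node (.node (.node (.node (.node (.node (.leaf 7) (.leaf 1977)) (.leaf 857)) (.node (.leaf 649) (.leaf 1748))) (.node (.node (.leaf 343) (.leaf 1503)) (.node (.leaf 950) (.leaf 1609)))) (.node (.node (.node (.node (.leaf 185) (.leaf 2256)) (.leaf 972)) (.node (.leaf 795) (.leaf 1866))) (.node (.node (.leaf 498) (.leaf 1210)) (.node (.leaf 744) (.leaf 1753))))) (.node (.node (.node (.node (.node (.leaf 55) (.leaf 1974)) (.leaf 1290)) (.node (.leaf 719) (.leaf 1404))) (.node (.node (.leaf 258) (.leaf 1496)) (.node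 (.leaf 1020) (.leaf 2021)))) (.node (.node (.node (.node (.leaf 266) (.leaf 2181)) (.leaf 1438)) (.node (.leaf 867) (.leaf 1546))) (.node (.node (.leaf 577) (.leaf 1275)) (.node (.leaf 1162) (.leaf 1825)))))) (.node (.node (.node (.node (.node (.node (.leaf 59) (.leaf 1937)) (.leaf 1259)) (.node (.leaf 441) (.leaf 1774))) (.node (.node (.leaf 232) (.leaf 1534)) (.node (.leaf 934) (.leaf 1642)))) (.node (.node (.node (.node (.leaf 226) (.leaf 2161)) (.leaf 1401)) (.node (.leaf 553) (.leaf 1515))) (.node (.node (.leaf 333) (.leaf 1655)) (.node (.leaf 771) (.leaf 1787))))) (.node (.node (.node (.node (.node (.leaf 143) (.leaf 2008)) (.leaf 1328)) (.node (.leaf 496) (.leaf 1437))) (.node (.node (.leaf 283) (.leaf 1182)) (.node (.leaf 1055) (.leaf 1713)))) (.node (.node (.node (.node (.leaf 303) (.leaf 2297)) (.leaf 1067)) (.node (.leaf 612) (.leaf 1736))) (.node (.node (.leaf 389) (.leaf 1707)) (.node (.leaf 826) (.leaf 2170))))))) (.node (.node (.node (.node (.node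 (.node (.node (.leaf 37) (.leaf 2064)) (.leaf 963)) (.node (.leaf 460) (.leaf 1491))) (.node (.node (.leaf 363) (.leaf 1519)) (.node (.leaf 651) (.leaf 1991)))) (.node (.node (.node (.node (.leaf 204) (.leaf 2263)) (.leaf 989)) (.node (.leaf 537) (.leaf 1533))) (.node (.node (.leaf 320) (.leaf 1224)) (.node (.leaf 757) (.leaf 1927))))) (.node (.node (.node (.node (.node (.leaf 67) (.leaf 1993)) (.leaf 926)) (.node (.leaf 483) (.leaf 1812))) (.node (.node (.leaf 270) (.leaf 1165)) (.node (.leaf 702) (.leaf 2040)))) (.node (.node (.node (.node (.leaf 284) (.leaf 2208)) (.leaf 1454)) (.node (.leaf 598) (.leaf 1933))) (.node (.node (.leaf 593) (.leaf 1288)) (.node (.leaf 810) (.leaf 2154)))))) (.node (.node (.node (.node (.node (.node (.leaf 43) (.leaf 1956)) (.leaf 1276)) (.node (.leaf 455) (.leaf 1566))) (.node (.node (.leaf 405) (.leaf 1138)) (.node (.leaf 689) (.leaf 2018)))) (.node (.node (.node (.node (.leaf 245) (.leaf 2151)) (.leaf 1017)) (.node (.leaf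 855) (.leaf 1786))) (.node (.node (.leaf 557) (.leaf 1562)) (.node (.leaf 783) (.leaf 1916))))) (.node (.node (.node (.node (.node (.leaf 164) (.leaf 2028)) (.leaf 1349)) (.node (.leaf 733) (.leaf 1458))) (.node (.node (.leaf 478) (.leaf 1610)) (.node (.leaf 1074) (.leaf 2068)))) (.node (.node (.node (.node (.leaf 323) (.leaf 2291)) (.leaf 1483)) (.node (.leaf 624) (.leaf 1963))) (.node (.node (.leaf 416) (.leaf 1414)) (.node (.leaf 942) (.leaf 2180))))))))

/-- data -/
def next0p7 : Trie (ℕ) := .node (.node (.node (.node (.node (.node (.node (.node (.node (.leaf 7) (.leaf 1703)) (.leaf 1224)) (.node (.leaf 641) (.leaf 1738))) (.node (.node (.leaf 333) (.leaf 903)) (.node (.leaf 505) (.leaf 1970)))) (.node (.node (.node (.node (.leaf 175) (.leaf 2237)) (.leaf 1361)) (.node (.leaf 786) (.leaf 1859))) (.node (.node (.leaf 489) (.leaf 1620)) (.node (.leaf 1085) (.leaf 2077))))) (.node (.node (.node (.node (.node (.leaf 35) (.leaf 2002)) (.leaf 1284)) (.node (.leaf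 711) (.leaf 1796))) (.node (.node (.leaf 416) (.leaf 1259)) (.node (.leaf 1012) (.leaf 1468)))) (.node (.node (.node (.node (.leaf 256) (.leaf 2171)) (.leaf 1429)) (.node (.leaf 457) (.leaf 1914))) (.node (.node (.leaf 274) (.leaf 1068)) (.node (.leaf 645) (.leaf 2134)))))) (.node (.node (.node (.node (.node (.node (.leaf 49) (.leaf 1750)) (.leaf 1252)) (.node (.leaf 676) (.leaf 1770))) (.node (.node (.leaf 375) (.leaf 1286)) (.node (.leaf 981) (.leaf 1998)))) (.node (.node (.node (.node (.leaf 216) (.leaf 1933)) (.leaf 819)) (.node (.leaf 824) (.leaf 1888))) (.node (.node (.leaf 530) (.leaf 1035)) (.node (.leaf 1123) (.leaf 1969))))) (.node (.node (.node (.node (.node (.leaf 134) (.leaf 1829)) (.leaf 765)) (.node (.leaf 746) (.leaf 1830))) (.node (.node (.leaf 454) (.leaf 1044)) (.node (.leaf 603) (.leaf 2049)))) (.node (.node (.node (.node (.leaf 128) (.leaf 2148)) (.leaf 1427)) (.node (.leaf 902) (.leaf 1870))) (.node (.node (.leaf 604) (.leaf 1704)) (.node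 (.leaf 670) (.leaf 1777))))))) (.node (.node (.node (.node (.node (.node (.node (.leaf 28) (.leaf 2198)) (.leaf 840)) (.node (.leaf 660) (.leaf 1758))) (.node (.node (.leaf 354) (.leaf 933)) (.node (.leaf 961) (.leaf 1987)))) (.node (.node (.node (.node (.leaf 196) (.leaf 2054)) (.leaf 1376)) (.node (.leaf 805) (.leaf 1874))) (.node (.node (.leaf 243) (.leaf 1057)) (.node (.leaf 1104) (.leaf 2093))))) (.node (.node (.node (.node (.node (.leaf 44) (.leaf 2141)) (.leaf 1300)) (.node (.leaf 727) (.leaf 1813))) (.node (.node (.leaf 434) (.leaf 1566)) (.node (.leaf 1028) (.leaf 1487)))) (.node (.node (.node (.node (.leaf 275) (.leaf 2209)) (.leaf 1446)) (.node (.leaf 884) (.leaf 1336))) (.node (.node (.leaf 586) (.leaf 1583)) (.node (.leaf 1171) (.leaf 1643)))))) (.node (.node (.node (.node (.node (.node (.leaf 26) (.leaf 1768)) (.leaf 729)) (.node (.leaf 694) (.leaf 1781))) (.node (.node (.leaf 395) (.leaf 940)) (.node (.leaf 996) (.leaf 2010)))) (.node (.node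 (.node (.node (.leaf 99) (.leaf 2272)) (.leaf 1411)) (.node (.leaf 445) (.leaf 1306))) (.node (.node (.leaf 548) (.leaf 1660)) (.node (.leaf 1138) (.leaf 2119))))) (.node (.node (.node (.node (.node (.leaf 155) (.leaf 2242)) (.leaf 1342)) (.node (.leaf 768) (.leaf 1845))) (.node (.node (.leaf 469) (.leaf 1602)) (.node (.leaf 1066) (.leaf 1525)))) (.node (.node (.node (.node (.leaf 313) (.leaf 2298)) (.leaf 1483)) (.node (.leaf 921) (.leaf 1568))) (.node (.node (.leaf 307) (.leaf 1115)) (.node (.leaf 1206) (.leaf 2177)))))))) (.node (.node (.node (.node (.node (.node (.node (.node (.leaf 17) (.leaf 1893)) (.leaf 1231)) (.node (.leaf 321) (.leaf 1749))) (.node (.node (.leaf 344) (.leaf 1504)) (.node (.leaf 951) (.leaf 1979)))) (.node (.node (.node (.node (.leaf 186) (.leaf 1894)) (.leaf 1370)) (.node (.leaf 414) (.leaf 1472))) (.node (.node (.leaf 499) (.leaf 1628)) (.node (.leaf 1094) (.leaf 2053))))) (.node (.node (.node (.node (.node (.leaf 101) (.leaf 2224))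 (.leaf 747)) (.node (.leaf 720) (.leaf 1806))) (.node (.node (.leaf 426) (.leaf 960)) (.node (.leaf 558) (.leaf 2030)))) (.node (.node (.node (.node (.leaf 114) (.leaf 2277)) (.leaf 852)) (.node (.leaf 876) (.leaf 1918))) (.node (.node (.leaf 279) (.leaf 1680)) (.node (.leaf 650) (.leaf 2143)))))) (.node (.node (.node (.node (.node (.node (.leaf 60) (.leaf 2213)) (.leaf 1260)) (.node (.leaf 686) (.leaf 1167))) (.node (.node (.leaf 385) (.leaf 935)) (.node (.leaf 988) (.leaf 1629)))) (.node (.node (.node (.node (.leaf 227) (.leaf 2267)) (.leaf 825)) (.node (.leaf 835) (.leaf 1327))) (.node (.node (.leaf 372) (.leaf 1656)) (.node (.leaf 1131) (.leaf 2111))))) (.node (.node (.node (.node (.node (.leaf 144) (.leaf 1965)) (.leaf 1329)) (.node (.leaf 757) (.leaf 1836))) (.node (.node (.leaf 462) (.leaf 1595)) (.node (.leaf 1056) (.leaf 2056)))) (.node (.node (.node (.node (.leaf 304) (.leaf 2180)) (.leaf 1144)) (.node (.leaf 912) (.leaf 1948))) (.node (.node (.leaf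 613) (.leaf 1712)) (.node (.leaf 1196) (.leaf 1673))))))) (.node (.node (.node (.node (.node (.node (.node (.leaf 12) (.leaf 2204)) (.leaf 806)) (.node (.leaf 335) (.leaf 1765))) (.node (.node (.leaf 364) (.leaf 923)) (.node (.leaf 972) (.leaf 1992)))) (.node (.node (.node (.node (.leaf 205) (.leaf 2264)) (.leaf 1383)) (.node (.leaf 814) (.leaf 1882))) (.node (.node (.leaf 520) (.leaf 1640)) (.node (.leaf 1112) (.leaf 2099))))) (.node (.node (.node (.node (.node (.leaf 123) (.leaf 1890)) (.leaf 1311)) (.node (.leaf 708) (.leaf 1821))) (.node (.node (.leaf 444) (.leaf 1576)) (.node (.leaf 1038) (.leaf 2041)))) (.node (.node (.node (.node (.leaf 285) (.leaf 2107)) (.leaf 1455)) (.node (.leaf 893) (.leaf 1442))) (.node (.node (.leaf 594) (.leaf 1695)) (.node (.leaf 780) (.leaf 2157)))))) (.node (.node (.node (.node (.node (.node (.leaf 80) (.leaf 2219)) (.leaf 735)) (.node (.leaf 703) (.leaf 1788))) (.node (.node (.leaf 185) (.leaf 1548)) (.node (.leaf 1004) (.leaf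 1452)))) (.node (.node (.node (.node (.leaf 246) (.leaf 2248)) (.leaf 1421)) (.node (.leaf 856) (.leaf 1908))) (.node (.node (.leaf 269) (.leaf 1059)) (.node (.leaf 1148) (.leaf 2082))))) (.node (.node (.node (.node (.node (.leaf 165) (.leaf 2244)) (.leaf 782)) (.node (.leaf 777) (.leaf 1688))) (.node (.node (.leaf 479) (.leaf 1003)) (.node (.leaf 1075) (.leaf 2069)))) (.node (.node (.node (.node (.leaf 143) (.leaf 2288)) (.leaf 1490)) (.node (.leaf 929) (.leaf 1964))) (.node (.node (.leaf 631) (.leaf 1122)) (.node (.leaf 1213) (.leaf 2181))))))))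

/-- data -/
def next0p8 : Trie (ℕ) := .node (.node (.node (.node (.node (.node (.node (.node (.node (.leaf 2) (.leaf 2186)) (.leaf 1225)) (.node (.leaf 642) (.leaf 1331))) (.node (.node (.leaf 216) (.leaf 1495)) (.node (.leaf 940) (.leaf 1971)))) (.node (.node (.node (.node (.leaf 176) (.leaf 2043)) (.leaf 966)) (.node (.leaf 519) (.leaf 1469))) (.node (.node (.leaf 302) (.leaf 1204)) (.node (.leaf 737) (.leaf 1746))))) (.node (.node (.node (.node (.node (.leaf 92) (.leaf 1968)) (.leaf 1285)) (.node (.leaf 463) (.leaf 1797))) (.node (.node (.leaf 252) (.leaf 1555)) (.node (.leaf 685) (.leaf 1831)))) (.node (.node (.node (.node (.leaf 257) (.leaf 2173)) (.leaf 1024)) (.node (.leaf 576) (.leaf 1535))) (.node (.node (.leaf 568) (.leaf 1262)) (.node (.leaf 801) (.leaf 1813)))))) (.node (.node (.node (.node (.node (.node (.leaf 50) (.leaf 1934)) (.leaf 1190)) (.node (.leaf 677) (.leaf 1368))) (.node (.node (.leaf 376) (.leaf 1214)) (.node (.leaf 658) (.leaf 1905))))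 (.node (.node (.node (.node (.leaf 123) (.leaf 2236)) (.leaf 997)) (.node (.leaf 825) (.leaf 1505))) (.node (.node (.leaf 328) (.leaf 1237)) (.node (.leaf 766) (.leaf 2107))))) (.node (.node (.node (.node (.node (.leaf 135) (.leaf 2001)) (.leaf 1321)) (.node (.leaf 747) (.leaf 1429))) (.node (.node (.leaf 277) (.leaf 1586)) (.node (.leaf 709) (.leaf 2050)))) (.node (.node (.node (.node (.leaf 190) (.leaf 2234)) (.leaf 1466)) (.node (.leaf 903) (.leaf 1943))) (.node (.node (.leaf 384) (.leaf 1705)) (.node (.leaf 1086) (.leaf 1882))))))) (.node (.node (.node (.node (.node (.node (.node (.leaf 14) (.leaf 1915)) (.leaf 864)) (.node (.leaf 421) (.leaf 1759))) (.node (.node (.leaf 213) (.leaf 1512)) (.node (.leaf 962) (.leaf 1627)))) (.node (.node (.node (.node (.leaf 197) (.leaf 2257)) (.leaf 980)) (.node (.leaf 806) (.leaf 1564))) (.node (.node (.leaf 510) (.leaf 1219)) (.node (.leaf 752) (.leaf 2094))))) (.node (.node (.node (.node (.node (.leaf 62) (.leaf 1984))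 (.leaf 919)) (.node (.leaf 728) (.leaf 1814))) (.node (.node (.leaf 265) (.leaf 1159)) (.node (.leaf 696) (.leaf 1946)))) (.node (.node (.node (.node (.leaf 186) (.leaf 2200)) (.leaf 1447)) (.node (.leaf 877) (.leaf 1547))) (.node (.node (.leaf 371) (.leaf 1688)) (.node (.leaf 1172) (.leaf 2150)))))) (.node (.node (.node (.node (.node (.node (.leaf 70) (.leaf 2190)) (.leaf 1268)) (.node (.leaf 695) (.leaf 1382))) (.node (.node (.leaf 396) (.leaf 1541)) (.node (.leaf 712) (.leaf 1650)))) (.node (.node (.node (.node (.leaf 237) (.leaf 2273)) (.leaf 1412)) (.node (.leaf 845) (.leaf 1901))) (.node (.node (.leaf 341) (.leaf 1661)) (.node (.leaf 778) (.leaf 2120))))) (.node (.node (.node (.node (.node (.leaf 156) (.leaf 2032)) (.leaf 949)) (.node (.leaf 769) (.leaf 1658))) (.node (.node (.leaf 289) (.leaf 1603)) (.node (.leaf 921) (.leaf 1986)))) (.node (.node (.node (.node (.leaf 314) (.leaf 2300)) (.leaf 1076)) (.node (.leaf 922) (.leaf 1757))) (.node (.node (.leaf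 499) (.leaf 1721)) (.node (.leaf 1207) (.leaf 2081)))))))) (.node (.node (.node (.node (.node (.node (.node (.node (.leaf 8) (.leaf 2047)) (.leaf 858)) (.node (.leaf 650) (.leaf 1750))) (.node (.node (.leaf 205) (.leaf 1102)) (.node (.leaf 638) (.leaf 1980)))) (.node (.node (.node (.node (.leaf 104) (.leaf 2254)) (.leaf 973)) (.node (.leaf 796) (.leaf 1478))) (.node (.node (.leaf 308) (.leaf 1629)) (.node (.leaf 924) (.leaf 2087))))) (.node (.node (.node (.node (.node (.leaf 102) (.leaf 1975)) (.leaf 913)) (.node (.leaf 469) (.leaf 1807))) (.node (.node (.leaf 259) (.leaf 1158)) (.node (.leaf 691) (.leaf 1677)))) (.node (.node (.node (.node (.leaf 155) (.leaf 2233)) (.leaf 1439)) (.node (.leaf 584) (.leaf 1919))) (.node (.node (.leaf 539) (.leaf 1392)) (.node (.leaf 1163) (.leaf 1826)))))) (.node (.node (.node (.node (.node (.node (.leaf 32) (.leaf 1938)) (.leaf 887)) (.node (.leaf 687) (.leaf 1374))) (.node (.node (.leaf 233) (.leaf 1399)) (.node (.leaf 665)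 (.leaf 1951)))) (.node (.node (.node (.node (.leaf 129) (.leaf 2108)) (.leaf 1402)) (.node (.leaf 554) (.leaf 1894))) (.node (.node (.leaf 538) (.leaf 1241)) (.node (.leaf 772) (.leaf 2112))))) (.node (.node (.node (.node (.node (.leaf 80) (.leaf 2098)) (.leaf 1330)) (.node (.leaf 758) (.leaf 1837))) (.node (.node (.leaf 365) (.leaf 1596)) (.node (.leaf 1057) (.leaf 1714)))) (.node (.node (.node (.node (.leaf 179) (.leaf 2298)) (.leaf 1474)) (.node (.leaf 613) (.leaf 1949))) (.node (.node (.leaf 390) (.leaf 1574)) (.node (.leaf 1197) (.leaf 2171))))))) (.node (.node (.node (.node (.node (.node (.node (.leaf 38) (.leaf 1923)) (.leaf 872)) (.node (.leaf 663) (.leaf 1684))) (.node (.node (.leaf 219) (.leaf 1113)) (.node (.leaf 652) (.leaf 1626)))) (.node (.node (.node (.node (.leaf 116) (.leaf 2205)) (.leaf 1384)) (.node (.leaf 815) (.leaf 1497))) (.node (.node (.leaf 521) (.leaf 1641)) (.node (.leaf 908) (.leaf 2042))))) (.node (.node (.node (.node (.node (.leaf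 68) (.leaf 2223)) (.leaf 1312)) (.node (.leaf 738) (.leaf 1431))) (.node (.node (.leaf 445) (.leaf 1577)) (.node (.leaf 703) (.leaf 1693)))) (.node (.node (.node (.node (.leaf 167) (.leaf 2290)) (.leaf 1456)) (.node (.leaf 894) (.leaf 1553))) (.node (.node (.leaf 595) (.leaf 1289)) (.node (.leaf 1178) (.leaf 1845)))))) (.node (.node (.node (.node (.node (.node (.leaf 81) (.leaf 2220)) (.leaf 899)) (.node (.leaf 704) (.leaf 1388))) (.node (.node (.leaf 406) (.leaf 1520)) (.node (.leaf 992) (.leaf 2019)))) (.node (.node (.node (.node (.leaf 141) (.leaf 2212)) (.leaf 1422)) (.node (.leaf 569) (.leaf 1527))) (.node (.node (.leaf 558) (.leaf 1254)) (.node (.leaf 784) (.leaf 1804))))) (.node (.node (.node (.node (.node (.leaf 166) (.leaf 2029)) (.leaf 1345)) (.node (.leaf 511) (.leaf 1853))) (.node (.node (.leaf 295) (.leaf 1611)) (.node (.leaf 730) (.leaf 1979)))) (.node (.node (.node (.node (.leaf 324) (.leaf 2292)) (.leaf 1083)) (.node (.leaf 930) (.leaf 1965)))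 (.node (.node (.leaf 632) (.leaf 1728)) (.node (.leaf 843) (.leaf 1887))))))))

/-- data -/
def next0p9 : Trie (ℕ) := .node (.node (.node (.node (.node (.node (.node (.node (.node (.leaf 8) (.leaf 2187)) (.leaf 695)) (.node (.leaf 317) (.leaf 1739))) (.node (.node (.leaf 334) (.leaf 1496)) (.node (.leaf 941) (.leaf 1814)))) (.node (.node (.node (.node (.leaf 72) (.leaf 2250)) (.leaf 1362)) (.node (.leaf 787) (.leaf 1860))) (.node (.node (.leaf 490) (.leaf 1621)) (.node (.leaf 1086) (.leaf 2078))))) (.node (.node (.node (.node (.node (.leaf 93) (.leaf 1952)) (.leaf 741)) (.node (.leaf 712) (.leaf 1798))) (.node (.node (.leaf 417) (.leaf 1556)) (.node (.leaf 1013) (.leaf 2024)))) (.node (.node (.node (.node (.leaf 258) (.leaf 2243)) (.leaf 1430)) (.node (.leaf 867) (.leaf 1915))) (.node (.node (.leaf 569) (.leaf 1674)) (.node (.leaf 1154) (.leaf 1924)))))) (.node (.node (.node (.node (.node (.node (.leaf 51) (.leaf 2040)) (.leaf 717)) (.node (.leaf 340) (.leaf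 1302))) (.node (.node (.leaf 170) (.leaf 1528)) (.node (.leaf 855) (.leaf 1424)))) (.node (.node (.node (.node (.leaf 217) (.leaf 2268)) (.leaf 905)) (.node (.leaf 826) (.leaf 1889))) (.node (.node (.leaf 531) (.leaf 1648)) (.node (.leaf 830) (.leaf 1586))))) (.node (.node (.node (.node (.node (.leaf 54) (.leaf 2233)) (.leaf 1299)) (.node (.leaf 388) (.leaf 1686))) (.node (.node (.leaf 455) (.leaf 985)) (.node (.leaf 1047) (.leaf 2051)))) (.node (.node (.node (.node (.leaf 295) (.leaf 2282)) (.leaf 1467)) (.node (.leaf 484) (.leaf 1357))) (.node (.node (.leaf 605) (.leaf 1706)) (.node (.leaf 1187) (.leaf 2166))))))) (.node (.node (.node (.node (.node (.node (.node (.leaf 29) (.leaf 1741)) (.leaf 1239)) (.node (.leaf 661) (.leaf 1146))) (.node (.node (.leaf 355) (.leaf 918)) (.node (.leaf 963) (.leaf 1408)))) (.node (.node (.node (.node (.leaf 81) (.leaf 1906)) (.leaf 1377)) (.node (.leaf 420) (.leaf 1270))) (.node (.node (.leaf 511) (.leaf 1635)) (.node (.leaf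 1105) (.leaf 1557))))) (.node (.node (.node (.node (.node (.leaf 113) (.leaf 2210)) (.leaf 1301)) (.node (.leaf 377) (.leaf 1203))) (.node (.node (.leaf 435) (.leaf 1567)) (.node (.leaf 1029) (.leaf 1636)))) (.node (.node (.node (.node (.leaf 119) (.leaf 2258)) (.leaf 860)) (.node (.leaf 885) (.leaf 1927))) (.node (.node (.leaf 587) (.leaf 1084)) (.node (.leaf 656) (.leaf 2151)))))) (.node (.node (.node (.node (.node (.node (.leaf 71) (.leaf 2183)) (.leaf 1269)) (.node (.leaf 350) (.leaf 1782))) (.node (.node (.leaf 397) (.leaf 1542)) (.node (.leaf 997) (.leaf 2011)))) (.node (.node (.node (.node (.leaf 238) (.leaf 1991)) (.leaf 833)) (.node (.leaf 846) (.leaf 1902))) (.node (.node (.leaf 549) (.leaf 1052)) (.node (.leaf 1139) (.leaf 2121))))) (.node (.node (.node (.node (.node (.leaf 63) (.leaf 1850)) (.leaf 1072)) (.node (.leaf 399) (.leaf 1235))) (.node (.node (.leaf 470) (.leaf 999)) (.node (.leaf 591) (.leaf 1526)))) (.node (.node (.node (.node (.leaf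 315) (.leaf 2300)) (.leaf 1484)) (.node (.leaf 495) (.leaf 1956))) (.node (.node (.leaf 623) (.leaf 1317)) (.node (.leaf 683) (.leaf 1683)))))))) (.node (.node (.node (.node (.node (.node (.node (.node (.leaf 18) (.leaf 1720)) (.leaf 1185)) (.node (.leaf 651) (.leaf 1751))) (.node (.node (.leaf 345) (.leaf 1505)) (.node (.leaf 952) (.leaf 1402)))) (.node (.node (.node (.node (.leaf 187) (.leaf 1931)) (.leaf 817)) (.node (.leaf 797) (.leaf 1867))) (.node (.node (.leaf 500) (.leaf 1016)) (.node (.leaf 609) (.leaf 1917))))) (.node (.node (.node (.node (.node (.leaf 40) (.leaf 1910)) (.leaf 1291)) (.node (.leaf 721) (.leaf 1197))) (.node (.node (.leaf 363) (.leaf 1095)) (.node (.leaf 1021) (.leaf 1611)))) (.node (.node (.node (.node (.leaf 267) (.leaf 2044)) (.leaf 982)) (.node (.leaf 877) (.leaf 1873))) (.node (.node (.leaf 281) (.leaf 1681)) (.node (.leaf 1032) (.leaf 2085)))))) (.node (.node (.node (.node (.node (.node (.leaf 61) (.leaf 2214)) (.leaf 1261))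 (.node (.leaf 688) (.leaf 1775))) (.node (.node (.leaf 386) (.leaf 1173)) (.node (.leaf 989) (.leaf 2003)))) (.node (.node (.node (.node (.leaf 228) (.leaf 2263)) (.leaf 1403)) (.node (.leaf 763) (.leaf 1895))) (.node (.node (.leaf 539) (.leaf 1657)) (.node (.leaf 1132) (.leaf 1594))))) (.node (.node (.node (.node (.node (.leaf 145) (.leaf 2236)) (.leaf 1331)) (.node (.leaf 393) (.leaf 1226))) (.node (.node (.leaf 218) (.leaf 991)) (.node (.leaf 583) (.leaf 2057)))) (.node (.node (.node (.node (.leaf 305) (.leaf 2185)) (.leaf 886)) (.node (.leaf 913) (.leaf 1711))) (.node (.node (.leaf 614) (.leaf 1713)) (.node (.leaf 677) (.leaf 1858))))))) (.node (.node (.node (.node (.node (.node (.node (.leaf 39) (.leaf 2205)) (.leaf 1246)) (.node (.leaf 669) (.leaf 1439))) (.node (.node (.leaf 365) (.leaf 1520)) (.node (.leaf 973) (.leaf 1993)))) (.node (.node (.node (.node (.leaf 206) (.leaf 1922)) (.leaf 812)) (.node (.leaf 816) (.leaf 1883))) (.node (.node (.leaf 248)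 (.leaf 1642)) (.node (.leaf 1113) (.leaf 1573))))) (.node (.node (.node (.node (.node (.leaf 124) (.leaf 1820)) (.leaf 760)) (.node (.leaf 382) (.leaf 1822))) (.node (.node (.leaf 446) (.leaf 974)) (.node (.leaf 1039) (.leaf 1884)))) (.node (.node (.node (.node (.leaf 286) (.leaf 2090)) (.leaf 1457)) (.node (.leaf 478) (.leaf 1934))) (.node (.node (.leaf 596) (.leaf 1696)) (.node (.leaf 664) (.leaf 2158)))))) (.node (.node (.node (.node (.node (.node (.leaf 31) (.leaf 1832)) (.leaf 1277)) (.node (.leaf 356) (.leaf 1789))) (.node (.node (.leaf 407) (.leaf 947)) (.node (.leaf 959) (.leaf 1456)))) (.node (.node (.node (.node (.leaf 247) (.leaf 2009)) (.leaf 1423)) (.node (.leaf 857) (.leaf 1512))) (.node (.node (.leaf 559) (.leaf 1667)) (.node (.leaf 1149) (.leaf 2129))))) (.node (.node (.node (.node (.node (.leaf 167) (.leaf 1943)) (.leaf 1350)) (.node (.leaf 778) (.leaf 1663))) (.node (.node (.leaf 480) (.leaf 1612)) (.node (.leaf 1076) (.leaf 1538)))) (.node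 (.node (.node (.node (.leaf 325) (.leaf 2274)) (.leaf 1491)) (.node (.leaf 501) (.leaf 1387))) (.node (.node (.leaf 633) (.leaf 1729)) (.node (.leaf 1214) (.leaf 2182))))))))

/-- data -/
def next0p10 : Trie (ℕ) := .node (.node (.node (.node (.node (.node (.node (.node (.node (.leaf 9) (.leaf 1895)) (.leaf 1226)) (.node (.leaf 409) (.leaf 1332))) (.node (.node (.leaf 335) (.leaf 1092)) (.node (.leaf 631) (.leaf 1604)))) (.node (.node (.node (.node (.leaf 154) (.leaf 2251)) (.leaf 1363)) (.node (.leaf 520) (.leaf 1470))) (.node (.node (.leaf 491) (.leaf 1205)) (.node (.leaf 1078) (.leaf 2079))))) (.node (.node (.node (.node (.node (.leaf 51) (.leaf 2026)) (.leaf 912)) (.node (.leaf 464) (.leaf 1398))) (.node (.node (.leaf 418) (.leaf 1147)) (.node (.leaf 686) (.leaf 2025)))) (.node (.node (.node (.node (.leaf 148) (.leaf 2175)) (.leaf 1025)) (.node (.leaf 868) (.leaf 1715))) (.node (.node (.leaf 354) (.leaf 1263)) (.node (.leaf 790) (.leaf 2135)))))) (.node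 (.node (.node (.node (.node (.node (.leaf 27) (.leaf 1930)) (.leaf 1253)) (.node (.leaf 678) (.leaf 1369))) (.node (.node (.leaf 377) (.leaf 1121)) (.node (.leaf 982) (.leaf 1635)))) (.node (.node (.node (.node (.leaf 218) (.leaf 2269)) (.leaf 998)) (.node (.leaf 548) (.leaf 1890))) (.node (.node (.leaf 532) (.leaf 1649)) (.node (.leaf 767) (.leaf 1781))))) (.node (.node (.node (.node (.node (.leaf 136) (.leaf 2003)) (.leaf 1322)) (.node (.leaf 748) (.leaf 1430))) (.node (.node (.leaf 278) (.leaf 1587)) (.node (.leaf 1048) (.leaf 1704)))) (.node (.node (.node (.node (.leaf 296) (.leaf 2238)) (.leaf 1061)) (.node (.leaf 606) (.leaf 1944))) (.node (.node (.leaf 385) (.leaf 1297)) (.node (.leaf 1188) (.leaf 1867))))))) (.node (.node (.node (.node (.node (.node (.node (.leaf 30) (.leaf 2199)) (.leaf 1216)) (.node (.leaf 662) (.leaf 1350))) (.node (.node (.leaf 356) (.leaf 1117)) (.node (.leaf 646) (.leaf 1988)))) (.node (.node (.node (.node (.leaf 111) (.leaf 2255))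 (.leaf 981)) (.node (.leaf 807) (.leaf 1665))) (.node (.node (.leaf 315) (.leaf 1636)) (.node (.leaf 1106) (.leaf 2095))))) (.node (.node (.node (.node (.node (.leaf 114) (.leaf 1987)) (.leaf 1302)) (.node (.leaf 729) (.leaf 1815))) (.node (.node (.leaf 436) (.leaf 1568)) (.node (.leaf 1030) (.leaf 1687)))) (.node (.node (.node (.node (.leaf 276) (.leaf 2246)) (.leaf 1444)) (.node (.leaf 886) (.leaf 1730))) (.node (.node (.leaf 588) (.leaf 1597)) (.node (.leaf 1173) (.leaf 1839)))))) (.node (.node (.node (.node (.node (.node (.leaf 72) (.leaf 1950)) (.leaf 1270)) (.node (.leaf 461) (.leaf 1783))) (.node (.node (.leaf 240) (.leaf 1134)) (.node (.leaf 673) (.leaf 2012)))) (.node (.node (.node (.node (.leaf 239) (.leaf 2274)) (.leaf 1413)) (.node (.leaf 847) (.leaf 1521))) (.node (.node (.leaf 342) (.leaf 1247)) (.node (.leaf 1140) (.leaf 1798))))) (.node (.node (.node (.node (.node (.leaf 157) (.leaf 2105)) (.leaf 1343)) (.node (.leaf 770) (.leaf 1823))) (.node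 (.node (.leaf 471) (.leaf 1192)) (.node (.leaf 1058) (.leaf 2063)))) (.node (.node (.node (.node (.leaf 187) (.leaf 2275)) (.leaf 1485)) (.node (.leaf 923) (.leaf 1957))) (.node (.node (.leaf 397) (.leaf 1313)) (.node (.leaf 944) (.leaf 1875)))))))) (.node (.node (.node (.node (.node (.node (.node (.node (.leaf 19) (.leaf 2195)) (.leaf 1232)) (.node (.leaf 415) (.leaf 1752))) (.node (.node (.leaf 206) (.leaf 1294)) (.node (.leaf 640) (.leaf 1981)))) (.node (.node (.node (.node (.leaf 188) (.leaf 2224)) (.leaf 1371)) (.node (.leaf 526) (.leaf 1868))) (.node (.node (.leaf 501) (.leaf 1630)) (.node (.leaf 1095) (.leaf 1755))))) (.node (.node (.node (.node (.node (.leaf 103) (.leaf 2126)) (.leaf 1206)) (.node (.leaf 470) (.leaf 1405))) (.node (.node (.leaf 427) (.leaf 1153)) (.node (.leaf 692) (.leaf 2031)))) (.node (.node (.node (.node (.leaf 268) (.leaf 2184)) (.leaf 1033)) (.node (.leaf 585) (.leaf 1542))) (.node (.node (.leaf 565) (.leaf 1269)) (.node (.leaf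 1164) (.leaf 2144)))))) (.node (.node (.node (.node (.node (.node (.leaf 33) (.leaf 2215)) (.leaf 1070)) (.node (.leaf 443) (.leaf 1776))) (.node (.node (.leaf 387) (.leaf 1128)) (.node (.leaf 990) (.leaf 1644)))) (.node (.node (.node (.node (.leaf 130) (.leaf 2111)) (.leaf 1004)) (.node (.leaf 836) (.leaf 1511))) (.node (.node (.leaf 336) (.leaf 1242)) (.node (.leaf 1133) (.leaf 1788))))) (.node (.node (.node (.node (.node (.leaf 146) (.leaf 2202)) (.leaf 941)) (.node (.leaf 743) (.leaf 1838))) (.node (.node (.leaf 364) (.leaf 1183)) (.node (.leaf 724) (.leaf 1716)))) (.node (.node (.node (.node (.leaf 180) (.leaf 2272)) (.leaf 1234)) (.node (.leaf 914) (.leaf 1706))) (.node (.node (.leaf 615) (.leaf 1305)) (.node (.leaf 1198) (.leaf 2172))))))) (.node (.node (.node (.node (.node (.node (.node (.leaf 40) (.leaf 2122)) (.leaf 1097)) (.node (.leaf 670) (.leaf 1361))) (.node (.node (.leaf 366) (.leaf 1114)) (.node (.leaf 974) (.leaf 1885)))) (.node (.node (.node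 (.node (.leaf 117) (.leaf 2204)) (.leaf 1385)) (.node (.leaf 817) (.leaf 1884))) (.node (.node (.leaf 522) (.leaf 1643)) (.node (.leaf 759) (.leaf 1772))))) (.node (.node (.node (.node (.node (.leaf 125) (.leaf 1994)) (.leaf 1301)) (.node (.leaf 739) (.leaf 1420))) (.node (.node (.leaf 272) (.leaf 1578)) (.node (.leaf 1040) (.leaf 1821)))) (.node (.node (.node (.node (.leaf 168) (.leaf 2213)) (.leaf 1050)) (.node (.leaf 635) (.leaf 1780))) (.node (.node (.leaf 378) (.leaf 1670)) (.node (.leaf 1179) (.leaf 1846)))))) (.node (.node (.node (.node (.node (.node (.leaf 82) (.leaf 1961)) (.leaf 1278)) (.node (.leaf 456) (.leaf 1493))) (.node (.node (.leaf 246) (.leaf 1139)) (.node (.leaf 679) (.leaf 1660)))) (.node (.node (.node (.node (.leaf 248) (.leaf 2158)) (.leaf 1424)) (.node (.leaf 570) (.leaf 1528))) (.node (.node (.leaf 348) (.leaf 1668)) (.node (.leaf 958) (.leaf 1805))))) (.node (.node (.node (.node (.node (.leaf 93) (.leaf 2244)) (.leaf 1351)) (.node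 (.leaf 512) (.leaf 1460))) (.node (.node (.leaf 481) (.leaf 1613)) (.node (.leaf 751) (.leaf 1738)))) (.node (.node (.node (.node (.leaf 326) (.leaf 2295)) (.leaf 1171)) (.node (.leaf 625) (.leaf 1697))) (.node (.node (.leaf 403) (.leaf 1691)) (.node (.leaf 1215) (.leaf 2183))))))))

/-- data -/
def next0p11 : Trie (ℕ) := .node (.node (.node (.node (.node (.node (.node (.node (.node (.leaf 0) (.leaf 2188)) (.leaf 1227)) (.node (.leaf 643) (.leaf 1740))) (.node (.node (.leaf 336) (.leaf 1497)) (.node (.leaf 942) (.leaf 1972)))) (.node (.node (.node (.node (.leaf 177) (.leaf 1886)) (.leaf 791)) (.node (.leaf 788) (.leaf 1861))) (.node (.node (.leaf 234) (.leaf 1622)) (.node (.leaf 1087) (.leaf 1545))))) (.node (.node (.node (.node (.node (.leaf 94) (.leaf 1955)) (.leaf 1188)) (.node (.leaf 713) (.leaf 1799))) (.node (.node (.leaf 192) (.leaf 1177)) (.node (.leaf 1014) (.leaf 2026)))) (.node (.node (.node (.node (.leaf 259) (.leaf 2132)) (.leaf 1431)) (.node (.leaf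 869) (.leaf 1325))) (.node (.node (.leaf 570) (.leaf 1675)) (.node (.leaf 1155) (.leaf 2136)))))) (.node (.node (.node (.node (.node (.node (.leaf 52) (.leaf 2127)) (.leaf 1254)) (.node (.leaf 679) (.leaf 1771))) (.node (.node (.leaf 378) (.leaf 1312)) (.node (.leaf 983) (.leaf 1999)))) (.node (.node (.node (.node (.leaf 91) (.leaf 2033)) (.leaf 1395)) (.node (.leaf 827) (.leaf 1292))) (.node (.node (.leaf 254) (.leaf 1650)) (.node (.leaf 1124) (.leaf 1919))))) (.node (.node (.node (.node (.node (.leaf 137) (.leaf 2234)) (.leaf 1323)) (.node (.leaf 749) (.leaf 1831))) (.node (.node (.leaf 456) (.leaf 1349)) (.node (.leaf 577) (.leaf 1904)))) (.node (.node (.node (.node (.leaf 149) (.leaf 2294)) (.leaf 1040)) (.node (.leaf 904) (.leaf 1359))) (.node (.node (.leaf 606) (.leaf 1707)) (.node (.leaf 672) (.leaf 1661))))))) (.node (.node (.node (.node (.node (.node (.node (.leaf 9) (.leaf 1732)) (.leaf 706)) (.node (.leaf 514) (.leaf 1760))) (.node (.node (.leaf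 161) (.leaf 1513)) (.node (.leaf 964) (.leaf 1409)))) (.node (.node (.node (.node (.leaf 173) (.leaf 2221)) (.leaf 1127)) (.node (.leaf 808) (.leaf 1875))) (.node (.node (.leaf 512) (.leaf 1023)) (.node (.leaf 615) (.leaf 2096))))) (.node (.node (.node (.node (.node (.leaf 45) (.leaf 2109)) (.leaf 754)) (.node (.leaf 730) (.leaf 1725))) (.node (.node (.leaf 202) (.leaf 968)) (.node (.leaf 1031) (.leaf 1601)))) (.node (.node (.node (.node (.leaf 277) (.leaf 2070)) (.leaf 1253)) (.node (.leaf 639) (.leaf 1337))) (.node (.node (.leaf 288) (.leaf 1689)) (.node (.leaf 657) (.leaf 2152)))))) (.node (.node (.node (.node (.node (.node (.leaf 73) (.leaf 2207)) (.leaf 731)) (.node (.leaf 696) (.leaf 1178))) (.node (.node (.leaf 398) (.leaf 1543)) (.node (.leaf 998) (.leaf 1578)))) (.node (.node (.node (.node (.leaf 240) (.leaf 2131)) (.leaf 1414)) (.node (.leaf 848) (.leaf 1623))) (.node (.node (.leaf 550) (.leaf 1406)) (.node (.leaf 636) (.leaf 2122))))) (.node (.node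 (.node (.node (.node (.leaf 158) (.leaf 2168)) (.leaf 1344)) (.node (.leaf 771) (.leaf 1846))) (.node (.node (.leaf 223) (.leaf 1604)) (.node (.leaf 592) (.leaf 1529)))) (.node (.node (.node (.node (.leaf 316) (.leaf 2276)) (.leaf 892)) (.node (.leaf 822) (.leaf 1550))) (.node (.node (.leaf 624) (.leaf 1722)) (.node (.leaf 1126) (.leaf 1808)))))))) (.node (.node (.node (.node (.node (.node (.node (.node (.leaf 4) (.leaf 2196)) (.leaf 701)) (.node (.leaf 652) (.leaf 1753))) (.node (.node (.leaf 346) (.leaf 914)) (.node (.leaf 953) (.leaf 1982)))) (.node (.node (.node (.node (.leaf 189) (.leaf 2195)) (.leaf 796)) (.node (.leaf 798) (.leaf 1869))) (.node (.node (.leaf 239) (.leaf 1613)) (.node (.leaf 1096) (.leaf 2088))))) (.node (.node (.node (.node (.node (.leaf 104) (.leaf 1800)) (.leaf 748)) (.node (.leaf 458) (.leaf 1211))) (.node (.node (.leaf 197) (.leaf 1562)) (.node (.leaf 1022) (.leaf 1479)))) (.node (.node (.node (.node (.leaf 115) (.leaf 2186)) (.leaf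 1163)) (.node (.leaf 878) (.leaf 1920))) (.node (.node (.leaf 578) (.leaf 1682)) (.node (.leaf 1165) (.leaf 1632)))))) (.node (.node (.node (.node (.node (.node (.leaf 62) (.leaf 2216)) (.leaf 726)) (.node (.leaf 689) (.leaf 1168))) (.node (.node (.leaf 176) (.leaf 1535)) (.node (.leaf 536) (.leaf 1976)))) (.node (.node (.node (.node (.leaf 229) (.leaf 2062)) (.leaf 1404)) (.node (.leaf 440) (.leaf 1896))) (.node (.node (.leaf 540) (.leaf 1175)) (.node (.leaf 630) (.leaf 2113))))) (.node (.node (.node (.node (.node (.leaf 59) (.leaf 1844)) (.leaf 1332)) (.node (.leaf 759) (.leaf 1839))) (.node (.node (.leaf 463) (.leaf 1597)) (.node (.leaf 1058) (.leaf 2058)))) (.node (.node (.node (.node (.leaf 306) (.leaf 2226)) (.leaf 1475)) (.node (.leaf 491) (.leaf 1950))) (.node (.node (.leaf 303) (.leaf 1714)) (.node (.leaf 1199) (.leaf 2173))))))) (.node (.node (.node (.node (.node (.node (.node (.leaf 41) (.leaf 1744)) (.leaf 1247)) (.node (.leaf 671) (.leaf 1766)))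 (.node (.node (.leaf 166) (.leaf 1521)) (.node (.leaf 525) (.leaf 1418)))) (.node (.node (.node (.node (.leaf 207) (.leaf 2063)) (.leaf 1386)) (.node (.leaf 429) (.leaf 1285))) (.node (.node (.leaf 523) (.leaf 1644)) (.node (.leaf 1114) (.leaf 2100))))) (.node (.node (.node (.node (.node (.leaf 50) (.leaf 2229)) (.leaf 1313)) (.node (.leaf 740) (.leaf 1823))) (.node (.node (.leaf 447) (.leaf 1579)) (.node (.leaf 571) (.leaf 2042)))) (.node (.node (.node (.node (.leaf 287) (.leaf 2201)) (.leaf 1458)) (.node (.leaf 895) (.leaf 1935))) (.node (.node (.leaf 597) (.leaf 1098)) (.node (.leaf 1180) (.leaf 2159)))))) (.node (.node (.node (.node (.node (.node (.leaf 83) (.leaf 2135)) (.leaf 736)) (.node (.leaf 705) (.leaf 1790))) (.node (.node (.leaf 408) (.leaf 1371)) (.node (.leaf 1005) (.leaf 2020)))) (.node (.node (.node (.node (.leaf 105) (.leaf 2039)) (.leaf 842)) (.node (.leaf 858) (.leaf 1412))) (.node (.node (.leaf 560) (.leaf 1062)) (.node (.leaf 642) (.leaf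 2130))))) (.node (.node (.node (.node (.node (.leaf 168) (.leaf 1866)) (.leaf 1352)) (.node (.leaf 779) (.leaf 1854))) (.node (.node (.leaf 482) (.leaf 1614)) (.node (.leaf 1077) (.leaf 1754)))) (.node (.node (.node (.node (.leaf 327) (.leaf 2278)) (.leaf 1492)) (.node (.leaf 931) (.leaf 1600))) (.node (.node (.leaf 634) (.leaf 1730)) (.node (.leaf 1216) (.leaf 1699))))))))

/-- data -/
def next0p12 : Trie (ℕ) := .node (.node (.node (.node (.node (.node (.node (.node (.node (.leaf 3) (.leaf 1896)) (.leaf 853)) (.node (.leaf 586) (.leaf 1741))) (.node (.node (.leaf 200) (.leaf 1094)) (.node (.leaf 943) (.leaf 1973)))) (.node (.node (.node (.node (.leaf 178) (.leaf 2048)) (.leaf 1356)) (.node (.leaf 789) (.leaf 1501))) (.node (.node (.leaf 492) (.leaf 1531)) (.node (.leaf 1088) (.leaf 1747))))) (.node (.node (.node (.node (.node (.leaf 52) (.leaf 2014)) (.leaf 1286)) (.node (.leaf 714) (.leaf 1800))) (.node (.node (.leaf 253) (.leaf 1557)) (.node (.leaf 1015)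 (.leaf 1863)))) (.node (.node (.node (.node (.leaf 150) (.leaf 2261)) (.leaf 1432)) (.node (.leaf 578) (.leaf 1536))) (.node (.node (.leaf 482) (.leaf 1676)) (.node (.leaf 1156) (.leaf 1818)))))) (.node (.node (.node (.node (.node (.node (.leaf 28) (.leaf 2209)) (.leaf 880)) (.node (.leaf 633) (.leaf 1516))) (.node (.node (.leaf 227) (.leaf 1529)) (.node (.leaf 660) (.leaf 2000)))) (.node (.node (.node (.node (.leaf 124) (.leaf 2270)) (.leaf 1060)) (.node (.leaf 549) (.leaf 1506))) (.node (.node (.leaf 329) (.leaf 1651)) (.node (.leaf 811) (.leaf 1782))))) (.node (.node (.node (.node (.node (.leaf 76) (.leaf 2004)) (.leaf 936)) (.node (.leaf 750) (.leaf 1639))) (.node (.node (.leaf 457) (.leaf 1588)) (.node (.leaf 1049) (.leaf 1708)))) (.node (.node (.node (.node (.leaf 174) (.leaf 2239)) (.leaf 1468)) (.node (.leaf 905) (.leaf 1945))) (.node (.node (.leaf 607) (.leaf 1298)) (.node (.leaf 1189) (.leaf 1855))))))) (.node (.node (.node (.node (.node (.node (.node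 (.leaf 31) (.leaf 1918)) (.leaf 1240)) (.node (.leaf 423) (.leaf 1761))) (.node (.node (.leaf 357) (.leaf 1109)) (.node (.leaf 965) (.leaf 1620)))) (.node (.node (.node (.node (.leaf 198) (.leaf 2258)) (.leaf 983)) (.node (.leaf 533) (.leaf 1489))) (.node (.node (.leaf 316) (.leaf 1637)) (.node (.leaf 753) (.leaf 1762))))) (.node (.node (.node (.node (.node (.leaf 115) (.leaf 2227)) (.leaf 1303)) (.node (.leaf 731) (.leaf 1816))) (.node (.node (.leaf 437) (.leaf 1569)) (.node (.leaf 1032) (.leaf 2038)))) (.node (.node (.node (.node (.leaf 162) (.leaf 2287)) (.leaf 1448)) (.node (.leaf 594) (.leaf 1548))) (.node (.node (.leaf 589) (.leaf 1279)) (.node (.leaf 805) (.leaf 2153)))))) (.node (.node (.node (.node (.node (.node (.leaf 39) (.leaf 2103)) (.leaf 901)) (.node (.leaf 697) (.leaf 1383))) (.node (.node (.leaf 399) (.leaf 1135)) (.node (.leaf 674) (.leaf 2013)))) (.node (.node (.node (.node (.leaf 137) (.leaf 2142)) (.leaf 1101)) (.node (.leaf 849) (.leaf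 1903))) (.node (.node (.leaf 551) (.leaf 1249)) (.node (.leaf 779) (.leaf 2123))))) (.node (.node (.node (.node (.node (.leaf 88) (.leaf 2089)) (.leaf 951)) (.node (.leaf 506) (.leaf 1847))) (.node (.node (.leaf 305) (.leaf 1605)) (.node (.leaf 725) (.leaf 1727)))) (.node (.node (.node (.node (.leaf 317) (.leaf 2279)) (.leaf 1077)) (.node (.leaf 620) (.leaf 1958))) (.node (.node (.leaf 398) (.leaf 1314)) (.node (.leaf 1208) (.leaf 1878)))))))) (.node (.node (.node (.node (.node (.node (.node (.node (.leaf 20) (.leaf 1907)) (.leaf 1233)) (.node (.leaf 653) (.leaf 1344))) (.node (.node (.leaf 347) (.leaf 1293)) (.node (.leaf 641) (.leaf 1983)))) (.node (.node (.node (.node (.leaf 106) (.leaf 2100)) (.leaf 1287)) (.node (.leaf 799) (.leaf 1870))) (.node (.node (.leaf 502) (.leaf 1212)) (.node (.leaf 746) (.leaf 2084))))) (.node (.node (.node (.node (.node (.leaf 105) (.leaf 2125)) (.leaf 1292)) (.node (.leaf 722) (.leaf 1808))) (.node (.node (.leaf 370) (.leaf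 1274)) (.node (.leaf 1023) (.leaf 1678)))) (.node (.node (.node (.node (.leaf 269) (.leaf 2188)) (.leaf 1440)) (.node (.leaf 879) (.leaf 1543))) (.node (.node (.leaf 579) (.leaf 1683)) (.node (.leaf 797) (.leaf 2145)))))) (.node (.node (.node (.node (.node (.node (.leaf 63) (.leaf 1940)) (.leaf 1069)) (.node (.leaf 444) (.leaf 1777))) (.node (.node (.leaf 388) (.leaf 1518)) (.node (.leaf 991) (.leaf 1645)))) (.node (.node (.node (.node (.leaf 230) (.leaf 2192)) (.leaf 1005)) (.node (.leaf 837) (.leaf 1897))) (.node (.node (.leaf 337) (.leaf 1243)) (.node (.leaf 1019) (.leaf 1790))))) (.node (.node (.node (.node (.node (.leaf 147) (.leaf 2237)) (.leaf 1333)) (.node (.leaf 760) (.leaf 1840))) (.node (.node (.leaf 285) (.leaf 1184)) (.node (.leaf 1059) (.leaf 1888)))) (.node (.node (.node (.node (.leaf 307) (.leaf 2259)) (.leaf 1476)) (.node (.leaf 614) (.leaf 1579))) (.node (.node (.leaf 616) (.leaf 1326)) (.node (.leaf 1191) (.leaf 2174))))))) (.node (.node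 (.node (.node (.node (.node (.node (.leaf 21) (.leaf 2206)) (.leaf 874)) (.node (.leaf 431) (.leaf 1595))) (.node (.node (.leaf 367) (.leaf 1434)) (.node (.leaf 803) (.leaf 1671)))) (.node (.node (.node (.node (.leaf 208) (.leaf 2078)) (.leaf 1387)) (.node (.leaf 541) (.leaf 1498))) (.node (.node (.leaf 322) (.leaf 1227)) (.node (.leaf 1115) (.leaf 2101))))) (.node (.node (.node (.node (.node (.leaf 126) (.leaf 2230)) (.leaf 928)) (.node (.leaf 741) (.leaf 1421))) (.node (.node (.leaf 273) (.leaf 1580)) (.node (.leaf 1041) (.leaf 1696)))) (.node (.node (.node (.node (.leaf 288) (.leaf 2214)) (.leaf 1459)) (.node (.leaf 896) (.leaf 1936))) (.node (.node (.leaf 379) (.leaf 1591)) (.node (.leaf 813) (.leaf 2118)))))) (.node (.node (.node (.node (.node (.node (.leaf 84) (.leaf 2113)) (.leaf 996)) (.node (.leaf 706) (.leaf 1791))) (.node (.node (.leaf 247) (.leaf 1443)) (.node (.leaf 680) (.leaf 2010)))) (.node (.node (.node (.node (.leaf 228) (.leaf 2277)) (.leaf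 1316)) (.node (.leaf 859) (.leaf 1619))) (.node (.node (.leaf 561) (.leaf 1669)) (.node (.leaf 957) (.leaf 2131))))) (.node (.node (.node (.node (.node (.leaf 94) (.leaf 2030)) (.leaf 1353)) (.node (.leaf 780) (.leaf 1769))) (.node (.node (.leaf 297) (.leaf 1199)) (.node (.leaf 732) (.leaf 2070)))) (.node (.node (.node (.node (.leaf 194) (.leaf 2303)) (.leaf 1085)) (.node (.leaf 932) (.leaf 1966))) (.node (.node (.leaf 404) (.leaf 1323)) (.node (.leaf 1217) (.leaf 1889))))))))

/-- data -/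
def next0p13 : Trie (ℕ) := .node (.node (.node (.node (.node (.node (.node (.node (.node (.leaf 10) (.leaf 2189)) (.leaf 1228)) (.node (.leaf 318) (.leaf 1133))) (.node (.node (.leaf 337) (.leaf 1498)) (.node (.leaf 944) (.leaf 1397)))) (.node (.node (.node (.node (.leaf 179) (.leaf 2252)) (.leaf 1174)) (.node (.leaf 411) (.leaf 1256))) (.node (.node (.leaf 493) (.leaf 1010)) (.node (.leaf 1089) (.leaf 2080))))) (.node (.node (.node (.node (.node (.leaf 95) (.leaf 1795)) (.leaf 1287)) (.node (.leaf 366) (.leaf 1193))) (.node (.node (.leaf 418) (.leaf 955)) (.node (.leaf 555) (.leaf 1872)))) (.node (.node (.node (.node (.leaf 260) (.leaf 2280)) (.leaf 849)) (.node (.leaf 870) (.leaf 1517))) (.node (.node (.leaf 276) (.leaf 1071)) (.node (.leaf 1157) (.leaf 1981)))))) (.node (.node (.node (.node (.node (.node (.leaf 53) (.leaf 1752)) (.leaf 1255)) (.node (.leaf 680) (.leaf 1162))) (.node (.node (.leaf 379) (.leaf 930)) (.node (.leaf 871) (.leaf 1428)))) (.node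 (.node (.node (.node (.leaf 219) (.leaf 2215)) (.leaf 821)) (.node (.leaf 828) (.leaf 1891))) (.node (.node (.leaf 533) (.leaf 1652)) (.node (.leaf 626) (.leaf 1709))))) (.node (.node (.node (.node (.node (.leaf 138) (.leaf 1880)) (.leaf 836)) (.node (.leaf 751) (.leaf 1220))) (.node (.node (.leaf 214) (.leaf 1589)) (.node (.leaf 1050) (.leaf 2052)))) (.node (.node (.node (.node (.leaf 297) (.leaf 2295)) (.leaf 879)) (.node (.leaf 485) (.leaf 1946))) (.node (.node (.leaf 299) (.leaf 1708)) (.node (.leaf 1190) (.leaf 2167))))))) (.node (.node (.node (.node (.node (.node (.node (.leaf 32) (.leaf 2200)) (.leaf 1241)) (.node (.leaf 663) (.leaf 1762))) (.node (.node (.leaf 358) (.leaf 1514)) (.node (.leaf 521) (.leaf 1603)))) (.node (.node (.node (.node (.leaf 82) (.leaf 1913)) (.leaf 967)) (.node (.leaf 809) (.leaf 1876))) (.node (.node (.leaf 513) (.leaf 1638)) (.node (.leaf 1107) (.leaf 2097))))) (.node (.node (.node (.node (.node (.leaf 116) (.leaf 1811)) (.leaf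 755)) (.node (.leaf 732) (.leaf 1817))) (.node (.node (.leaf 438) (.leaf 1570)) (.node (.leaf 567) (.leaf 1659)))) (.node (.node (.node (.node (.leaf 278) (.leaf 2269)) (.leaf 1449)) (.node (.leaf 887) (.leaf 1928))) (.node (.node (.leaf 427) (.leaf 1690)) (.node (.leaf 1030) (.leaf 2095)))))) (.node (.node (.node (.node (.node (.node (.leaf 74) (.leaf 1774)) (.leaf 1271)) (.node (.leaf 487) (.leaf 1784))) (.node (.node (.leaf 182) (.leaf 1544)) (.node (.leaf 619) (.leaf 1447)))) (.node (.node (.node (.node (.leaf 241) (.leaf 2227)) (.leaf 1415)) (.node (.leaf 850) (.leaf 1309))) (.node (.node (.leaf 266) (.leaf 1662)) (.node (.leaf 1141) (.leaf 1605))))) (.node (.node (.node (.node (.node (.leaf 159) (.leaf 1853)) (.leaf 1345)) (.node (.leaf 772) (.leaf 1848))) (.node (.node (.leaf 472) (.leaf 1000)) (.node (.leaf 1067) (.leaf 2064)))) (.node (.node (.node (.node (.leaf 140) (.leaf 2251)) (.leaf 1486)) (.node (.leaf 924) (.leaf 1959))) (.node (.node (.leaf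 625) (.leaf 1723)) (.node (.leaf 1209) (.leaf 2178)))))))) (.node (.node (.node (.node (.node (.node (.node (.node (.leaf 21) (.leaf 2197)) (.leaf 1234)) (.node (.leaf 323) (.leaf 1587))) (.node (.node (.leaf 156) (.leaf 1506)) (.node (.leaf 954) (.leaf 1868)))) (.node (.node (.node (.node (.leaf 190) (.leaf 1898)) (.leaf 1372)) (.node (.leaf 800) (.leaf 1265))) (.node (.node (.leaf 503) (.leaf 1631)) (.node (.leaf 1097) (.leaf 2089))))) (.node (.node (.node (.node (.node (.leaf 106) (.leaf 1837)) (.leaf 1293)) (.node (.leaf 473) (.leaf 1198))) (.node (.node (.leaf 198) (.leaf 962)) (.node (.leaf 561) (.leaf 2032)))) (.node (.node (.node (.node (.leaf 270) (.leaf 2284)) (.leaf 1441)) (.node (.leaf 466) (.leaf 1921))) (.node (.node (.leaf 332) (.leaf 1684)) (.node (.leaf 1166) (.leaf 2000)))))) (.node (.node (.node (.node (.node (.node (.leaf 23) (.leaf 2072)) (.leaf 1262)) (.node (.leaf 690) (.leaf 1778))) (.node (.node (.leaf 389) (.leaf 1536)) (.node (.leaf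 607) (.leaf 2004)))) (.node (.node (.node (.node (.leaf 96) (.leaf 1963)) (.leaf 1405)) (.node (.leaf 838) (.leaf 1724))) (.node (.node (.leaf 541) (.leaf 1054)) (.node (.leaf 1134) (.leaf 2114))))) (.node (.node (.node (.node (.node (.leaf 148) (.leaf 2238)) (.leaf 773)) (.node (.leaf 761) (.leaf 1841))) (.node (.node (.leaf 464) (.leaf 1598)) (.node (.leaf 1060) (.leaf 1519)))) (.node (.node (.node (.node (.leaf 135) (.leaf 2260)) (.leaf 888)) (.node (.leaf 915) (.leaf 1951))) (.node (.node (.leaf 617) (.leaf 1715)) (.node (.leaf 932) (.leaf 1676))))))) (.node (.node (.node (.node (.node (.node (.node (.leaf 42) (.leaf 1988)) (.leaf 1248)) (.node (.leaf 580) (.leaf 1767))) (.node (.node (.leaf 368) (.leaf 925)) (.node (.leaf 975) (.leaf 1419)))) (.node (.node (.node (.node (.leaf 87) (.leaf 2265)) (.leaf 1388)) (.node (.leaf 818) (.leaf 1885))) (.node (.node (.leaf 524) (.leaf 1645)) (.node (.leaf 1116) (.leaf 1577))))) (.node (.node (.node (.node (.node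 (.leaf 127) (.leaf 1824)) (.leaf 1314)) (.node (.leaf 742) (.leaf 1664))) (.node (.node (.leaf 448) (.leaf 1581)) (.node (.leaf 1042) (.leaf 2043)))) (.node (.node (.node (.node (.leaf 125) (.leaf 2290)) (.leaf 1460)) (.node (.leaf 897) (.leaf 1937))) (.node (.node (.leaf 598) (.leaf 1697)) (.node (.leaf 1181) (.leaf 2160)))))) (.node (.node (.node (.node (.node (.node (.leaf 85) (.leaf 1785)) (.leaf 1279)) (.node (.leaf 357) (.leaf 1792))) (.node (.node (.leaf 409) (.leaf 948)) (.node (.leaf 1006) (.leaf 2021)))) (.node (.node (.node (.node (.leaf 249) (.leaf 2012)) (.leaf 1425)) (.node (.leaf 453) (.leaf 1909))) (.node (.node (.leaf 271) (.leaf 1670)) (.node (.leaf 1150) (.leaf 1610))))) (.node (.node (.node (.node (.node (.leaf 169) (.leaf 2163)) (.leaf 785)) (.node (.leaf 405) (.leaf 1855))) (.node (.node (.leaf 483) (.leaf 1615)) (.node (.leaf 1078) (.leaf 1540)))) (.node (.node (.node (.node (.leaf 328) (.leaf 2303)) (.leaf 1493)) (.node (.leaf 502) (.leaf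 1389))) (.node (.node (.leaf 635) (.leaf 1731)) (.node (.leaf 1218) (.leaf 2065))))))))

/-- data -/
def next0p14 : Trie (ℕ) := .node (.node (.node (.node (.node (.node (.node (.node (.node (.leaf 11) (.leaf 2056)) (.leaf 920)) (.node (.leaf 644) (.leaf 1742))) (.node (.node (.leaf 201) (.leaf 1166)) (.node (.leaf 634) (.leaf 1970)))) (.node (.node (.node (.node (.leaf 100) (.leaf 2045)) (.leaf 1364)) (.node (.leaf 721) (.leaf 1822))) (.node (.node (.leaf 304) (.leaf 1618)) (.node (.leaf 740) (.leaf 1947))))) (.node (.node (.node (.node (.node (.leaf 96) (.leaf 2136)) (.leaf 909)) (.node (.leaf 465) (.leaf 1400))) (.node (.node (.leaf 419) (.leaf 1149)) (.node (.leaf 1016) (.leaf 1862)))) (.node (.node (.node (.node (.leaf 151) (.leaf 2177)) (.leaf 1433)) (.node (.leaf 871) (.leaf 1537))) (.node (.node (.leaf 571) (.leaf 1264)) (.node (.leaf 792) (.leaf 1819)))))) (.node (.node (.node (.node (.node (.node (.leaf 54) (.leaf 1932)) (.leaf 1256)) (.node (.leaf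 438) (.leaf 1370))) (.node (.node (.leaf 380) (.leaf 1530)) (.node (.leaf 661) (.leaf 1860)))) (.node (.node (.node (.node (.leaf 220) (.leaf 2093)) (.leaf 1006)) (.node (.leaf 829) (.leaf 1507))) (.node (.node (.leaf 534) (.leaf 1236)) (.node (.leaf 768) (.leaf 1810))))) (.node (.node (.node (.node (.node (.leaf 77) (.leaf 2235)) (.leaf 937)) (.node (.leaf 493) (.leaf 1638))) (.node (.node (.leaf 458) (.leaf 1590)) (.node (.leaf 711) (.leaf 2053)))) (.node (.node (.node (.node (.leaf 175) (.leaf 2294)) (.leaf 1455)) (.node (.leaf 621) (.leaf 1914))) (.node (.node (.leaf 386) (.leaf 1709)) (.node (.leaf 823) (.leaf 2168))))))) (.node (.node (.node (.node (.node (.node (.node (.leaf 16) (.leaf 2201)) (.leaf 882)) (.node (.leaf 664) (.leaf 1352))) (.node (.node (.leaf 215) (.leaf 1110)) (.node (.leaf 648) (.leaf 1621)))) (.node (.node (.node (.node (.leaf 199) (.leaf 2069)) (.leaf 984)) (.node (.leaf 540) (.leaf 1877))) (.node (.node (.leaf 514) (.leaf 1628))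 (.node (.leaf 1108) (.leaf 1764))))) (.node (.node (.node (.node (.node (.leaf 64) (.leaf 1989)) (.leaf 1304)) (.node (.leaf 479) (.leaf 1416))) (.node (.node (.leaf 267) (.leaf 1161)) (.node (.leaf 699) (.leaf 1689)))) (.node (.node (.node (.node (.leaf 279) (.leaf 2203)) (.leaf 1450)) (.node (.leaf 888) (.leaf 1929))) (.node (.node (.leaf 373) (.leaf 1284)) (.node (.leaf 1174) (.leaf 1841)))))) (.node (.node (.node (.node (.node (.node (.leaf 75) (.leaf 2102)) (.leaf 895)) (.node (.leaf 451) (.leaf 1502))) (.node (.node (.leaf 242) (.leaf 1545)) (.node (.leaf 999) (.leaf 1654)))) (.node (.node (.node (.node (.leaf 138) (.leaf 2266)) (.leaf 1012)) (.node (.leaf 564) (.leaf 1904))) (.node (.node (.leaf 552) (.leaf 1663)) (.node (.leaf 1142) (.leaf 2124))))) (.node (.node (.node (.node (.node (.leaf 89) (.leaf 2137)) (.leaf 952)) (.node (.leaf 773) (.leaf 1451))) (.node (.node (.leaf 473) (.leaf 1324)) (.node (.leaf 1068) (.leaf 2065)))) (.node (.node (.node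 (.node (.leaf 318) (.leaf 2301)) (.leaf 1487)) (.node (.leaf 925) (.leaf 1589))) (.node (.node (.leaf 626) (.leaf 1724)) (.node (.leaf 838) (.leaf 1881)))))))) (.node (.node (.node (.node (.node (.node (.node (.node (.leaf 10) (.leaf 1909)) (.leaf 1235)) (.node (.leaf 417) (.leaf 1754))) (.node (.node (.leaf 207) (.leaf 1104)) (.node (.leaf 955) (.leaf 1612)))) (.node (.node (.node (.node (.leaf 107) (.leaf 2057)) (.leaf 975)) (.node (.leaf 528) (.leaf 1482))) (.node (.node (.leaf 310) (.leaf 1632)) (.node (.leaf 1098) (.leaf 2090))))) (.node (.node (.node (.node (.node (.leaf 58) (.leaf 1978)) (.leaf 915)) (.node (.leaf 472) (.leaf 1809))) (.node (.node (.leaf 261) (.leaf 1154)) (.node (.leaf 693) (.leaf 2033)))) (.node (.node (.node (.node (.leaf 271) (.leaf 2197)) (.leaf 1442)) (.node (.leaf 587) (.leaf 1922))) (.node (.node (.leaf 580) (.leaf 1271)) (.node (.leaf 1167) (.leaf 2146)))))) (.node (.node (.node (.node (.node (.node (.leaf 34) (.leaf 1941))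 (.leaf 889)) (.node (.leaf 560) (.leaf 1376))) (.node (.node (.leaf 235) (.leaf 1130)) (.node (.leaf 668) (.leaf 2005)))) (.node (.node (.node (.node (.leaf 231) (.leaf 2140)) (.leaf 1406)) (.node (.leaf 556) (.leaf 1514))) (.node (.node (.leaf 542) (.leaf 1255)) (.node (.leaf 774) (.leaf 1793))))) (.node (.node (.node (.node (.node (.leaf 149) (.leaf 2115)) (.leaf 1334)) (.node (.leaf 762) (.leaf 1441))) (.node (.node (.leaf 286) (.leaf 1599)) (.node (.leaf 718) (.leaf 1718)))) (.node (.node (.node (.node (.leaf 181) (.leaf 2262)) (.leaf 1477)) (.node (.leaf 893) (.leaf 1952))) (.node (.node (.leaf 392) (.leaf 1307)) (.node (.leaf 1200) (.leaf 1869))))))) (.node (.node (.node (.node (.node (.node (.node (.leaf 22) (.leaf 1925)) (.leaf 875)) (.node (.leaf 672) (.leaf 1768))) (.node (.node (.leaf 369) (.leaf 1522)) (.node (.leaf 654) (.leaf 1653)))) (.node (.node (.node (.node (.leaf 209) (.leaf 2080)) (.leaf 1389)) (.node (.leaf 819) (.leaf 1833))) (.node (.node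 (.leaf 525) (.leaf 1228)) (.node (.leaf 761) (.leaf 1836))))) (.node (.node (.node (.node (.node (.leaf 128) (.leaf 2049)) (.leaf 1315)) (.node (.leaf 486) (.leaf 1824))) (.node (.node (.leaf 449) (.leaf 1169)) (.node (.leaf 705) (.leaf 2044)))) (.node (.node (.node (.node (.leaf 169) (.leaf 2216)) (.leaf 1461)) (.node (.leaf 601) (.leaf 1556))) (.node (.node (.leaf 599) (.leaf 1291)) (.node (.leaf 814) (.leaf 1848)))))) (.node (.node (.node (.node (.node (.node (.leaf 46) (.leaf 2221)) (.leaf 1280)) (.node (.leaf 467) (.leaf 1391))) (.node (.node (.leaf 410) (.leaf 1141)) (.node (.leaf 681) (.leaf 2022)))) (.node (.node (.node (.node (.leaf 250) (.leaf 2278)) (.leaf 1021)) (.node (.leaf 860) (.leaf 1910))) (.node (.node (.leaf 562) (.leaf 1257)) (.node (.leaf 786) (.leaf 1806))))) (.node (.node (.node (.node (.node (.leaf 170) (.leaf 2245)) (.leaf 1354)) (.node (.leaf 513) (.leaf 1463))) (.node (.node (.leaf 298) (.leaf 1616)) (.node (.leaf 1079) (.leaf 1740))))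 (.node (.node (.node (.node (.leaf 195) (.leaf 2302)) (.leaf 1494)) (.node (.leaf 933) (.leaf 1598))) (.node (.node (.leaf 636) (.leaf 1732)) (.node (.leaf 846) (.leaf 2060))))))))

/-- data -/
def next0p15 : Trie (ℕ) := .node (.node (.node (.node (.node (.node (.node (.node (.node (.leaf 1) (.leaf 2190)) (.leaf 697)) (.node (.leaf 544) (.leaf 1743))) (.node (.node (.leaf 338) (.leaf 907)) (.node (.leaf 945) (.leaf 1974)))) (.node (.node (.node (.node (.leaf 180) (.leaf 1949)) (.leaf 1365)) (.node (.leaf 790) (.leaf 1280))) (.node (.node (.leaf 494) (.leaf 1011)) (.node (.leaf 1090) (.leaf 2081))))) (.node (.node (.node (.node (.node (.leaf 37) (.leaf 1903)) (.leaf 1152)) (.node (.leaf 715) (.leaf 1801))) (.node (.node (.leaf 193) (.leaf 1558)) (.node (.leaf 1017) (.leaf 2027)))) (.node (.node (.node (.node (.leaf 261) (.leaf 2149)) (.leaf 1434)) (.node (.leaf 872) (.leaf 1384))) (.node (.node (.leaf 572) (.leaf 1677)) (.node (.leaf 1158) (.leaf 2137))))))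 (.node (.node (.node (.node (.node (.node (.leaf 19) (.leaf 2050)) (.leaf 719)) (.node (.leaf 681) (.leaf 1772))) (.node (.node (.leaf 172) (.leaf 1531)) (.node (.leaf 984) (.leaf 2001)))) (.node (.node (.node (.node (.leaf 92) (.leaf 2092)) (.leaf 1396)) (.node (.leaf 436) (.leaf 1892))) (.node (.node (.leaf 255) (.leaf 1653)) (.node (.leaf 1125) (.leaf 1588))))) (.node (.node (.node (.node (.node (.leaf 139) (.leaf 1838)) (.leaf 1324)) (.node (.leaf 752) (.leaf 1221))) (.node (.node (.leaf 459) (.leaf 1591)) (.node (.leaf 1051) (.leaf 1510)))) (.node (.node (.node (.node (.leaf 298) (.leaf 2218)) (.leaf 1469)) (.node (.leaf 906) (.leaf 1363))) (.node (.node (.leaf 450) (.leaf 1106)) (.node (.leaf 1191) (.leaf 2169))))))) (.node (.node (.node (.node (.node (.node (.node (.leaf 33) (.leaf 1957)) (.leaf 1242)) (.node (.leaf 665) (.leaf 1474))) (.node (.node (.leaf 359) (.leaf 1515)) (.node (.leaf 966) (.leaf 1989)))) (.node (.node (.node (.node (.leaf 200) (.leaf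 2259)) (.leaf 1378)) (.node (.leaf 810) (.leaf 1273))) (.node (.node (.leaf 245) (.leaf 1639)) (.node (.leaf 616) (.leaf 2098))))) (.node (.node (.node (.node (.node (.leaf 117) (.leaf 2133)) (.leaf 1305)) (.node (.leaf 733) (.leaf 1818))) (.node (.node (.leaf 439) (.leaf 1571)) (.node (.leaf 1033) (.leaf 1580)))) (.node (.node (.node (.node (.leaf 121) (.leaf 2144)) (.leaf 1379)) (.node (.leaf 889) (.leaf 1339))) (.node (.node (.leaf 590) (.leaf 1691)) (.node (.leaf 659) (.leaf 2154)))))) (.node (.node (.node (.node (.node (.node (.leaf 76) (.leaf 2116)) (.leaf 1272)) (.node (.leaf 698) (.leaf 1179))) (.node (.node (.leaf 400) (.leaf 943)) (.node (.leaf 545) (.leaf 2014)))) (.node (.node (.node (.node (.leaf 242) (.leaf 2257)) (.leaf 1416)) (.node (.leaf 851) (.leaf 1816))) (.node (.node (.leaf 553) (.leaf 1055)) (.node (.leaf 637) (.leaf 2125))))) (.node (.node (.node (.node (.node (.leaf 160) (.leaf 2112)) (.leaf 1346)) (.node (.leaf 401) (.leaf 1849)))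 (.node (.node (.leaf 474) (.leaf 1606)) (.node (.leaf 1069) (.leaf 1530)))) (.node (.node (.node (.node (.leaf 319) (.leaf 2301)) (.leaf 894)) (.node (.leaf 497) (.leaf 1912))) (.node (.node (.leaf 309) (.leaf 1118)) (.node (.leaf 847) (.leaf 2179)))))))) (.node (.node (.node (.node (.node (.node (.node (.node (.leaf 22) (.leaf 2076)) (.leaf 1236)) (.node (.leaf 654) (.leaf 1142))) (.node (.node (.leaf 348) (.leaf 1507)) (.node (.leaf 515) (.leaf 1984)))) (.node (.node (.node (.node (.leaf 191) (.leaf 2007)) (.leaf 1373)) (.node (.leaf 801) (.leaf 1871))) (.node (.node (.leaf 504) (.leaf 1018)) (.node (.leaf 611) (.leaf 1554))))) (.node (.node (.node (.node (.node (.leaf 107) (.leaf 1996)) (.leaf 1294)) (.node (.leaf 723) (.leaf 1461))) (.node (.node (.leaf 428) (.leaf 1563)) (.node (.leaf 1024) (.leaf 2034)))) (.node (.node (.node (.node (.leaf 272) (.leaf 2253)) (.leaf 1443)) (.node (.leaf 880) (.leaf 1333))) (.node (.node (.leaf 284) (.leaf 1685)) (.node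 (.leaf 653) (.leaf 2147)))))) (.node (.node (.node (.node (.node (.node (.leaf 64) (.leaf 1840)) (.leaf 1263)) (.node (.leaf 347) (.leaf 1276))) (.node (.node (.leaf 390) (.leaf 1509)) (.node (.leaf 992) (.leaf 1438)))) (.node (.node (.node (.node (.leaf 232) (.leaf 1973)) (.leaf 829)) (.node (.leaf 839) (.leaf 1575))) (.node (.node (.leaf 262) (.leaf 1048)) (.node (.leaf 1135) (.leaf 2115))))) (.node (.node (.node (.node (.node (.leaf 150) (.leaf 2239)) (.leaf 1335)) (.node (.leaf 396) (.leaf 1842))) (.node (.node (.leaf 465) (.leaf 993)) (.node (.leaf 1061) (.leaf 1971)))) (.node (.node (.node (.node (.leaf 308) (.leaf 2287)) (.leaf 1478)) (.node (.leaf 492) (.leaf 1879))) (.node (.node (.leaf 618) (.leaf 1716)) (.node (.leaf 1201) (.leaf 2175))))))) (.node (.node (.node (.node (.node (.node (.node (.leaf 43) (.leaf 2046)) (.leaf 1249)) (.node (.leaf 673) (.leaf 1769))) (.node (.node (.leaf 370) (.leaf 1523)) (.node (.leaf 976) (.leaf 1835)))) (.node (.node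 (.node (.node (.leaf 210) (.leaf 2266)) (.leaf 815)) (.node (.leaf 430) (.leaf 1432))) (.node (.node (.leaf 250) (.leaf 1360)) (.node (.leaf 1117) (.leaf 2102))))) (.node (.node (.node (.node (.node (.leaf 129) (.leaf 2193)) (.leaf 762)) (.node (.leaf 667) (.leaf 1825))) (.node (.node (.leaf 209) (.leaf 1582)) (.node (.leaf 1043) (.leaf 1500)))) (.node (.node (.node (.node (.leaf 289) (.leaf 2271)) (.leaf 873)) (.node (.leaf 898) (.leaf 1938))) (.node (.node (.leaf 294) (.leaf 1698)) (.node (.leaf 1182) (.leaf 2161)))))) (.node (.node (.node (.node (.node (.node (.leaf 86) (.leaf 2222)) (.leaf 738)) (.node (.leaf 707) (.leaf 1793))) (.node (.node (.leaf 188) (.leaf 1549)) (.node (.leaf 1007) (.leaf 1462)))) (.node (.node (.node (.node (.leaf 251) (.leaf 2013)) (.leaf 1156)) (.node (.leaf 861) (.leaf 1911))) (.node (.node (.leaf 383) (.leaf 1671)) (.node (.leaf 678) (.leaf 2106))))) (.node (.node (.node (.node (.node (.leaf 69) (.leaf 2225)) (.leaf 1355)) (.node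 (.leaf 593) (.leaf 1459))) (.node (.node (.leaf 349) (.leaf 1617)) (.node (.leaf 599) (.leaf 2071)))) (.node (.node (.node (.node (.leaf 329) (.leaf 2297)) (.leaf 900)) (.node (.leaf 934) (.leaf 1465))) (.node (.node (.leaf 314) (.leaf 1733)) (.node (.leaf 1219) (.leaf 1700))))))))

/-- data -/
def next0 : Trie (ℕ) := .node (.node (.node (.node (next0p0) (next0p8)) (.node (next0p4) (next0p12))) (.node (.node (next0p2) (next0p10)) (.node (next0p6) (next0p14)))) (.node (.node (.node (next0p1) (next0p9)) (.node (next0p5) (next0p13))) (.node (.node (next0p3) (next0p11)) (.node (next0p7) (next0p15))))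

/-- data -/
def prev0p0 : Trie (ℕ) := .node (.node (.node (.node (.node (.node (.node (.node (.node (.leaf 1) (.leaf 2182)) (.leaf 1220)) (.node (.leaf 637) (.leaf 1734))) (.node (.node (.leaf 241) (.leaf 1087)) (.node (.leaf 935) (.leaf 1648)))) (.node (.node (.node (.node (.leaf 95) (.leaf 2034)) (.leaf 961)) (.node (.leaf 781) (.leaf 1464))) (.node (.node (.leaf 484) (.leaf 1201)) (.node (.leaf 734) (.leaf 2072))))) (.node (.node (.node (.node (.node (.leaf 87) (.leaf 1964)) (.leaf 902)) (.node (.leaf 708) (.leaf 1393))) (.node (.node (.leaf 411) (.leaf 1550)) (.node (.leaf 1008) (.leaf 1891)))) (.node (.node (.node (.node (.leaf 144) (.leaf 2160)) (.leaf 1045)) (.node (.leaf 572) (.leaf 1532))) (.node (.node (.leaf 563) (.leaf 1258)) (.node (.leaf 787) (.leaf 2132)))))) (.node (.node (.node (.node (.node (.node (.leaf 44) (.leaf 2207)) (.leaf 1250)) (.node (.leaf 433) (.leaf 1365))) (.node (.node (.leaf 222) (.leaf 1116)) (.node (.leaf 977) (.leaf 1631))))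 (.node (.node (.node (.node (.leaf 211) (.leaf 2267)) (.leaf 1390)) (.node (.leaf 543) (.leaf 1886))) (.node (.node (.leaf 507) (.leaf 1230)) (.node (.leaf 1118) (.leaf 1775))))) (.node (.node (.node (.node (.node (.leaf 71) (.leaf 1997)) (.leaf 929)) (.node (.leaf 488) (.leaf 1423))) (.node (.node (.leaf 450) (.leaf 1583)) (.node (.leaf 1044) (.leaf 1902)))) (.node (.node (.node (.node (.leaf 290) (.leaf 2285)) (.leaf 1064)) (.node (.leaf 602) (.leaf 1939))) (.node (.node (.leaf 600) (.leaf 1699)) (.node (.leaf 828) (.leaf 2162))))))) (.node (.node (.node (.node (.node (.node (.node (.leaf 23) (.leaf 2075)) (.leaf 861)) (.node (.leaf 655) (.leaf 1346))) (.node (.node (.leaf 349) (.leaf 1105)) (.node (.leaf 956) (.leaf 1614)))) (.node (.node (.node (.node (.leaf 192) (.leaf 2222)) (.leaf 976)) (.node (.leaf 529) (.leaf 1865))) (.node (.node (.leaf 505) (.leaf 1213)) (.node (.leaf 1093) (.leaf 1758))))) (.node (.node (.node (.node (.node (.leaf 108) (.leaf 2225))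 (.leaf 1295)) (.node (.leaf 474) (.leaf 1407))) (.node (.node (.leaf 429) (.leaf 1155)) (.node (.leaf 906) (.leaf 1681)))) (.node (.node (.node (.node (.leaf 158) (.leaf 2187)) (.leaf 1037)) (.node (.leaf 881) (.leaf 1544))) (.node (.node (.leaf 581) (.leaf 1283)) (.node (.leaf 1168) (.leaf 1830)))))) (.node (.node (.node (.node (.node (.node (.leaf 65) (.leaf 2067)) (.leaf 890)) (.node (.leaf 559) (.leaf 1778))) (.node (.node (.leaf 391) (.leaf 1131)) (.node (.leaf 993) (.leaf 1646)))) (.node (.node (.node (.node (.leaf 132) (.leaf 2189)) (.leaf 1007)) (.node (.leaf 840) (.leaf 1898))) (.node (.node (.leaf 338) (.leaf 1244)) (.node (.leaf 1013) (.leaf 2116))))) (.node (.node (.node (.node (.node (.leaf 83) (.leaf 2240)) (.leaf 1336)) (.node (.leaf 763) (.leaf 1792))) (.node (.node (.leaf 466) (.leaf 1484)) (.node (.leaf 1062) (.leaf 1719)))) (.node (.node (.node (.node (.leaf 309) (.leaf 2264)) (.leaf 1479)) (.node (.leaf 916) (.leaf 1581))) (.node (.node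 (.leaf 619) (.leaf 1340)) (.node (.leaf 832) (.leaf 2164)))))))) (.node (.node (.node (.node (.node (.node (.node (.node (.leaf 12) (.leaf 2055)) (.leaf 854)) (.node (.leaf 645) (.leaf 1744))) (.node (.node (.leaf 339) (.leaf 1499)) (.node (.leaf 946) (.leaf 1606)))) (.node (.node (.node (.node (.leaf 101) (.leaf 2253)) (.leaf 969)) (.node (.leaf 791) (.leaf 1473))) (.node (.node (.leaf 495) (.leaf 1623)) (.node (.leaf 1091) (.leaf 2082))))) (.node (.node (.node (.node (.node (.leaf 53) (.leaf 1972)) (.leaf 945)) (.node (.leaf 716) (.leaf 1802))) (.node (.node (.leaf 420) (.leaf 1559)) (.node (.leaf 688) (.leaf 1674)))) (.node (.node (.node (.node (.leaf 262) (.leaf 2178)) (.leaf 1435)) (.node (.leaf 820) (.leaf 1771))) (.node (.node (.leaf 573) (.leaf 1656)) (.node (.leaf 793) (.leaf 2138)))))) (.node (.node (.node (.node (.node (.node (.leaf 29) (.leaf 2210)) (.leaf 1248)) (.node (.leaf 439) (.leaf 1377))) (.node (.node (.leaf 229) (.leaf 1123)) (.node (.leaf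 865) (.leaf 1640)))) (.node (.node (.node (.node (.leaf 221) (.leaf 2271)) (.leaf 1397)) (.node (.leaf 830) (.leaf 1893))) (.node (.node (.leaf 330) (.leaf 1238)) (.node (.leaf 1126) (.leaf 1784))))) (.node (.node (.node (.node (.node (.leaf 140) (.leaf 2024)) (.leaf 1325)) (.node (.leaf 494) (.leaf 1832))) (.node (.node (.leaf 280) (.leaf 1180)) (.node (.leaf 1052) (.leaf 2054)))) (.node (.node (.node (.node (.leaf 299) (.leaf 2296)) (.leaf 1063)) (.node (.leaf 907) (.leaf 1567))) (.node (.node (.leaf 608) (.leaf 1300)) (.node (.leaf 824) (.leaf 2152))))))) (.node (.node (.node (.node (.node (.node (.node (.leaf 17) (.leaf 1920)) (.leaf 869)) (.node (.leaf 425) (.leaf 1763))) (.node (.node (.leaf 360) (.leaf 1111)) (.node (.leaf 967) (.leaf 1622)))) (.node (.node (.node (.node (.leaf 113) (.leaf 2260)) (.leaf 1379)) (.node (.leaf 535) (.leaf 1492))) (.node (.node (.leaf 515) (.leaf 1222)) (.node (.leaf 1031) (.leaf 1765))))) (.node (.node (.node (.node (.node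 (.leaf 118) (.leaf 2119)) (.leaf 1306)) (.node (.leaf 480) (.leaf 1513))) (.node (.node (.leaf 440) (.leaf 1572)) (.node (.leaf 1034) (.leaf 1690)))) (.node (.node (.node (.node (.leaf 260) (.leaf 2288)) (.leaf 1046)) (.node (.leaf 596) (.leaf 1549))) (.node (.node (.leaf 591) (.leaf 1355)) (.node (.leaf 1175) (.leaf 2155)))))) (.node (.node (.node (.node (.node (.node (.leaf 41) (.leaf 1953)) (.leaf 1273)) (.node (.leaf 452) (.leaf 1785))) (.node (.node (.leaf 401) (.leaf 1136)) (.node (.leaf 1000) (.leaf 2015)))) (.node (.node (.node (.node (.leaf 243) (.leaf 2147)) (.leaf 1014)) (.node (.leaf 852) (.leaf 1523))) (.node (.node (.leaf 344) (.leaf 1664)) (.node (.leaf 1143) (.leaf 1801))))) (.node (.node (.node (.node (.node (.leaf 161) (.leaf 2023)) (.leaf 953)) (.node (.leaf 508) (.leaf 1480))) (.node (.node (.leaf 292) (.leaf 1607)) (.node (.leaf 727) (.leaf 1729)))) (.node (.node (.node (.node (.leaf 189) (.leaf 2280)) (.leaf 1338)) (.node (.leaf 622) (.leaf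 1960))) (.node (.node (.leaf 627) (.leaf 1725)) (.node (.leaf 839) (.leaf 1883))))))))

/-- data -/
def prev0p1 : Trie (ℕ) := .node (.node (.node (.node (.node (.node (.node (.node (.node (.leaf 5) (.leaf 1890)) (.leaf 847)) (.node (.leaf 405) (.leaf 1326))) (.node (.node (.leaf 195) (.leaf 1671)) (.node (.leaf 627) (.leaf 1598)))) (.node (.node (.node (.node (.leaf 227) (.leaf 2280)) (.leaf 1095)) (.node (.leaf 513) (.leaf 1630))) (.node (.node (.leaf 298) (.leaf 1812)) (.node (.leaf 1274) (.leaf 1741))))) (.node (.node (.node (.node (.node (.leaf 47) (.leaf 2167)) (.leaf 1088)) (.node (.leaf 458) (.leaf 1789))) (.node (.node (.leaf 248) (.leaf 1141)) (.node (.leaf 681) (.leaf 1664)))) (.node (.node (.node (.node (.leaf 325) (.leaf 2218)) (.leaf 1021)) (.node (.leaf 1042) (.leaf 1728))) (.node (.node (.leaf 350) (.leaf 1675)) (.node (.leaf 1355) (.leaf 1807)))))) (.node (.node (.node (.node (.node (.node (.leaf 22) (.leaf 1926)) (.leaf 875)) (.node (.leaf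 519) (.leaf 1779))) (.node (.node (.leaf 469) (.leaf 1317)) (.node (.leaf 654) (.leaf 2142)))) (.node (.node (.node (.node (.leaf 119) (.leaf 2080)) (.leaf 993)) (.node (.leaf 997) (.leaf 1500))) (.node (.node (.leaf 323) (.leaf 1841)) (.node (.leaf 762) (.leaf 2116))))) (.node (.node (.node (.node (.node (.leaf 174) (.leaf 2263)) (.leaf 1528)) (.node (.leaf 906) (.leaf 1997))) (.node (.node (.leaf 274) (.leaf 1171)) (.node (.leaf 705) (.leaf 1699)))) (.node (.node (.node (.node (.leaf 169) (.leaf 2227)) (.leaf 1054)) (.node (.leaf 1085) (.leaf 1557))) (.node (.node (.leaf 380) (.leaf 1291)) (.node (.leaf 815) (.leaf 1849))))))) (.node (.node (.node (.node (.node (.node (.node (.leaf 10) (.leaf 1910)) (.leaf 1253)) (.node (.leaf 417) (.leaf 1442))) (.node (.node (.leaf 207) (.leaf 1706)) (.node (.leaf 642) (.leaf 2037)))) (.node (.node (.node (.node (.leaf 107) (.leaf 2057)) (.leaf 1581)) (.node (.leaf 980) (.leaf 1483))) (.node (.node (.leaf 311) (.leaf 1828))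 (.node (.leaf 747) (.leaf 1938))))) (.node (.node (.node (.node (.node (.leaf 59) (.leaf 1978)) (.leaf 915)) (.node (.leaf 885) (.leaf 1986))) (.node (.node (.leaf 261) (.leaf 1439)) (.node (.leaf 693) (.leaf 1862)))) (.node (.node (.node (.node (.leaf 297) (.leaf 2226)) (.leaf 1648)) (.node (.leaf 587) (.leaf 2077))) (.node (.node (.leaf 366) (.leaf 1272)) (.node (.leaf 799) (.leaf 1998)))))) (.node (.node (.node (.node (.node (.node (.leaf 34) (.leaf 1941)) (.leaf 1140)) (.node (.leaf 445) (.leaf 1377))) (.node (.node (.leaf 235) (.leaf 1634)) (.node (.leaf 668) (.leaf 2095)))) (.node (.node (.node (.node (.leaf 301) (.leaf 2123)) (.leaf 1617)) (.node (.leaf 556) (.leaf 1515))) (.node (.node (.leaf 673) (.leaf 1852)) (.node (.leaf 774) (.leaf 1793))))) (.node (.node (.node (.node (.node (.leaf 200) (.leaf 2014)) (.leaf 945)) (.node (.leaf 501) (.leaf 1444))) (.node (.node (.leaf 286) (.leaf 1185)) (.node (.leaf 719) (.leaf 1893)))) (.node (.node (.node (.node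 (.leaf 181) (.leaf 2299)) (.leaf 1072)) (.node (.leaf 615) (.leaf 2105))) (.node (.node (.leaf 393) (.leaf 1308)) (.node (.leaf 1410) (.leaf 1870)))))))) (.node (.node (.node (.node (.node (.node (.node (.node (.leaf 4) (.leaf 1899)) (.leaf 972)) (.node (.leaf 411) (.leaf 1334))) (.node (.node (.leaf 201) (.leaf 1097)) (.node (.leaf 634) (.leaf 2125)))) (.node (.node (.node (.node (.leaf 240) (.leaf 2050)) (.leaf 1570)) (.node (.leaf 522) (.leaf 1872))) (.node (.node (.leaf 305) (.leaf 1207)) (.node (.leaf 741) (.leaf 1750))))) (.node (.node (.node (.node (.node (.leaf 132) (.leaf 2265)) (.leaf 909)) (.node (.leaf 465) (.leaf 1401))) (.node (.node (.leaf 254) (.leaf 1149)) (.node (.leaf 1043) (.leaf 1858)))) (.node (.node (.node (.node (.leaf 151) (.leaf 2235)) (.leaf 1027)) (.node (.leaf 580) (.leaf 1538))) (.node (.node (.leaf 357) (.leaf 1265)) (.node (.leaf 1365) (.leaf 1819)))))) (.node (.node (.node (.node (.node (.node (.leaf 76) (.leaf 1933)) (.leaf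 881)) (.node (.leaf 834) (.leaf 1371))) (.node (.node (.leaf 482) (.leaf 1729)) (.node (.leaf 661) (.leaf 2108)))) (.node (.node (.node (.node (.leaf 125) (.leaf 2093)) (.leaf 1000)) (.node (.leaf 550) (.leaf 1507))) (.node (.node (.leaf 665) (.leaf 1848)) (.node (.leaf 768) (.leaf 1832))))) (.node (.node (.node (.node (.node (.leaf 77) (.leaf 2005)) (.leaf 937)) (.node (.leaf 919) (.leaf 1435))) (.node (.node (.leaf 360) (.leaf 1735)) (.node (.leaf 711) (.leaf 1709)))) (.node (.node (.node (.node (.leaf 175) (.leaf 2246)) (.leaf 1670)) (.node (.leaf 609) (.leaf 2099))) (.node (.node (.leaf 386) (.leaf 1724)) (.node (.leaf 1398) (.leaf 1860))))))) (.node (.node (.node (.node (.node (.node (.node (.leaf 48) (.leaf 2094)) (.leaf 1455)) (.node (.leaf 813) (.leaf 1353))) (.node (.node (.leaf 216) (.leaf 1713)) (.node (.leaf 648) (.leaf 1719)))) (.node (.node (.node (.node (.leaf 264) (.leaf 2070)) (.leaf 985)) (.node (.leaf 988) (.leaf 1659))) (.node (.node (.leaf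 317) (.leaf 1695)) (.node (.leaf 754) (.leaf 1944))))) (.node (.node (.node (.node (.node (.leaf 64) (.leaf 1989)) (.leaf 923)) (.node (.leaf 897) (.leaf 1416))) (.node (.node (.leaf 267) (.leaf 1161)) (.node (.leaf 699) (.leaf 2150)))) (.node (.node (.node (.node (.leaf 163) (.leaf 2203)) (.leaf 1656)) (.node (.leaf 1073) (.leaf 2086))) (.node (.node (.leaf 374) (.leaf 1284)) (.node (.leaf 807) (.leaf 1842)))))) (.node (.node (.node (.node (.node (.node (.leaf 104) (.leaf 1984)) (.leaf 896)) (.node (.leaf 856) (.leaf 1384))) (.node (.node (.leaf 242) (.leaf 1747)) (.node (.leaf 675) (.leaf 1654)))) (.node (.node (.node (.node (.leaf 138) (.leaf 2177)) (.leaf 1626)) (.node (.leaf 565) (.leaf 2060))) (.node (.node (.leaf 685) (.leaf 1250)) (.node (.leaf 780) (.leaf 1837))))) (.node (.node (.node (.node (.node (.leaf 89) (.leaf 2165)) (.leaf 1259)) (.node (.leaf 944) (.leaf 1451))) (.node (.node (.leaf 594) (.leaf 1194)) (.node (.leaf 1262) (.leaf 1783)))) (.node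 (.node (.node (.node (.leaf 412) (.leaf 2290)) (.leaf 1079)) (.node (.leaf 1116) (.leaf 1590))) (.node (.node (.leaf 399) (.leaf 1316)) (.node (.leaf 1420) (.leaf 2084))))))))

/-- data -/
def prev0p2 : Trie (ℕ) := .node (.node (.node (.node (.node (.node (.node (.node (.node (.leaf 0) (.leaf 2143)) (.leaf 1221)) (.node (.leaf 639) (.leaf 1735))) (.node (.node (.leaf 196) (.leaf 1089)) (.node (.leaf 628) (.leaf 1967)))) (.node (.node (.node (.node (.leaf 172) (.leaf 2247)) (.leaf 1357)) (.node (.leaf 782) (.leaf 1685))) (.node (.node (.leaf 485) (.leaf 1202)) (.node (.leaf 1081) (.leaf 2073))))) (.node (.node (.node (.node (.node (.leaf 48) (.leaf 2110)) (.leaf 1281)) (.node (.leaf 459) (.leaf 1395))) (.node (.node (.leaf 249) (.leaf 1148)) (.node (.leaf 682) (.leaf 1666)))) (.node (.node (.node (.node (.leaf 145) (.leaf 2217)) (.leaf 1022)) (.node (.leaf 863) (.leaf 1912))) (.node (.node (.leaf 351) (.leaf 1672)) (.node (.leaf 1152) (.leaf 2129)))))) (.node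 (.node (.node (.node (.node (.node (.leaf 45) (.leaf 2036)) (.leaf 876)) (.node (.leaf 434) (.leaf 1366))) (.node (.node (.leaf 372) (.leaf 1525)) (.node (.leaf 964) (.leaf 1995)))) (.node (.node (.node (.node (.leaf 120) (.leaf 2086)) (.leaf 994)) (.node (.leaf 821) (.leaf 1789))) (.node (.node (.leaf 527) (.leaf 1647)) (.node (.leaf 1120) (.leaf 2104))))) (.node (.node (.node (.node (.node (.leaf 131) (.leaf 1998)) (.leaf 1317)) (.node (.leaf 489) (.leaf 1827))) (.node (.node (.leaf 275) (.leaf 1576)) (.node (.leaf 808) (.leaf 2046)))) (.node (.node (.node (.node (.leaf 291) (.leaf 2228)) (.leaf 1462)) (.node (.leaf 900) (.leaf 1558))) (.node (.node (.leaf 381) (.leaf 1700)) (.node (.leaf 816) (.leaf 2163))))))) (.node (.node (.node (.node (.node (.node (.node (.leaf 24) (.leaf 1911)) (.leaf 862)) (.node (.leaf 656) (.leaf 1756))) (.node (.node (.leaf 350) (.leaf 1509)) (.node (.leaf 643) (.leaf 1615)))) (.node (.node (.node (.node (.leaf 193) (.leaf 2058))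 (.leaf 1375)) (.node (.leaf 530) (.leaf 1872))) (.node (.node (.leaf 312) (.leaf 1634)) (.node (.leaf 1100) (.leaf 2091))))) (.node (.node (.node (.node (.node (.leaf 60) (.leaf 1985)) (.leaf 1296)) (.node (.leaf 475) (.leaf 1811))) (.node (.node (.leaf 430) (.leaf 1565)) (.node (.leaf 694) (.leaf 1682)))) (.node (.node (.node (.node (.leaf 159) (.leaf 2196)) (.leaf 1038)) (.node (.leaf 647) (.leaf 1817))) (.node (.node (.leaf 583) (.leaf 1686)) (.node (.leaf 800) (.leaf 2148)))))) (.node (.node (.node (.node (.node (.node (.leaf 66) (.leaf 2114)) (.leaf 1265)) (.node (.leaf 446) (.leaf 1378))) (.node (.node (.leaf 374) (.leaf 1538)) (.node (.leaf 669) (.leaf 2007)))) (.node (.node (.node (.node (.leaf 234) (.leaf 2128)) (.leaf 1408)) (.node (.leaf 827) (.leaf 1899))) (.node (.node (.leaf 544) (.leaf 1449)) (.node (.leaf 1096) (.leaf 1794))))) (.node (.node (.node (.node (.node (.leaf 152) (.leaf 2219)) (.leaf 1337)) (.node (.leaf 765) (.leaf 1445))) (.node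 (.node (.leaf 287) (.leaf 1600)) (.node (.leaf 720) (.leaf 1828)))) (.node (.node (.node (.node (.leaf 256) (.leaf 2265)) (.leaf 1073)) (.node (.leaf 918) (.leaf 1582))) (.node (.node (.leaf 394) (.leaf 1717)) (.node (.leaf 1203) (.leaf 1871)))))))) (.node (.node (.node (.node (.node (.node (.node (.node (.leaf 5) (.leaf 2191)) (.leaf 1229)) (.node (.leaf 412) (.leaf 1335))) (.node (.node (.leaf 340) (.leaf 1500)) (.node (.leaf 947) (.leaf 1976)))) (.node (.node (.node (.node (.leaf 182) (.leaf 2051)) (.leaf 1367)) (.node (.leaf 523) (.leaf 1475))) (.node (.node (.leaf 306) (.leaf 1625)) (.node (.leaf 742) (.leaf 1751))))) (.node (.node (.node (.node (.node (.leaf 98) (.leaf 2066)) (.leaf 1053)) (.node (.leaf 717) (.leaf 1803))) (.node (.node (.leaf 422) (.leaf 1150)) (.node (.leaf 1018) (.leaf 1680)))) (.node (.node (.node (.node (.leaf 263) (.leaf 2281)) (.leaf 1028)) (.node (.leaf 873) (.leaf 1539))) (.node (.node (.leaf 358) (.leaf 1266)) (.node (.leaf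 1160) (.leaf 2139)))))) (.node (.node (.node (.node (.node (.node (.leaf 56) (.leaf 2166)) (.leaf 883)) (.node (.leaf 683) (.leaf 1372))) (.node (.node (.leaf 382) (.leaf 1124)) (.node (.leaf 985) (.leaf 1695)))) (.node (.node (.node (.node (.leaf 223) (.leaf 2241)) (.leaf 1001)) (.node (.leaf 831) (.leaf 1508))) (.node (.node (.leaf 536) (.leaf 1457)) (.node (.leaf 1127) (.leaf 2109))))) (.node (.node (.node (.node (.node (.leaf 78) (.leaf 2006)) (.leaf 938)) (.node (.leaf 754) (.leaf 1436))) (.node (.node (.leaf 355) (.leaf 1181)) (.node (.leaf 713) (.leaf 1710)))) (.node (.node (.node (.node (.leaf 300) (.leaf 2249)) (.leaf 1471)) (.node (.leaf 610) (.leaf 1662))) (.node (.node (.leaf 609) (.leaf 1624)) (.node (.leaf 1193) (.leaf 1861))))))) (.node (.node (.node (.node (.node (.node (.node (.leaf 35) (.leaf 1921)) (.leaf 870)) (.node (.leaf 667) (.leaf 1362))) (.node (.node (.leaf 217) (.leaf 1517)) (.node (.leaf 968) (.leaf 1745)))) (.node (.node (.node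 (.node (.leaf 202) (.leaf 2071)) (.leaf 986)) (.node (.leaf 812) (.leaf 1879))) (.node (.node (.leaf 517) (.leaf 1223)) (.node (.leaf 884) (.leaf 1766))))) (.node (.node (.node (.node (.node (.leaf 119) (.leaf 2167)) (.leaf 1308)) (.node (.leaf 735) (.leaf 1417))) (.node (.node (.leaf 426) (.leaf 1573)) (.node (.leaf 1035) (.leaf 2039)))) (.node (.node (.node (.node (.leaf 281) (.leaf 2289)) (.leaf 1452)) (.node (.leaf 597) (.leaf 1931))) (.node (.node (.leaf 375) (.leaf 1692)) (.node (.leaf 809) (.leaf 1843)))))) (.node (.node (.node (.node (.node (.node (.leaf 42) (.leaf 2165)) (.leaf 897)) (.node (.leaf 700) (.leaf 1770))) (.node (.node (.leaf 402) (.leaf 1137)) (.node (.leaf 676) (.leaf 1859)))) (.node (.node (.node (.node (.leaf 139) (.leaf 2252)) (.leaf 1418)) (.node (.leaf 566) (.leaf 1524))) (.node (.node (.leaf 555) (.leaf 1251)) (.node (.leaf 1144) (.leaf 2059))))) (.node (.node (.node (.node (.node (.leaf 90) (.leaf 2243)) (.leaf 1066)) (.node (.leaf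 550) (.leaf 1850))) (.node (.node (.leaf 293) (.leaf 1195)) (.node (.leaf 1071) (.leaf 1731)))) (.node (.node (.node (.node (.leaf 321) (.leaf 2283)) (.leaf 1080)) (.node (.leaf 927) (.leaf 1592))) (.node (.node (.leaf 400) (.leaf 1318)) (.node (.leaf 1211) (.leaf 1962))))))))

/-- data -/
def prev0p3 : Trie (ℕ) := .node (.node (.node (.node (.node (.node (.node (.node (.node (.leaf 7) (.leaf 1891)) (.leaf 849)) (.node (.leaf 406) (.leaf 1328))) (.node (.node (.leaf 425) (.leaf 1520)) (.node (.leaf 1128) (.leaf 1599)))) (.node (.node (.node (.node (.leaf 95) (.leaf 2035)) (.leaf 962)) (.node (.leaf 515) (.leaf 1464))) (.node (.node (.leaf 299) (.leaf 1813)) (.node (.leaf 734) (.leaf 1742))))) (.node (.node (.node (.node (.node (.leaf 120) (.leaf 1965)) (.leaf 902)) (.node (.leaf 869) (.leaf 1877))) (.node (.node (.leaf 523) (.leaf 1142)) (.node (.leaf 1204) (.leaf 2169)))) (.node (.node (.node (.node (.leaf 327) (.leaf 2161)) (.leaf 1466)) (.node (.leaf 573)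 (.leaf 1532))) (.node (.node (.leaf 696) (.leaf 1258)) (.node (.leaf 787) (.leaf 1808)))))) (.node (.node (.node (.node (.node (.node (.leaf 23) (.leaf 1927)) (.leaf 1427)) (.node (.leaf 823) (.leaf 1393))) (.node (.node (.leaf 223) (.leaf 1117)) (.node (.leaf 655) (.leaf 1631)))) (.node (.node (.node (.node (.leaf 277) (.leaf 2259)) (.leaf 1036)) (.node (.leaf 543) (.leaf 1502))) (.node (.node (.leaf 324) (.leaf 1230)) (.node (.leaf 763) (.leaf 1776))))) (.node (.node (.node (.node (.node (.leaf 72) (.leaf 2257)) (.leaf 930)) (.node (.leaf 908) (.leaf 1424))) (.node (.node (.leaf 569) (.leaf 1172)) (.node (.leaf 706) (.leaf 1700)))) (.node (.node (.node (.node (.leaf 170) (.leaf 2298)) (.leaf 1055)) (.node (.leaf 602) (.leaf 2096))) (.node (.node (.leaf 737) (.leaf 1292)) (.node (.leaf 1391) (.leaf 1850))))))) (.node (.node (.node (.node (.node (.node (.node (.leaf 11) (.leaf 2046)) (.leaf 1449)) (.node (.leaf 418) (.leaf 1346))) (.node (.node (.leaf 209)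 (.leaf 1105)) (.node (.leaf 1150) (.leaf 1834)))) (.node (.node (.node (.node (.leaf 108) (.leaf 2143)) (.leaf 976)) (.node (.leaf 981) (.leaf 1484))) (.node (.node (.leaf 631) (.leaf 1214)) (.node (.leaf 748) (.leaf 1758))))) (.node (.node (.node (.node (.node (.leaf 148) (.leaf 1980)) (.leaf 916)) (.node (.leaf 639) (.leaf 1407))) (.node (.node (.leaf 262) (.leaf 1155)) (.node (.leaf 1222) (.leaf 1740)))) (.node (.node (.node (.node (.leaf 351) (.leaf 2231)) (.leaf 1650)) (.node (.leaf 588) (.leaf 1544))) (.node (.node (.leaf 367) (.leaf 1273)) (.node (.leaf 857) (.leaf 1831)))))) (.node (.node (.node (.node (.node (.node (.leaf 35) (.leaf 1942)) (.leaf 890)) (.node (.leaf 846) (.leaf 1568))) (.node (.node (.leaf 236) (.leaf 1131)) (.node (.leaf 1164) (.leaf 1646)))) (.node (.node (.node (.node (.leaf 133) (.leaf 2175)) (.leaf 1007)) (.node (.leaf 557) (.leaf 1516))) (.node (.node (.leaf 338) (.leaf 1244)) (.node (.leaf 775) (.leaf 1955))))) (.node (.node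 (.node (.node (.node (.leaf 84) (.leaf 2015)) (.leaf 946)) (.node (.leaf 502) (.leaf 2010))) (.node (.node (.leaf 586) (.leaf 1186)) (.node (.leaf 1257) (.leaf 1720)))) (.node (.node (.node (.node (.leaf 182) (.leaf 2288)) (.leaf 1678)) (.node (.leaf 616) (.leaf 2019))) (.node (.node (.leaf 759) (.leaf 1309)) (.node (.leaf 833) (.leaf 2213)))))))) (.node (.node (.node (.node (.node (.node (.node (.node (.leaf 21) (.leaf 1900)) (.leaf 855)) (.node (.leaf 790) (.leaf 1925))) (.node (.node (.leaf 202) (.leaf 1098)) (.node (.leaf 635) (.leaf 1607)))) (.node (.node (.node (.node (.leaf 101) (.leaf 2284)) (.leaf 970)) (.node (.leaf 969) (.leaf 2027))) (.node (.node (.leaf 620) (.leaf 1208)) (.node (.leaf 1188) (.leaf 2040))))) (.node (.node (.node (.node (.node (.leaf 53) (.leaf 1972)) (.leaf 910)) (.node (.leaf 466) (.leaf 1402))) (.node (.node (.leaf 255) (.leaf 1450)) (.node (.leaf 689) (.leaf 1674)))) (.node (.node (.node (.node (.leaf 152) (.leaf 2178)) (.leaf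 1642)) (.node (.leaf 581) (.leaf 1608))) (.node (.node (.leaf 707) (.leaf 1474)) (.node (.leaf 793) (.leaf 1820)))))) (.node (.node (.node (.node (.node (.node (.leaf 29) (.leaf 1934)) (.leaf 1473)) (.node (.leaf 439) (.leaf 1950))) (.node (.node (.leaf 230) (.leaf 1698)) (.node (.leaf 662) (.leaf 1640)))) (.node (.node (.node (.node (.leaf 126) (.leaf 2097)) (.leaf 1606)) (.node (.leaf 551) (.leaf 1682))) (.node (.node (.leaf 330) (.leaf 1238)) (.node (.leaf 769) (.leaf 1784))))) (.node (.node (.node (.node (.node (.leaf 189) (.leaf 2224)) (.leaf 1536)) (.node (.leaf 494) (.leaf 1809))) (.node (.node (.leaf 281) (.leaf 1786)) (.node (.leaf 1247) (.leaf 2056)))) (.node (.node (.node (.node (.leaf 176) (.leaf 2248)) (.leaf 1064)) (.node (.leaf 1096) (.leaf 1567))) (.node (.node (.leaf 387) (.leaf 1301)) (.node (.leaf 824) (.leaf 1880))))))) (.node (.node (.node (.node (.node (.node (.node (.leaf 17) (.leaf 2264)) (.leaf 1457)) (.node (.leaf 426) (.leaf 1354)))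 (.node (.node (.leaf 460) (.leaf 1111)) (.node (.leaf 649) (.leaf 1622)))) (.node (.node (.node (.node (.leaf 113) (.leaf 2269)) (.leaf 1349)) (.node (.leaf 535) (.leaf 1493))) (.node (.node (.leaf 318) (.leaf 1400)) (.node (.leaf 755) (.leaf 2152))))) (.node (.node (.node (.node (.node (.leaf 65) (.leaf 1991)) (.leaf 924)) (.node (.leaf 480) (.leaf 1992))) (.node (.node (.leaf 268) (.leaf 1162)) (.node (.leaf 700) (.leaf 1690)))) (.node (.node (.node (.node (.leaf 164) (.leaf 2206)) (.leaf 1046)) (.node (.leaf 1075) (.leaf 1549))) (.node (.node (.leaf 590) (.leaf 1285)) (.node (.leaf 1380) (.leaf 2236)))))) (.node (.node (.node (.node (.node (.node (.leaf 106) (.leaf 1953)) (.leaf 1490)) (.node (.leaf 452) (.leaf 1385))) (.node (.node (.leaf 243) (.leaf 1749)) (.node (.leaf 1195) (.leaf 1655)))) (.node (.node (.node (.node (.leaf 315) (.leaf 2148)) (.leaf 1014)) (.node (.leaf 1031) (.leaf 1721))) (.node (.node (.leaf 345) (.leaf 1791)) (.node (.leaf 781) (.leaf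 1801))))) (.node (.node (.node (.node (.node (.leaf 215) (.leaf 2023)) (.leaf 953)) (.node (.leaf 508) (.leaf 1452))) (.node (.node (.leaf 596) (.leaf 1737)) (.node (.leaf 727) (.leaf 2198)))) (.node (.node (.node (.node (.leaf 190) (.leaf 2303)) (.leaf 1687)) (.node (.leaf 622) (.leaf 2110))) (.node (.node (.leaf 771) (.leaf 1909)) (.node (.leaf 839) (.leaf 1883))))))))

/-- data -/
def prev0p4 : Trie (ℕ) := .node (.node (.node (.node (.node (.node (.node (.node (.node (.leaf 4) (.leaf 1892)) (.leaf 850)) (.node (.leaf 407) (.leaf 1329))) (.node (.node (.leaf 331) (.leaf 1090)) (.node (.leaf 629) (.leaf 1969)))) (.node (.node (.node (.node (.leaf 173) (.leaf 2248)) (.leaf 1359)) (.node (.leaf 516) (.leaf 1857))) (.node (.node (.leaf 487) (.leaf 1411)) (.node (.leaf 1082) (.leaf 1743))))) (.node (.node (.node (.node (.node (.leaf 49) (.leaf 2097)) (.leaf 1282)) (.node (.leaf 710) (.leaf 1795))) (.node (.node (.leaf 414) (.leaf 1552)) (.node (.leaf 1010) (.leaf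 1667)))) (.node (.node (.node (.node (.leaf 254) (.leaf 2211)) (.leaf 1427)) (.node (.leaf 574) (.leaf 1749))) (.node (.node (.leaf 352) (.leaf 1260)) (.node (.leaf 788) (.leaf 1908)))))) (.node (.node (.node (.node (.node (.node (.leaf 47) (.leaf 1928)) (.leaf 885)) (.node (.leaf 675) (.leaf 1571))) (.node (.node (.leaf 224) (.leaf 1526)) (.node (.leaf 979) (.leaf 1996)))) (.node (.node (.node (.node (.leaf 214) (.leaf 2088)) (.leaf 995)) (.node (.leaf 822) (.leaf 1842))) (.node (.node (.leaf 325) (.leaf 1231)) (.node (.leaf 764) (.leaf 2106))))) (.node (.node (.node (.node (.node (.leaf 73) (.leaf 1999)) (.leaf 931)) (.node (.leaf 745) (.leaf 1425))) (.node (.node (.leaf 453) (.leaf 1585)) (.node (.leaf 707) (.leaf 1701)))) (.node (.node (.node (.node (.leaf 171) (.leaf 2229)) (.leaf 1056)) (.node (.leaf 604) (.leaf 1942))) (.node (.node (.leaf 454) (.leaf 1702)) (.node (.leaf 1185) (.leaf 1851))))))) (.node (.node (.node (.node (.node (.node (.node (.leaf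 26) (.leaf 2121)) (.leaf 1043)) (.node (.leaf 657) (.leaf 1347))) (.node (.node (.leaf 210) (.leaf 1510)) (.node (.leaf 959) (.leaf 1959)))) (.node (.node (.node (.node (.leaf 109) (.leaf 2083)) (.leaf 978)) (.node (.leaf 804) (.leaf 1873))) (.node (.node (.leaf 313) (.leaf 1490)) (.node (.leaf 749) (.leaf 2092))))) (.node (.node (.node (.node (.node (.leaf 61) (.leaf 2226)) (.leaf 917)) (.node (.leaf 726) (.leaf 1415))) (.node (.node (.leaf 432) (.leaf 1561)) (.node (.leaf 1026) (.leaf 2035)))) (.node (.node (.node (.node (.leaf 274) (.leaf 2198)) (.leaf 1261)) (.node (.leaf 590) (.leaf 1924))) (.node (.node (.leaf 368) (.leaf 1426)) (.node (.leaf 1170) (.leaf 1834)))))) (.node (.node (.node (.node (.node (.node (.leaf 36) (.leaf 2156)) (.leaf 891)) (.node (.leaf 447) (.leaf 1380))) (.node (.node (.leaf 393) (.leaf 1132)) (.node (.leaf 698) (.leaf 1698)))) (.node (.node (.node (.node (.leaf 134) (.leaf 2130)) (.leaf 1409)) (.node (.leaf 842) (.leaf 1900)))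 (.node (.node (.leaf 545) (.leaf 1659)) (.node (.leaf 776) (.leaf 1799))))) (.node (.node (.node (.node (.node (.leaf 85) (.leaf 2016)) (.leaf 1339)) (.node (.leaf 503) (.leaf 1844))) (.node (.node (.leaf 334) (.leaf 1187)) (.node (.leaf 1047) (.leaf 1722)))) (.node (.node (.node (.node (.leaf 311) (.leaf 2268)) (.leaf 1481)) (.node (.leaf 617) (.leaf 1584))) (.node (.node (.leaf 395) (.leaf 1311)) (.node (.leaf 834) (.leaf 2176)))))))) (.node (.node (.node (.node (.node (.node (.node (.node (.leaf 15) (.leaf 2193)) (.leaf 856)) (.node (.leaf 413) (.leaf 1739))) (.node (.node (.leaf 203) (.leaf 1099)) (.node (.leaf 948) (.leaf 1608)))) (.node (.node (.node (.node (.leaf 183) (.leaf 2052)) (.leaf 971)) (.node (.leaf 524) (.leaf 1864))) (.node (.node (.leaf 497) (.leaf 1209)) (.node (.leaf 848) (.leaf 2085))))) (.node (.node (.node (.node (.node (.leaf 99) (.leaf 2077)) (.leaf 911)) (.node (.leaf 518) (.leaf 1403))) (.node (.node (.leaf 424) (.leaf 1151)) (.node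 (.leaf 690) (.leaf 1675)))) (.node (.node (.node (.node (.leaf 153) (.leaf 2282)) (.leaf 1029)) (.node (.leaf 582) (.leaf 1917))) (.node (.node (.leaf 359) (.leaf 1679)) (.node (.leaf 794) (.leaf 2141)))))) (.node (.node (.node (.node (.node (.node (.leaf 57) (.leaf 1935)) (.leaf 1145)) (.node (.leaf 684) (.leaf 1373))) (.node (.node (.leaf 383) (.leaf 1125)) (.node (.leaf 987) (.leaf 2002)))) (.node (.node (.node (.node (.leaf 127) (.leaf 2099)) (.leaf 1002)) (.node (.leaf 833) (.leaf 1773))) (.node (.node (.leaf 345) (.leaf 1239)) (.node (.leaf 1129) (.leaf 2041))))) (.node (.node (.node (.node (.node (.leaf 142) (.leaf 2011)) (.leaf 1327)) (.node (.leaf 755) (.leaf 1835))) (.node (.node (.leaf 282) (.leaf 1594)) (.node (.leaf 1054) (.leaf 1712)))) (.node (.node (.node (.node (.leaf 177) (.leaf 2250)) (.leaf 1472)) (.node (.leaf 910) (.leaf 1593))) (.node (.node (.leaf 611) (.leaf 1711)) (.node (.leaf 1194) (.leaf 2117))))))) (.node (.node (.node (.node (.node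 (.node (.node (.leaf 18) (.leaf 2179)) (.leaf 1245)) (.node (.leaf 428) (.leaf 1467))) (.node (.node (.leaf 362) (.leaf 1112)) (.node (.leaf 970) (.leaf 1990)))) (.node (.node (.node (.node (.leaf 133) (.leaf 2157)) (.leaf 988)) (.node (.leaf 723) (.leaf 1880))) (.node (.node (.leaf 319) (.leaf 1310)) (.node (.leaf 756) (.leaf 1876))))) (.node (.node (.node (.node (.node (.leaf 121) (.leaf 1992)) (.leaf 1309)) (.node (.leaf 736) (.leaf 1820))) (.node (.node (.leaf 442) (.leaf 1575)) (.node (.leaf 1036) (.leaf 2020)))) (.node (.node (.node (.node (.leaf 165) (.leaf 2231)) (.leaf 1453)) (.node (.leaf 892) (.leaf 1551))) (.node (.node (.leaf 592) (.leaf 1694)) (.node (.leaf 1177) (.leaf 1854)))))) (.node (.node (.node (.node (.node (.node (.leaf 79) (.leaf 1954)) (.leaf 898)) (.node (.leaf 701) (.leaf 1386))) (.node (.node (.leaf 244) (.leaf 1272)) (.node (.leaf 1003) (.leaf 1657)))) (.node (.node (.node (.node (.leaf 212) (.leaf 2276)) (.leaf 1419)) (.node (.leaf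 818) (.leaf 1906))) (.node (.node (.leaf 346) (.leaf 1252)) (.node (.leaf 1146) (.leaf 2127))))) (.node (.node (.node (.node (.node (.leaf 163) (.leaf 2027)) (.leaf 954)) (.node (.leaf 775) (.leaf 1652))) (.node (.node (.leaf 477) (.leaf 1196)) (.node (.leaf 1072) (.leaf 1767)))) (.node (.node (.node (.node (.leaf 191) (.leaf 2284)) (.leaf 1358)) (.node (.leaf 623) (.leaf 1723))) (.node (.node (.leaf 630) (.leaf 1319)) (.node (.leaf 841) (.leaf 1948))))))))

/-- data -/
def prev0p5 : Trie (ℕ) := .node (.node (.node (.node (.node (.node (.node (.node (.node (.leaf 0) (.leaf 2087)) (.leaf 1434)) (.node (.leaf 533) (.leaf 1916))) (.node (.node (.leaf 196) (.leaf 1561)) (.node (.leaf 1130) (.leaf 1601)))) (.node (.node (.node (.node (.leaf 96) (.leaf 2038)) (.leaf 964)) (.node (.leaf 957) (.leaf 1465))) (.node (.node (.leaf 300) (.leaf 1202)) (.node (.leaf 735) (.leaf 2204))))) (.node (.node (.node (.node (.node (.leaf 122) (.leaf 1966)) (.leaf 903)) (.node (.leaf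 461) (.leaf 1395))) (.node (.node (.leaf 250) (.leaf 1143)) (.node (.leaf 682) (.leaf 2028)))) (.node (.node (.node (.node (.leaf 145) (.leaf 2163)) (.leaf 1022)) (.node (.leaf 1045) (.leaf 1533))) (.node (.node (.leaf 487) (.leaf 1559)) (.node (.leaf 1358) (.leaf 1810)))))) (.node (.node (.node (.node (.node (.node (.leaf 24) (.leaf 1979)) (.leaf 877)) (.node (.leaf 434) (.leaf 1366))) (.node (.node (.leaf 472) (.leaf 1118)) (.node (.leaf 656) (.leaf 1632)))) (.node (.node (.node (.node (.leaf 121) (.leaf 2132)) (.leaf 1569)) (.node (.leaf 545) (.leaf 1503))) (.node (.node (.leaf 326) (.leaf 1755)) (.node (.leaf 1318) (.leaf 1777))))) (.node (.node (.node (.node (.node (.leaf 177) (.leaf 2114)) (.leaf 1531)) (.node (.leaf 489) (.leaf 1537))) (.node (.node (.leaf 275) (.leaf 1175)) (.node (.leaf 1241) (.leaf 2139)))) (.node (.node (.node (.node (.leaf 378) (.leaf 2300)) (.leaf 1665)) (.node (.leaf 1087) (.leaf 1558))) (.node (.node (.leaf 381) (.leaf 1294))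 (.node (.leaf 817) (.leaf 2168))))))) (.node (.node (.node (.node (.node (.node (.node (.leaf 12) (.leaf 1912)) (.leaf 862)) (.node (.leaf 419) (.leaf 1935))) (.node (.node (.leaf 451) (.leaf 1106)) (.node (.leaf 643) (.leaf 1616)))) (.node (.node (.node (.node (.leaf 256) (.leaf 2058)) (.leaf 1458)) (.node (.leaf 530) (.leaf 1485))) (.node (.node (.leaf 633) (.leaf 1217)) (.node (.leaf 1293) (.leaf 1759))))) (.node (.node (.node (.node (.node (.leaf 150) (.leaf 1981)) (.leaf 1511)) (.node (.leaf 475) (.leaf 1408))) (.node (.node (.leaf 263) (.leaf 1156)) (.node (.leaf 694) (.leaf 1683)))) (.node (.node (.node (.node (.leaf 159) (.leaf 2260)) (.leaf 1038)) (.node (.leaf 1066) (.leaf 1545))) (.node (.node (.leaf 718) (.leaf 1275)) (.node (.leaf 801) (.leaf 2115)))))) (.node (.node (.node (.node (.node (.node (.leaf 93) (.leaf 1943)) (.leaf 1482)) (.node (.leaf 848) (.leaf 1956))) (.node (.node (.leaf 237) (.leaf 1738)) (.node (.leaf 670) (.leaf 1647)))) (.node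 (.node (.node (.node (.leaf 304) (.leaf 2285)) (.leaf 1008)) (.node (.leaf 558) (.leaf 1517))) (.node (.node (.leaf 339) (.leaf 1245)) (.node (.leaf 1338) (.leaf 1795))))) (.node (.node (.node (.node (.node (.leaf 203) (.leaf 2106)) (.leaf 947)) (.node (.leaf 934) (.leaf 1445))) (.node (.node (.leaf 287) (.leaf 1224)) (.node (.leaf 721) (.leaf 2196)))) (.node (.node (.node (.node (.leaf 183) (.leaf 2270)) (.leaf 1074)) (.node (.leaf 1109) (.leaf 1582))) (.node (.node (.leaf 761) (.leaf 1816)) (.node (.leaf 1414) (.leaf 1871)))))))) (.node (.node (.node (.node (.node (.node (.node (.node (.leaf 6) (.leaf 1901)) (.leaf 1441)) (.node (.leaf 792) (.leaf 1336))) (.node (.node (.leaf 438) (.leaf 1697)) (.node (.leaf 636) (.leaf 2128)))) (.node (.node (.node (.node (.leaf 102) (.leaf 2253)) (.leaf 1574)) (.node (.leaf 971) (.leaf 1476))) (.node (.node (.leaf 306) (.leaf 1821)) (.node (.leaf 743) (.leaf 1752))))) (.node (.node (.node (.node (.node (.leaf 54) (.leaf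 1973)) (.leaf 1501)) (.node (.leaf 467) (.leaf 1982))) (.node (.node (.leaf 257) (.leaf 1282)) (.node (.leaf 1213) (.leaf 2173)))) (.node (.node (.node (.node (.leaf 341) (.leaf 2180)) (.leaf 1644)) (.node (.leaf 1056) (.leaf 1539))) (.node (.node (.leaf 589) (.leaf 1266)) (.node (.leaf 1368) (.leaf 1824)))))) (.node (.node (.node (.node (.node (.node (.leaf 30) (.leaf 2268)) (.leaf 883)) (.node (.leaf 440) (.leaf 1845))) (.node (.node (.leaf 231) (.leaf 1730)) (.node (.leaf 663) (.leaf 1641)))) (.node (.node (.node (.node (.leaf 292) (.leaf 2279)) (.leaf 1433)) (.node (.leaf 552) (.leaf 1508))) (.node (.node (.leaf 331) (.leaf 1560)) (.node (.leaf 770) (.leaf 1785))))) (.node (.node (.node (.node (.node (.leaf 78) (.leaf 2007)) (.leaf 938)) (.node (.leaf 495) (.leaf 1436))) (.node (.node (.leaf 578) (.leaf 1181)) (.node (.leaf 713) (.leaf 2190)))) (.node (.node (.node (.node (.leaf 389) (.leaf 2276)) (.leaf 1065)) (.node (.leaf 611) (.leaf 1571))) (.node (.node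 (.leaf 388) (.leaf 1302)) (.node (.leaf 825) (.leaf 1861))))))) (.node (.node (.node (.node (.node (.node (.node (.leaf 51) (.leaf 1921)) (.leaf 870)) (.node (.leaf 816) (.leaf 1357))) (.node (.node (.leaf 217) (.leaf 1715)) (.node (.leaf 650) (.leaf 1623)))) (.node (.node (.node (.node (.leaf 114) (.leaf 2072)) (.leaf 1589)) (.node (.leaf 536) (.leaf 1494))) (.node (.node (.leaf 544) (.leaf 1223)) (.node (.leaf 1305) (.leaf 1766))))) (.node (.node (.node (.node (.node (.leaf 66) (.leaf 2129)) (.leaf 925)) (.node (.leaf 481) (.leaf 1417))) (.node (.node (.leaf 269) (.leaf 1163)) (.node (.leaf 701) (.leaf 1691)))) (.node (.node (.node (.node (.leaf 364) (.leaf 2207)) (.leaf 1047)) (.node (.leaf 597) (.leaf 1917))) (.node (.node (.leaf 375) (.leaf 1286)) (.node (.leaf 809) (.leaf 1843)))))) (.node (.node (.node (.node (.node (.node (.leaf 42) (.leaf 1983)) (.leaf 984)) (.node (.leaf 453) (.leaf 1964))) (.node (.node (.leaf 511) (.leaf 1137)) (.node (.leaf 676)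 (.leaf 2164)))) (.node (.node (.node (.node (.leaf 139) (.leaf 2149)) (.leaf 1016)) (.node (.leaf 567) (.leaf 1525))) (.node (.node (.leaf 688) (.leaf 1426)) (.node (.leaf 782) (.leaf 1802))))) (.node (.node (.node (.node (.node (.leaf 90) (.leaf 2170)) (.leaf 1556)) (.node (.leaf 509) (.leaf 1456))) (.node (.node (.leaf 293) (.leaf 1804)) (.node (.leaf 728) (.leaf 1731)))) (.node (.node (.node (.node (.leaf 415) (.leaf 2291)) (.leaf 1080)) (.node (.leaf 1119) (.leaf 1593))) (.node (.node (.leaf 400) (.leaf 1911)) (.node (.leaf 1423) (.leaf 1885))))))))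

/-- data -/
def prev0p6 : Trie (ℕ) := .node (.node (.node (.node (.node (.node (.node (.node (.node (.leaf 6) (.leaf 2185)) (.leaf 851)) (.node (.leaf 408) (.leaf 1737))) (.node (.node (.leaf 332) (.leaf 1488)) (.node (.leaf 939) (.leaf 1602)))) (.node (.node (.node (.node (.leaf 97) (.leaf 2074)) (.leaf 1360)) (.node (.leaf 785) (.leaf 1858))) (.node (.node (.leaf 301) (.leaf 1410)) (.node (.leaf 1084) (.leaf 2076))))) (.node (.node (.node (.node (.node (.leaf 91) (.leaf 2159)) (.leaf 904)) (.node (.leaf 462) (.leaf 1396))) (.node (.node (.leaf 251) (.leaf 1554)) (.node (.leaf 1011) (.leaf 1849)))) (.node (.node (.node (.node (.leaf 255) (.leaf 2169)) (.leaf 1428)) (.node (.leaf 866) (.leaf 1913))) (.node (.node (.leaf 567) (.leaf 1673)) (.node (.leaf 1051) (.leaf 2133)))))) (.node (.node (.node (.node (.node (.node (.leaf 25) (.leaf 2194)) (.leaf 878)) (.node (.leaf 435) (.leaf 1570))) (.node (.node (.leaf 225) (.leaf 1119)) (.node (.leaf 798) (.leaf 1633))))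 (.node (.node (.node (.node (.leaf 122) (.leaf 2242)) (.leaf 1394)) (.node (.leaf 546) (.leaf 1504))) (.node (.node (.leaf 327) (.leaf 1342)) (.node (.leaf 1122) (.leaf 1779))))) (.node (.node (.node (.node (.node (.leaf 74) (.leaf 2232)) (.leaf 1320)) (.node (.leaf 490) (.leaf 1829))) (.node (.node (.leaf 361) (.leaf 1176)) (.node (.leaf 715) (.leaf 1856)))) (.node (.node (.node (.node (.leaf 294) (.leaf 2293)) (.leaf 1465)) (.node (.leaf 605) (.leaf 1560))) (.node (.node (.leaf 603) (.leaf 1703)) (.node (.leaf 1186) (.leaf 1852))))))) (.node (.node (.node (.node (.node (.node (.node (.leaf 13) (.leaf 2096)) (.leaf 1042)) (.node (.leaf 659) (.leaf 1348))) (.node (.node (.leaf 353) (.leaf 1107)) (.node (.leaf 960) (.leaf 1617)))) (.node (.node (.node (.node (.leaf 110) (.leaf 2061)) (.leaf 1277)) (.node (.leaf 531) (.leaf 1486))) (.node (.node (.leaf 509) (.leaf 1218)) (.node (.leaf 1103) (.leaf 1760))))) (.node (.node (.node (.node (.node (.leaf 112) (.leaf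 1982)) (.leaf 1299)) (.node (.leaf 476) (.leaf 1726))) (.node (.node (.leaf 264) (.leaf 1157)) (.node (.leaf 1027) (.leaf 2037)))) (.node (.node (.node (.node (.leaf 160) (.leaf 2286)) (.leaf 1039)) (.node (.leaf 666) (.leaf 1926))) (.node (.node (.leaf 575) (.leaf 1563)) (.node (.leaf 802) (.leaf 2149)))))) (.node (.node (.node (.node (.node (.node (.leaf 69) (.leaf 2218)) (.leaf 1267)) (.node (.leaf 448) (.leaf 1381))) (.node (.node (.leaf 238) (.leaf 1540)) (.node (.leaf 671) (.leaf 2009)))) (.node (.node (.node (.node (.leaf 236) (.leaf 2134)) (.leaf 1009)) (.node (.leaf 844) (.leaf 1733))) (.node (.node (.leaf 547) (.leaf 1246)) (.node (.leaf 777) (.leaf 1796))))) (.node (.node (.node (.node (.node (.leaf 86) (.leaf 2017)) (.leaf 1341)) (.node (.leaf 504) (.leaf 1446))) (.node (.node (.leaf 468) (.leaf 1601)) (.node (.leaf 1065) (.leaf 2062)))) (.node (.node (.node (.node (.leaf 184) (.leaf 2299)) (.leaf 1075)) (.node (.leaf 618) (.leaf 1955))) (.node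 (.node (.leaf 500) (.leaf 1720)) (.node (.leaf 835) (.leaf 1874)))))))) (.node (.node (.node (.node (.node (.node (.node (.node (.leaf 7) (.leaf 1977)) (.leaf 857)) (.node (.leaf 649) (.leaf 1748))) (.node (.node (.leaf 343) (.leaf 1503)) (.node (.leaf 950) (.leaf 1609)))) (.node (.node (.node (.node (.leaf 185) (.leaf 2256)) (.leaf 972)) (.node (.leaf 795) (.leaf 1866))) (.node (.node (.leaf 498) (.leaf 1210)) (.node (.leaf 744) (.leaf 1753))))) (.node (.node (.node (.node (.node (.leaf 55) (.leaf 1974)) (.leaf 1290)) (.node (.leaf 719) (.leaf 1404))) (.node (.node (.leaf 258) (.leaf 1496)) (.node (.leaf 1020) (.leaf 2021)))) (.node (.node (.node (.node (.leaf 266) (.leaf 2181)) (.leaf 1438)) (.node (.leaf 867) (.leaf 1546))) (.node (.node (.leaf 577) (.leaf 1275)) (.node (.leaf 1162) (.leaf 1825)))))) (.node (.node (.node (.node (.node (.node (.leaf 59) (.leaf 1937)) (.leaf 1259)) (.node (.leaf 441) (.leaf 1774))) (.node (.node (.leaf 232) (.leaf 1534)) (.node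 (.leaf 934) (.leaf 1642)))) (.node (.node (.node (.node (.leaf 226) (.leaf 2161)) (.leaf 1401)) (.node (.leaf 553) (.leaf 1515))) (.node (.node (.leaf 333) (.leaf 1655)) (.node (.leaf 771) (.leaf 1787))))) (.node (.node (.node (.node (.node (.leaf 143) (.leaf 2008)) (.leaf 1328)) (.node (.leaf 496) (.leaf 1437))) (.node (.node (.leaf 283) (.leaf 1182)) (.node (.leaf 1055) (.leaf 1713)))) (.node (.node (.node (.node (.leaf 303) (.leaf 2297)) (.leaf 1067)) (.node (.leaf 612) (.leaf 1736))) (.node (.node (.leaf 389) (.leaf 1707)) (.node (.leaf 826) (.leaf 2170))))))) (.node (.node (.node (.node (.node (.node (.node (.leaf 37) (.leaf 2064)) (.leaf 963)) (.node (.leaf 460) (.leaf 1491))) (.node (.node (.leaf 363) (.leaf 1519)) (.node (.leaf 651) (.leaf 1991)))) (.node (.node (.node (.node (.leaf 204) (.leaf 2263)) (.leaf 989)) (.node (.leaf 537) (.leaf 1533))) (.node (.node (.leaf 320) (.leaf 1224)) (.node (.leaf 757) (.leaf 1927))))) (.node (.node (.node (.node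 (.node (.leaf 67) (.leaf 1993)) (.leaf 926)) (.node (.leaf 483) (.leaf 1812))) (.node (.node (.leaf 270) (.leaf 1165)) (.node (.leaf 702) (.leaf 2040)))) (.node (.node (.node (.node (.leaf 284) (.leaf 2208)) (.leaf 1454)) (.node (.leaf 598) (.leaf 1933))) (.node (.node (.leaf 593) (.leaf 1288)) (.node (.leaf 810) (.leaf 2154)))))) (.node (.node (.node (.node (.node (.node (.leaf 43) (.leaf 1956)) (.leaf 1276)) (.node (.leaf 455) (.leaf 1566))) (.node (.node (.leaf 405) (.leaf 1138)) (.node (.leaf 689) (.leaf 2018)))) (.node (.node (.node (.node (.leaf 245) (.leaf 2151)) (.leaf 1017)) (.node (.leaf 855) (.leaf 1786))) (.node (.node (.leaf 557) (.leaf 1562)) (.node (.leaf 783) (.leaf 1916))))) (.node (.node (.node (.node (.node (.leaf 164) (.leaf 2028)) (.leaf 1349)) (.node (.leaf 733) (.leaf 1458))) (.node (.node (.leaf 478) (.leaf 1610)) (.node (.leaf 1074) (.leaf 2068)))) (.node (.node (.node (.node (.leaf 323) (.leaf 2291)) (.leaf 1483)) (.node (.leaf 624)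 (.leaf 1963))) (.node (.node (.leaf 416) (.leaf 1414)) (.node (.leaf 942) (.leaf 2180))))))))

/-- data -/
def prev0p7 : Trie (ℕ) := .node (.node (.node (.node (.node (.node (.node (.node (.node (.leaf 1) (.leaf 1892)) (.leaf 1394)) (.node (.leaf 783) (.leaf 1330))) (.node (.node (.leaf 197) (.leaf 1090)) (.node (.leaf 629) (.leaf 2118)))) (.node (.node (.node (.node (.leaf 232) (.leaf 2039)) (.leaf 965)) (.node (.leaf 517) (.leaf 1468))) (.node (.node (.leaf 610) (.leaf 1203)) (.node (.leaf 736) (.leaf 1744))))) (.node (.node (.node (.node (.node (.leaf 49) (.leaf 1967)) (.leaf 1496)) (.node (.leaf 872) (.leaf 1814))) (.node (.node (.leaf 526) (.leaf 1144)) (.node (.leaf 683) (.leaf 1667)))) (.node (.node (.node (.node (.leaf 146) (.leaf 2244)) (.leaf 1023)) (.node (.leaf 575) (.leaf 1534))) (.node (.node (.leaf 352) (.leaf 1261)) (.node (.leaf 788) (.leaf 1811)))))) (.node (.node (.node (.node (.node (.node (.leaf 67) (.leaf 1928)) (.leaf 1467)) (.node (.leaf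 826) (.leaf 1367))) (.node (.node (.leaf 474) (.leaf 1498)) (.node (.leaf 657) (.leaf 2000)))) (.node (.node (.node (.node (.leaf 280) (.leaf 2088)) (.leaf 996)) (.node (.leaf 1001) (.leaf 2045))) (.node (.node (.leaf 658) (.leaf 1231)) (.node (.leaf 765) (.leaf 2117))))) (.node (.node (.node (.node (.node (.leaf 179) (.leaf 1999)) (.leaf 931)) (.node (.leaf 911) (.leaf 1428))) (.node (.node (.leaf 276) (.leaf 1239)) (.node (.leaf 708) (.leaf 1702)))) (.node (.node (.node (.node (.leaf 171) (.leaf 2233)) (.leaf 1057)) (.node (.leaf 1089) (.leaf 2032))) (.node (.node (.leaf 382) (.leaf 1295)) (.node (.leaf 818) (.leaf 1954))))))) (.node (.node (.node (.node (.node (.node (.node (.leaf 39) (.leaf 1913)) (.leaf 863)) (.node (.leaf 420) (.leaf 1937))) (.node (.node (.leaf 211) (.leaf 1124)) (.node (.leaf 644) (.leaf 2134)))) (.node (.node (.node (.node (.leaf 258) (.leaf 2189)) (.leaf 979)) (.node (.leaf 983) (.leaf 2036))) (.node (.node (.leaf 313) (.leaf 1251))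 (.node (.leaf 750) (.leaf 2216))))) (.node (.node (.node (.node (.node (.leaf 61) (.leaf 2229)) (.leaf 918)) (.node (.leaf 889) (.leaf 1409))) (.node (.node (.leaf 546) (.leaf 1767)) (.node (.leaf 695) (.leaf 1685)))) (.node (.node (.node (.node (.leaf 354) (.leaf 2199)) (.leaf 1652)) (.node (.leaf 591) (.leaf 1546))) (.node (.node (.leaf 369) (.leaf 1276)) (.node (.leaf 1376) (.leaf 1836)))))) (.node (.node (.node (.node (.node (.node (.leaf 36) (.leaf 1947)) (.leaf 891)) (.node (.leaf 850) (.leaf 1550))) (.node (.node (.leaf 499) (.leaf 1132)) (.node (.leaf 1187) (.leaf 1649)))) (.node (.node (.node (.node (.leaf 134) (.leaf 2230)) (.leaf 1620)) (.node (.leaf 560) (.leaf 1518))) (.node (.node (.leaf 340) (.leaf 1663)) (.node (.leaf 1340) (.leaf 1903))))) (.node (.node (.node (.node (.node (.leaf 205) (.leaf 2174)) (.leaf 948)) (.node (.leaf 936) (.leaf 1578))) (.node (.node (.leaf 288) (.leaf 1189)) (.node (.leaf 722) (.leaf 1722)))) (.node (.node (.node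 (.node (.leaf 403) (.leaf 2273)) (.leaf 1680)) (.node (.leaf 1110) (.leaf 1585))) (.node (.node (.leaf 395) (.leaf 1311)) (.node (.leaf 1415) (.leaf 2232)))))))) (.node (.node (.node (.node (.node (.node (.node (.node (.leaf 25) (.leaf 1904)) (.leaf 1443)) (.node (.leaf 413) (.leaf 1337))) (.node (.node (.leaf 204) (.leaf 1100)) (.node (.leaf 637) (.leaf 2082)))) (.node (.node (.node (.node (.leaf 103) (.leaf 2052)) (.leaf 1229)) (.node (.leaf 524) (.leaf 1477))) (.node (.node (.leaf 307) (.leaf 1822)) (.node (.leaf 1287) (.leaf 2188))))) (.node (.node (.node (.node (.node (.leaf 137) (.leaf 2153)) (.leaf 912)) (.node (.leaf 468) (.leaf 1868))) (.node (.node (.leaf 537) (.leaf 1151)) (.node (.leaf 690) (.leaf 1676)))) (.node (.node (.node (.node (.leaf 154) (.leaf 2294)) (.leaf 1029)) (.node (.leaf 583) (.leaf 1540))) (.node (.node (.leaf 359) (.leaf 1267)) (.node (.leaf 794) (.leaf 2193)))))) (.node (.node (.node (.node (.node (.node (.leaf 31) (.leaf 2033))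 (.leaf 886)) (.node (.leaf 838) (.leaf 1373))) (.node (.node (.leaf 486) (.leaf 1125)) (.node (.leaf 664) (.leaf 1823)))) (.node (.node (.node (.node (.leaf 128) (.leaf 2107)) (.leaf 1002)) (.node (.leaf 1012) (.leaf 1509))) (.node (.node (.leaf 470) (.leaf 1240)) (.node (.leaf 1329) (.leaf 2222))))) (.node (.node (.node (.node (.node (.leaf 79) (.leaf 2113)) (.leaf 939)) (.node (.leaf 822) (.leaf 2003))) (.node (.node (.leaf 332) (.leaf 1788)) (.node (.leaf 714) (.leaf 1897)))) (.node (.node (.node (.node (.leaf 178) (.leaf 2250)) (.leaf 1347)) (.node (.leaf 1099) (.leaf 1573))) (.node (.node (.leaf 749) (.leaf 1303)) (.node (.leaf 1403) (.leaf 1863))))))) (.node (.node (.node (.node (.node (.node (.node (.leaf 18) (.leaf 1922)) (.leaf 871)) (.node (.leaf 428) (.leaf 1359))) (.node (.node (.leaf 218) (.leaf 1112)) (.node (.leaf 1032) (.leaf 1625)))) (.node (.node (.node (.node (.leaf 115) (.leaf 2073)) (.leaf 1591)) (.node (.leaf 607) (.leaf 1495))) (.node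 (.node (.leaf 646) (.leaf 1833)) (.node (.leaf 1307) (.leaf 1768))))) (.node (.node (.node (.node (.node (.leaf 165) (.leaf 2048)) (.leaf 1523)) (.node (.leaf 867) (.leaf 1418))) (.node (.node (.leaf 559) (.leaf 1341)) (.node (.leaf 1234) (.leaf 1692)))) (.node (.node (.node (.node (.leaf 166) (.leaf 2219)) (.leaf 1048)) (.node (.leaf 1077) (.leaf 1552))) (.node (.node (.leaf 376) (.leaf 1432)) (.node (.leaf 952) (.leaf 1844)))))) (.node (.node (.node (.node (.node (.node (.leaf 109) (.leaf 2267)) (.leaf 898)) (.node (.leaf 861) (.leaf 1387))) (.node (.node (.leaf 244) (.leaf 1751)) (.node (.leaf 677) (.leaf 1657)))) (.node (.node (.node (.node (.leaf 140) (.leaf 2281)) (.leaf 1613)) (.node (.leaf 568) (.leaf 1526))) (.node (.node (.leaf 346) (.leaf 1252)) (.node (.leaf 1350) (.leaf 1803))))) (.node (.node (.node (.node (.node (.leaf 91) (.leaf 2243)) (.leaf 954)) (.node (.leaf 510) (.leaf 1878))) (.node (.node (.leaf 294) (.leaf 1196)) (.node (.leaf 729) (.leaf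 1732)))) (.node (.node (.node (.node (.leaf 191) (.leaf 2289)) (.leaf 1081)) (.node (.leaf 684) (.leaf 1594))) (.node (.node (.leaf 401) (.leaf 1319)) (.node (.leaf 842) (.leaf 1886))))))))

/-- data -/
def prev0p8 : Trie (ℕ) := .node (.node (.node (.node (.node (.node (.node (.node (.node (.leaf 2) (.leaf 2186)) (.leaf 1225)) (.node (.leaf 642) (.leaf 1331))) (.node (.node (.leaf 216) (.leaf 1495)) (.node (.leaf 940) (.leaf 1971)))) (.node (.node (.node (.node (.leaf 176) (.leaf 2043)) (.leaf 966)) (.node (.leaf 519) (.leaf 1469))) (.node (.node (.leaf 302) (.leaf 1204)) (.node (.leaf 737) (.leaf 1746))))) (.node (.node (.node (.node (.node (.leaf 92) (.leaf 1968)) (.leaf 1285)) (.node (.leaf 463) (.leaf 1797))) (.node (.node (.leaf 252) (.leaf 1555)) (.node (.leaf 685) (.leaf 1831)))) (.node (.node (.node (.node (.leaf 257) (.leaf 2173)) (.leaf 1024)) (.node (.leaf 576) (.leaf 1535))) (.node (.node (.leaf 568) (.leaf 1262)) (.node (.leaf 801) (.leaf 1813))))))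 (.node (.node (.node (.node (.node (.node (.leaf 50) (.leaf 1934)) (.leaf 1190)) (.node (.leaf 677) (.leaf 1368))) (.node (.node (.leaf 376) (.leaf 1214)) (.node (.leaf 658) (.leaf 1905)))) (.node (.node (.node (.node (.leaf 123) (.leaf 2236)) (.leaf 997)) (.node (.leaf 825) (.leaf 1505))) (.node (.node (.leaf 328) (.leaf 1237)) (.node (.leaf 766) (.leaf 2107))))) (.node (.node (.node (.node (.node (.leaf 135) (.leaf 2001)) (.leaf 1321)) (.node (.leaf 747) (.leaf 1429))) (.node (.node (.leaf 277) (.leaf 1586)) (.node (.leaf 709) (.leaf 2050)))) (.node (.node (.node (.node (.leaf 190) (.leaf 2234)) (.leaf 1466)) (.node (.leaf 903) (.leaf 1943))) (.node (.node (.leaf 384) (.leaf 1705)) (.node (.leaf 1086) (.leaf 1882))))))) (.node (.node (.node (.node (.node (.node (.node (.leaf 14) (.leaf 1915)) (.leaf 864)) (.node (.leaf 421) (.leaf 1759))) (.node (.node (.leaf 213) (.leaf 1512)) (.node (.leaf 962) (.leaf 1627)))) (.node (.node (.node (.node (.leaf 197) (.leaf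 2257)) (.leaf 980)) (.node (.leaf 806) (.leaf 1564))) (.node (.node (.leaf 510) (.leaf 1219)) (.node (.leaf 752) (.leaf 2094))))) (.node (.node (.node (.node (.node (.leaf 62) (.leaf 1984)) (.leaf 919)) (.node (.leaf 728) (.leaf 1814))) (.node (.node (.leaf 265) (.leaf 1159)) (.node (.leaf 696) (.leaf 1946)))) (.node (.node (.node (.node (.leaf 186) (.leaf 2200)) (.leaf 1447)) (.node (.leaf 877) (.leaf 1547))) (.node (.node (.leaf 371) (.leaf 1688)) (.node (.leaf 1172) (.leaf 2150)))))) (.node (.node (.node (.node (.node (.node (.leaf 70) (.leaf 2190)) (.leaf 1268)) (.node (.leaf 695) (.leaf 1382))) (.node (.node (.leaf 396) (.leaf 1541)) (.node (.leaf 712) (.leaf 1650)))) (.node (.node (.node (.node (.leaf 237) (.leaf 2273)) (.leaf 1412)) (.node (.leaf 845) (.leaf 1901))) (.node (.node (.leaf 341) (.leaf 1661)) (.node (.leaf 778) (.leaf 2120))))) (.node (.node (.node (.node (.node (.leaf 156) (.leaf 2032)) (.leaf 949)) (.node (.leaf 769) (.leaf 1658))) (.node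 (.node (.leaf 289) (.leaf 1603)) (.node (.leaf 921) (.leaf 1986)))) (.node (.node (.node (.node (.leaf 314) (.leaf 2300)) (.leaf 1076)) (.node (.leaf 922) (.leaf 1757))) (.node (.node (.leaf 499) (.leaf 1721)) (.node (.leaf 1207) (.leaf 2081)))))))) (.node (.node (.node (.node (.node (.node (.node (.node (.leaf 8) (.leaf 2047)) (.leaf 858)) (.node (.leaf 650) (.leaf 1750))) (.node (.node (.leaf 205) (.leaf 1102)) (.node (.leaf 638) (.leaf 1980)))) (.node (.node (.node (.node (.leaf 104) (.leaf 2254)) (.leaf 973)) (.node (.leaf 796) (.leaf 1478))) (.node (.node (.leaf 308) (.leaf 1629)) (.node (.leaf 924) (.leaf 2087))))) (.node (.node (.node (.node (.node (.leaf 102) (.leaf 1975)) (.leaf 913)) (.node (.leaf 469) (.leaf 1807))) (.node (.node (.leaf 259) (.leaf 1158)) (.node (.leaf 691) (.leaf 1677)))) (.node (.node (.node (.node (.leaf 155) (.leaf 2233)) (.leaf 1439)) (.node (.leaf 584) (.leaf 1919))) (.node (.node (.leaf 539) (.leaf 1392)) (.node (.leaf 1163)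 (.leaf 1826)))))) (.node (.node (.node (.node (.node (.node (.leaf 32) (.leaf 1938)) (.leaf 887)) (.node (.leaf 687) (.leaf 1374))) (.node (.node (.leaf 233) (.leaf 1399)) (.node (.leaf 665) (.leaf 1951)))) (.node (.node (.node (.node (.leaf 129) (.leaf 2108)) (.leaf 1402)) (.node (.leaf 554) (.leaf 1894))) (.node (.node (.leaf 538) (.leaf 1241)) (.node (.leaf 772) (.leaf 2112))))) (.node (.node (.node (.node (.node (.leaf 80) (.leaf 2098)) (.leaf 1330)) (.node (.leaf 758) (.leaf 1837))) (.node (.node (.leaf 365) (.leaf 1596)) (.node (.leaf 1057) (.leaf 1714)))) (.node (.node (.node (.node (.leaf 179) (.leaf 2298)) (.leaf 1474)) (.node (.leaf 613) (.leaf 1949))) (.node (.node (.leaf 390) (.leaf 1574)) (.node (.leaf 1197) (.leaf 2171))))))) (.node (.node (.node (.node (.node (.node (.node (.leaf 38) (.leaf 1923)) (.leaf 872)) (.node (.leaf 663) (.leaf 1684))) (.node (.node (.leaf 219) (.leaf 1113)) (.node (.leaf 652) (.leaf 1626)))) (.node (.node (.node (.node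 (.leaf 116) (.leaf 2205)) (.leaf 1384)) (.node (.leaf 815) (.leaf 1497))) (.node (.node (.leaf 521) (.leaf 1641)) (.node (.leaf 908) (.leaf 2042))))) (.node (.node (.node (.node (.node (.leaf 68) (.leaf 2223)) (.leaf 1312)) (.node (.leaf 738) (.leaf 1431))) (.node (.node (.leaf 445) (.leaf 1577)) (.node (.leaf 703) (.leaf 1693)))) (.node (.node (.node (.node (.leaf 167) (.leaf 2290)) (.leaf 1456)) (.node (.leaf 894) (.leaf 1553))) (.node (.node (.leaf 595) (.leaf 1289)) (.node (.leaf 1178) (.leaf 1845)))))) (.node (.node (.node (.node (.node (.node (.leaf 81) (.leaf 2220)) (.leaf 899)) (.node (.leaf 704) (.leaf 1388))) (.node (.node (.leaf 406) (.leaf 1520)) (.node (.leaf 992) (.leaf 2019)))) (.node (.node (.node (.node (.leaf 141) (.leaf 2212)) (.leaf 1422)) (.node (.leaf 569) (.leaf 1527))) (.node (.node (.leaf 558) (.leaf 1254)) (.node (.leaf 784) (.leaf 1804))))) (.node (.node (.node (.node (.node (.leaf 166) (.leaf 2029)) (.leaf 1345)) (.node (.leaf 511)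 (.leaf 1853))) (.node (.node (.leaf 295) (.leaf 1611)) (.node (.leaf 730) (.leaf 1979)))) (.node (.node (.node (.node (.leaf 324) (.leaf 2292)) (.leaf 1083)) (.node (.leaf 930) (.leaf 1965))) (.node (.node (.leaf 632) (.leaf 1728)) (.node (.leaf 843) (.leaf 1887))))))))

/-- data -/
def prev0p9 : Trie (ℕ) := .node (.node (.node (.node (.node (.node (.node (.node (.node (.leaf 13) (.leaf 1894)) (.leaf 851)) (.node (.leaf 408) (.leaf 1918))) (.node (.node (.leaf 198) (.leaf 1091)) (.node (.leaf 630) (.leaf 1603)))) (.node (.node (.node (.node (.leaf 97) (.leaf 2283)) (.leaf 1215)) (.node (.leaf 961) (.leaf 2024))) (.node (.node (.leaf 612) (.leaf 1725)) (.node (.leaf 1279) (.leaf 1988))))) (.node (.node (.node (.node (.node (.leaf 50) (.leaf 2103)) (.leaf 904)) (.node (.leaf 542) (.leaf 1397))) (.node (.node (.leaf 528) (.leaf 1146)) (.node (.leaf 1126) (.leaf 1668)))) (.node (.node (.node (.node (.leaf 147) (.leaf 2171)) (.leaf 1638)) (.node (.leaf 603) (.leaf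 2069))) (.node (.node (.leaf 353) (.leaf 1865)) (.node (.leaf 789) (.leaf 2078)))))) (.node (.node (.node (.node (.node (.node (.leaf 26) (.leaf 1929)) (.leaf 878)) (.node (.leaf 435) (.leaf 1514))) (.node (.node (.leaf 225) (.leaf 1120)) (.node (.leaf 1033) (.leaf 1633)))) (.node (.node (.node (.node (.leaf 282) (.leaf 2090)) (.leaf 1093)) (.node (.leaf 547) (.leaf 2047))) (.node (.node (.leaf 660) (.leaf 1232)) (.node (.leaf 1006) (.leaf 1780))))) (.node (.node (.node (.node (.node (.leaf 74) (.leaf 2275)) (.leaf 933)) (.node (.leaf 490) (.leaf 1876))) (.node (.node (.leaf 572) (.leaf 1176)) (.node (.leaf 1242) (.leaf 1703)))) (.node (.node (.node (.node (.leaf 172) (.leaf 2293)) (.leaf 1059)) (.node (.leaf 605) (.leaf 1562))) (.node (.node (.leaf 740) (.leaf 1296)) (.node (.leaf 819) (.leaf 1853))))))) (.node (.node (.node (.node (.node (.node (.node (.leaf 41) (.leaf 1920)) (.leaf 1379)) (.node (.leaf 808) (.leaf 1348))) (.node (.node (.leaf 454) (.leaf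 1107)) (.node (.leaf 645) (.leaf 1618)))) (.node (.node (.node (.node (.leaf 110) (.leaf 2061)) (.leaf 1584)) (.node (.leaf 531) (.leaf 1486))) (.node (.node (.leaf 314) (.leaf 1830)) (.node (.leaf 1297) (.leaf 1760))))) (.node (.node (.node (.node (.node (.leaf 153) (.leaf 2245)) (.leaf 1513)) (.node (.leaf 476) (.leaf 1411))) (.node (.node (.leaf 548) (.leaf 1769)) (.node (.leaf 1227) (.leaf 1686)))) (.node (.node (.node (.node (.leaf 160) (.leaf 2286)) (.leaf 1039)) (.node (.leaf 592) (.leaf 2081))) (.node (.node (.leaf 720) (.leaf 1277)) (.node (.leaf 802) (.leaf 1838)))))) (.node (.node (.node (.node (.node (.node (.leaf 37) (.leaf 1949)) (.leaf 892)) (.node (.leaf 448) (.leaf 1959))) (.node (.node (.leaf 239) (.leaf 1133)) (.node (.leaf 672) (.leaf 2157)))) (.node (.node (.node (.node (.leaf 135) (.leaf 2137)) (.leaf 1009)) (.node (.leaf 561) (.leaf 1519))) (.node (.node (.leaf 679) (.leaf 1246)) (.node (.leaf 1342) (.leaf 1797))))) (.node (.node (.node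 (.node (.node (.leaf 86) (.leaf 2017)) (.leaf 1264)) (.node (.leaf 504) (.leaf 1446))) (.node (.node (.leaf 427) (.leaf 1191)) (.node (.leaf 723) (.leaf 1723)))) (.node (.node (.node (.node (.leaf 185) (.leaf 2274)) (.leaf 1681)) (.node (.leaf 618) (.leaf 1586))) (.node (.node (.leaf 396) (.leaf 1312)) (.node (.leaf 835) (.leaf 1874)))))))) (.node (.node (.node (.node (.node (.node (.node (.node (.leaf 27) (.leaf 1905)) (.leaf 1392)) (.node (.leaf 414) (.leaf 1339))) (.node (.node (.leaf 441) (.leaf 1701)) (.node (.leaf 987) (.leaf 1609)))) (.node (.node (.node (.node (.leaf 246) (.leaf 2053)) (.leaf 994)) (.node (.leaf 525) (.leaf 2030))) (.node (.node (.leaf 623) (.leaf 1210)) (.node (.leaf 744) (.leaf 1754))))) (.node (.node (.node (.node (.node (.leaf 55) (.leaf 2064)) (.leaf 1504)) (.node (.leaf 882) (.leaf 1404))) (.node (.node (.leaf 462) (.leaf 1152)) (.node (.leaf 1216) (.leaf 1806)))) (.node (.node (.node (.node (.leaf 344) (.leaf 2182)) (.leaf 1030))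 (.node (.leaf 1058) (.leaf 1541))) (.node (.node (.leaf 361) (.leaf 1268)) (.node (.leaf 795) (.leaf 2127)))))) (.node (.node (.node (.node (.node (.node (.leaf 83) (.leaf 2215)) (.leaf 1475)) (.node (.leaf 442) (.leaf 1879))) (.node (.node (.leaf 488) (.leaf 1127)) (.node (.leaf 1180) (.leaf 1643)))) (.node (.node (.node (.node (.leaf 295) (.leaf 2144)) (.leaf 1003)) (.node (.leaf 929) (.leaf 1510))) (.node (.node (.leaf 335) (.leaf 1851)) (.node (.leaf 1331) (.leaf 1787))))) (.node (.node (.node (.node (.node (.leaf 194) (.leaf 2009)) (.leaf 940)) (.node (.leaf 496) (.leaf 1437))) (.node (.node (.leaf 283) (.leaf 1182)) (.node (.leaf 715) (.leaf 2192)))) (.node (.node (.node (.node (.leaf 392) (.leaf 2254)) (.leaf 1067)) (.node (.leaf 1101) (.leaf 1575))) (.node (.node (.leaf 751) (.leaf 1304)) (.node (.leaf 827) (.leaf 1864))))))) (.node (.node (.node (.node (.node (.node (.node (.leaf 19) (.leaf 2063)) (.leaf 1460)) (.node (.leaf 429) (.leaf 1360))) (.node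 (.node (.leaf 463) (.leaf 1281)) (.node (.leaf 1165) (.leaf 2140)))) (.node (.node (.node (.node (.leaf 270) (.leaf 2075)) (.leaf 989)) (.node (.leaf 538) (.leaf 2041))) (.node (.node (.leaf 320) (.leaf 1225)) (.node (.leaf 758) (.leaf 1771))))) (.node (.node (.node (.node (.node (.leaf 167) (.leaf 1993)) (.leaf 926)) (.node (.leaf 483) (.leaf 1419))) (.node (.node (.leaf 271) (.leaf 1166)) (.node (.leaf 1236) (.leaf 1884)))) (.node (.node (.node (.node (.leaf 368) (.leaf 2212)) (.leaf 1049)) (.node (.leaf 598) (.leaf 2089))) (.node (.node (.leaf 377) (.leaf 1887)) (.node (.leaf 811) (.leaf 2238)))))) (.node (.node (.node (.node (.node (.node (.leaf 43) (.leaf 1960)) (.leaf 1492)) (.node (.leaf 455) (.leaf 1600))) (.node (.node (.leaf 245) (.leaf 1138)) (.node (.leaf 678) (.leaf 1658)))) (.node (.node (.node (.node (.leaf 319) (.leaf 2156)) (.leaf 1018)) (.node (.leaf 977) (.leaf 1710))) (.node (.node (.leaf 347) (.leaf 1859)) (.node (.leaf 1352) (.leaf 2138)))))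 (.node (.node (.node (.node (.node (.leaf 92) (.leaf 2098)) (.leaf 955)) (.node (.leaf 949) (.leaf 1459))) (.node (.node (.leaf 601) (.leaf 1197)) (.node (.leaf 1269) (.leaf 1736)))) (.node (.node (.node (.node (.leaf 192) (.leaf 2292)) (.leaf 1583)) (.node (.leaf 624) (.leaf 1595))) (.node (.node (.leaf 402) (.leaf 1320)) (.node (.leaf 1425) (.leaf 2252))))))))

/-- data -/
def prev0p10 : Trie (ℕ) := .node (.node (.node (.node (.node (.node (.node (.node (.node (.leaf 9) (.leaf 1895)) (.leaf 1226)) (.node (.leaf 409) (.leaf 1332))) (.node (.node (.leaf 335) (.leaf 1092)) (.node (.leaf 631) (.leaf 1604)))) (.node (.node (.node (.node (.leaf 154) (.leaf 2251)) (.leaf 1363)) (.node (.leaf 520) (.leaf 1470))) (.node (.node (.leaf 491) (.leaf 1205)) (.node (.leaf 1078) (.leaf 2079))))) (.node (.node (.node (.node (.node (.leaf 51) (.leaf 2026)) (.leaf 912)) (.node (.leaf 464) (.leaf 1398))) (.node (.node (.leaf 418) (.leaf 1147)) (.node (.leaf 686) (.leaf 2025))))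 (.node (.node (.node (.node (.leaf 148) (.leaf 2175)) (.leaf 1025)) (.node (.leaf 868) (.leaf 1715))) (.node (.node (.leaf 354) (.leaf 1263)) (.node (.leaf 790) (.leaf 2135)))))) (.node (.node (.node (.node (.node (.node (.leaf 27) (.leaf 1930)) (.leaf 1253)) (.node (.leaf 678) (.leaf 1369))) (.node (.node (.leaf 377) (.leaf 1121)) (.node (.leaf 982) (.leaf 1635)))) (.node (.node (.node (.node (.leaf 218) (.leaf 2269)) (.leaf 998)) (.node (.leaf 548) (.leaf 1890))) (.node (.node (.leaf 532) (.leaf 1649)) (.node (.leaf 767) (.leaf 1781))))) (.node (.node (.node (.node (.node (.leaf 136) (.leaf 2003)) (.leaf 1322)) (.node (.leaf 748) (.leaf 1430))) (.node (.node (.leaf 278) (.leaf 1587)) (.node (.leaf 1048) (.leaf 1704)))) (.node (.node (.node (.node (.leaf 296) (.leaf 2238)) (.leaf 1061)) (.node (.leaf 606) (.leaf 1944))) (.node (.node (.leaf 385) (.leaf 1297)) (.node (.leaf 1188) (.leaf 1867))))))) (.node (.node (.node (.node (.node (.node (.node (.leaf 30)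 (.leaf 2199)) (.leaf 1216)) (.node (.leaf 662) (.leaf 1350))) (.node (.node (.leaf 356) (.leaf 1117)) (.node (.leaf 646) (.leaf 1988)))) (.node (.node (.node (.node (.leaf 111) (.leaf 2255)) (.leaf 981)) (.node (.leaf 807) (.leaf 1665))) (.node (.node (.leaf 315) (.leaf 1636)) (.node (.leaf 1106) (.leaf 2095))))) (.node (.node (.node (.node (.node (.leaf 114) (.leaf 1987)) (.leaf 1302)) (.node (.leaf 729) (.leaf 1815))) (.node (.node (.leaf 436) (.leaf 1568)) (.node (.leaf 1030) (.leaf 1687)))) (.node (.node (.node (.node (.leaf 276) (.leaf 2246)) (.leaf 1444)) (.node (.leaf 886) (.leaf 1730))) (.node (.node (.leaf 588) (.leaf 1597)) (.node (.leaf 1173) (.leaf 1839)))))) (.node (.node (.node (.node (.node (.node (.leaf 72) (.leaf 1950)) (.leaf 1270)) (.node (.leaf 461) (.leaf 1783))) (.node (.node (.leaf 240) (.leaf 1134)) (.node (.leaf 673) (.leaf 2012)))) (.node (.node (.node (.node (.leaf 239) (.leaf 2274)) (.leaf 1413)) (.node (.leaf 847) (.leaf 1521)))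 (.node (.node (.leaf 342) (.leaf 1247)) (.node (.leaf 1140) (.leaf 1798))))) (.node (.node (.node (.node (.node (.leaf 157) (.leaf 2105)) (.leaf 1343)) (.node (.leaf 770) (.leaf 1823))) (.node (.node (.leaf 471) (.leaf 1192)) (.node (.leaf 1058) (.leaf 2063)))) (.node (.node (.node (.node (.leaf 187) (.leaf 2275)) (.leaf 1485)) (.node (.leaf 923) (.leaf 1957))) (.node (.node (.leaf 397) (.leaf 1313)) (.node (.leaf 944) (.leaf 1875)))))))) (.node (.node (.node (.node (.node (.node (.node (.node (.leaf 19) (.leaf 2195)) (.leaf 1232)) (.node (.leaf 415) (.leaf 1752))) (.node (.node (.leaf 206) (.leaf 1294)) (.node (.leaf 640) (.leaf 1981)))) (.node (.node (.node (.node (.leaf 188) (.leaf 2224)) (.leaf 1371)) (.node (.leaf 526) (.leaf 1868))) (.node (.node (.leaf 501) (.leaf 1630)) (.node (.leaf 1095) (.leaf 1755))))) (.node (.node (.node (.node (.node (.leaf 103) (.leaf 2126)) (.leaf 1206)) (.node (.leaf 470) (.leaf 1405))) (.node (.node (.leaf 427) (.leaf 1153))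 (.node (.leaf 692) (.leaf 2031)))) (.node (.node (.node (.node (.leaf 268) (.leaf 2184)) (.leaf 1033)) (.node (.leaf 585) (.leaf 1542))) (.node (.node (.leaf 565) (.leaf 1269)) (.node (.leaf 1164) (.leaf 2144)))))) (.node (.node (.node (.node (.node (.node (.leaf 33) (.leaf 2215)) (.leaf 1070)) (.node (.leaf 443) (.leaf 1776))) (.node (.node (.leaf 387) (.leaf 1128)) (.node (.leaf 990) (.leaf 1644)))) (.node (.node (.node (.node (.leaf 130) (.leaf 2111)) (.leaf 1004)) (.node (.leaf 836) (.leaf 1511))) (.node (.node (.leaf 336) (.leaf 1242)) (.node (.leaf 1133) (.leaf 1788))))) (.node (.node (.node (.node (.node (.leaf 146) (.leaf 2202)) (.leaf 941)) (.node (.leaf 743) (.leaf 1838))) (.node (.node (.leaf 364) (.leaf 1183)) (.node (.leaf 724) (.leaf 1716)))) (.node (.node (.node (.node (.leaf 180) (.leaf 2272)) (.leaf 1234)) (.node (.leaf 914) (.leaf 1706))) (.node (.node (.leaf 615) (.leaf 1305)) (.node (.leaf 1198) (.leaf 2172))))))) (.node (.node (.node (.node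 (.node (.node (.node (.leaf 40) (.leaf 2122)) (.leaf 1097)) (.node (.leaf 670) (.leaf 1361))) (.node (.node (.leaf 366) (.leaf 1114)) (.node (.leaf 974) (.leaf 1885)))) (.node (.node (.node (.node (.leaf 117) (.leaf 2204)) (.leaf 1385)) (.node (.leaf 817) (.leaf 1884))) (.node (.node (.leaf 522) (.leaf 1643)) (.node (.leaf 759) (.leaf 1772))))) (.node (.node (.node (.node (.node (.leaf 125) (.leaf 1994)) (.leaf 1301)) (.node (.leaf 739) (.leaf 1420))) (.node (.node (.leaf 272) (.leaf 1578)) (.node (.leaf 1040) (.leaf 1821)))) (.node (.node (.node (.node (.leaf 168) (.leaf 2213)) (.leaf 1050)) (.node (.leaf 635) (.leaf 1780))) (.node (.node (.leaf 378) (.leaf 1670)) (.node (.leaf 1179) (.leaf 1846)))))) (.node (.node (.node (.node (.node (.node (.leaf 82) (.leaf 1961)) (.leaf 1278)) (.node (.leaf 456) (.leaf 1493))) (.node (.node (.leaf 246) (.leaf 1139)) (.node (.leaf 679) (.leaf 1660)))) (.node (.node (.node (.node (.leaf 248) (.leaf 2158)) (.leaf 1424)) (.node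 (.leaf 570) (.leaf 1528))) (.node (.node (.leaf 348) (.leaf 1668)) (.node (.leaf 958) (.leaf 1805))))) (.node (.node (.node (.node (.node (.leaf 93) (.leaf 2244)) (.leaf 1351)) (.node (.leaf 512) (.leaf 1460))) (.node (.node (.leaf 481) (.leaf 1613)) (.node (.leaf 751) (.leaf 1738)))) (.node (.node (.node (.node (.leaf 326) (.leaf 2295)) (.leaf 1171)) (.node (.leaf 625) (.leaf 1697))) (.node (.node (.leaf 403) (.leaf 1691)) (.node (.leaf 1215) (.leaf 2183))))))))

/-- data -/
def prev0p11 : Trie (ℕ) := .node (.node (.node (.node (.node (.node (.node (.node (.node (.leaf 2) (.leaf 1931)) (.leaf 852)) (.node (.leaf 786) (.leaf 1873))) (.node (.node (.leaf 199) (.leaf 1693)) (.node (.leaf 1134) (.leaf 2121)))) (.node (.node (.node (.node (.leaf 98) (.leaf 2043)) (.leaf 966)) (.node (.leaf 963) (.leaf 2026))) (.node (.node (.leaf 302) (.leaf 1817)) (.node (.leaf 738) (.leaf 1746))))) (.node (.node (.node (.node (.node (.leaf 127) (.leaf 1969)) (.leaf 905)) (.node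 (.leaf 874) (.leaf 1974))) (.node (.node (.leaf 252) (.leaf 1381)) (.node (.leaf 1209) (.leaf 1669)))) (.node (.node (.node (.node (.leaf 333) (.leaf 2210)) (.leaf 1639)) (.node (.leaf 577) (.leaf 1535))) (.node (.node (.leaf 702) (.leaf 1472)) (.node (.leaf 1361) (.leaf 1815)))))) (.node (.node (.node (.node (.node (.node (.leaf 71) (.leaf 1996)) (.leaf 879)) (.node (.leaf 436) (.leaf 1948))) (.node (.node (.leaf 226) (.leaf 1524)) (.node (.leaf 659) (.leaf 2147)))) (.node (.node (.node (.node (.leaf 123) (.leaf 2091)) (.leaf 1602)) (.node (.leaf 1004) (.leaf 1505))) (.node (.node (.leaf 328) (.leaf 1233)) (.node (.leaf 1299) (.leaf 2071))))) (.node (.node (.node (.node (.node (.leaf 75) (.leaf 2247)) (.leaf 935)) (.node (.leaf 491) (.leaf 2001))) (.node (.node (.leaf 574) (.leaf 1177)) (.node (.leaf 709) (.leaf 2059)))) (.node (.node (.node (.node (.leaf 173) (.leaf 2251)) (.leaf 1237)) (.node (.leaf 1092) (.leaf 1563))) (.node (.node (.leaf 742) (.leaf 1327))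 (.node (.leaf 820) (.leaf 1854))))))) (.node (.node (.node (.node (.node (.node (.node (.leaf 14) (.leaf 1915)) (.leaf 865)) (.node (.leaf 422) (.leaf 1940))) (.node (.node (.leaf 213) (.leaf 1108)) (.node (.leaf 1154) (.leaf 1619)))) (.node (.node (.node (.node (.leaf 229) (.leaf 2062)) (.leaf 1324)) (.node (.leaf 532) (.leaf 1487))) (.node (.node (.leaf 638) (.leaf 1219)) (.node (.leaf 752) (.leaf 1761))))) (.node (.node (.node (.node (.node (.leaf 62) (.leaf 2135)) (.leaf 920)) (.node (.leaf 477) (.leaf 1412))) (.node (.node (.leaf 265) (.leaf 1159)) (.node (.leaf 697) (.leaf 1794)))) (.node (.node (.node (.node (.leaf 161) (.leaf 2200)) (.leaf 1040)) (.node (.leaf 593) (.leaf 1547))) (.node (.node (.leaf 371) (.leaf 1278)) (.node (.leaf 803) (.leaf 1945)))))) (.node (.node (.node (.node (.node (.node (.leaf 38) (.leaf 2266)) (.leaf 893)) (.node (.leaf 449) (.leaf 1382))) (.node (.node (.leaf 503) (.leaf 1743)) (.node (.leaf 1190) (.leaf 1651)))) (.node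 (.node (.node (.node (.leaf 136) (.leaf 2141)) (.leaf 1010)) (.node (.leaf 562) (.leaf 1818))) (.node (.node (.leaf 680) (.leaf 1615)) (.node (.leaf 778) (.leaf 2223))))) (.node (.node (.node (.node (.node (.leaf 87) (.leaf 2018)) (.leaf 950)) (.node (.leaf 505) (.leaf 1447))) (.node (.node (.leaf 289) (.leaf 1798)) (.node (.leaf 724) (.leaf 1726)))) (.node (.node (.node (.node (.leaf 407) (.leaf 2282)) (.leaf 1076)) (.node (.leaf 619) (.leaf 1587))) (.node (.node (.leaf 764) (.leaf 1907)) (.node (.leaf 836) (.leaf 1985)))))))) (.node (.node (.node (.node (.node (.node (.node (.node (.leaf 8) (.leaf 1906)) (.leaf 858)) (.node (.leaf 797) (.leaf 1343))) (.node (.node (.leaf 443) (.leaf 1102)) (.node (.leaf 1145) (.leaf 1610)))) (.node (.node (.node (.node (.leaf 105) (.leaf 2054)) (.leaf 973)) (.node (.leaf 975) (.leaf 1479))) (.node (.node (.leaf 308) (.leaf 1211)) (.node (.leaf 745) (.leaf 2211))))) (.node (.node (.node (.node (.node (.leaf 56) (.leaf 1975))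 (.leaf 913)) (.node (.leaf 576) (.leaf 1421))) (.node (.node (.leaf 259) (.leaf 1764)) (.node (.leaf 1218) (.leaf 1677)))) (.node (.node (.node (.node (.leaf 155) (.leaf 2255)) (.leaf 1370)) (.node (.leaf 1060) (.leaf 2068))) (.node (.node (.leaf 362) (.leaf 1705)) (.node (.leaf 796) (.leaf 1826)))))) (.node (.node (.node (.node (.node (.node (.leaf 85) (.leaf 1939)) (.leaf 887)) (.node (.leaf 841) (.leaf 1374))) (.node (.node (.leaf 233) (.leaf 1733)) (.node (.leaf 666) (.leaf 2126)))) (.node (.node (.node (.node (.leaf 149) (.leaf 2197)) (.leaf 1612)) (.node (.leaf 554) (.leaf 1958))) (.node (.node (.leaf 669) (.leaf 1378)) (.node (.leaf 772) (.leaf 2155))))) (.node (.node (.node (.node (.node (.leaf 80) (.leaf 2011)) (.leaf 1542)) (.node (.leaf 497) (.leaf 1438))) (.node (.node (.leaf 284) (.leaf 1790)) (.node (.leaf 716) (.leaf 2194)))) (.node (.node (.node (.node (.leaf 394) (.leaf 2256)) (.leaf 1068)) (.node (.leaf 613) (.leaf 1577))) (.node (.node (.leaf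 390) (.leaf 1734)) (.node (.leaf 829) (.leaf 1866))))))) (.node (.node (.node (.node (.node (.node (.node (.leaf 20) (.leaf 1923)) (.leaf 873)) (.node (.leaf 430) (.leaf 1946))) (.node (.node (.leaf 219) (.leaf 1718)) (.node (.leaf 652) (.leaf 1627)))) (.node (.node (.node (.node (.leaf 272) (.leaf 2076)) (.leaf 990)) (.node (.leaf 540) (.leaf 1497))) (.node (.node (.leaf 321) (.leaf 1226)) (.node (.leaf 1310) (.leaf 2183))))) (.node (.node (.node (.node (.node (.leaf 68) (.leaf 2131)) (.leaf 927)) (.node (.leaf 484) (.leaf 1835))) (.node (.node (.leaf 383) (.leaf 1167)) (.node (.leaf 703) (.leaf 1694)))) (.node (.node (.node (.node (.leaf 370) (.leaf 2262)) (.leaf 1170)) (.node (.leaf 599) (.leaf 1554))) (.node (.node (.leaf 730) (.leaf 1289)) (.node (.leaf 812) (.leaf 2239)))))) (.node (.node (.node (.node (.node (.node (.leaf 44) (.leaf 2133)) (.leaf 899)) (.node (.leaf 864) (.leaf 1389))) (.node (.node (.leaf 516) (.leaf 1576)) (.node (.leaf 1199) (.leaf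 2166)))) (.node (.node (.node (.node (.leaf 141) (.leaf 2179)) (.leaf 1019)) (.node (.leaf 1037) (.leaf 1621))) (.node (.node (.leaf 691) (.leaf 1255)) (.node (.leaf 784) (.leaf 1990))))) (.node (.node (.node (.node (.node (.leaf 222) (.leaf 2029)) (.leaf 956)) (.node (.leaf 951) (.leaf 2021))) (.node (.node (.leaf 296) (.leaf 1198)) (.node (.leaf 731) (.leaf 1932)))) (.node (.node (.node (.node (.leaf 193) (.leaf 2295)) (.leaf 1084)) (.node (.leaf 1123) (.leaf 1596))) (.node (.node (.leaf 776) (.leaf 1322)) (.node (.leaf 844) (.leaf 1888))))))))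

/-- data -/
def prev0p12 : Trie (ℕ) := .node (.node (.node (.node (.node (.node (.node (.node (.node (.leaf 3) (.leaf 1896)) (.leaf 853)) (.node (.leaf 586) (.leaf 1741))) (.node (.node (.leaf 200) (.leaf 1094)) (.node (.leaf 943) (.leaf 1973)))) (.node (.node (.node (.node (.leaf 178) (.leaf 2048)) (.leaf 1356)) (.node (.leaf 789) (.leaf 1501))) (.node (.node (.leaf 492) (.leaf 1531)) (.node (.leaf 1088) (.leaf 1747))))) (.node (.node (.node (.node (.node (.leaf 52) (.leaf 2014)) (.leaf 1286)) (.node (.leaf 714) (.leaf 1800))) (.node (.node (.leaf 253) (.leaf 1557)) (.node (.leaf 1015) (.leaf 1863)))) (.node (.node (.node (.node (.leaf 150) (.leaf 2261)) (.leaf 1432)) (.node (.leaf 578) (.leaf 1536))) (.node (.node (.leaf 482) (.leaf 1676)) (.node (.leaf 1156) (.leaf 1818)))))) (.node (.node (.node (.node (.node (.node (.leaf 28) (.leaf 2209)) (.leaf 880)) (.node (.leaf 633) (.leaf 1516))) (.node (.node (.leaf 227) (.leaf 1529)) (.node (.leaf 660) (.leaf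 2000)))) (.node (.node (.node (.node (.leaf 124) (.leaf 2270)) (.leaf 1060)) (.node (.leaf 549) (.leaf 1506))) (.node (.node (.leaf 329) (.leaf 1651)) (.node (.leaf 811) (.leaf 1782))))) (.node (.node (.node (.node (.node (.leaf 76) (.leaf 2004)) (.leaf 936)) (.node (.leaf 750) (.leaf 1639))) (.node (.node (.leaf 457) (.leaf 1588)) (.node (.leaf 1049) (.leaf 1708)))) (.node (.node (.node (.node (.leaf 174) (.leaf 2239)) (.leaf 1468)) (.node (.leaf 905) (.leaf 1945))) (.node (.node (.leaf 607) (.leaf 1298)) (.node (.leaf 1189) (.leaf 1855))))))) (.node (.node (.node (.node (.node (.node (.node (.leaf 31) (.leaf 1918)) (.leaf 1240)) (.node (.leaf 423) (.leaf 1761))) (.node (.node (.leaf 357) (.leaf 1109)) (.node (.leaf 965) (.leaf 1620)))) (.node (.node (.node (.node (.leaf 198) (.leaf 2258)) (.leaf 983)) (.node (.leaf 533) (.leaf 1489))) (.node (.node (.leaf 316) (.leaf 1637)) (.node (.leaf 753) (.leaf 1762))))) (.node (.node (.node (.node (.node (.leaf 115)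 (.leaf 2227)) (.leaf 1303)) (.node (.leaf 731) (.leaf 1816))) (.node (.node (.leaf 437) (.leaf 1569)) (.node (.leaf 1032) (.leaf 2038)))) (.node (.node (.node (.node (.leaf 162) (.leaf 2287)) (.leaf 1448)) (.node (.leaf 594) (.leaf 1548))) (.node (.node (.leaf 589) (.leaf 1279)) (.node (.leaf 805) (.leaf 2153)))))) (.node (.node (.node (.node (.node (.node (.leaf 39) (.leaf 2103)) (.leaf 901)) (.node (.leaf 697) (.leaf 1383))) (.node (.node (.leaf 399) (.leaf 1135)) (.node (.leaf 674) (.leaf 2013)))) (.node (.node (.node (.node (.leaf 137) (.leaf 2142)) (.leaf 1101)) (.node (.leaf 849) (.leaf 1903))) (.node (.node (.leaf 551) (.leaf 1249)) (.node (.leaf 779) (.leaf 2123))))) (.node (.node (.node (.node (.node (.leaf 88) (.leaf 2089)) (.leaf 951)) (.node (.leaf 506) (.leaf 1847))) (.node (.node (.leaf 305) (.leaf 1605)) (.node (.leaf 725) (.leaf 1727)))) (.node (.node (.node (.node (.leaf 317) (.leaf 2279)) (.leaf 1077)) (.node (.leaf 620) (.leaf 1958))) (.node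 (.node (.leaf 398) (.leaf 1314)) (.node (.leaf 1208) (.leaf 1878)))))))) (.node (.node (.node (.node (.node (.node (.node (.node (.leaf 20) (.leaf 1907)) (.leaf 1233)) (.node (.leaf 653) (.leaf 1344))) (.node (.node (.leaf 347) (.leaf 1293)) (.node (.leaf 641) (.leaf 1983)))) (.node (.node (.node (.node (.leaf 106) (.leaf 2100)) (.leaf 1287)) (.node (.leaf 799) (.leaf 1870))) (.node (.node (.leaf 502) (.leaf 1212)) (.node (.leaf 746) (.leaf 2084))))) (.node (.node (.node (.node (.node (.leaf 105) (.leaf 2125)) (.leaf 1292)) (.node (.leaf 722) (.leaf 1808))) (.node (.node (.leaf 370) (.leaf 1274)) (.node (.leaf 1023) (.leaf 1678)))) (.node (.node (.node (.node (.leaf 269) (.leaf 2188)) (.leaf 1440)) (.node (.leaf 879) (.leaf 1543))) (.node (.node (.leaf 579) (.leaf 1683)) (.node (.leaf 797) (.leaf 2145)))))) (.node (.node (.node (.node (.node (.node (.leaf 63) (.leaf 1940)) (.leaf 1069)) (.node (.leaf 444) (.leaf 1777))) (.node (.node (.leaf 388) (.leaf 1518))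 (.node (.leaf 991) (.leaf 1645)))) (.node (.node (.node (.node (.leaf 230) (.leaf 2192)) (.leaf 1005)) (.node (.leaf 837) (.leaf 1897))) (.node (.node (.leaf 337) (.leaf 1243)) (.node (.leaf 1019) (.leaf 1790))))) (.node (.node (.node (.node (.node (.leaf 147) (.leaf 2237)) (.leaf 1333)) (.node (.leaf 760) (.leaf 1840))) (.node (.node (.leaf 285) (.leaf 1184)) (.node (.leaf 1059) (.leaf 1888)))) (.node (.node (.node (.node (.leaf 307) (.leaf 2259)) (.leaf 1476)) (.node (.leaf 614) (.leaf 1579))) (.node (.node (.leaf 616) (.leaf 1326)) (.node (.leaf 1191) (.leaf 2174))))))) (.node (.node (.node (.node (.node (.node (.node (.leaf 21) (.leaf 2206)) (.leaf 874)) (.node (.leaf 431) (.leaf 1595))) (.node (.node (.leaf 367) (.leaf 1434)) (.node (.leaf 803) (.leaf 1671)))) (.node (.node (.node (.node (.leaf 208) (.leaf 2078)) (.leaf 1387)) (.node (.leaf 541) (.leaf 1498))) (.node (.node (.leaf 322) (.leaf 1227)) (.node (.leaf 1115) (.leaf 2101))))) (.node (.node (.node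 (.node (.node (.leaf 126) (.leaf 2230)) (.leaf 928)) (.node (.leaf 741) (.leaf 1421))) (.node (.node (.leaf 273) (.leaf 1580)) (.node (.leaf 1041) (.leaf 1696)))) (.node (.node (.node (.node (.leaf 288) (.leaf 2214)) (.leaf 1459)) (.node (.leaf 896) (.leaf 1936))) (.node (.node (.leaf 379) (.leaf 1591)) (.node (.leaf 813) (.leaf 2118)))))) (.node (.node (.node (.node (.node (.node (.leaf 84) (.leaf 2113)) (.leaf 996)) (.node (.leaf 706) (.leaf 1791))) (.node (.node (.leaf 247) (.leaf 1443)) (.node (.leaf 680) (.leaf 2010)))) (.node (.node (.node (.node (.leaf 228) (.leaf 2277)) (.leaf 1316)) (.node (.leaf 859) (.leaf 1619))) (.node (.node (.leaf 561) (.leaf 1669)) (.node (.leaf 957) (.leaf 2131))))) (.node (.node (.node (.node (.node (.leaf 94) (.leaf 2030)) (.leaf 1353)) (.node (.leaf 780) (.leaf 1769))) (.node (.node (.leaf 297) (.leaf 1199)) (.node (.leaf 732) (.leaf 2070)))) (.node (.node (.node (.node (.leaf 194) (.leaf 2303)) (.leaf 1085)) (.node (.leaf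 932) (.leaf 1966))) (.node (.node (.leaf 404) (.leaf 1323)) (.node (.leaf 1217) (.leaf 1889))))))))

/-- data -/
def prev0p13 : Trie (ℕ) := .node (.node (.node (.node (.node (.node (.node (.node (.node (.leaf 16) (.leaf 2195)) (.leaf 982)) (.node (.leaf 409) (.leaf 1332))) (.node (.node (.leaf 431) (.leaf 1315)) (.node (.leaf 632) (.leaf 1604)))) (.node (.node (.node (.node (.leaf 99) (.leaf 2044)) (.leaf 967)) (.node (.leaf 520) (.leaf 1470))) (.node (.node (.leaf 303) (.leaf 1205)) (.node (.leaf 739) (.leaf 2208))))) (.node (.node (.node (.node (.node (.leaf 129) (.leaf 1970)) (.leaf 907)) (.node (.leaf 464) (.leaf 1399))) (.node (.node (.leaf 529) (.leaf 1148)) (.node (.leaf 686) (.leaf 1672)))) (.node (.node (.node (.node (.leaf 334) (.leaf 2176)) (.leaf 1025)) (.node (.leaf 1050) (.leaf 1714))) (.node (.node (.leaf 355) (.leaf 1263)) (.node (.leaf 791) (.leaf 2130)))))) (.node (.node (.node (.node (.node (.node (.leaf 73) (.leaf 1930)) (.leaf 1469)) (.node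 (.leaf 437) (.leaf 1369))) (.node (.node (.leaf 479) (.leaf 1121)) (.node (.leaf 1051) (.leaf 1635)))) (.node (.node (.node (.node (.leaf 285) (.leaf 2092)) (.leaf 998)) (.node (.leaf 959) (.leaf 2049))) (.node (.node (.leaf 514) (.leaf 1235)) (.node (.leaf 767) (.leaf 1896))))) (.node (.node (.node (.node (.node (.leaf 184) (.leaf 2025)) (.leaf 1013)) (.node (.leaf 492) (.leaf 1430))) (.node (.node (.leaf 278) (.leaf 1178)) (.node (.leaf 710) (.leaf 2187)))) (.node (.node (.node (.node (.leaf 208) (.leaf 2301)) (.leaf 1061)) (.node (.leaf 606) (.leaf 1565))) (.node (.node (.leaf 385) (.leaf 1895)) (.node (.leaf 821) (.leaf 2112))))))) (.node (.node (.node (.node (.node (.node (.node (.leaf 15) (.leaf 2261)) (.leaf 866)) (.node (.leaf 810) (.leaf 1351))) (.node (.node (.leaf 214) (.leaf 1572)) (.node (.leaf 647) (.leaf 1796)))) (.node (.node (.node (.node (.leaf 111) (.leaf 2067)) (.leaf 1158)) (.node (.leaf 986) (.leaf 1636))) (.node (.node (.leaf 640) (.leaf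 1220)) (.node (.leaf 1300) (.leaf 2217))))) (.node (.node (.node (.node (.node (.leaf 63) (.leaf 1987)) (.leaf 921)) (.node (.leaf 478) (.leaf 1413))) (.node (.node (.leaf 266) (.leaf 1160)) (.node (.leaf 698) (.leaf 1688)))) (.node (.node (.node (.node (.leaf 358) (.leaf 2201)) (.leaf 1041)) (.node (.leaf 1069) (.leaf 2083))) (.node (.node (.leaf 372) (.leaf 1881)) (.node (.leaf 1228) (.leaf 1840)))))) (.node (.node (.node (.node (.node (.node (.leaf 100) (.leaf 1951)) (.leaf 894)) (.node (.leaf 450) (.leaf 1961))) (.node (.node (.leaf 241) (.leaf 1745)) (.node (.leaf 757) (.leaf 1653)))) (.node (.node (.node (.node (.leaf 310) (.leaf 2272)) (.leaf 1011)) (.node (.leaf 563) (.leaf 1521))) (.node (.node (.leaf 342) (.leaf 1855)) (.node (.leaf 1344) (.leaf 1799))))) (.node (.node (.node (.node (.node (.leaf 210) (.leaf 2020)) (.leaf 1551)) (.node (.leaf 941) (.leaf 1448))) (.node (.node (.leaf 290) (.leaf 1192)) (.node (.leaf 1260) (.leaf 2124)))) (.node (.node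 (.node (.node (.leaf 187) (.leaf 2277)) (.leaf 1684)) (.node (.leaf 1113) (.leaf 1588))) (.node (.node (.leaf 766) (.leaf 1908)) (.node (.leaf 837) (.leaf 2249)))))))) (.node (.node (.node (.node (.node (.node (.node (.node (.leaf 9) (.leaf 2221)) (.leaf 859)) (.node (.leaf 416) (.leaf 1781))) (.node (.node (.leaf 206) (.leaf 1103)) (.node (.leaf 1147) (.leaf 1611)))) (.node (.node (.node (.node (.leaf 249) (.leaf 2055)) (.leaf 974)) (.node (.leaf 527) (.leaf 1480))) (.node (.node (.leaf 309) (.leaf 1825)) (.node (.leaf 1288) (.leaf 1756))))) (.node (.node (.node (.node (.node (.leaf 57) (.leaf 1976)) (.leaf 914)) (.node (.leaf 471) (.leaf 1405))) (.node (.node (.leaf 260) (.leaf 1153)) (.node (.leaf 692) (.leaf 1763)))) (.node (.node (.node (.node (.leaf 156) (.leaf 2185)) (.leaf 1034)) (.node (.leaf 585) (.leaf 2074))) (.node (.node (.leaf 363) (.leaf 1270)) (.node (.leaf 1372) (.leaf 1827)))))) (.node (.node (.node (.node (.node (.node (.leaf 33) (.leaf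 2202)) (.leaf 888)) (.node (.leaf 843) (.leaf 1375))) (.node (.node (.leaf 234) (.leaf 1129)) (.node (.leaf 667) (.leaf 2151)))) (.node (.node (.node (.node (.leaf 130) (.leaf 2111)) (.leaf 1614)) (.node (.leaf 555) (.leaf 1512))) (.node (.node (.leaf 671) (.leaf 1248)) (.node (.leaf 773) (.leaf 2146))))) (.node (.node (.node (.node (.node (.leaf 81) (.leaf 2012)) (.leaf 942)) (.node (.leaf 498) (.leaf 1440))) (.node (.node (.leaf 582) (.leaf 1792)) (.node (.leaf 717) (.leaf 1716)))) (.node (.node (.node (.node (.leaf 180) (.leaf 2258)) (.leaf 1070)) (.node (.leaf 1104) (.leaf 2102))) (.node (.node (.leaf 391) (.leaf 1306)) (.node (.leaf 830) (.leaf 1867))))))) (.node (.node (.node (.node (.node (.node (.node (.leaf 58) (.leaf 1924)) (.leaf 1454)) (.node (.leaf 712) (.leaf 1363))) (.node (.node (.leaf 220) (.leaf 1114)) (.node (.leaf 653) (.leaf 1628)))) (.node (.node (.node (.node (.leaf 117) (.leaf 2120)) (.leaf 991)) (.node (.leaf 995) (.leaf 2042))) (.node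 (.node (.leaf 651) (.leaf 1839)) (.node (.leaf 760) (.leaf 1773))))) (.node (.node (.node (.node (.node (.leaf 69) (.leaf 1994)) (.leaf 1527)) (.node (.leaf 485) (.leaf 1856))) (.node (.node (.leaf 564) (.leaf 1168)) (.node (.leaf 704) (.leaf 2181)))) (.node (.node (.node (.node (.leaf 168) (.leaf 2296)) (.leaf 1052)) (.node (.leaf 600) (.leaf 1555))) (.node (.node (.leaf 732) (.leaf 1290)) (.node (.leaf 1386) (.leaf 1847)))))) (.node (.node (.node (.node (.node (.node (.leaf 45) (.leaf 1962)) (.leaf 900)) (.node (.leaf 456) (.leaf 1390))) (.node (.node (.leaf 518) (.leaf 1139)) (.node (.leaf 932) (.leaf 1661)))) (.node (.node (.node (.node (.leaf 142) (.leaf 2158)) (.leaf 1020)) (.node (.leaf 570) (.leaf 1529))) (.node (.node (.leaf 348) (.leaf 1256)) (.node (.leaf 785) (.leaf 1805))))) (.node (.node (.node (.node (.node (.leaf 224) (.leaf 2242)) (.leaf 958)) (.node (.leaf 512) (.leaf 1462))) (.node (.node (.leaf 604) (.leaf 1461)) (.node (.leaf 1271) (.leaf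 1739)))) (.node (.node (.node (.node (.leaf 421) (.leaf 2297)) (.leaf 1689)) (.node (.leaf 625) (.leaf 1597))) (.node (.node (.leaf 777) (.leaf 1914)) (.node (.leaf 845) (.leaf 2079))))))))

/-- data -/
def prev0p14 : Trie (ℕ) := .node (.node (.node (.node (.node (.node (.node (.node (.node (.leaf 11) (.leaf 2056)) (.leaf 920)) (.node (.leaf 644) (.leaf 1742))) (.node (.node (.leaf 201) (.leaf 1166)) (.node (.leaf 634) (.leaf 1970)))) (.node (.node (.node (.node (.leaf 100) (.leaf 2045)) (.leaf 1364)) (.node (.leaf 721) (.leaf 1822))) (.node (.node (.leaf 304) (.leaf 1618)) (.node (.leaf 740) (.leaf 1947))))) (.node (.node (.node (.node (.node (.leaf 96) (.leaf 2136)) (.leaf 909)) (.node (.leaf 465) (.leaf 1400))) (.node (.node (.leaf 419) (.leaf 1149)) (.node (.leaf 1016) (.leaf 1862)))) (.node (.node (.node (.node (.leaf 151) (.leaf 2177)) (.leaf 1433)) (.node (.leaf 871) (.leaf 1537))) (.node (.node (.leaf 571) (.leaf 1264)) (.node (.leaf 792) (.leaf 1819))))))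 (.node (.node (.node (.node (.node (.node (.leaf 54) (.leaf 1932)) (.leaf 1256)) (.node (.leaf 438) (.leaf 1370))) (.node (.node (.leaf 380) (.leaf 1530)) (.node (.leaf 661) (.leaf 1860)))) (.node (.node (.node (.node (.leaf 220) (.leaf 2093)) (.leaf 1006)) (.node (.leaf 829) (.leaf 1507))) (.node (.node (.leaf 534) (.leaf 1236)) (.node (.leaf 768) (.leaf 1810))))) (.node (.node (.node (.node (.node (.leaf 77) (.leaf 2235)) (.leaf 937)) (.node (.leaf 493) (.leaf 1638))) (.node (.node (.leaf 458) (.leaf 1590)) (.node (.leaf 711) (.leaf 2053)))) (.node (.node (.node (.node (.leaf 175) (.leaf 2294)) (.leaf 1455)) (.node (.leaf 621) (.leaf 1914))) (.node (.node (.leaf 386) (.leaf 1709)) (.node (.leaf 823) (.leaf 2168))))))) (.node (.node (.node (.node (.node (.node (.node (.leaf 16) (.leaf 2201)) (.leaf 882)) (.node (.leaf 664) (.leaf 1352))) (.node (.node (.leaf 215) (.leaf 1110)) (.node (.leaf 648) (.leaf 1621)))) (.node (.node (.node (.node (.leaf 199) (.leaf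 2069)) (.leaf 984)) (.node (.leaf 540) (.leaf 1877))) (.node (.node (.leaf 514) (.leaf 1628)) (.node (.leaf 1108) (.leaf 1764))))) (.node (.node (.node (.node (.node (.leaf 64) (.leaf 1989)) (.leaf 1304)) (.node (.leaf 479) (.leaf 1416))) (.node (.node (.leaf 267) (.leaf 1161)) (.node (.leaf 699) (.leaf 1689)))) (.node (.node (.node (.node (.leaf 279) (.leaf 2203)) (.leaf 1450)) (.node (.leaf 888) (.leaf 1929))) (.node (.node (.leaf 373) (.leaf 1284)) (.node (.leaf 1174) (.leaf 1841)))))) (.node (.node (.node (.node (.node (.node (.leaf 75) (.leaf 2102)) (.leaf 895)) (.node (.leaf 451) (.leaf 1502))) (.node (.node (.leaf 242) (.leaf 1545)) (.node (.leaf 999) (.leaf 1654)))) (.node (.node (.node (.node (.leaf 138) (.leaf 2266)) (.leaf 1012)) (.node (.leaf 564) (.leaf 1904))) (.node (.node (.leaf 552) (.leaf 1663)) (.node (.leaf 1142) (.leaf 2124))))) (.node (.node (.node (.node (.node (.leaf 89) (.leaf 2137)) (.leaf 952)) (.node (.leaf 773) (.leaf 1451))) (.node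 (.node (.leaf 473) (.leaf 1324)) (.node (.leaf 1068) (.leaf 2065)))) (.node (.node (.node (.node (.leaf 318) (.leaf 2301)) (.leaf 1487)) (.node (.leaf 925) (.leaf 1589))) (.node (.node (.leaf 626) (.leaf 1724)) (.node (.leaf 838) (.leaf 1881)))))))) (.node (.node (.node (.node (.node (.node (.node (.node (.leaf 10) (.leaf 1909)) (.leaf 1235)) (.node (.leaf 417) (.leaf 1754))) (.node (.node (.leaf 207) (.leaf 1104)) (.node (.leaf 955) (.leaf 1612)))) (.node (.node (.node (.node (.leaf 107) (.leaf 2057)) (.leaf 975)) (.node (.leaf 528) (.leaf 1482))) (.node (.node (.leaf 310) (.leaf 1632)) (.node (.leaf 1098) (.leaf 2090))))) (.node (.node (.node (.node (.node (.leaf 58) (.leaf 1978)) (.leaf 915)) (.node (.leaf 472) (.leaf 1809))) (.node (.node (.leaf 261) (.leaf 1154)) (.node (.leaf 693) (.leaf 2033)))) (.node (.node (.node (.node (.leaf 271) (.leaf 2197)) (.leaf 1442)) (.node (.leaf 587) (.leaf 1922))) (.node (.node (.leaf 580) (.leaf 1271)) (.node (.leaf 1167)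 (.leaf 2146)))))) (.node (.node (.node (.node (.node (.node (.leaf 34) (.leaf 1941)) (.leaf 889)) (.node (.leaf 560) (.leaf 1376))) (.node (.node (.leaf 235) (.leaf 1130)) (.node (.leaf 668) (.leaf 2005)))) (.node (.node (.node (.node (.leaf 231) (.leaf 2140)) (.leaf 1406)) (.node (.leaf 556) (.leaf 1514))) (.node (.node (.leaf 542) (.leaf 1255)) (.node (.leaf 774) (.leaf 1793))))) (.node (.node (.node (.node (.node (.leaf 149) (.leaf 2115)) (.leaf 1334)) (.node (.leaf 762) (.leaf 1441))) (.node (.node (.leaf 286) (.leaf 1599)) (.node (.leaf 718) (.leaf 1718)))) (.node (.node (.node (.node (.leaf 181) (.leaf 2262)) (.leaf 1477)) (.node (.leaf 893) (.leaf 1952))) (.node (.node (.leaf 392) (.leaf 1307)) (.node (.leaf 1200) (.leaf 1869))))))) (.node (.node (.node (.node (.node (.node (.node (.leaf 22) (.leaf 1925)) (.leaf 875)) (.node (.leaf 672) (.leaf 1768))) (.node (.node (.leaf 369) (.leaf 1522)) (.node (.leaf 654) (.leaf 1653)))) (.node (.node (.node (.node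 (.leaf 209) (.leaf 2080)) (.leaf 1389)) (.node (.leaf 819) (.leaf 1833))) (.node (.node (.leaf 525) (.leaf 1228)) (.node (.leaf 761) (.leaf 1836))))) (.node (.node (.node (.node (.node (.leaf 128) (.leaf 2049)) (.leaf 1315)) (.node (.leaf 486) (.leaf 1824))) (.node (.node (.leaf 449) (.leaf 1169)) (.node (.leaf 705) (.leaf 2044)))) (.node (.node (.node (.node (.leaf 169) (.leaf 2216)) (.leaf 1461)) (.node (.leaf 601) (.leaf 1556))) (.node (.node (.leaf 599) (.leaf 1291)) (.node (.leaf 814) (.leaf 1848)))))) (.node (.node (.node (.node (.node (.node (.leaf 46) (.leaf 2221)) (.leaf 1280)) (.node (.leaf 467) (.leaf 1391))) (.node (.node (.leaf 410) (.leaf 1141)) (.node (.leaf 681) (.leaf 2022)))) (.node (.node (.node (.node (.leaf 250) (.leaf 2278)) (.leaf 1021)) (.node (.leaf 860) (.leaf 1910))) (.node (.node (.leaf 562) (.leaf 1257)) (.node (.leaf 786) (.leaf 1806))))) (.node (.node (.node (.node (.node (.leaf 170) (.leaf 2245)) (.leaf 1354)) (.node (.leaf 513)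 (.leaf 1463))) (.node (.node (.leaf 298) (.leaf 1616)) (.node (.leaf 1079) (.leaf 1740)))) (.node (.node (.node (.node (.leaf 195) (.leaf 2302)) (.leaf 1494)) (.node (.leaf 933) (.leaf 1598))) (.node (.node (.leaf 636) (.leaf 1732)) (.node (.leaf 846) (.leaf 2060))))))))

/-- data -/
def prev0p15 : Trie (ℕ) := .node (.node (.node (.node (.node (.node (.node (.node (.node (.leaf 3) (.leaf 1898)) (.leaf 853)) (.node (.leaf 410) (.leaf 1333))) (.node (.node (.leaf 433) (.leaf 1094)) (.node (.leaf 1136) (.leaf 1605)))) (.node (.node (.node (.node (.leaf 238) (.leaf 2100)) (.leaf 968)) (.node (.leaf 521) (.leaf 1471))) (.node (.node (.leaf 617) (.leaf 1206)) (.node (.leaf 1283) (.leaf 1748))))) (.node (.node (.node (.node (.node (.leaf 52) (.leaf 1971)) (.leaf 1356)) (.node (.leaf 876) (.leaf 1977))) (.node (.node (.leaf 253) (.leaf 1762)) (.node (.leaf 687) (.leaf 1673)))) (.node (.node (.node (.node (.leaf 336) (.leaf 2234)) (.leaf 1026)) (.node (.leaf 579) (.leaf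 1592))) (.node (.node (.leaf 356) (.leaf 1869)) (.node (.leaf 1174) (.leaf 2228)))))) (.node (.node (.node (.node (.node (.node (.leaf 28) (.leaf 2184)) (.leaf 880)) (.node (.leaf 832) (.leaf 1711))) (.node (.node (.leaf 228) (.leaf 1122)) (.node (.leaf 1082) (.leaf 1637)))) (.node (.node (.node (.node (.leaf 124) (.leaf 2214)) (.leaf 999)) (.node (.leaf 549) (.leaf 2051))) (.node (.node (.leaf 329) (.leaf 1846)) (.node (.leaf 1323) (.leaf 1782))))) (.node (.node (.node (.node (.node (.leaf 186) (.leaf 2004)) (.leaf 1173)) (.node (.leaf 917) (.leaf 1431))) (.node (.node (.leaf 279) (.leaf 1179)) (.node (.leaf 806) (.leaf 1708)))) (.node (.node (.node (.node (.leaf 384) (.leaf 2240)) (.leaf 1062)) (.node (.leaf 608) (.leaf 1566))) (.node (.node (.leaf 566) (.leaf 1298)) (.node (.leaf 1396) (.leaf 1857))))))) (.node (.node (.node (.node (.node (.node (.node (.leaf 46) (.leaf 1919)) (.leaf 868)) (.node (.leaf 424) (.leaf 1481))) (.node (.node (.leaf 459) (.leaf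 1712)) (.node (.leaf 1157) (.leaf 2136)))) (.node (.node (.node (.node (.leaf 112) (.leaf 2209)) (.leaf 1453)) (.node (.leaf 534) (.leaf 1489))) (.node (.node (.leaf 316) (.leaf 1221)) (.node (.leaf 753) (.leaf 2172))))) (.node (.node (.node (.node (.node (.leaf 158) (.leaf 2109)) (.leaf 922)) (.node (.leaf 895) (.leaf 1717))) (.node (.node (.leaf 553) (.leaf 1770)) (.node (.leaf 804) (.leaf 1775)))) (.node (.node (.node (.node (.leaf 162) (.leaf 2220)) (.leaf 1044)) (.node (.leaf 595) (.leaf 1548))) (.node (.node (.leaf 473) (.leaf 1882)) (.node (.leaf 805) (.leaf 2191)))))) (.node (.node (.node (.node (.node (.node (.leaf 40) (.leaf 1952)) (.leaf 1488)) (.node (.leaf 854) (.leaf 1383))) (.node (.node (.leaf 506) (.leaf 1135)) (.node (.leaf 674) (.leaf 2160)))) (.node (.node (.node (.node (.leaf 312) (.leaf 2145)) (.leaf 1624)) (.node (.leaf 1028) (.leaf 1522))) (.node (.node (.leaf 343) (.leaf 1249)) (.node (.leaf 779) (.leaf 1800))))) (.node (.node (.node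 (.node (.node (.leaf 212) (.leaf 2022)) (.leaf 1553)) (.node (.leaf 507) (.leaf 2016))) (.node (.node (.leaf 291) (.leaf 1193)) (.node (.leaf 726) (.leaf 1727)))) (.node (.node (.node (.node (.leaf 188) (.leaf 2278)) (.leaf 1078)) (.node (.leaf 621) (.leaf 2066))) (.node (.node (.leaf 398) (.leaf 1314)) (.node (.leaf 1024) (.leaf 2237)))))))) (.node (.node (.node (.node (.node (.node (.node (.node (.leaf 32) (.leaf 2205)) (.leaf 860)) (.node (.leaf 800) (.leaf 1345))) (.node (.node (.leaf 446) (.leaf 1704)) (.node (.leaf 641) (.leaf 2104)))) (.node (.node (.node (.node (.leaf 251) (.leaf 2154)) (.leaf 1579)) (.node (.leaf 978) (.leaf 2034))) (.node (.node (.leaf 628) (.leaf 1212)) (.node (.leaf 746) (.leaf 1757))))) (.node (.node (.node (.node (.node (.leaf 144) (.leaf 2085)) (.leaf 1506)) (.node (.leaf 884) (.leaf 1406))) (.node (.node (.leaf 539) (.leaf 1765)) (.node (.leaf 1015) (.leaf 1679)))) (.node (.node (.node (.node (.leaf 157) (.leaf 2186)) (.leaf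 1035)) (.node (.leaf 1063) (.leaf 1543))) (.node (.node (.leaf 365) (.leaf 1875)) (.node (.leaf 798) (.leaf 1829)))))) (.node (.node (.node (.node (.node (.node (.leaf 88) (.leaf 2006)) (.leaf 1478)) (.node (.leaf 444) (.leaf 1491))) (.node (.node (.leaf 493) (.leaf 1707)) (.node (.leaf 1183) (.leaf 1645)))) (.node (.node (.node (.node (.leaf 131) (.leaf 2122)) (.leaf 1005)) (.node (.leaf 1017) (.leaf 1772))) (.node (.node (.leaf 337) (.leaf 1243)) (.node (.leaf 1335) (.leaf 2002))))) (.node (.node (.node (.node (.node (.leaf 82) (.leaf 2013)) (.leaf 943)) (.node (.leaf 500) (.leaf 2008))) (.node (.node (.leaf 584) (.leaf 1184)) (.node (.leaf 1254) (.leaf 2119)))) (.node (.node (.node (.node (.leaf 397) (.leaf 2287)) (.leaf 1071)) (.node (.leaf 614) (.leaf 1580))) (.node (.node (.leaf 756) (.leaf 1902)) (.node (.leaf 831) (.leaf 2225))))))) (.node (.node (.node (.node (.node (.node (.node (.leaf 60) (.leaf 2065)) (.leaf 1463)) (.node (.leaf 432) (.leaf 1364)))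 (.node (.node (.leaf 221) (.leaf 1115)) (.node (.leaf 1169) (.leaf 1629)))) (.node (.node (.node (.node (.leaf 118) (.leaf 2101)) (.leaf 992)) (.node (.leaf 541) (.leaf 1499))) (.node (.node (.leaf 322) (.leaf 1564)) (.node (.leaf 1313) (.leaf 1774))))) (.node (.node (.node (.node (.node (.leaf 70) (.leaf 1995)) (.leaf 928)) (.node (.leaf 814) (.leaf 1422))) (.node (.node (.leaf 273) (.leaf 1778)) (.node (.leaf 840) (.leaf 1696)))) (.node (.node (.node (.node (.leaf 373) (.leaf 2271)) (.leaf 1053)) (.node (.leaf 1083) (.leaf 1936))) (.node (.node (.leaf 379) (.leaf 1321)) (.node (.leaf 1388) (.leaf 2241)))))) (.node (.node (.node (.node (.node (.node (.leaf 116) (.leaf 1963)) (.leaf 901)) (.node (.leaf 457) (.leaf 1968))) (.node (.node (.leaf 247) (.leaf 1753)) (.node (.leaf 1201) (.leaf 1662)))) (.node (.node (.node (.node (.leaf 143) (.leaf 2159)) (.leaf 1362)) (.node (.leaf 571) (.leaf 1530))) (.node (.node (.leaf 349) (.leaf 1280)) (.node (.leaf 828) (.leaf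 2162))))) (.node (.node (.node (.node (.node (.leaf 94) (.leaf 2031)) (.leaf 960)) (.node (.leaf 725) (.leaf 1660))) (.node (.node (.leaf 447) (.leaf 1200)) (.node (.leaf 733) (.leaf 1957)))) (.node (.node (.node (.node (.leaf 423) (.leaf 2302)) (.leaf 1086)) (.node (.leaf 626) (.leaf 1666))) (.node (.node (.leaf 404) (.leaf 1325)) (.node (.leaf 1429) (.leaf 1889))))))))

/-- data -/
def prev0 : Trie (ℕ) := .node (.node (.node (.node (prev0p0) (prev0p8)) (.node (prev0p4) (prev0p12))) (.node (.node (prev0p2) (prev0p10)) (.node (prev0p6) (prev0p14)))) (.node (.node (.node (prev0p1) (prev0p9)) (.node (prev0p5) (prev0p13))) (.node (.node (prev0p3) (prev0p11)) (.node (prev0p7) (prev0p15))))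

/-- data -/
def lab0p0 : Trie (ℕ) := .node (.node (.node (.node (.node (.node (.node (.node (.node (.leaf 0x0) (.leaf 0x0)) (.leaf 0x0)) (.node (.leaf 0x0) (.leaf 0x0))) (.node (.node (.leaf 0x6e0004) (.leaf 0x0)) (.node (.leaf 0x0) (.leaf 0x1d343006)))) (.node (.node (.node (.node (.leaf 0x0) (.leaf 0x0)) (.leaf 0x0)) (.node (.leaf 0x0) (.leaf 0x0))) (.node (.node (.leaf 0x0) (.leaf 0x0)) (.node (.leaf 0x0) (.leaf 0x0))))) (.node (.node (.node (.node (.node (.leaf 0x0) (.leaf 0x0)) (.leaf 0x0)) (.node (.leaf 0x0) (.leaf 0x0))) (.node (.node (.leaf 0x0) (.leaf 0x0)) (.node (.leaf 0x0) (.leaf 0x14002)))) (.node (.node (.node (.node (.leaf 0x0) (.leaf 0x0)) (.leaf 0x314b005)) (.node (.leaf 0x0) (.leaf 0x0))) (.node (.node (.leaf 0x0) (.leaf 0x0)) (.node (.leaf 0x0) (.leaf 0x0)))))) (.node (.node (.node (.node (.node (.node (.leaf 0x0) (.leaf 0x0)) (.leaf 0x0)) (.node (.leaf 0x0) (.leaf 0x0))) (.node (.node (.leaf 0x0) (.leaf 0x0)) (.node (.leaf 0x0) (.leaf 0x0))))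 (.node (.node (.node (.node (.leaf 0x0) (.leaf 0x0)) (.leaf 0x0)) (.node (.leaf 0x0) (.leaf 0x0))) (.node (.node (.leaf 0x0) (.leaf 0x0)) (.node (.leaf 0x0) (.leaf 0x0))))) (.node (.node (.node (.node (.node (.leaf 0x0) (.leaf 0x0)) (.leaf 0x0)) (.node (.leaf 0x0) (.leaf 0x0))) (.node (.node (.leaf 0x0) (.leaf 0x0)) (.node (.leaf 0x0) (.leaf 0x40e4005)))) (.node (.node (.node (.node (.leaf 0x0) (.leaf 0x4618005)) (.leaf 0x0)) (.node (.leaf 0x0) (.leaf 0x0))) (.node (.node (.leaf 0x0) (.leaf 0x0)) (.node (.leaf 0x1448e9007) (.leaf 0x0))))))) (.node (.node (.node (.node (.node (.node (.node (.leaf 0x0) (.leaf 0xaa89006)) (.leaf 0x0)) (.node (.leaf 0x0) (.leaf 0x0))) (.node (.node (.leaf 0x0) (.leaf 0x0)) (.node (.leaf 0x0) (.leaf 0x0)))) (.node (.node (.node (.node (.leaf 0x0) (.leaf 0x6b003)) (.leaf 0x0)) (.node (.leaf 0x0) (.leaf 0x370a005))) (.node (.node (.leaf 0x0) (.leaf 0x0)) (.node (.leaf 0x0) (.leaf 0x0))))) (.node (.node (.node (.node (.node (.leaf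 0x0) (.leaf 0x0)) (.leaf 0x0)) (.node (.leaf 0x0) (.leaf 0x0))) (.node (.node (.leaf 0x0) (.leaf 0x0)) (.node (.leaf 0x1d50b006) (.leaf 0x0)))) (.node (.node (.node (.node (.leaf 0x0) (.leaf 0x0)) (.leaf 0x0)) (.node (.leaf 0x0) (.leaf 0x0))) (.node (.node (.leaf 0x0) (.leaf 0x3002)) (.node (.leaf 0x0) (.leaf 0x0)))))) (.node (.node (.node (.node (.node (.node (.leaf 0x0) (.leaf 0xe0003)) (.leaf 0x0)) (.node (.leaf 0x0) (.leaf 0x3891005))) (.node (.node (.leaf 0x0) (.leaf 0x0)) (.node (.leaf 0x0) (.leaf 0x0)))) (.node (.node (.node (.node (.leaf 0x0) (.leaf 0x2ac4005)) (.leaf 0x0)) (.node (.leaf 0x0) (.leaf 0x0))) (.node (.node (.leaf 0x0) (.leaf 0x0)) (.node (.leaf 0x0) (.leaf 0x0))))) (.node (.node (.node (.node (.node (.leaf 0x0) (.leaf 0x0)) (.leaf 0x0)) (.node (.leaf 0x0) (.leaf 0x21511006))) (.node (.node (.leaf 0x0) (.leaf 0x263004)) (.node (.leaf 0x0) (.leaf 0x0)))) (.node (.node (.node (.node (.leaf 0x0) (.leaf 0x0)) (.leaf 0x0)) (.node (.leaf 0x0)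 (.leaf 0x0))) (.node (.node (.leaf 0x0) (.leaf 0x1550d006)) (.node (.leaf 0x0) (.leaf 0x18cb005)))))))) (.node (.node (.node (.node (.node (.node (.node (.node (.leaf 0x0) (.leaf 0x2001)) (.leaf 0x0)) (.node (.leaf 0x0) (.leaf 0x0))) (.node (.node (.leaf 0x0) (.leaf 0x0)) (.node (.leaf 0x0) (.leaf 0x0)))) (.node (.node (.node (.node (.leaf 0x0) (.leaf 0x0)) (.leaf 0x0)) (.node (.leaf 0x0) (.leaf 0x0))) (.node (.node (.leaf 0x0) (.leaf 0x0)) (.node (.leaf 0x0) (.leaf 0x0))))) (.node (.node (.node (.node (.node (.leaf 0x0) (.leaf 0x0)) (.leaf 0x718005)) (.node (.leaf 0x0) (.leaf 0x0))) (.node (.node (.leaf 0x0) (.leaf 0x0)) (.node (.leaf 0x0) (.leaf 0x0)))) (.node (.node (.node (.node (.leaf 0x0) (.leaf 0x0)) (.leaf 0x0)) (.node (.leaf 0x1448e9007) (.leaf 0xa1c004))) (.node (.node (.leaf 0x0) (.leaf 0x1692d8007)) (.node (.leaf 0x0) (.leaf 0x0)))))) (.node (.node (.node (.node (.node (.node (.leaf 0x0) (.leaf 0x0)) (.leaf 0x0)) (.node (.leaf 0x0) (.leaf 0x0)))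 (.node (.node (.leaf 0x0) (.leaf 0x0)) (.node (.leaf 0x4618005) (.leaf 0x0)))) (.node (.node (.node (.node (.leaf 0x0) (.leaf 0x0)) (.leaf 0x0)) (.node (.leaf 0x0) (.leaf 0x0))) (.node (.node (.leaf 0x0) (.leaf 0x0)) (.node (.leaf 0x0) (.leaf 0x0))))) (.node (.node (.node (.node (.node (.leaf 0x0) (.leaf 0x244a005)) (.leaf 0x0)) (.node (.leaf 0x0) (.leaf 0x0))) (.node (.node (.leaf 0x0) (.leaf 0x0)) (.node (.leaf 0x0) (.leaf 0x0)))) (.node (.node (.node (.node (.leaf 0x0) (.leaf 0x0)) (.leaf 0x0)) (.node (.leaf 0x0) (.leaf 0x0))) (.node (.node (.leaf 0x0) (.leaf 0x0)) (.node (.leaf 0x0) (.leaf 0x325b005))))))) (.node (.node (.node (.node (.node (.node (.node (.leaf 0x0) (.leaf 0x0)) (.leaf 0x0)) (.node (.leaf 0x0) (.leaf 0x0))) (.node (.node (.leaf 0x0) (.leaf 0x0)) (.node (.leaf 0x0) (.leaf 0x0)))) (.node (.node (.node (.node (.leaf 0x0) (.leaf 0x0)) (.leaf 0x0)) (.node (.leaf 0x0) (.leaf 0x0))) (.node (.node (.leaf 0x0) (.leaf 0x0)) (.node (.leaf 0x0) (.leaf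 0x0))))) (.node (.node (.node (.node (.node (.leaf 0x0) (.leaf 0x50e1005)) (.leaf 0x0)) (.node (.leaf 0x0) (.leaf 0x1b16b006))) (.node (.node (.leaf 0x0) (.leaf 0x0)) (.node (.leaf 0x0) (.leaf 0x0)))) (.node (.node (.node (.node (.leaf 0x0) (.leaf 0x0)) (.leaf 0x0)) (.node (.leaf 0x0) (.leaf 0x0))) (.node (.node (.leaf 0x0) (.leaf 0x15502006)) (.node (.leaf 0x0) (.leaf 0x0)))))) (.node (.node (.node (.node (.node (.node (.leaf 0x0) (.leaf 0x0)) (.leaf 0x0)) (.node (.leaf 0x0) (.leaf 0x0))) (.node (.node (.leaf 0x0) (.leaf 0x0)) (.node (.leaf 0x0) (.leaf 0x0)))) (.node (.node (.node (.node (.leaf 0x0) (.leaf 0x0)) (.leaf 0x0)) (.node (.leaf 0x0) (.leaf 0x0))) (.node (.node (.leaf 0x0) (.leaf 0x0)) (.node (.leaf 0x0) (.leaf 0x0))))) (.node (.node (.node (.node (.node (.leaf 0x0) (.leaf 0x0)) (.leaf 0x0)) (.node (.leaf 0x0) (.leaf 0xd8a21007))) (.node (.node (.leaf 0x0) (.leaf 0x0)) (.node (.leaf 0x0) (.leaf 0x0)))) (.node (.node (.node (.node (.leaf 0x0) (.leaf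 0x0)) (.leaf 0x1550d006)) (.node (.leaf 0x0) (.leaf 0x0))) (.node (.node (.leaf 0x0) (.leaf 0x0)) (.node (.leaf 0x0) (.leaf 0x0))))))))

/-- data -/
def lab0p1 : Trie (ℕ) := .node (.node (.node (.node (.node (.node (.node (.node (.node (.leaf 0x0) (.leaf 0x3a10005)) (.leaf 0x10a889007)) (.node (.leaf 0x0) (.leaf 0x0))) (.node (.node (.leaf 0x0) (.leaf 0x29895006)) (.node (.leaf 0x0) (.leaf 0x0)))) (.node (.node (.node (.node (.leaf 0x0) (.leaf 0x0)) (.leaf 0x0)) (.node (.leaf 0x0) (.leaf 0x0))) (.node (.node (.leaf 0x0) (.leaf 0x0)) (.node (.leaf 0x0) (.leaf 0x315004))))) (.node (.node (.node (.node (.node (.leaf 0x0) (.leaf 0x20002)) (.leaf 0x18629006)) (.node (.leaf 0x4001) (.leaf 0x1088c006))) (.node (.node (.leaf 0x0) (.leaf 0x0)) (.node (.leaf 0x0) (.leaf 0x142c2006)))) (.node (.node (.node (.node (.leaf 0x0) (.leaf 0x0)) (.leaf 0x0)) (.node (.leaf 0x0) (.leaf 0x3a24005))) (.node (.node (.leaf 0x0) (.leaf 0x15002)) (.node (.leaf 0x0) (.leaf 0x1c629006))))))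 (.node (.node (.node (.node (.node (.node (.leaf 0x0) (.leaf 0x0)) (.leaf 0x0)) (.node (.leaf 0x575b006) (.leaf 0x5669006))) (.node (.node (.leaf 0x0) (.leaf 0x0)) (.node (.leaf 0x0) (.leaf 0x0)))) (.node (.node (.node (.node (.leaf 0x0) (.leaf 0x0)) (.leaf 0x0)) (.node (.leaf 0x0) (.leaf 0x0))) (.node (.node (.leaf 0x0) (.leaf 0x0)) (.node (.leaf 0x0) (.leaf 0x0))))) (.node (.node (.node (.node (.node (.leaf 0x0) (.leaf 0x30c5005)) (.leaf 0x0)) (.node (.leaf 0x0) (.leaf 0x0))) (.node (.node (.leaf 0x0) (.leaf 0x0)) (.node (.leaf 0x0) (.leaf 0x0)))) (.node (.node (.node (.node (.leaf 0x0) (.leaf 0x6988b007)) (.leaf 0x3a10006)) (.node (.leaf 0x0) (.leaf 0x0))) (.node (.node (.leaf 0x0) (.leaf 0x0)) (.node (.leaf 0x0) (.leaf 0x0))))))) (.node (.node (.node (.node (.node (.node (.node (.leaf 0x0) (.leaf 0x9aeb006)) (.leaf 0x0)) (.node (.leaf 0x0) (.leaf 0x0))) (.node (.node (.leaf 0x0) (.leaf 0x0)) (.node (.leaf 0x0) (.leaf 0x0)))) (.node (.node (.node (.node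 (.leaf 0x0) (.leaf 0x0)) (.leaf 0x0)) (.node (.leaf 0x0) (.leaf 0x0))) (.node (.node (.leaf 0x0) (.leaf 0x0)) (.node (.leaf 0x0) (.leaf 0x2148a006))))) (.node (.node (.node (.node (.node (.leaf 0x0) (.leaf 0x0)) (.leaf 0x0)) (.node (.leaf 0x0) (.leaf 0x0))) (.node (.node (.leaf 0x0) (.leaf 0x0)) (.node (.leaf 0x0) (.leaf 0x23002)))) (.node (.node (.node (.node (.leaf 0x2891d006) (.leaf 0x0)) (.leaf 0x0)) (.node (.leaf 0x0) (.leaf 0x0))) (.node (.node (.leaf 0x0) (.leaf 0x0)) (.node (.leaf 0x0) (.leaf 0x0)))))) (.node (.node (.node (.node (.node (.node (.leaf 0x0) (.leaf 0x0)) (.leaf 0x0)) (.node (.leaf 0x0) (.leaf 0x0))) (.node (.node (.leaf 0x0) (.leaf 0x0)) (.node (.leaf 0x0) (.leaf 0x0)))) (.node (.node (.node (.node (.leaf 0x0) (.leaf 0x6cb004)) (.leaf 0x0)) (.node (.leaf 0x0) (.leaf 0x0))) (.node (.node (.leaf 0x0) (.leaf 0x0)) (.node (.leaf 0x0) (.leaf 0x0))))) (.node (.node (.node (.node (.node (.leaf 0x0) (.leaf 0x0)) (.leaf 0x0)) (.node (.leaf 0x0)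 (.leaf 0x0))) (.node (.node (.leaf 0x0) (.leaf 0x1d343006)) (.node (.leaf 0x0) (.leaf 0x0)))) (.node (.node (.node (.node (.leaf 0x0) (.leaf 0x2066b006)) (.leaf 0x1550d006)) (.node (.leaf 0x0) (.leaf 0x0))) (.node (.node (.leaf 0x0) (.leaf 0xac4004)) (.node (.leaf 0x0) (.leaf 0x2b70a006)))))))) (.node (.node (.node (.node (.node (.node (.node (.node (.leaf 0x0) (.leaf 0x28ae9007)) (.leaf 0x56e1005)) (.node (.leaf 0x0) (.leaf 0x0))) (.node (.node (.leaf 0x0) (.leaf 0x0)) (.node (.leaf 0x0) (.leaf 0x0)))) (.node (.node (.node (.node (.leaf 0x0) (.leaf 0xa868006)) (.leaf 0x0)) (.node (.leaf 0x0) (.leaf 0x0))) (.node (.node (.leaf 0x0) (.leaf 0x0)) (.node (.leaf 0x0) (.leaf 0x0))))) (.node (.node (.node (.node (.node (.leaf 0x0) (.leaf 0x2464d006)) (.leaf 0x0)) (.node (.leaf 0x0) (.leaf 0x14742006))) (.node (.node (.leaf 0x0) (.leaf 0x0)) (.node (.leaf 0x314b005) (.leaf 0x0)))) (.node (.node (.node (.node (.leaf 0x0) (.leaf 0x0)) (.leaf 0x28c004)) (.node (.leaf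 0x1448e9007) (.leaf 0x0))) (.node (.node (.leaf 0x0) (.leaf 0x0)) (.node (.leaf 0x0) (.leaf 0x0)))))) (.node (.node (.node (.node (.node (.node (.leaf 0x0) (.leaf 0x0)) (.leaf 0x0)) (.node (.leaf 0x0) (.leaf 0x22b4c006))) (.node (.node (.leaf 0x0) (.leaf 0x0)) (.node (.leaf 0x0) (.leaf 0x954b006)))) (.node (.node (.node (.node (.leaf 0x0) (.leaf 0x0)) (.leaf 0x0)) (.node (.leaf 0x0) (.leaf 0x0))) (.node (.node (.leaf 0x0) (.leaf 0x0)) (.node (.leaf 0x0) (.leaf 0x0))))) (.node (.node (.node (.node (.node (.leaf 0x0) (.leaf 0x3a10006)) (.leaf 0x0)) (.node (.leaf 0x0) (.leaf 0x0))) (.node (.node (.leaf 0x314b006) (.leaf 0x0)) (.node (.leaf 0x0) (.leaf 0x28489007)))) (.node (.node (.node (.node (.leaf 0x0) (.leaf 0x0)) (.leaf 0x0)) (.node (.leaf 0x0) (.leaf 0x0))) (.node (.node (.leaf 0x0) (.leaf 0x0)) (.node (.leaf 0x0) (.leaf 0x0))))))) (.node (.node (.node (.node (.node (.node (.node (.leaf 0x0) (.leaf 0x0)) (.leaf 0x0)) (.node (.leaf 0x0) (.leaf 0xa96e0007)))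 (.node (.node (.leaf 0x0) (.leaf 0x0)) (.node (.leaf 0x0) (.leaf 0xb54005)))) (.node (.node (.node (.node (.leaf 0x0) (.leaf 0x0)) (.leaf 0x0)) (.node (.leaf 0x0) (.leaf 0x0))) (.node (.node (.leaf 0x0) (.leaf 0x40a0006)) (.node (.leaf 0x0) (.leaf 0xa94004))))) (.node (.node (.node (.node (.node (.leaf 0x0) (.leaf 0x0)) (.leaf 0x0)) (.node (.leaf 0x0) (.leaf 0x0))) (.node (.node (.leaf 0x0) (.leaf 0x0)) (.node (.leaf 0x0) (.leaf 0x29895006)))) (.node (.node (.node (.node (.leaf 0x0) (.leaf 0x0)) (.leaf 0x0)) (.node (.leaf 0x0) (.leaf 0x0))) (.node (.node (.leaf 0x0) (.leaf 0x0)) (.node (.leaf 0x40a1006) (.leaf 0x0)))))) (.node (.node (.node (.node (.node (.node (.leaf 0x0) (.leaf 0x42aa006)) (.leaf 0x0)) (.node (.leaf 0x0) (.leaf 0x511004))) (.node (.node (.leaf 0x0) (.leaf 0x0)) (.node (.leaf 0x0) (.leaf 0x0)))) (.node (.node (.node (.node (.leaf 0x0) (.leaf 0x21a91006)) (.leaf 0x0)) (.node (.leaf 0x0) (.leaf 0x0))) (.node (.node (.leaf 0x0) (.leaf 0x0)) (.node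 (.leaf 0x2891d006) (.leaf 0x0))))) (.node (.node (.node (.node (.node (.leaf 0x0) (.leaf 0x154003)) (.leaf 0x0)) (.node (.leaf 0x0) (.leaf 0x0))) (.node (.node (.leaf 0x0) (.leaf 0x550b005)) (.node (.leaf 0x0) (.leaf 0x0)))) (.node (.node (.node (.node (.leaf 0x0) (.leaf 0xc3110007)) (.leaf 0x0)) (.node (.leaf 0x0) (.leaf 0x0))) (.node (.node (.leaf 0x0) (.leaf 0x0)) (.node (.leaf 0x0) (.leaf 0x6b003))))))))

/-- data -/
def lab0p2 : Trie (ℕ) := .node (.node (.node (.node (.node (.node (.node (.node (.node (.leaf 0x0) (.leaf 0x2b911006)) (.leaf 0x0)) (.node (.leaf 0x0) (.leaf 0x0))) (.node (.node (.leaf 0x0) (.leaf 0x0)) (.node (.leaf 0x0) (.leaf 0x0)))) (.node (.node (.node (.node (.leaf 0x0) (.leaf 0x0)) (.leaf 0x0)) (.node (.leaf 0x0) (.leaf 0x2001))) (.node (.node (.leaf 0x0) (.leaf 0x0)) (.node (.leaf 0x0) (.leaf 0x0))))) (.node (.node (.node (.node (.node (.leaf 0x0) (.leaf 0x121aa1007)) (.leaf 0x0)) (.node (.leaf 0x0) (.leaf 0x0))) (.node (.node (.leaf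 0x0) (.leaf 0x0)) (.node (.leaf 0x0) (.leaf 0x0)))) (.node (.node (.node (.node (.leaf 0x0) (.leaf 0x0)) (.leaf 0x0)) (.node (.leaf 0x0) (.leaf 0x0))) (.node (.node (.leaf 0x0) (.leaf 0x0)) (.node (.leaf 0x0) (.leaf 0x0)))))) (.node (.node (.node (.node (.node (.node (.leaf 0x0) (.leaf 0x2a2c3006)) (.leaf 0x0)) (.node (.leaf 0x0) (.leaf 0x0))) (.node (.node (.leaf 0x0) (.leaf 0x0)) (.node (.leaf 0x0) (.leaf 0x0)))) (.node (.node (.node (.node (.leaf 0x0) (.leaf 0x0)) (.leaf 0x0)) (.node (.leaf 0x0) (.leaf 0xaab004))) (.node (.node (.leaf 0x0) (.leaf 0x0)) (.node (.leaf 0x0) (.leaf 0x0))))) (.node (.node (.node (.node (.node (.leaf 0x0) (.leaf 0x0)) (.leaf 0x0)) (.node (.leaf 0x0) (.leaf 0x0))) (.node (.node (.leaf 0x0) (.leaf 0x0)) (.node (.leaf 0x30c5005) (.leaf 0x0)))) (.node (.node (.node (.node (.leaf 0x0) (.leaf 0x0)) (.leaf 0x0)) (.node (.leaf 0x0) (.leaf 0x0))) (.node (.node (.leaf 0x0) (.leaf 0x0)) (.node (.leaf 0x0) (.leaf 0x0))))))) (.node (.node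 (.node (.node (.node (.node (.node (.leaf 0x0) (.leaf 0x0)) (.leaf 0x0)) (.node (.leaf 0x0) (.leaf 0x0))) (.node (.node (.leaf 0x0) (.leaf 0x0)) (.node (.leaf 0x0) (.leaf 0x0)))) (.node (.node (.node (.node (.leaf 0x0) (.leaf 0x0)) (.leaf 0x0)) (.node (.leaf 0x0) (.leaf 0x0))) (.node (.node (.leaf 0x0) (.leaf 0x0)) (.node (.leaf 0x0) (.leaf 0x0))))) (.node (.node (.node (.node (.node (.leaf 0x0) (.leaf 0x0)) (.leaf 0x0)) (.node (.leaf 0x0) (.leaf 0x0))) (.node (.node (.leaf 0x0) (.leaf 0x0)) (.node (.leaf 0x0) (.leaf 0x0)))) (.node (.node (.node (.node (.leaf 0x0) (.leaf 0x0)) (.leaf 0x0)) (.node (.leaf 0x5001) (.leaf 0x0))) (.node (.node (.leaf 0x0) (.leaf 0x0)) (.node (.leaf 0x0) (.leaf 0x0)))))) (.node (.node (.node (.node (.node (.node (.leaf 0x0) (.leaf 0x30c5005)) (.leaf 0x0)) (.node (.leaf 0x0) (.leaf 0x0))) (.node (.node (.leaf 0x0) (.leaf 0x0)) (.node (.leaf 0x0) (.leaf 0x0)))) (.node (.node (.node (.node (.leaf 0x0) (.leaf 0x0)) (.leaf 0x0)) (.node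 (.leaf 0x0) (.leaf 0x0))) (.node (.node (.leaf 0x0) (.leaf 0x1001)) (.node (.leaf 0x1551005) (.leaf 0x0))))) (.node (.node (.node (.node (.node (.leaf 0x0) (.leaf 0x30c5005)) (.leaf 0x0)) (.node (.leaf 0x0) (.leaf 0x0))) (.node (.node (.leaf 0x0) (.leaf 0x0)) (.node (.leaf 0x0) (.leaf 0x1a51005)))) (.node (.node (.node (.node (.leaf 0x352004) (.leaf 0x0)) (.leaf 0x0)) (.node (.leaf 0x0) (.leaf 0x0))) (.node (.node (.leaf 0x0) (.leaf 0x0)) (.node (.leaf 0x0) (.leaf 0x0)))))))) (.node (.node (.node (.node (.node (.node (.node (.node (.leaf 0x0) (.leaf 0x0)) (.leaf 0x0)) (.node (.leaf 0x0) (.leaf 0x0))) (.node (.node (.leaf 0x0) (.leaf 0x0)) (.node (.leaf 0x0) (.leaf 0x0)))) (.node (.node (.node (.node (.leaf 0x0) (.leaf 0x0)) (.leaf 0x0)) (.node (.leaf 0x0) (.leaf 0x0))) (.node (.node (.leaf 0x0) (.leaf 0x0)) (.node (.leaf 0x0) (.leaf 0x0))))) (.node (.node (.node (.node (.node (.leaf 0x0) (.leaf 0x11c349007)) (.leaf 0x325b005)) (.node (.leaf 0x0) (.leaf 0x0)))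 (.node (.node (.leaf 0x0) (.leaf 0x0)) (.node (.leaf 0x0) (.leaf 0x370a005)))) (.node (.node (.node (.node (.leaf 0x0) (.leaf 0x1688d9007)) (.leaf 0x0)) (.node (.leaf 0x0) (.leaf 0x0))) (.node (.node (.leaf 0x0) (.leaf 0x0)) (.node (.leaf 0x0) (.leaf 0x0)))))) (.node (.node (.node (.node (.node (.node (.leaf 0x0) (.leaf 0x21318006)) (.leaf 0x0)) (.node (.leaf 0x0) (.leaf 0x0))) (.node (.node (.leaf 0x0) (.leaf 0x0)) (.node (.leaf 0x0) (.leaf 0x1c810006)))) (.node (.node (.node (.node (.leaf 0x0) (.leaf 0x0)) (.leaf 0x0)) (.node (.leaf 0x0) (.leaf 0x0))) (.node (.node (.leaf 0x0) (.leaf 0x1)) (.node (.leaf 0x0) (.leaf 0x0))))) (.node (.node (.node (.node (.node (.leaf 0x0) (.leaf 0x0)) (.leaf 0x0)) (.node (.leaf 0x0) (.leaf 0x0))) (.node (.node (.leaf 0x1001) (.leaf 0x0)) (.node (.leaf 0x0) (.leaf 0x0)))) (.node (.node (.node (.node (.leaf 0x0) (.leaf 0xeb659007)) (.leaf 0x0)) (.node (.leaf 0x0) (.leaf 0x3854005))) (.node (.node (.leaf 0x0) (.leaf 0x1b16b006))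 (.node (.leaf 0x0) (.leaf 0x0))))))) (.node (.node (.node (.node (.node (.node (.node (.leaf 0x0) (.leaf 0x0)) (.leaf 0x0)) (.node (.leaf 0x0) (.leaf 0x23869007))) (.node (.node (.leaf 0x0) (.leaf 0x0)) (.node (.leaf 0x0) (.leaf 0x0)))) (.node (.node (.node (.node (.leaf 0x0) (.leaf 0x0)) (.leaf 0x0)) (.node (.leaf 0x0) (.leaf 0x0))) (.node (.node (.leaf 0x0) (.leaf 0x0)) (.node (.leaf 0x3001) (.leaf 0x0))))) (.node (.node (.node (.node (.node (.leaf 0x0) (.leaf 0x20002)) (.leaf 0x0)) (.node (.leaf 0x0) (.leaf 0x0))) (.node (.node (.leaf 0x0) (.leaf 0x0)) (.node (.leaf 0x0) (.leaf 0x0)))) (.node (.node (.node (.node (.leaf 0x0) (.leaf 0x0)) (.leaf 0x0)) (.node (.leaf 0x0) (.leaf 0x0))) (.node (.node (.leaf 0x0) (.leaf 0x0)) (.node (.leaf 0x0) (.leaf 0x0)))))) (.node (.node (.node (.node (.node (.node (.leaf 0x0) (.leaf 0x5351006)) (.leaf 0x0)) (.node (.leaf 0x0) (.leaf 0x22268006))) (.node (.node (.leaf 0x0) (.leaf 0x0)) (.node (.leaf 0x0) (.leaf 0x28862006))))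 (.node (.node (.node (.node (.leaf 0x0) (.leaf 0xaa89006)) (.leaf 0x0)) (.node (.leaf 0x0) (.leaf 0x0))) (.node (.node (.leaf 0x0) (.leaf 0x0)) (.node (.leaf 0x0) (.leaf 0x4618005))))) (.node (.node (.node (.node (.node (.leaf 0x0) (.leaf 0x0)) (.leaf 0x2001)) (.node (.leaf 0x1551005) (.leaf 0x0))) (.node (.node (.leaf 0x0) (.leaf 0x0)) (.node (.leaf 0x0) (.leaf 0x0)))) (.node (.node (.node (.node (.leaf 0x0) (.leaf 0x0)) (.leaf 0x0)) (.node (.leaf 0x0) (.leaf 0x0))) (.node (.node (.leaf 0x0) (.leaf 0x0)) (.node (.leaf 0x0) (.leaf 0x23318006))))))))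

/-- data -/
def lab0p3 : Trie (ℕ) := .node (.node (.node (.node (.node (.node (.node (.node (.node (.leaf 0x0) (.leaf 0x0)) (.leaf 0x0)) (.node (.leaf 0x0) (.leaf 0x2b4b006))) (.node (.node (.leaf 0x0) (.leaf 0xa54004)) (.node (.leaf 0x0) (.leaf 0x0)))) (.node (.node (.node (.node (.leaf 0x0) (.leaf 0x20b4d006)) (.leaf 0x0)) (.node (.leaf 0x0) (.leaf 0x0))) (.node (.node (.leaf 0x0) (.leaf 0x0)) (.node (.leaf 0x0) (.leaf 0x0))))) (.node (.node (.node (.node (.node (.leaf 0x0) (.leaf 0x241b005)) (.leaf 0x0)) (.node (.leaf 0x0) (.leaf 0x0))) (.node (.node (.leaf 0x0) (.leaf 0x0)) (.node (.leaf 0x0) (.leaf 0x0)))) (.node (.node (.node (.node (.leaf 0x0) (.leaf 0x0)) (.leaf 0x0)) (.node (.leaf 0x0) (.leaf 0x0))) (.node (.node (.leaf 0x0) (.leaf 0x0)) (.node (.leaf 0x0) (.leaf 0x8c8e1007)))))) (.node (.node (.node (.node (.node (.node (.leaf 0x0) (.leaf 0x0)) (.leaf 0x0)) (.node (.leaf 0x0) (.leaf 0x22268006))) (.node (.node (.leaf 0x0) (.leaf 0x0)) (.node (.leaf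 0x0) (.leaf 0x0)))) (.node (.node (.node (.node (.leaf 0x0) (.leaf 0x10668007)) (.leaf 0x0)) (.node (.leaf 0x0) (.leaf 0x0))) (.node (.node (.leaf 0x0) (.leaf 0x0)) (.node (.leaf 0x1618005) (.leaf 0x0))))) (.node (.node (.node (.node (.node (.leaf 0x0) (.leaf 0x0)) (.leaf 0x0)) (.node (.leaf 0x0) (.leaf 0x0))) (.node (.node (.leaf 0x0) (.leaf 0x0)) (.node (.leaf 0x0) (.leaf 0x0)))) (.node (.node (.node (.node (.leaf 0x0) (.leaf 0x0)) (.leaf 0x0)) (.node (.leaf 0x0) (.leaf 0x0))) (.node (.node (.leaf 0x0) (.leaf 0x0)) (.node (.leaf 0x0) (.leaf 0x0))))))) (.node (.node (.node (.node (.node (.node (.node (.leaf 0x0) (.leaf 0x1001)) (.leaf 0x0)) (.node (.leaf 0x0) (.leaf 0x0))) (.node (.node (.leaf 0x0) (.leaf 0x0)) (.node (.leaf 0x0) (.leaf 0xd669006)))) (.node (.node (.node (.node (.leaf 0x0) (.leaf 0x28862006)) (.leaf 0x0)) (.node (.leaf 0x0) (.leaf 0x0))) (.node (.node (.leaf 0x0) (.leaf 0x0)) (.node (.leaf 0x0) (.leaf 0x0))))) (.node (.node (.node (.node (.node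 (.leaf 0x0) (.leaf 0xb4b005)) (.leaf 0x0)) (.node (.leaf 0x0) (.leaf 0x0))) (.node (.node (.leaf 0x0) (.leaf 0x0)) (.node (.leaf 0x0) (.leaf 0x1444b006)))) (.node (.node (.node (.node (.leaf 0x0) (.leaf 0x1a51005)) (.leaf 0x0)) (.node (.leaf 0x0) (.leaf 0x0))) (.node (.node (.leaf 0x0) (.leaf 0x0)) (.node (.leaf 0x241b005) (.leaf 0x0)))))) (.node (.node (.node (.node (.node (.node (.leaf 0x0) (.leaf 0x0)) (.leaf 0x0)) (.node (.leaf 0x0) (.leaf 0x0))) (.node (.node (.leaf 0x0) (.leaf 0x0)) (.node (.leaf 0x0) (.leaf 0x0)))) (.node (.node (.node (.node (.leaf 0x0) (.leaf 0x2446a006)) (.leaf 0x0)) (.node (.leaf 0x0) (.leaf 0x0))) (.node (.node (.leaf 0x0) (.leaf 0x0)) (.node (.leaf 0x0) (.leaf 0x0))))) (.node (.node (.node (.node (.node (.leaf 0x0) (.leaf 0x0)) (.leaf 0x0)) (.node (.leaf 0x0) (.leaf 0x0))) (.node (.node (.leaf 0x0) (.leaf 0x22268006)) (.node (.leaf 0x0) (.leaf 0x0)))) (.node (.node (.node (.node (.leaf 0x0) (.leaf 0x0)) (.leaf 0x0)) (.node (.leaf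 0x0) (.leaf 0x0))) (.node (.node (.leaf 0x0) (.leaf 0x0)) (.node (.leaf 0x0) (.leaf 0x1b08a006)))))))) (.node (.node (.node (.node (.node (.node (.node (.node (.leaf 0x0) (.leaf 0x0)) (.leaf 0x245b005)) (.node (.leaf 0x0) (.leaf 0x0))) (.node (.node (.leaf 0x0) (.leaf 0x0)) (.node (.leaf 0x0) (.leaf 0x0)))) (.node (.node (.node (.node (.leaf 0x0) (.leaf 0x0)) (.leaf 0x0)) (.node (.leaf 0x0) (.leaf 0x0))) (.node (.node (.leaf 0x0) (.leaf 0x0)) (.node (.leaf 0x0) (.leaf 0x0))))) (.node (.node (.node (.node (.node (.leaf 0x0) (.leaf 0x0)) (.leaf 0x0)) (.node (.leaf 0x0) (.leaf 0x0))) (.node (.node (.leaf 0x0) (.leaf 0x0)) (.node (.leaf 0x0) (.leaf 0x0)))) (.node (.node (.node (.node (.leaf 0x0) (.leaf 0x0)) (.leaf 0x0)) (.node (.leaf 0x0) (.leaf 0x198ab006))) (.node (.node (.leaf 0x0) (.leaf 0x2b70a006)) (.node (.leaf 0x0) (.leaf 0x0)))))) (.node (.node (.node (.node (.node (.node (.leaf 0x0) (.leaf 0x0)) (.leaf 0x0)) (.node (.leaf 0x0) (.leaf 0x0))) (.node (.node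 (.leaf 0x22b4c006) (.leaf 0x1b5d005)) (.node (.leaf 0x0) (.leaf 0x0)))) (.node (.node (.node (.node (.leaf 0x0) (.leaf 0x0)) (.leaf 0x0)) (.node (.leaf 0x0) (.leaf 0xab003))) (.node (.node (.leaf 0x0) (.leaf 0x0)) (.node (.leaf 0x0) (.leaf 0x0))))) (.node (.node (.node (.node (.node (.leaf 0x0) (.leaf 0x412004)) (.leaf 0x0)) (.node (.leaf 0x0) (.leaf 0x0))) (.node (.node (.leaf 0x0) (.leaf 0x0)) (.node (.leaf 0x0) (.leaf 0x22861007)))) (.node (.node (.node (.node (.leaf 0x0) (.leaf 0x2b111006)) (.leaf 0x0)) (.node (.leaf 0x0) (.leaf 0x0))) (.node (.node (.leaf 0x0) (.leaf 0x0)) (.node (.leaf 0x0) (.leaf 0xb36a006))))))) (.node (.node (.node (.node (.node (.node (.node (.leaf 0x0) (.leaf 0x0)) (.leaf 0x0)) (.node (.leaf 0x0) (.leaf 0x128a1006))) (.node (.node (.leaf 0x0) (.leaf 0x0)) (.node (.leaf 0x0) (.leaf 0x0)))) (.node (.node (.node (.node (.leaf 0x0) (.leaf 0x0)) (.leaf 0x0)) (.node (.leaf 0x0) (.leaf 0x0))) (.node (.node (.leaf 0x0) (.leaf 0x42dc005))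 (.node (.leaf 0x0) (.leaf 0xb311006))))) (.node (.node (.node (.node (.node (.leaf 0x0) (.leaf 0x0)) (.leaf 0x0)) (.node (.leaf 0x0) (.leaf 0x0))) (.node (.node (.leaf 0x0) (.leaf 0x0)) (.node (.leaf 0x245b005) (.leaf 0x0)))) (.node (.node (.node (.node (.leaf 0x0) (.leaf 0x212ad006)) (.leaf 0x0)) (.node (.leaf 0x0) (.leaf 0x0))) (.node (.node (.leaf 0x2001) (.leaf 0x0)) (.node (.leaf 0x0) (.leaf 0x0)))))) (.node (.node (.node (.node (.node (.node (.leaf 0x0) (.leaf 0x0)) (.leaf 0x0)) (.node (.leaf 0x0) (.leaf 0x0))) (.node (.node (.leaf 0x0) (.leaf 0x0)) (.node (.leaf 0x0) (.leaf 0x0)))) (.node (.node (.node (.node (.leaf 0x0) (.leaf 0x0)) (.leaf 0x0)) (.node (.leaf 0x0) (.leaf 0x5120005))) (.node (.node (.leaf 0x0) (.leaf 0x0)) (.node (.leaf 0x0) (.leaf 0x0))))) (.node (.node (.node (.node (.node (.leaf 0x0) (.leaf 0x0)) (.leaf 0x0)) (.node (.leaf 0x0) (.leaf 0x0))) (.node (.node (.leaf 0x0) (.leaf 0x0)) (.node (.leaf 0x0) (.leaf 0x0)))) (.node (.node (.node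 (.node (.leaf 0x0) (.leaf 0x0)) (.leaf 0x0)) (.node (.leaf 0x0) (.leaf 0x0))) (.node (.node (.leaf 0x0) (.leaf 0x0)) (.node (.leaf 0x0) (.leaf 0x0))))))))

/-- data -/
def lab0p4 : Trie (ℕ) := .node (.node (.node (.node (.node (.node (.node (.node (.node (.leaf 0x0) (.leaf 0x0)) (.leaf 0x0)) (.node (.leaf 0x0) (.leaf 0x0))) (.node (.node (.leaf 0x0) (.leaf 0x0)) (.node (.leaf 0x0) (.leaf 0x0)))) (.node (.node (.node (.node (.leaf 0x0) (.leaf 0x0)) (.leaf 0x0)) (.node (.leaf 0x0) (.leaf 0x0))) (.node (.node (.leaf 0x0) (.leaf 0x0)) (.node (.leaf 0x0) (.leaf 0x0))))) (.node (.node (.node (.node (.node (.leaf 0x0) (.leaf 0x4618005)) (.leaf 0x0)) (.node (.leaf 0x0) (.leaf 0x0))) (.node (.node (.leaf 0x0) (.leaf 0x0)) (.node (.leaf 0x0) (.leaf 0x0)))) (.node (.node (.node (.node (.leaf 0x0) (.leaf 0x511005)) (.leaf 0x0)) (.node (.leaf 0x0) (.leaf 0x1618005))) (.node (.node (.leaf 0x0) (.leaf 0x0)) (.node (.leaf 0x0) (.leaf 0x128a0006)))))) (.node (.node (.node (.node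 (.node (.node (.leaf 0x0) (.leaf 0x0)) (.leaf 0x4001)) (.node (.leaf 0x0) (.leaf 0x0))) (.node (.node (.leaf 0x0) (.leaf 0x0)) (.node (.leaf 0x0) (.leaf 0x0)))) (.node (.node (.node (.node (.leaf 0x0) (.leaf 0x0)) (.leaf 0x0)) (.node (.leaf 0x0) (.leaf 0x4520005))) (.node (.node (.leaf 0x0) (.leaf 0x0)) (.node (.leaf 0x0) (.leaf 0x0))))) (.node (.node (.node (.node (.node (.leaf 0x0) (.leaf 0x0)) (.leaf 0x0)) (.node (.leaf 0x0) (.leaf 0x0))) (.node (.node (.leaf 0x0) (.leaf 0x0)) (.node (.leaf 0x0) (.leaf 0x0)))) (.node (.node (.node (.node (.leaf 0x0) (.leaf 0x0)) (.leaf 0x0)) (.node (.leaf 0x0) (.leaf 0x0))) (.node (.node (.leaf 0x22b4c006) (.leaf 0x0)) (.node (.leaf 0x0) (.leaf 0x0))))))) (.node (.node (.node (.node (.node (.node (.node (.leaf 0x0) (.leaf 0x109569007)) (.leaf 0x0)) (.node (.leaf 0x0) (.leaf 0x0))) (.node (.node (.leaf 0x0) (.leaf 0x0)) (.node (.leaf 0x0) (.leaf 0x4468005)))) (.node (.node (.node (.node (.leaf 0x0) (.leaf 0x1550d006)) (.leaf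 0x0)) (.node (.leaf 0x0) (.leaf 0x0))) (.node (.node (.leaf 0x0) (.leaf 0xcda51007)) (.node (.leaf 0x0) (.leaf 0x0))))) (.node (.node (.node (.node (.node (.leaf 0x0) (.leaf 0x0)) (.leaf 0x0)) (.node (.leaf 0x0) (.leaf 0x2a10d006))) (.node (.node (.leaf 0x0) (.leaf 0x23869007)) (.node (.leaf 0x0) (.leaf 0x0)))) (.node (.node (.node (.node (.leaf 0x0) (.leaf 0x0)) (.leaf 0x2001)) (.node (.leaf 0x0) (.leaf 0x0))) (.node (.node (.leaf 0x0) (.leaf 0xcda51007)) (.node (.leaf 0x0) (.leaf 0x0)))))) (.node (.node (.node (.node (.node (.node (.leaf 0x0) (.leaf 0x3854005)) (.leaf 0x0)) (.node (.leaf 0x0) (.leaf 0x0))) (.node (.node (.leaf 0x0) (.leaf 0x0)) (.node (.leaf 0xa18004) (.leaf 0x1b5d005)))) (.node (.node (.node (.node (.leaf 0x0) (.leaf 0x0)) (.leaf 0x0)) (.node (.leaf 0x0) (.leaf 0x0))) (.node (.node (.leaf 0x0) (.leaf 0x0)) (.node (.leaf 0x0) (.leaf 0x0))))) (.node (.node (.node (.node (.node (.leaf 0x0) (.leaf 0x0)) (.leaf 0x0)) (.node (.leaf 0x0) (.leaf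 0x0))) (.node (.node (.leaf 0x549004) (.leaf 0x0)) (.node (.leaf 0x5001) (.leaf 0x0)))) (.node (.node (.node (.node (.leaf 0x0) (.leaf 0x0)) (.leaf 0x0)) (.node (.leaf 0x0) (.leaf 0x3891005))) (.node (.node (.leaf 0x0) (.leaf 0x0)) (.node (.leaf 0x0) (.leaf 0x0)))))))) (.node (.node (.node (.node (.node (.node (.node (.node (.leaf 0x0) (.leaf 0x0)) (.leaf 0x0)) (.node (.leaf 0x0) (.leaf 0x0))) (.node (.node (.leaf 0x0) (.leaf 0x0)) (.node (.leaf 0x0) (.leaf 0x0)))) (.node (.node (.node (.node (.leaf 0x0) (.leaf 0x0)) (.leaf 0x0)) (.node (.leaf 0x0) (.leaf 0x0))) (.node (.node (.leaf 0x0) (.leaf 0x0)) (.node (.leaf 0x216e2006) (.leaf 0x0))))) (.node (.node (.node (.node (.node (.leaf 0x0) (.leaf 0x1d722006)) (.leaf 0x0)) (.node (.leaf 0x5001) (.leaf 0x0))) (.node (.node (.leaf 0x0) (.leaf 0x0)) (.node (.leaf 0x0) (.leaf 0x0)))) (.node (.node (.node (.node (.leaf 0x0) (.leaf 0x0)) (.leaf 0x0)) (.node (.leaf 0x0) (.leaf 0x0))) (.node (.node (.leaf 0x0) (.leaf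 0x0)) (.node (.leaf 0x0) (.leaf 0x0)))))) (.node (.node (.node (.node (.node (.node (.leaf 0x0) (.leaf 0x0)) (.leaf 0x3001)) (.node (.leaf 0x0) (.leaf 0x0))) (.node (.node (.leaf 0x0) (.leaf 0x0)) (.node (.leaf 0x0) (.leaf 0x0)))) (.node (.node (.node (.node (.leaf 0x0) (.leaf 0x0)) (.leaf 0x0)) (.node (.leaf 0x0) (.leaf 0x24420006))) (.node (.node (.leaf 0x0) (.leaf 0x0)) (.node (.leaf 0x0) (.leaf 0xaa15006))))) (.node (.node (.node (.node (.node (.leaf 0x0) (.leaf 0x0)) (.leaf 0x0)) (.node (.leaf 0x0) (.leaf 0x0))) (.node (.node (.leaf 0x0) (.leaf 0x0)) (.node (.leaf 0x0) (.leaf 0x0)))) (.node (.node (.node (.node (.leaf 0x0) (.leaf 0x0)) (.leaf 0x0)) (.node (.leaf 0x0) (.leaf 0x22268006))) (.node (.node (.leaf 0x0) (.leaf 0x0)) (.node (.leaf 0x0) (.leaf 0x242d9006))))))) (.node (.node (.node (.node (.node (.node (.node (.leaf 0x0) (.leaf 0x23719006)) (.leaf 0x0)) (.node (.leaf 0x0) (.leaf 0x30c5005))) (.node (.node (.leaf 0x0) (.leaf 0x0)) (.node (.leaf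 0x0) (.leaf 0x0)))) (.node (.node (.node (.node (.leaf 0x0) (.leaf 0x1d759006)) (.leaf 0x0)) (.node (.leaf 0x20002) (.leaf 0x0))) (.node (.node (.leaf 0x0) (.leaf 0x1c323006)) (.node (.leaf 0x0) (.leaf 0x0))))) (.node (.node (.node (.node (.node (.leaf 0x0) (.leaf 0x0)) (.leaf 0x0)) (.node (.leaf 0x0) (.leaf 0x0))) (.node (.node (.leaf 0x0) (.leaf 0x0)) (.node (.leaf 0x0) (.leaf 0x325b005)))) (.node (.node (.node (.node (.leaf 0x0) (.leaf 0x1bae9006)) (.leaf 0x0)) (.node (.leaf 0x0) (.leaf 0x0))) (.node (.node (.leaf 0x0) (.leaf 0x0)) (.node (.leaf 0x0) (.leaf 0x0)))))) (.node (.node (.node (.node (.node (.node (.leaf 0x0) (.leaf 0x0)) (.leaf 0x0)) (.node (.leaf 0x0) (.leaf 0x0))) (.node (.node (.leaf 0x0) (.leaf 0x2a2c3006)) (.node (.leaf 0x0) (.leaf 0x0)))) (.node (.node (.node (.node (.leaf 0x0) (.leaf 0x0)) (.leaf 0x0)) (.node (.leaf 0x28c004) (.leaf 0x0))) (.node (.node (.leaf 0x0) (.leaf 0x0)) (.node (.leaf 0x0) (.leaf 0x0))))) (.node (.node (.node (.node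 (.node (.leaf 0x0) (.leaf 0x0)) (.leaf 0x0)) (.node (.leaf 0x0) (.leaf 0x18b5c006))) (.node (.node (.leaf 0x0) (.leaf 0x0)) (.node (.leaf 0x0) (.leaf 0x0)))) (.node (.node (.node (.node (.leaf 0x0) (.leaf 0x0)) (.leaf 0x4618005)) (.node (.leaf 0x0) (.leaf 0x9669006))) (.node (.node (.leaf 0x0) (.leaf 0x0)) (.node (.leaf 0x0) (.leaf 0x0))))))))

/-- data -/
def lab0p5 : Trie (ℕ) := .node (.node (.node (.node (.node (.node (.node (.node (.node (.leaf 0x0) (.leaf 0x0)) (.leaf 0x0)) (.node (.leaf 0x352004) (.leaf 0x0))) (.node (.node (.leaf 0x0) (.leaf 0x575b006)) (.node (.leaf 0x0) (.leaf 0x5651006)))) (.node (.node (.node (.node (.leaf 0x0) (.leaf 0x0)) (.leaf 0x0)) (.node (.leaf 0x0) (.leaf 0xa1a8b007))) (.node (.node (.leaf 0x0) (.leaf 0x0)) (.node (.leaf 0x0) (.leaf 0x0))))) (.node (.node (.node (.node (.node (.leaf 0x0) (.leaf 0x1a4a005)) (.leaf 0x0)) (.node (.leaf 0x0) (.leaf 0x0))) (.node (.node (.leaf 0x0) (.leaf 0x0)) (.node (.leaf 0x0) (.leaf 0x5001))))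 (.node (.node (.node (.node (.leaf 0x0) (.leaf 0x2455005)) (.leaf 0x0)) (.node (.leaf 0x0) (.leaf 0x0))) (.node (.node (.leaf 0x0) (.leaf 0x370a005)) (.node (.leaf 0x0) (.leaf 0x0)))))) (.node (.node (.node (.node (.node (.node (.leaf 0x0) (.leaf 0x42aa006)) (.leaf 0x0)) (.node (.leaf 0x0) (.leaf 0x0))) (.node (.node (.leaf 0x0) (.leaf 0x0)) (.node (.leaf 0x0) (.leaf 0x0)))) (.node (.node (.node (.node (.leaf 0x0) (.leaf 0x15ae0006)) (.leaf 0x0)) (.node (.leaf 0x0) (.leaf 0x4520005))) (.node (.node (.leaf 0x0) (.leaf 0x245b005)) (.node (.leaf 0x0) (.leaf 0x3854005))))) (.node (.node (.node (.node (.node (.leaf 0x0) (.leaf 0x3260005)) (.leaf 0x0)) (.node (.leaf 0x0) (.leaf 0x10919006))) (.node (.node (.leaf 0x0) (.leaf 0x4618005)) (.node (.leaf 0x0) (.leaf 0x0)))) (.node (.node (.node (.node (.leaf 0x0) (.leaf 0x0)) (.leaf 0x0)) (.node (.leaf 0x0) (.leaf 0x0))) (.node (.node (.leaf 0x0) (.leaf 0x0)) (.node (.leaf 0x3268006) (.leaf 0x0))))))) (.node (.node (.node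 (.node (.node (.node (.node (.leaf 0x0) (.leaf 0x212ad006)) (.leaf 0x0)) (.node (.leaf 0x0) (.leaf 0x0))) (.node (.node (.leaf 0x0) (.leaf 0x0)) (.node (.leaf 0x0) (.leaf 0x0)))) (.node (.node (.node (.node (.leaf 0x0) (.leaf 0x0)) (.leaf 0x3854005)) (.node (.leaf 0x0) (.leaf 0xa3003))) (.node (.node (.leaf 0x0) (.leaf 0xd6e8006)) (.node (.leaf 0x0) (.leaf 0x186c5006))))) (.node (.node (.node (.node (.node (.leaf 0x0) (.leaf 0x6988b007)) (.leaf 0x0)) (.node (.leaf 0x0) (.leaf 0x0))) (.node (.node (.leaf 0x0) (.leaf 0x821005)) (.node (.leaf 0x0) (.leaf 0x0)))) (.node (.node (.node (.node (.leaf 0x0) (.leaf 0x0)) (.leaf 0x0)) (.node (.leaf 0x0) (.leaf 0x0))) (.node (.node (.leaf 0x0) (.leaf 0x0)) (.node (.leaf 0x0) (.leaf 0x2951b006)))))) (.node (.node (.node (.node (.node (.node (.leaf 0x0) (.leaf 0x1b8c5006)) (.leaf 0x0)) (.node (.leaf 0x0) (.leaf 0x0))) (.node (.node (.leaf 0x0) (.leaf 0x0)) (.node (.leaf 0x0) (.leaf 0x0)))) (.node (.node (.node (.node (.leaf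 0x0) (.leaf 0x4618005)) (.leaf 0x0)) (.node (.leaf 0x0) (.leaf 0xdbaa8007))) (.node (.node (.leaf 0x0) (.leaf 0x56e1005)) (.node (.leaf 0x0) (.leaf 0x0))))) (.node (.node (.node (.node (.node (.leaf 0x0) (.leaf 0x18a59006)) (.leaf 0x0)) (.node (.leaf 0x0) (.leaf 0x0))) (.node (.node (.leaf 0x0) (.leaf 0xa18004)) (.node (.leaf 0x0) (.leaf 0x0)))) (.node (.node (.node (.node (.leaf 0x0) (.leaf 0x2310006)) (.leaf 0x0)) (.node (.leaf 0x0) (.leaf 0x0))) (.node (.node (.leaf 0x0) (.leaf 0x0)) (.node (.leaf 0x0) (.leaf 0x0)))))))) (.node (.node (.node (.node (.node (.node (.node (.node (.leaf 0x0) (.leaf 0x0)) (.leaf 0x0)) (.node (.leaf 0x0) (.leaf 0x0))) (.node (.node (.leaf 0x0) (.leaf 0x0)) (.node (.leaf 0x0) (.leaf 0x0)))) (.node (.node (.node (.node (.leaf 0x0) (.leaf 0x0)) (.leaf 0x0)) (.node (.leaf 0x0) (.leaf 0x0))) (.node (.node (.leaf 0x0) (.leaf 0x0)) (.node (.leaf 0x0) (.leaf 0x0))))) (.node (.node (.node (.node (.node (.leaf 0x0) (.leaf 0x0)) (.leaf 0x0))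 (.node (.leaf 0x0) (.leaf 0x0))) (.node (.node (.leaf 0x0) (.leaf 0x0)) (.node (.leaf 0x0) (.leaf 0x0)))) (.node (.node (.node (.node (.leaf 0x0) (.leaf 0x0)) (.leaf 0x0)) (.node (.leaf 0x0) (.leaf 0x0))) (.node (.node (.leaf 0x0) (.leaf 0x0)) (.node (.leaf 0x0) (.leaf 0x0)))))) (.node (.node (.node (.node (.node (.node (.leaf 0x0) (.leaf 0x0)) (.leaf 0x0)) (.node (.leaf 0x0) (.leaf 0x20c5006))) (.node (.node (.leaf 0x0) (.leaf 0x0)) (.node (.leaf 0x0) (.leaf 0x40a0006)))) (.node (.node (.node (.node (.leaf 0x0) (.leaf 0x22090006)) (.leaf 0x0)) (.node (.leaf 0x0) (.leaf 0x0))) (.node (.node (.leaf 0x0) (.leaf 0x11c64b007)) (.node (.leaf 0x0) (.leaf 0x0))))) (.node (.node (.node (.node (.node (.leaf 0x0) (.leaf 0x2001)) (.leaf 0x0)) (.node (.leaf 0x0) (.leaf 0x0))) (.node (.node (.leaf 0x0) (.leaf 0x0)) (.node (.leaf 0x0) (.leaf 0x0)))) (.node (.node (.node (.node (.leaf 0x0) (.leaf 0x28862006)) (.leaf 0x0)) (.node (.leaf 0x0) (.leaf 0x0))) (.node (.node (.leaf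 0x0) (.leaf 0x56e1005)) (.node (.leaf 0x0) (.leaf 0x0))))))) (.node (.node (.node (.node (.node (.node (.node (.leaf 0x0) (.leaf 0x0)) (.leaf 0x0)) (.node (.leaf 0x0) (.leaf 0x0))) (.node (.node (.leaf 0x0) (.leaf 0x0)) (.node (.leaf 0x0) (.leaf 0xb71b006)))) (.node (.node (.node (.node (.leaf 0x0) (.leaf 0x12a3005)) (.leaf 0x0)) (.node (.leaf 0x0) (.leaf 0x0))) (.node (.node (.leaf 0x0) (.leaf 0x0)) (.node (.leaf 0x0) (.leaf 0x0))))) (.node (.node (.node (.node (.node (.leaf 0x0) (.leaf 0x2121005)) (.leaf 0x0)) (.node (.leaf 0x0) (.leaf 0x0))) (.node (.node (.leaf 0x0) (.leaf 0x3854005)) (.node (.leaf 0x0) (.leaf 0x0)))) (.node (.node (.node (.node (.leaf 0x0) (.leaf 0x1551005)) (.leaf 0x0)) (.node (.leaf 0x0) (.leaf 0x0))) (.node (.node (.leaf 0x0) (.leaf 0xa54004)) (.node (.leaf 0x0) (.leaf 0x0)))))) (.node (.node (.node (.node (.node (.node (.leaf 0x0) (.leaf 0x3854005)) (.leaf 0x5669006)) (.node (.leaf 0x0) (.leaf 0x0))) (.node (.node (.leaf 0x0) (.leaf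 0x0)) (.node (.leaf 0x0) (.leaf 0x0)))) (.node (.node (.node (.node (.leaf 0x0) (.leaf 0x21a91006)) (.leaf 0x0)) (.node (.leaf 0x0) (.leaf 0x0))) (.node (.node (.leaf 0x0) (.leaf 0xc4a0006)) (.node (.leaf 0x0) (.leaf 0x0))))) (.node (.node (.node (.node (.node (.leaf 0x0) (.leaf 0x2d489006)) (.leaf 0x0)) (.node (.leaf 0x0) (.leaf 0x0))) (.node (.node (.leaf 0x0) (.leaf 0x0)) (.node (.leaf 0x0) (.leaf 0x0)))) (.node (.node (.node (.node (.leaf 0x0) (.leaf 0x2a10d006)) (.leaf 0x0)) (.node (.leaf 0x0) (.leaf 0x0))) (.node (.node (.leaf 0x0) (.leaf 0x0)) (.node (.leaf 0x0) (.leaf 0x0))))))))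

/-- data -/
def lab0p6 : Trie (ℕ) := .node (.node (.node (.node (.node (.node (.node (.node (.node (.leaf 0x0) (.leaf 0x0)) (.leaf 0x0)) (.node (.leaf 0x0) (.leaf 0x0))) (.node (.node (.leaf 0x0) (.leaf 0x11002)) (.node (.leaf 0x0) (.leaf 0x0)))) (.node (.node (.node (.node (.leaf 0x0) (.leaf 0xaa8b006)) (.leaf 0x0)) (.node (.leaf 0x0) (.leaf 0x0))) (.node (.node (.leaf 0x0) (.leaf 0x0)) (.node (.leaf 0x0) (.leaf 0x0))))) (.node (.node (.node (.node (.node (.leaf 0x0) (.leaf 0x12ac4006)) (.leaf 0x0)) (.node (.leaf 0x0) (.leaf 0x0))) (.node (.node (.leaf 0x0) (.leaf 0x0)) (.node (.leaf 0x0) (.leaf 0x2446a006)))) (.node (.node (.node (.node (.leaf 0x0) (.leaf 0x0)) (.leaf 0x0)) (.node (.leaf 0x0) (.leaf 0x0))) (.node (.node (.leaf 0x0) (.leaf 0x0)) (.node (.leaf 0x3854005) (.leaf 0x0)))))) (.node (.node (.node (.node (.node (.node (.leaf 0x0) (.leaf 0x2a2c3006)) (.leaf 0x0)) (.node (.leaf 0x0) (.leaf 0x0))) (.node (.node (.leaf 0x0) (.leaf 0x0)) (.node (.leaf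 0x3a22005) (.leaf 0x0)))) (.node (.node (.node (.node (.leaf 0x0) (.leaf 0x759005)) (.leaf 0x0)) (.node (.leaf 0x0) (.leaf 0x0))) (.node (.node (.leaf 0x0) (.leaf 0x0)) (.node (.leaf 0x0) (.leaf 0x0))))) (.node (.node (.node (.node (.node (.leaf 0x0) (.leaf 0x0)) (.leaf 0x0)) (.node (.leaf 0x0) (.leaf 0x0))) (.node (.node (.leaf 0x1) (.leaf 0x0)) (.node (.leaf 0x15c003) (.leaf 0x2b002)))) (.node (.node (.node (.node (.leaf 0x0) (.leaf 0x0)) (.leaf 0x0)) (.node (.leaf 0x0) (.leaf 0x0))) (.node (.node (.leaf 0x0) (.leaf 0x0)) (.node (.leaf 0x0) (.leaf 0x0))))))) (.node (.node (.node (.node (.node (.node (.node (.leaf 0x0) (.leaf 0x6a003)) (.leaf 0x0)) (.node (.leaf 0x0) (.leaf 0x0))) (.node (.node (.leaf 0x0) (.leaf 0x0)) (.node (.leaf 0x0) (.leaf 0x0)))) (.node (.node (.node (.node (.leaf 0x0) (.leaf 0x0)) (.leaf 0x40a1006)) (.node (.leaf 0x0) (.leaf 0x0))) (.node (.node (.leaf 0x0) (.leaf 0x0)) (.node (.leaf 0x0) (.leaf 0x0))))) (.node (.node (.node (.node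 (.node (.leaf 0x0) (.leaf 0x0)) (.leaf 0x0)) (.node (.leaf 0x0) (.leaf 0x5120005))) (.node (.node (.leaf 0x0) (.leaf 0x0)) (.node (.leaf 0x0) (.leaf 0x0)))) (.node (.node (.node (.node (.leaf 0x0) (.leaf 0x0)) (.leaf 0x0)) (.node (.leaf 0xd002) (.leaf 0x0))) (.node (.node (.leaf 0x2446a006) (.leaf 0x4618005)) (.node (.leaf 0x0) (.leaf 0x0)))))) (.node (.node (.node (.node (.node (.node (.leaf 0x0) (.leaf 0x0)) (.leaf 0x0)) (.node (.leaf 0x0) (.leaf 0x0))) (.node (.node (.leaf 0x0) (.leaf 0x0)) (.node (.leaf 0x0) (.leaf 0x0)))) (.node (.node (.node (.node (.leaf 0x0) (.leaf 0x0)) (.leaf 0x0)) (.node (.leaf 0x0) (.leaf 0xdbaa8007))) (.node (.node (.leaf 0x0) (.leaf 0x0)) (.node (.leaf 0x0) (.leaf 0x0))))) (.node (.node (.node (.node (.node (.leaf 0x0) (.leaf 0x0)) (.leaf 0x0)) (.node (.leaf 0x0) (.leaf 0x0))) (.node (.node (.leaf 0x0) (.leaf 0x0)) (.node (.leaf 0x0) (.leaf 0x0)))) (.node (.node (.node (.node (.leaf 0x0) (.leaf 0x2464d006)) (.leaf 0x0)) (.node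 (.leaf 0x0) (.leaf 0x0))) (.node (.node (.leaf 0x0) (.leaf 0x0)) (.node (.leaf 0x0) (.leaf 0x0)))))))) (.node (.node (.node (.node (.node (.node (.node (.node (.leaf 0x0) (.leaf 0x30c5005)) (.leaf 0x0)) (.node (.leaf 0x0) (.leaf 0x0))) (.node (.node (.leaf 0x0) (.leaf 0x0)) (.node (.leaf 0x0) (.leaf 0x0)))) (.node (.node (.node (.node (.leaf 0x0) (.leaf 0x0)) (.leaf 0x0)) (.node (.leaf 0x0) (.leaf 0x0))) (.node (.node (.leaf 0x0) (.leaf 0x0)) (.node (.leaf 0x0) (.leaf 0x0))))) (.node (.node (.node (.node (.node (.leaf 0x0) (.leaf 0x0)) (.leaf 0x0)) (.node (.leaf 0x0) (.leaf 0x0))) (.node (.node (.leaf 0x0) (.leaf 0x19ae3006)) (.node (.leaf 0x0) (.leaf 0x3001)))) (.node (.node (.node (.node (.leaf 0x0) (.leaf 0x0)) (.leaf 0x0)) (.node (.leaf 0x154003) (.leaf 0x0))) (.node (.node (.leaf 0x0) (.leaf 0x0)) (.node (.leaf 0x0) (.leaf 0x0)))))) (.node (.node (.node (.node (.node (.node (.leaf 0x0) (.leaf 0x0)) (.leaf 0x0)) (.node (.leaf 0x0) (.leaf 0x0))) (.node (.node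 (.leaf 0x0) (.leaf 0x0)) (.node (.leaf 0x6e0004) (.leaf 0x0)))) (.node (.node (.node (.node (.leaf 0x0) (.leaf 0x4618005)) (.leaf 0x0)) (.node (.leaf 0x0) (.leaf 0x0))) (.node (.node (.leaf 0x0) (.leaf 0x0)) (.node (.leaf 0x0) (.leaf 0x0))))) (.node (.node (.node (.node (.node (.leaf 0x0) (.leaf 0x0)) (.leaf 0x0)) (.node (.leaf 0x0) (.leaf 0x0))) (.node (.node (.leaf 0x0) (.leaf 0x0)) (.node (.leaf 0x0) (.leaf 0x0)))) (.node (.node (.node (.node (.leaf 0x0) (.leaf 0x0)) (.leaf 0x0)) (.node (.leaf 0x0) (.leaf 0xa8c004))) (.node (.node (.leaf 0x0) (.leaf 0x0)) (.node (.leaf 0x0) (.leaf 0x0))))))) (.node (.node (.node (.node (.node (.node (.node (.leaf 0x0) (.leaf 0xaa89006)) (.leaf 0x56e1005)) (.node (.leaf 0x1448e9007) (.leaf 0x30c5005))) (.node (.node (.leaf 0x0) (.leaf 0x0)) (.node (.leaf 0x0) (.leaf 0x0)))) (.node (.node (.node (.node (.leaf 0x0) (.leaf 0x0)) (.leaf 0x0)) (.node (.leaf 0x0) (.leaf 0x4452006))) (.node (.node (.leaf 0x0) (.leaf 0x0)) (.node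 (.leaf 0x0) (.leaf 0x4861006))))) (.node (.node (.node (.node (.node (.leaf 0x0) (.leaf 0x0)) (.leaf 0x0)) (.node (.leaf 0x0) (.leaf 0x20b50006))) (.node (.node (.leaf 0x0) (.leaf 0x0)) (.node (.leaf 0x0) (.leaf 0x0)))) (.node (.node (.node (.node (.leaf 0x0) (.leaf 0x0)) (.leaf 0x0)) (.node (.leaf 0x0) (.leaf 0x0))) (.node (.node (.leaf 0x0) (.leaf 0x0)) (.node (.leaf 0x0) (.leaf 0x0)))))) (.node (.node (.node (.node (.node (.node (.leaf 0x0) (.leaf 0x0)) (.leaf 0x0)) (.node (.leaf 0x0) (.leaf 0x30c9005))) (.node (.node (.leaf 0x0) (.leaf 0x0)) (.node (.leaf 0x0) (.leaf 0x0)))) (.node (.node (.node (.node (.leaf 0x0) (.leaf 0x0)) (.leaf 0x0)) (.node (.leaf 0x0) (.leaf 0x4089006))) (.node (.node (.leaf 0x0) (.leaf 0x4618005)) (.node (.leaf 0x0) (.leaf 0x14742006))))) (.node (.node (.node (.node (.node (.leaf 0x0) (.leaf 0x0)) (.leaf 0x0)) (.node (.leaf 0x2a2c3006) (.leaf 0x0))) (.node (.node (.leaf 0x0) (.leaf 0x0)) (.node (.leaf 0x0) (.leaf 0x0)))) (.node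 (.node (.node (.node (.leaf 0x0) (.leaf 0x212ad006)) (.leaf 0x0)) (.node (.leaf 0x0) (.leaf 0x0))) (.node (.node (.leaf 0x0) (.leaf 0x212ad006)) (.node (.leaf 0x10919006) (.leaf 0x0))))))))

/-- data -/
def lab0p7 : Trie (ℕ) := .node (.node (.node (.node (.node (.node (.node (.node (.node (.leaf 0x0) (.leaf 0x0)) (.leaf 0x0)) (.node (.leaf 0x0) (.leaf 0x0))) (.node (.node (.leaf 0x0) (.leaf 0x0)) (.node (.leaf 0x0) (.leaf 0x0)))) (.node (.node (.node (.node (.leaf 0x0) (.leaf 0x22b4c006)) (.leaf 0x0)) (.node (.leaf 0x0) (.leaf 0x0))) (.node (.node (.leaf 0x0) (.leaf 0x0)) (.node (.leaf 0x0) (.leaf 0x0))))) (.node (.node (.node (.node (.node (.leaf 0x0) (.leaf 0x12ac4006)) (.leaf 0x0)) (.node (.leaf 0x0) (.leaf 0x0))) (.node (.node (.leaf 0x0) (.leaf 0x4001)) (.node (.leaf 0x0) (.leaf 0x0)))) (.node (.node (.node (.node (.leaf 0x0) (.leaf 0xadb005)) (.leaf 0x0)) (.node (.leaf 0x0) (.leaf 0x0))) (.node (.node (.leaf 0x0) (.leaf 0x0)) (.node (.leaf 0x0) (.leaf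 0x0)))))) (.node (.node (.node (.node (.node (.node (.leaf 0x0) (.leaf 0x0)) (.leaf 0x0)) (.node (.leaf 0x0) (.leaf 0x0))) (.node (.node (.leaf 0x0) (.leaf 0xac4004)) (.node (.leaf 0x0) (.leaf 0x0)))) (.node (.node (.node (.node (.leaf 0x0) (.leaf 0x0)) (.leaf 0x0)) (.node (.leaf 0x0) (.leaf 0x0))) (.node (.node (.leaf 0x0) (.leaf 0x0)) (.node (.leaf 0x0) (.leaf 0x15adb006))))) (.node (.node (.node (.node (.node (.leaf 0x0) (.leaf 0x0)) (.leaf 0x0)) (.node (.leaf 0x0) (.leaf 0x0))) (.node (.node (.leaf 0x0) (.leaf 0x4618005)) (.node (.leaf 0x55c004) (.leaf 0x0)))) (.node (.node (.node (.node (.leaf 0x0) (.leaf 0x0)) (.leaf 0x3111006)) (.node (.leaf 0x0) (.leaf 0x1b854006))) (.node (.node (.leaf 0x0) (.leaf 0x0)) (.node (.leaf 0x0) (.leaf 0x56e1005))))))) (.node (.node (.node (.node (.node (.node (.node (.leaf 0x0) (.leaf 0x0)) (.leaf 0x314b005)) (.node (.leaf 0x0) (.leaf 0x0))) (.node (.node (.leaf 0x0) (.leaf 0x488c006)) (.node (.leaf 0x0) (.leaf 0x0)))) (.node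 (.node (.node (.node (.leaf 0x0) (.leaf 0x1819005)) (.leaf 0x0)) (.node (.leaf 0x0) (.leaf 0x0))) (.node (.node (.leaf 0x0) (.leaf 0x3a51006)) (.node (.leaf 0x0) (.leaf 0x0))))) (.node (.node (.node (.node (.node (.leaf 0x0) (.leaf 0x35b004)) (.leaf 0x0)) (.node (.leaf 0x0) (.leaf 0x0))) (.node (.node (.leaf 0x0) (.leaf 0x0)) (.node (.leaf 0x0) (.leaf 0x0)))) (.node (.node (.node (.node (.leaf 0x0) (.leaf 0x60459007)) (.leaf 0x0)) (.node (.leaf 0x0) (.leaf 0x0))) (.node (.node (.leaf 0x0) (.leaf 0x5669006)) (.node (.leaf 0x0) (.leaf 0x0)))))) (.node (.node (.node (.node (.node (.node (.leaf 0x0) (.leaf 0x0)) (.leaf 0x0)) (.node (.leaf 0x0) (.leaf 0x0))) (.node (.node (.leaf 0x0) (.leaf 0x0)) (.node (.leaf 0x0) (.leaf 0x0)))) (.node (.node (.node (.node (.leaf 0x0) (.leaf 0x0)) (.leaf 0x0)) (.node (.leaf 0x0) (.leaf 0x0))) (.node (.node (.leaf 0x0) (.leaf 0x0)) (.node (.leaf 0x0) (.leaf 0x0))))) (.node (.node (.node (.node (.node (.leaf 0x0) (.leaf 0x0)) (.leaf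 0x0)) (.node (.leaf 0x0) (.leaf 0x0))) (.node (.node (.leaf 0x0) (.leaf 0x0)) (.node (.leaf 0x0) (.leaf 0x0)))) (.node (.node (.node (.node (.leaf 0x0) (.leaf 0x20b50006)) (.leaf 0x0)) (.node (.leaf 0x0) (.leaf 0x40a1006))) (.node (.node (.leaf 0x0) (.leaf 0x0)) (.node (.leaf 0x0) (.leaf 0x0)))))))) (.node (.node (.node (.node (.node (.node (.node (.node (.leaf 0x0) (.leaf 0x1a51005)) (.leaf 0x0)) (.node (.leaf 0x0) (.leaf 0x0))) (.node (.node (.leaf 0x0) (.leaf 0x0)) (.node (.leaf 0x0) (.leaf 0x0)))) (.node (.node (.node (.node (.leaf 0x0) (.leaf 0x0)) (.leaf 0x0)) (.node (.leaf 0x0) (.leaf 0x23002))) (.node (.node (.leaf 0x0) (.leaf 0x0)) (.node (.leaf 0x0) (.leaf 0x292e9006))))) (.node (.node (.node (.node (.node (.leaf 0x0) (.leaf 0x0)) (.leaf 0x0)) (.node (.leaf 0x0) (.leaf 0x0))) (.node (.node (.leaf 0x0) (.leaf 0x0)) (.node (.leaf 0x0) (.leaf 0x0)))) (.node (.node (.node (.node (.leaf 0x0) (.leaf 0x162b005)) (.leaf 0x0)) (.node (.leaf 0x0) (.leaf 0x0)))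 (.node (.node (.leaf 0x0) (.leaf 0x0)) (.node (.leaf 0x0) (.leaf 0x0)))))) (.node (.node (.node (.node (.node (.node (.leaf 0x0) (.leaf 0x0)) (.leaf 0x0)) (.node (.leaf 0x0) (.leaf 0x0))) (.node (.node (.leaf 0x0) (.leaf 0x0)) (.node (.leaf 0x0) (.leaf 0x42dc005)))) (.node (.node (.node (.node (.leaf 0x0) (.leaf 0x3001)) (.leaf 0x0)) (.node (.leaf 0x0) (.leaf 0xaa8004))) (.node (.node (.leaf 0x20002) (.leaf 0x0)) (.node (.leaf 0x0) (.leaf 0x0))))) (.node (.node (.node (.node (.node (.leaf 0x0) (.leaf 0x245b005)) (.leaf 0x0)) (.node (.leaf 0x0) (.leaf 0x0))) (.node (.node (.leaf 0x0) (.leaf 0x0)) (.node (.leaf 0x0) (.leaf 0x0)))) (.node (.node (.node (.node (.leaf 0x0) (.leaf 0x0)) (.leaf 0x5001)) (.node (.leaf 0x0) (.leaf 0x0))) (.node (.node (.leaf 0x0) (.leaf 0x0)) (.node (.leaf 0x0) (.leaf 0x0))))))) (.node (.node (.node (.node (.node (.node (.node (.leaf 0x0) (.leaf 0x0)) (.leaf 0x1001)) (.node (.leaf 0x0) (.leaf 0x0))) (.node (.node (.leaf 0x0) (.leaf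 0x0)) (.node (.leaf 0x0) (.leaf 0x0)))) (.node (.node (.node (.node (.leaf 0x0) (.leaf 0x0)) (.leaf 0x0)) (.node (.leaf 0x0) (.leaf 0x0))) (.node (.node (.leaf 0x0) (.leaf 0x0)) (.node (.leaf 0x0) (.leaf 0x0))))) (.node (.node (.node (.node (.node (.leaf 0x0) (.leaf 0x1662005)) (.leaf 0x0)) (.node (.leaf 0xaa3004) (.leaf 0x0))) (.node (.node (.leaf 0x0) (.leaf 0x0)) (.node (.leaf 0x0) (.leaf 0x0)))) (.node (.node (.node (.node (.leaf 0x0) (.leaf 0x2001)) (.leaf 0x0)) (.node (.leaf 0x0) (.leaf 0x241b005))) (.node (.node (.leaf 0x0) (.leaf 0x0)) (.node (.leaf 0x22b4c006) (.leaf 0x0)))))) (.node (.node (.node (.node (.node (.node (.leaf 0x0) (.leaf 0x0)) (.leaf 0x0)) (.node (.leaf 0x0) (.leaf 0x0))) (.node (.node (.leaf 0x0) (.leaf 0x0)) (.node (.leaf 0x0) (.leaf 0x0)))) (.node (.node (.node (.node (.leaf 0x0) (.leaf 0x18629006)) (.leaf 0x0)) (.node (.leaf 0x0) (.leaf 0x0))) (.node (.node (.leaf 0x0) (.leaf 0x0)) (.node (.leaf 0x0) (.leaf 0x1c629006))))) (.node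 (.node (.node (.node (.node (.leaf 0x0) (.leaf 0x0)) (.leaf 0x0)) (.node (.leaf 0x0) (.leaf 0x18629006))) (.node (.node (.leaf 0x0) (.leaf 0x0)) (.node (.leaf 0x0) (.leaf 0x0)))) (.node (.node (.node (.node (.leaf 0x0) (.leaf 0x2066b006)) (.leaf 0x0)) (.node (.leaf 0x0) (.leaf 0x0))) (.node (.node (.leaf 0x0) (.leaf 0x0)) (.node (.leaf 0x0) (.leaf 0x0))))))))

/-- data -/
def lab0p8 : Trie (ℕ) := .node (.node (.node (.node (.node (.node (.node (.node (.node (.leaf 0x0) (.leaf 0x0)) (.leaf 0x0)) (.node (.leaf 0x0) (.leaf 0x0))) (.node (.node (.leaf 0x0) (.leaf 0x0)) (.node (.leaf 0x0) (.leaf 0x0)))) (.node (.node (.node (.node (.leaf 0x0) (.leaf 0x0)) (.leaf 0x0)) (.node (.leaf 0x0) (.leaf 0x0))) (.node (.node (.leaf 0x0) (.leaf 0x0)) (.node (.leaf 0x0) (.leaf 0x0))))) (.node (.node (.node (.node (.node (.leaf 0x0) (.leaf 0x0)) (.leaf 0x0)) (.node (.leaf 0x0) (.leaf 0x0))) (.node (.node (.leaf 0x0) (.leaf 0x0)) (.node (.leaf 0x0) (.leaf 0x508c9007)))) (.node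 (.node (.node (.node (.leaf 0x0) (.leaf 0x1b854006)) (.leaf 0x0)) (.node (.leaf 0x0) (.leaf 0x0))) (.node (.node (.leaf 0x0) (.leaf 0x0)) (.node (.leaf 0x0) (.leaf 0x0)))))) (.node (.node (.node (.node (.node (.node (.leaf 0x0) (.leaf 0x0)) (.leaf 0x1448e9007)) (.node (.leaf 0x0) (.leaf 0x0))) (.node (.node (.leaf 0x0) (.leaf 0x1618005)) (.node (.leaf 0x0) (.leaf 0x620005)))) (.node (.node (.node (.node (.leaf 0x0) (.leaf 0x12a61006)) (.leaf 0x0)) (.node (.leaf 0x0) (.leaf 0x0))) (.node (.node (.leaf 0x0) (.leaf 0x0)) (.node (.leaf 0x0) (.leaf 0x0))))) (.node (.node (.node (.node (.node (.leaf 0x0) (.leaf 0x0)) (.leaf 0x0)) (.node (.leaf 0x0) (.leaf 0x0))) (.node (.node (.leaf 0x0) (.leaf 0x0)) (.node (.leaf 0x0) (.leaf 0x0)))) (.node (.node (.node (.node (.leaf 0x0) (.leaf 0x0)) (.leaf 0x0)) (.node (.leaf 0x0) (.leaf 0x0))) (.node (.node (.leaf 0x0) (.leaf 0x0)) (.node (.leaf 0x263004) (.leaf 0x244a005))))))) (.node (.node (.node (.node (.node (.node (.node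 (.leaf 0x0) (.leaf 0x0)) (.leaf 0x0)) (.node (.leaf 0x0) (.leaf 0x0))) (.node (.node (.leaf 0x0) (.leaf 0x0)) (.node (.leaf 0x0) (.leaf 0x2a10d006)))) (.node (.node (.node (.node (.leaf 0x0) (.leaf 0x0)) (.leaf 0x0)) (.node (.leaf 0x0) (.leaf 0x3120006))) (.node (.node (.leaf 0x0) (.leaf 0x0)) (.node (.leaf 0x0) (.leaf 0x0))))) (.node (.node (.node (.node (.node (.leaf 0x0) (.leaf 0x0)) (.leaf 0x0)) (.node (.leaf 0x0) (.leaf 0x0))) (.node (.node (.leaf 0x0) (.leaf 0x0)) (.node (.leaf 0x0) (.leaf 0x0)))) (.node (.node (.node (.node (.leaf 0x0) (.leaf 0x0)) (.leaf 0x0)) (.node (.leaf 0x0) (.leaf 0x0))) (.node (.node (.leaf 0x0) (.leaf 0x0)) (.node (.leaf 0x0) (.leaf 0x0)))))) (.node (.node (.node (.node (.node (.node (.leaf 0x0) (.leaf 0x331c005)) (.leaf 0x0)) (.node (.leaf 0x0) (.leaf 0x0))) (.node (.node (.leaf 0x0) (.leaf 0x0)) (.node (.leaf 0x1448e9007) (.leaf 0x0)))) (.node (.node (.node (.node (.leaf 0x0) (.leaf 0x0)) (.leaf 0x0)) (.node (.leaf 0x0) (.leaf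 0x0))) (.node (.node (.leaf 0x0) (.leaf 0x0)) (.node (.leaf 0x0) (.leaf 0x0))))) (.node (.node (.node (.node (.node (.leaf 0x0) (.leaf 0x4658005)) (.leaf 0x0)) (.node (.leaf 0x0) (.leaf 0x2a90a006))) (.node (.node (.leaf 0x0) (.leaf 0x0)) (.node (.leaf 0x2001) (.leaf 0xd75b006)))) (.node (.node (.node (.node (.leaf 0x0) (.leaf 0x0)) (.leaf 0x0)) (.node (.leaf 0x0) (.leaf 0xae0004))) (.node (.node (.leaf 0x0) (.leaf 0x0)) (.node (.leaf 0x0) (.leaf 0x1550d006)))))))) (.node (.node (.node (.node (.node (.node (.node (.node (.leaf 0x0) (.leaf 0x1a51005)) (.leaf 0x0)) (.node (.leaf 0x0) (.leaf 0x0))) (.node (.node (.leaf 0x0) (.leaf 0x0)) (.node (.leaf 0x0) (.leaf 0x0)))) (.node (.node (.node (.node (.leaf 0x0) (.leaf 0x0)) (.leaf 0x0)) (.node (.leaf 0x0) (.leaf 0x0))) (.node (.node (.leaf 0x0) (.leaf 0x0)) (.node (.leaf 0xa54004) (.leaf 0x0))))) (.node (.node (.node (.node (.node (.leaf 0x0) (.leaf 0x0)) (.leaf 0x0)) (.node (.leaf 0x0) (.leaf 0x0))) (.node (.node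 (.leaf 0x0) (.leaf 0x0)) (.node (.leaf 0x0) (.leaf 0x0)))) (.node (.node (.node (.node (.leaf 0x0) (.leaf 0xaa89006)) (.leaf 0x0)) (.node (.leaf 0x0) (.leaf 0x0))) (.node (.node (.leaf 0x1448e9007) (.leaf 0x549004)) (.node (.leaf 0x0) (.leaf 0x0)))))) (.node (.node (.node (.node (.node (.node (.leaf 0x0) (.leaf 0x0)) (.leaf 0x0)) (.node (.leaf 0x0) (.leaf 0x0))) (.node (.node (.leaf 0x0) (.leaf 0x109569007)) (.node (.leaf 0x0) (.leaf 0x412004)))) (.node (.node (.node (.node (.leaf 0x0) (.leaf 0x0)) (.leaf 0x0)) (.node (.leaf 0x0) (.leaf 0x0))) (.node (.node (.leaf 0x0) (.leaf 0x0)) (.node (.leaf 0x0) (.leaf 0x0))))) (.node (.node (.node (.node (.node (.leaf 0x0) (.leaf 0x56e1005)) (.leaf 0x0)) (.node (.leaf 0x0) (.leaf 0x0))) (.node (.node (.leaf 0x0) (.leaf 0x0)) (.node (.leaf 0x0) (.leaf 0x0)))) (.node (.node (.node (.node (.leaf 0x0) (.leaf 0x0)) (.leaf 0x0)) (.node (.leaf 0x0) (.leaf 0x0))) (.node (.node (.leaf 0x0) (.leaf 0x5542005)) (.node (.leaf 0x0)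 (.leaf 0x0))))))) (.node (.node (.node (.node (.node (.node (.node (.leaf 0x0) (.leaf 0x0)) (.leaf 0x0)) (.node (.leaf 0x0) (.leaf 0xda51006))) (.node (.node (.leaf 0x0) (.leaf 0x0)) (.node (.leaf 0x0) (.leaf 0x0)))) (.node (.node (.node (.node (.leaf 0x0) (.leaf 0x0)) (.leaf 0x0)) (.node (.leaf 0x0) (.leaf 0x0))) (.node (.node (.leaf 0x0) (.leaf 0x0)) (.node (.leaf 0xac4004) (.leaf 0x0))))) (.node (.node (.node (.node (.node (.leaf 0x0) (.leaf 0x0)) (.leaf 0x0)) (.node (.leaf 0x0) (.leaf 0xdbaa8007))) (.node (.node (.leaf 0x0) (.leaf 0x0)) (.node (.leaf 0x0) (.leaf 0x0)))) (.node (.node (.node (.node (.leaf 0x0) (.leaf 0x0)) (.leaf 0x0)) (.node (.leaf 0x0) (.leaf 0x0))) (.node (.node (.leaf 0x0) (.leaf 0x0)) (.node (.leaf 0x0) (.leaf 0x0)))))) (.node (.node (.node (.node (.node (.node (.leaf 0x0) (.leaf 0x0)) (.leaf 0x0)) (.node (.leaf 0x0) (.leaf 0x0))) (.node (.node (.leaf 0x0) (.leaf 0x2a2c3006)) (.node (.leaf 0x1448e9007) (.leaf 0x0)))) (.node (.node (.node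 (.node (.leaf 0x0) (.leaf 0x511b006)) (.leaf 0x0)) (.node (.leaf 0x0) (.leaf 0x0))) (.node (.node (.leaf 0x0) (.leaf 0x0)) (.node (.leaf 0x0) (.leaf 0x0))))) (.node (.node (.node (.node (.node (.leaf 0x0) (.leaf 0x0)) (.leaf 0x0)) (.node (.leaf 0x0) (.leaf 0x0))) (.node (.node (.leaf 0x0) (.leaf 0x0)) (.node (.leaf 0x0) (.leaf 0x198ab006)))) (.node (.node (.node (.node (.leaf 0x0) (.leaf 0x0)) (.leaf 0x0)) (.node (.leaf 0x0) (.leaf 0x0))) (.node (.node (.leaf 0x0) (.leaf 0x0)) (.node (.leaf 0x0) (.leaf 0x0))))))))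

/-- data -/
def lab0p9 : Trie (ℕ) := .node (.node (.node (.node (.node (.node (.node (.node (.node (.leaf 0x0) (.leaf 0x0)) (.leaf 0x0)) (.node (.leaf 0x0) (.leaf 0x0))) (.node (.node (.leaf 0x0) (.leaf 0x0)) (.node (.leaf 0x0) (.leaf 0x4468005)))) (.node (.node (.node (.node (.leaf 0x0) (.leaf 0x0)) (.leaf 0x0)) (.node (.leaf 0x0) (.leaf 0x0))) (.node (.node (.leaf 0x0) (.leaf 0x0)) (.node (.leaf 0x0) (.leaf 0x0))))) (.node (.node (.node (.node (.node (.leaf 0x0) (.leaf 0x14350006)) (.leaf 0x0)) (.node (.leaf 0x0) (.leaf 0x0))) (.node (.node (.leaf 0x0) (.leaf 0x0)) (.node (.leaf 0x0) (.leaf 0x0)))) (.node (.node (.node (.node (.leaf 0x0) (.leaf 0x36e1005)) (.leaf 0x0)) (.node (.leaf 0x0) (.leaf 0x0))) (.node (.node (.leaf 0x0) (.leaf 0x0)) (.node (.leaf 0x0) (.leaf 0x718005)))))) (.node (.node (.node (.node (.node (.node (.leaf 0x0) (.leaf 0xa0003)) (.leaf 0x0)) (.node (.leaf 0x0) (.leaf 0x3854005))) (.node (.node (.leaf 0x0) (.leaf 0x0)) (.node (.leaf 0x241b005)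 (.leaf 0x0)))) (.node (.node (.node (.node (.leaf 0x0) (.leaf 0x0)) (.leaf 0x285d006)) (.node (.leaf 0x0) (.leaf 0x0))) (.node (.node (.leaf 0x0) (.leaf 0x0)) (.node (.leaf 0x1551005) (.leaf 0x0))))) (.node (.node (.node (.node (.node (.leaf 0x0) (.leaf 0x0)) (.leaf 0x28769006)) (.node (.leaf 0x0) (.leaf 0xd6e8006))) (.node (.node (.leaf 0x0) (.leaf 0x0)) (.node (.leaf 0x0) (.leaf 0x0)))) (.node (.node (.node (.node (.leaf 0x0) (.leaf 0x12a60006)) (.leaf 0x0)) (.node (.leaf 0x0) (.leaf 0x0))) (.node (.node (.leaf 0x0) (.leaf 0x0)) (.node (.leaf 0x0) (.leaf 0x0))))))) (.node (.node (.node (.node (.node (.node (.node (.leaf 0x0) (.leaf 0x8e8004)) (.leaf 0x0)) (.node (.leaf 0x0) (.leaf 0x0))) (.node (.node (.leaf 0x0) (.leaf 0x0)) (.node (.leaf 0x0) (.leaf 0x0)))) (.node (.node (.node (.node (.leaf 0x0) (.leaf 0x0)) (.leaf 0x0)) (.node (.leaf 0x0) (.leaf 0x0))) (.node (.node (.leaf 0x0) (.leaf 0x0)) (.node (.leaf 0x0) (.leaf 0x0))))) (.node (.node (.node (.node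 (.node (.leaf 0x0) (.leaf 0x1c629006)) (.leaf 0x0)) (.node (.leaf 0x0) (.leaf 0x0))) (.node (.node (.leaf 0x0) (.leaf 0x0)) (.node (.leaf 0x0) (.leaf 0xc4a0006)))) (.node (.node (.node (.node (.leaf 0x0) (.leaf 0x12adb006)) (.leaf 0x0)) (.node (.leaf 0x0) (.leaf 0x0))) (.node (.node (.leaf 0x0) (.leaf 0x0)) (.node (.leaf 0x0) (.leaf 0x0)))))) (.node (.node (.node (.node (.node (.node (.leaf 0x0) (.leaf 0x188e1006)) (.leaf 0x0)) (.node (.leaf 0x0) (.leaf 0x0))) (.node (.node (.leaf 0x0) (.leaf 0x0)) (.node (.leaf 0x0) (.leaf 0x0)))) (.node (.node (.node (.node (.leaf 0x0) (.leaf 0x0)) (.leaf 0x0)) (.node (.leaf 0x0) (.leaf 0x0))) (.node (.node (.leaf 0x0) (.leaf 0x0)) (.node (.leaf 0x0) (.leaf 0x0))))) (.node (.node (.node (.node (.node (.leaf 0x0) (.leaf 0x0)) (.leaf 0x2a2c3006)) (.node (.leaf 0x0) (.leaf 0x0))) (.node (.node (.leaf 0x0) (.leaf 0x0)) (.node (.leaf 0x0) (.leaf 0x0)))) (.node (.node (.node (.node (.leaf 0x0) (.leaf 0x4a0004)) (.leaf 0x0)) (.node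 (.leaf 0x0) (.leaf 0x0))) (.node (.node (.leaf 0x0) (.leaf 0x5120005)) (.node (.leaf 0x0) (.leaf 0x0)))))))) (.node (.node (.node (.node (.node (.node (.node (.node (.leaf 0x0) (.leaf 0x0)) (.leaf 0x21511006)) (.node (.leaf 0x0) (.leaf 0x0))) (.node (.node (.leaf 0x0) (.leaf 0x0)) (.node (.leaf 0x0) (.leaf 0x0)))) (.node (.node (.node (.node (.leaf 0x0) (.leaf 0x444c006)) (.leaf 0xc251006)) (.node (.leaf 0x0) (.leaf 0x0))) (.node (.node (.leaf 0x0) (.leaf 0x0)) (.node (.leaf 0x0) (.leaf 0x2ac9005))))) (.node (.node (.node (.node (.node (.leaf 0x0) (.leaf 0x14509006)) (.leaf 0x0)) (.node (.leaf 0x0) (.leaf 0x0))) (.node (.node (.leaf 0x1) (.leaf 0x128a0006)) (.node (.leaf 0x0) (.leaf 0x28862006)))) (.node (.node (.node (.node (.leaf 0x0) (.leaf 0x0)) (.leaf 0x159858007)) (.node (.leaf 0x0) (.leaf 0x112eb006))) (.node (.node (.leaf 0x0) (.leaf 0x0)) (.node (.leaf 0x3854005) (.leaf 0xc0e3006)))))) (.node (.node (.node (.node (.node (.node (.leaf 0x0) (.leaf 0x0))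 (.leaf 0x0)) (.node (.leaf 0x0) (.leaf 0x0))) (.node (.node (.leaf 0x0) (.leaf 0x352004)) (.node (.leaf 0x0) (.leaf 0x0)))) (.node (.node (.node (.node (.leaf 0x0) (.leaf 0xaa69006)) (.leaf 0x0)) (.node (.leaf 0x30c9005) (.leaf 0x0))) (.node (.node (.leaf 0x0) (.leaf 0x0)) (.node (.leaf 0x0) (.leaf 0x0))))) (.node (.node (.node (.node (.node (.leaf 0x0) (.leaf 0x0)) (.leaf 0x0)) (.node (.leaf 0x0) (.leaf 0x0))) (.node (.node (.leaf 0x0) (.leaf 0x0)) (.node (.leaf 0x0) (.leaf 0x0)))) (.node (.node (.node (.node (.leaf 0x0) (.leaf 0x0)) (.leaf 0x0)) (.node (.leaf 0x0) (.leaf 0x24251006))) (.node (.node (.leaf 0x0) (.leaf 0x0)) (.node (.leaf 0x0) (.leaf 0x4001))))))) (.node (.node (.node (.node (.node (.node (.node (.leaf 0x0) (.leaf 0x0)) (.leaf 0x0)) (.node (.leaf 0x0) (.leaf 0xb311006))) (.node (.node (.leaf 0x0) (.leaf 0x0)) (.node (.leaf 0x0) (.leaf 0x0)))) (.node (.node (.node (.node (.leaf 0x0) (.leaf 0x0)) (.leaf 0x0)) (.node (.leaf 0x0) (.leaf 0x0)))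 (.node (.node (.leaf 0x0) (.leaf 0x0)) (.node (.leaf 0x0) (.leaf 0x0))))) (.node (.node (.node (.node (.node (.leaf 0x0) (.leaf 0x0)) (.leaf 0x0)) (.node (.leaf 0x0) (.leaf 0x0))) (.node (.node (.leaf 0x0) (.leaf 0x0)) (.node (.leaf 0x0) (.leaf 0x11aea006)))) (.node (.node (.node (.node (.leaf 0x0) (.leaf 0x0)) (.leaf 0x0)) (.node (.leaf 0x0) (.leaf 0x0))) (.node (.node (.leaf 0x0) (.leaf 0x0)) (.node (.leaf 0x0) (.leaf 0x0)))))) (.node (.node (.node (.node (.node (.node (.leaf 0x0) (.leaf 0x108c9006)) (.leaf 0x0)) (.node (.leaf 0x0) (.leaf 0x0))) (.node (.node (.leaf 0x0) (.leaf 0x0)) (.node (.leaf 0x575b006) (.leaf 0x0)))) (.node (.node (.node (.node (.leaf 0x0) (.leaf 0x0)) (.leaf 0x0)) (.node (.leaf 0x0) (.leaf 0x28769006))) (.node (.node (.leaf 0x0) (.leaf 0x0)) (.node (.leaf 0x0) (.leaf 0x0))))) (.node (.node (.node (.node (.node (.leaf 0x0) (.leaf 0x21552006)) (.leaf 0x0)) (.node (.leaf 0x0) (.leaf 0x0))) (.node (.node (.leaf 0x0) (.leaf 0x0)) (.node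 (.leaf 0x0) (.leaf 0x0)))) (.node (.node (.node (.node (.leaf 0x0) (.leaf 0x35b004)) (.leaf 0x0)) (.node (.leaf 0x0) (.leaf 0x0))) (.node (.node (.leaf 0x0) (.leaf 0x0)) (.node (.leaf 0x0) (.leaf 0x0))))))))

/-- data -/
def lab0p10 : Trie (ℕ) := .node (.node (.node (.node (.node (.node (.node (.node (.node (.leaf 0x0) (.leaf 0x0)) (.leaf 0x0)) (.node (.leaf 0x0) (.leaf 0x0))) (.node (.node (.leaf 0x0) (.leaf 0x0)) (.node (.leaf 0x0) (.leaf 0x0)))) (.node (.node (.node (.node (.leaf 0x0) (.leaf 0x0)) (.leaf 0x0)) (.node (.leaf 0x0) (.leaf 0x0))) (.node (.node (.leaf 0x0) (.leaf 0x0)) (.node (.leaf 0x0) (.leaf 0x0))))) (.node (.node (.node (.node (.node (.leaf 0x0) (.leaf 0x285d006)) (.leaf 0x0)) (.node (.leaf 0x0) (.leaf 0x0))) (.node (.node (.leaf 0x0) (.leaf 0x0)) (.node (.leaf 0x0) (.leaf 0x0)))) (.node (.node (.node (.node (.leaf 0x0) (.leaf 0x0)) (.leaf 0x0)) (.node (.leaf 0x0) (.leaf 0xdbaa8007))) (.node (.node (.leaf 0x0) (.leaf 0x0)) (.node (.leaf 0x0)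 (.leaf 0x0)))))) (.node (.node (.node (.node (.node (.node (.leaf 0x0) (.leaf 0x0)) (.leaf 0x0)) (.node (.leaf 0x0) (.leaf 0x0))) (.node (.node (.leaf 0x0) (.leaf 0x0)) (.node (.leaf 0x0) (.leaf 0x0)))) (.node (.node (.node (.node (.leaf 0x0) (.leaf 0x0)) (.leaf 0x0)) (.node (.leaf 0x0) (.leaf 0x0))) (.node (.node (.leaf 0x0) (.leaf 0x0)) (.node (.leaf 0x0) (.leaf 0x0))))) (.node (.node (.node (.node (.node (.leaf 0x0) (.leaf 0x0)) (.leaf 0x0)) (.node (.leaf 0x0) (.leaf 0x0))) (.node (.node (.leaf 0x0) (.leaf 0x0)) (.node (.leaf 0x0) (.leaf 0x0)))) (.node (.node (.node (.node (.leaf 0x0) (.leaf 0x0)) (.leaf 0x0)) (.node (.leaf 0x0) (.leaf 0x0))) (.node (.node (.leaf 0x0) (.leaf 0x0)) (.node (.leaf 0x0) (.leaf 0x2001))))))) (.node (.node (.node (.node (.node (.node (.node (.leaf 0x0) (.leaf 0x0)) (.leaf 0x314b005)) (.node (.leaf 0x0) (.leaf 0x0))) (.node (.node (.leaf 0x0) (.leaf 0x0)) (.node (.leaf 0x0) (.leaf 0x0)))) (.node (.node (.node (.node (.leaf 0x0)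 (.leaf 0x1d50b006)) (.leaf 0x0)) (.node (.leaf 0x0) (.leaf 0x3001))) (.node (.node (.leaf 0x0) (.leaf 0x0)) (.node (.leaf 0x0) (.leaf 0x0))))) (.node (.node (.node (.node (.node (.leaf 0x0) (.leaf 0x0)) (.leaf 0x0)) (.node (.leaf 0x0) (.leaf 0x0))) (.node (.node (.leaf 0x0) (.leaf 0x0)) (.node (.leaf 0x0) (.leaf 0x0)))) (.node (.node (.node (.node (.leaf 0x0) (.leaf 0x2a2c3006)) (.leaf 0x0)) (.node (.leaf 0x0) (.leaf 0x30c9005))) (.node (.node (.leaf 0x0) (.leaf 0x0)) (.node (.leaf 0x0) (.leaf 0x0)))))) (.node (.node (.node (.node (.node (.node (.leaf 0x0) (.leaf 0x0)) (.leaf 0x0)) (.node (.leaf 0x0) (.leaf 0x0))) (.node (.node (.leaf 0x0) (.leaf 0x0)) (.node (.leaf 0x0) (.leaf 0x0)))) (.node (.node (.node (.node (.leaf 0x0) (.leaf 0x0)) (.leaf 0x0)) (.node (.leaf 0x0) (.leaf 0x0))) (.node (.node (.leaf 0x0) (.leaf 0x0)) (.node (.leaf 0x0) (.leaf 0x0))))) (.node (.node (.node (.node (.node (.leaf 0x0) (.leaf 0x3821006)) (.leaf 0x0)) (.node (.leaf 0x0) (.leaf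 0x314b005))) (.node (.node (.leaf 0x0) (.leaf 0x0)) (.node (.leaf 0x5001) (.leaf 0x0)))) (.node (.node (.node (.node (.leaf 0x0) (.leaf 0x0)) (.leaf 0x0)) (.node (.leaf 0x0) (.leaf 0x0))) (.node (.node (.leaf 0x0) (.leaf 0x0)) (.node (.leaf 0x0) (.leaf 0x0)))))))) (.node (.node (.node (.node (.node (.node (.node (.node (.leaf 0x0) (.leaf 0x0)) (.leaf 0x0)) (.node (.leaf 0x0) (.leaf 0x0))) (.node (.node (.leaf 0x0) (.leaf 0x0)) (.node (.leaf 0x0) (.leaf 0x0)))) (.node (.node (.node (.node (.leaf 0x0) (.leaf 0x52a3005)) (.leaf 0x0)) (.node (.leaf 0x0) (.leaf 0x0))) (.node (.node (.leaf 0x0) (.leaf 0x0)) (.node (.leaf 0x0) (.leaf 0x0))))) (.node (.node (.node (.node (.node (.leaf 0x0) (.leaf 0x0)) (.leaf 0x2a10d006)) (.node (.leaf 0x0) (.leaf 0x0))) (.node (.node (.leaf 0x0) (.leaf 0x0)) (.node (.leaf 0x0) (.leaf 0x0)))) (.node (.node (.node (.node (.leaf 0x0) (.leaf 0x0)) (.leaf 0x0)) (.node (.leaf 0x0) (.leaf 0x0))) (.node (.node (.leaf 0x0) (.leaf 0x0)) (.node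 (.leaf 0x0) (.leaf 0x0)))))) (.node (.node (.node (.node (.node (.node (.leaf 0x0) (.leaf 0x0)) (.leaf 0x0)) (.node (.leaf 0x0) (.leaf 0x0))) (.node (.node (.leaf 0x0) (.leaf 0x0)) (.node (.leaf 0x0) (.leaf 0x0)))) (.node (.node (.node (.node (.leaf 0x0) (.leaf 0x0)) (.leaf 0x0)) (.node (.leaf 0x0) (.leaf 0x0))) (.node (.node (.leaf 0x0) (.leaf 0x0)) (.node (.leaf 0x0) (.leaf 0x0))))) (.node (.node (.node (.node (.node (.leaf 0x0) (.leaf 0x1d759006)) (.leaf 0x0)) (.node (.leaf 0x0) (.leaf 0x0))) (.node (.node (.leaf 0x0) (.leaf 0x0)) (.node (.leaf 0x0) (.leaf 0x0)))) (.node (.node (.node (.node (.leaf 0x0) (.leaf 0x30c5005)) (.leaf 0x3001)) (.node (.leaf 0x0) (.leaf 0x24251006))) (.node (.node (.leaf 0x0) (.leaf 0x0)) (.node (.leaf 0x0) (.leaf 0x0))))))) (.node (.node (.node (.node (.node (.node (.node (.leaf 0x0) (.leaf 0x1daa2006)) (.leaf 0x244a005)) (.node (.leaf 0x0) (.leaf 0x0))) (.node (.node (.leaf 0x0) (.leaf 0x0)) (.node (.leaf 0x0) (.leaf 0x30c9005))))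 (.node (.node (.node (.node (.leaf 0x0) (.leaf 0x0)) (.leaf 0x0)) (.node (.leaf 0x0) (.leaf 0x0))) (.node (.node (.leaf 0x0) (.leaf 0x0)) (.node (.leaf 0x0) (.leaf 0x0))))) (.node (.node (.node (.node (.node (.leaf 0x0) (.leaf 0x0)) (.leaf 0x0)) (.node (.leaf 0x0) (.leaf 0x0))) (.node (.node (.leaf 0x0) (.leaf 0x0)) (.node (.leaf 0x0) (.leaf 0x1618005)))) (.node (.node (.node (.node (.leaf 0x0) (.leaf 0x0)) (.leaf 0x0)) (.node (.leaf 0x1550d006) (.leaf 0x354004))) (.node (.node (.leaf 0x0) (.leaf 0x0)) (.node (.leaf 0x0) (.leaf 0x0)))))) (.node (.node (.node (.node (.node (.node (.leaf 0x0) (.leaf 0x0)) (.leaf 0x0)) (.node (.leaf 0x0) (.leaf 0x0))) (.node (.node (.leaf 0x0) (.leaf 0x0)) (.node (.leaf 0x0) (.leaf 0x0)))) (.node (.node (.node (.node (.leaf 0x0) (.leaf 0x0)) (.leaf 0x0)) (.node (.leaf 0x0) (.leaf 0x0))) (.node (.node (.leaf 0x0) (.leaf 0x0)) (.node (.leaf 0x0) (.leaf 0x0))))) (.node (.node (.node (.node (.node (.leaf 0x0) (.leaf 0x2b70a006)) (.leaf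 0x0)) (.node (.leaf 0x0) (.leaf 0x0))) (.node (.node (.leaf 0x0) (.leaf 0x0)) (.node (.leaf 0xa3003) (.leaf 0x0)))) (.node (.node (.node (.node (.leaf 0x0) (.leaf 0x0)) (.leaf 0x5669006)) (.node (.leaf 0x0) (.leaf 0x51c004))) (.node (.node (.leaf 0x0) (.leaf 0x2d489006)) (.node (.leaf 0x0) (.leaf 0x0))))))))

/-- data -/
def lab0p11 : Trie (ℕ) := .node (.node (.node (.node (.node (.node (.node (.node (.node (.leaf 0x0) (.leaf 0x0)) (.leaf 0x0)) (.node (.leaf 0x0) (.leaf 0x0))) (.node (.node (.leaf 0x0) (.leaf 0x0)) (.node (.leaf 0x0) (.leaf 0x0)))) (.node (.node (.node (.node (.leaf 0x0) (.leaf 0x0)) (.leaf 0x0)) (.node (.leaf 0x0) (.leaf 0x0))) (.node (.node (.leaf 0x0) (.leaf 0x0)) (.node (.leaf 0x0) (.leaf 0x0))))) (.node (.node (.node (.node (.node (.leaf 0x0) (.leaf 0x1b723006)) (.leaf 0x242d9006)) (.node (.leaf 0x0) (.leaf 0x0))) (.node (.node (.leaf 0x0) (.leaf 0x371b005)) (.node (.leaf 0x0) (.leaf 0x0)))) (.node (.node (.node (.node (.leaf 0x0) (.leaf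 0x530a006)) (.leaf 0x0)) (.node (.leaf 0x0) (.leaf 0x0))) (.node (.node (.leaf 0x0) (.leaf 0x0)) (.node (.leaf 0x0) (.leaf 0x0)))))) (.node (.node (.node (.node (.node (.node (.leaf 0x0) (.leaf 0x1c509006)) (.leaf 0x0)) (.node (.leaf 0x0) (.leaf 0x0))) (.node (.node (.leaf 0x0) (.leaf 0x1b4c005)) (.node (.leaf 0x0) (.leaf 0x0)))) (.node (.node (.node (.node (.leaf 0x0) (.leaf 0x18652006)) (.leaf 0x0)) (.node (.leaf 0x0) (.leaf 0x0))) (.node (.node (.leaf 0x0) (.leaf 0x0)) (.node (.leaf 0x0) (.leaf 0x2552005))))) (.node (.node (.node (.node (.node (.leaf 0x0) (.leaf 0x0)) (.leaf 0x0)) (.node (.leaf 0x0) (.leaf 0x0))) (.node (.node (.leaf 0x0) (.leaf 0x2552005)) (.node (.leaf 0x0) (.leaf 0x620005)))) (.node (.node (.node (.node (.leaf 0x549004) (.leaf 0x0)) (.leaf 0x2d103006)) (.node (.leaf 0x0) (.leaf 0x0))) (.node (.node (.leaf 0x0) (.leaf 0x0)) (.node (.leaf 0x0) (.leaf 0x0))))))) (.node (.node (.node (.node (.node (.node (.node (.leaf 0x0) (.leaf 0x0)) (.leaf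 0x0)) (.node (.leaf 0x6e0004) (.leaf 0x0))) (.node (.node (.leaf 0x0) (.leaf 0x0)) (.node (.leaf 0x0) (.leaf 0x0)))) (.node (.node (.node (.node (.leaf 0x263004) (.leaf 0x4089006)) (.leaf 0x6e0004)) (.node (.leaf 0x0) (.leaf 0x0))) (.node (.node (.leaf 0x0) (.leaf 0x0)) (.node (.leaf 0x0) (.leaf 0x0))))) (.node (.node (.node (.node (.node (.leaf 0x0) (.leaf 0x32e9005)) (.leaf 0x0)) (.node (.leaf 0x0) (.leaf 0x5120005))) (.node (.node (.leaf 0x0) (.leaf 0x0)) (.node (.leaf 0x0) (.leaf 0x30a1006)))) (.node (.node (.node (.node (.leaf 0x0) (.leaf 0x0)) (.leaf 0x11a64006)) (.node (.leaf 0x3001) (.leaf 0x0))) (.node (.node (.leaf 0x0) (.leaf 0x0)) (.node (.leaf 0x0) (.leaf 0x0)))))) (.node (.node (.node (.node (.node (.node (.leaf 0x0) (.leaf 0x718005)) (.leaf 0x0)) (.node (.leaf 0x0) (.leaf 0x0))) (.node (.node (.leaf 0x0) (.leaf 0x0)) (.node (.leaf 0x0) (.leaf 0x21459006)))) (.node (.node (.node (.node (.leaf 0x0) (.leaf 0x4a0004)) (.leaf 0x0)) (.node (.leaf 0x0)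 (.leaf 0x12a90006))) (.node (.node (.leaf 0x0) (.leaf 0x244a005)) (.node (.leaf 0x0) (.leaf 0x0))))) (.node (.node (.node (.node (.node (.leaf 0x0) (.leaf 0x15c003)) (.leaf 0x0)) (.node (.leaf 0x0) (.leaf 0x0))) (.node (.node (.leaf 0x0) (.leaf 0x0)) (.node (.leaf 0x0) (.leaf 0x0)))) (.node (.node (.node (.node (.leaf 0x0) (.leaf 0xaa89006)) (.leaf 0x0)) (.node (.leaf 0x29852006) (.leaf 0x22b4c006))) (.node (.node (.leaf 0x0) (.leaf 0x0)) (.node (.leaf 0x30c9005) (.leaf 0xe1b43007)))))))) (.node (.node (.node (.node (.node (.node (.node (.node (.leaf 0x0) (.leaf 0x0)) (.leaf 0x0)) (.node (.leaf 0x0) (.leaf 0x0))) (.node (.node (.leaf 0x0) (.leaf 0x0)) (.node (.leaf 0x0) (.leaf 0x0)))) (.node (.node (.node (.node (.leaf 0x0) (.leaf 0x468005)) (.leaf 0x0)) (.node (.leaf 0x0) (.leaf 0x0))) (.node (.node (.leaf 0x0) (.leaf 0xa52005)) (.node (.leaf 0x0) (.leaf 0x0))))) (.node (.node (.node (.node (.node (.leaf 0x0) (.leaf 0x0)) (.leaf 0x0)) (.node (.leaf 0x5001)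 (.leaf 0x3621005))) (.node (.node (.leaf 0x0) (.leaf 0x0)) (.node (.leaf 0x0) (.leaf 0x0)))) (.node (.node (.node (.node (.leaf 0x0) (.leaf 0x1550d006)) (.leaf 0x56e1005)) (.node (.leaf 0x0) (.leaf 0x0))) (.node (.node (.leaf 0x0) (.leaf 0x0)) (.node (.leaf 0x0) (.leaf 0x0)))))) (.node (.node (.node (.node (.node (.node (.leaf 0x0) (.leaf 0x0)) (.leaf 0x0)) (.node (.leaf 0x0) (.leaf 0x0))) (.node (.node (.leaf 0x0) (.leaf 0x0)) (.node (.leaf 0x0) (.leaf 0x42dc005)))) (.node (.node (.node (.node (.leaf 0x0) (.leaf 0x9669006)) (.leaf 0x0)) (.node (.leaf 0x0) (.leaf 0x0))) (.node (.node (.leaf 0x0) (.leaf 0x30c5005)) (.node (.leaf 0x0) (.leaf 0x0))))) (.node (.node (.node (.node (.node (.leaf 0x0) (.leaf 0x0)) (.leaf 0x0)) (.node (.leaf 0x0) (.leaf 0x0))) (.node (.node (.leaf 0x0) (.leaf 0x0)) (.node (.leaf 0x0) (.leaf 0x0)))) (.node (.node (.node (.node (.leaf 0x0) (.leaf 0x30c5005)) (.leaf 0x0)) (.node (.leaf 0x0) (.leaf 0x0))) (.node (.node (.leaf 0x0) (.leaf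 0x0)) (.node (.leaf 0x0) (.leaf 0x0))))))) (.node (.node (.node (.node (.node (.node (.node (.leaf 0x0) (.leaf 0x0)) (.leaf 0x0)) (.node (.leaf 0x0) (.leaf 0x0))) (.node (.node (.leaf 0x0) (.leaf 0x0)) (.node (.leaf 0x0) (.leaf 0x0)))) (.node (.node (.node (.node (.leaf 0x0) (.leaf 0xaa89006)) (.leaf 0x0)) (.node (.leaf 0x0) (.leaf 0x0))) (.node (.node (.leaf 0x0) (.leaf 0x0)) (.node (.leaf 0x0) (.leaf 0x0))))) (.node (.node (.node (.node (.node (.leaf 0x0) (.leaf 0x0)) (.leaf 0x0)) (.node (.leaf 0x0) (.leaf 0x0))) (.node (.node (.leaf 0x0) (.leaf 0x0)) (.node (.leaf 0x0) (.leaf 0x0)))) (.node (.node (.node (.node (.leaf 0x0) (.leaf 0x290004)) (.leaf 0x0)) (.node (.leaf 0x0) (.leaf 0x0))) (.node (.node (.leaf 0x0) (.leaf 0x0)) (.node (.leaf 0x0) (.leaf 0x0)))))) (.node (.node (.node (.node (.node (.node (.leaf 0x0) (.leaf 0xb4b005)) (.leaf 0x0)) (.node (.leaf 0x0) (.leaf 0x0))) (.node (.node (.leaf 0x0) (.leaf 0x2891d006)) (.node (.leaf 0x0) (.leaf 0x0))))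 (.node (.node (.node (.node (.leaf 0x0) (.leaf 0x2891d006)) (.leaf 0x0)) (.node (.leaf 0x0) (.leaf 0x1b4c005))) (.node (.node (.leaf 0x0) (.leaf 0x0)) (.node (.leaf 0x0) (.leaf 0x0))))) (.node (.node (.node (.node (.node (.leaf 0x0) (.leaf 0x0)) (.leaf 0x0)) (.node (.leaf 0x0) (.leaf 0x0))) (.node (.node (.leaf 0x0) (.leaf 0x0)) (.node (.leaf 0x0) (.leaf 0x12a3005)))) (.node (.node (.node (.node (.leaf 0x0) (.leaf 0x44a004)) (.leaf 0x0)) (.node (.leaf 0x0) (.leaf 0x2874b006))) (.node (.node (.leaf 0x0) (.leaf 0x0)) (.node (.leaf 0x0) (.leaf 0x0))))))))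

/-- data -/
def lab0p12 : Trie (ℕ) := .node (.node (.node (.node (.node (.node (.node (.node (.node (.leaf 0x0) (.leaf 0x0)) (.leaf 0x0)) (.node (.leaf 0x4001) (.leaf 0x0))) (.node (.node (.leaf 0x0) (.leaf 0x0)) (.node (.leaf 0x0) (.leaf 0x0)))) (.node (.node (.node (.node (.leaf 0x0) (.leaf 0x0)) (.leaf 0x0)) (.node (.leaf 0x0) (.leaf 0x0))) (.node (.node (.leaf 0x0) (.leaf 0x2464d006)) (.node (.leaf 0x0) (.leaf 0x0))))) (.node (.node (.node (.node (.node (.leaf 0x0) (.leaf 0x1d6e8006)) (.leaf 0x0)) (.node (.leaf 0x0) (.leaf 0x0))) (.node (.node (.leaf 0x0) (.leaf 0x0)) (.node (.leaf 0x0) (.leaf 0x3001)))) (.node (.node (.node (.node (.leaf 0x0) (.leaf 0x1550d006)) (.leaf 0x0)) (.node (.leaf 0x0) (.leaf 0x0))) (.node (.node (.leaf 0x2891d006) (.leaf 0x0)) (.node (.leaf 0x0) (.leaf 0x0)))))) (.node (.node (.node (.node (.node (.node (.leaf 0x0) (.leaf 0x0)) (.leaf 0x0)) (.node (.leaf 0x718005) (.leaf 0x331c005))) (.node (.node (.leaf 0x0) (.leaf 0x0)) (.node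 (.leaf 0x0) (.leaf 0x0)))) (.node (.node (.node (.node (.leaf 0x0) (.leaf 0x0)) (.leaf 0x1448e9007)) (.node (.leaf 0x0) (.leaf 0x0))) (.node (.node (.leaf 0x0) (.leaf 0x0)) (.node (.leaf 0x352004) (.leaf 0x0))))) (.node (.node (.node (.node (.node (.leaf 0x0) (.leaf 0x0)) (.leaf 0x0)) (.node (.leaf 0x0) (.leaf 0x64c004))) (.node (.node (.leaf 0x0) (.leaf 0x0)) (.node (.leaf 0x0) (.leaf 0x0)))) (.node (.node (.node (.node (.leaf 0x0) (.leaf 0x0)) (.leaf 0x0)) (.node (.leaf 0x0) (.leaf 0x0))) (.node (.node (.leaf 0x0) (.leaf 0x0)) (.node (.leaf 0x0) (.leaf 0x0))))))) (.node (.node (.node (.node (.node (.node (.node (.leaf 0x0) (.leaf 0x0)) (.leaf 0x0)) (.node (.leaf 0x0) (.leaf 0x0))) (.node (.node (.leaf 0x0) (.leaf 0x0)) (.node (.leaf 0x0) (.leaf 0x0)))) (.node (.node (.node (.node (.leaf 0x0) (.leaf 0x0)) (.leaf 0x0)) (.node (.leaf 0x0) (.leaf 0x0))) (.node (.node (.leaf 0x0) (.leaf 0x0)) (.node (.leaf 0x0) (.leaf 0x0))))) (.node (.node (.node (.node (.node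 (.leaf 0x0) (.leaf 0x0)) (.leaf 0x0)) (.node (.leaf 0x0) (.leaf 0x0))) (.node (.node (.leaf 0x0) (.leaf 0x0)) (.node (.leaf 0x0) (.leaf 0x0)))) (.node (.node (.node (.node (.leaf 0x0) (.leaf 0x0)) (.leaf 0x0)) (.node (.leaf 0x0) (.leaf 0x0))) (.node (.node (.leaf 0x0) (.leaf 0x0)) (.node (.leaf 0x0) (.leaf 0x0)))))) (.node (.node (.node (.node (.node (.node (.leaf 0x0) (.leaf 0x0)) (.leaf 0x0)) (.node (.leaf 0x0) (.leaf 0x0))) (.node (.node (.leaf 0x0) (.leaf 0x0)) (.node (.leaf 0x0) (.leaf 0x0)))) (.node (.node (.node (.node (.leaf 0x0) (.leaf 0x0)) (.leaf 0x20b50006)) (.node (.leaf 0x0) (.leaf 0x0))) (.node (.node (.leaf 0x0) (.leaf 0x0)) (.node (.leaf 0x0) (.leaf 0x0))))) (.node (.node (.node (.node (.node (.leaf 0x0) (.leaf 0xaa4d006)) (.leaf 0x0)) (.node (.leaf 0x0) (.leaf 0x0))) (.node (.node (.leaf 0x0) (.leaf 0x0)) (.node (.leaf 0x0) (.leaf 0x0)))) (.node (.node (.node (.node (.leaf 0x0) (.leaf 0x11c6d9007)) (.leaf 0x0)) (.node (.leaf 0x0) (.leaf 0x0)))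 (.node (.node (.leaf 0x0) (.leaf 0x0)) (.node (.leaf 0x0) (.leaf 0x0)))))))) (.node (.node (.node (.node (.node (.node (.node (.node (.leaf 0x0) (.leaf 0x0)) (.leaf 0x0)) (.node (.leaf 0x0) (.leaf 0x0))) (.node (.node (.leaf 0x0) (.leaf 0x0)) (.node (.leaf 0x0) (.leaf 0x0)))) (.node (.node (.node (.node (.leaf 0x0) (.leaf 0x5542005)) (.leaf 0x0)) (.node (.leaf 0x0) (.leaf 0x0))) (.node (.node (.leaf 0x0) (.leaf 0x0)) (.node (.leaf 0x0) (.leaf 0x0))))) (.node (.node (.node (.node (.node (.leaf 0x0) (.leaf 0x0)) (.leaf 0x0)) (.node (.leaf 0x0) (.leaf 0x0))) (.node (.node (.leaf 0x263004) (.leaf 0x30c5005)) (.node (.leaf 0x0) (.leaf 0x0)))) (.node (.node (.node (.node (.leaf 0x0) (.leaf 0x0)) (.leaf 0x0)) (.node (.leaf 0x0) (.leaf 0x0))) (.node (.node (.leaf 0x0) (.leaf 0x0)) (.node (.leaf 0x0) (.leaf 0x0)))))) (.node (.node (.node (.node (.node (.node (.leaf 0x0) (.leaf 0x0)) (.leaf 0x0)) (.node (.leaf 0x0) (.leaf 0x0))) (.node (.node (.leaf 0x0) (.leaf 0xdbaa8007))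 (.node (.leaf 0x0) (.leaf 0x0)))) (.node (.node (.node (.node (.leaf 0x0) (.leaf 0xa0003)) (.leaf 0x0)) (.node (.leaf 0x0) (.leaf 0x0))) (.node (.node (.leaf 0x0) (.leaf 0x0)) (.node (.leaf 0x2b4b006) (.leaf 0x0))))) (.node (.node (.node (.node (.node (.leaf 0x0) (.leaf 0x0)) (.leaf 0x0)) (.node (.leaf 0x0) (.leaf 0x0))) (.node (.node (.leaf 0x0) (.leaf 0x0)) (.node (.leaf 0x0) (.leaf 0x5a8d005)))) (.node (.node (.node (.node (.leaf 0x0) (.leaf 0x0)) (.leaf 0x0)) (.node (.leaf 0x0) (.leaf 0x0))) (.node (.node (.leaf 0x0) (.leaf 0xdbaa8007)) (.node (.leaf 0x0) (.leaf 0x0))))))) (.node (.node (.node (.node (.node (.node (.node (.leaf 0x0) (.leaf 0x0)) (.leaf 0x0)) (.node (.leaf 0x0) (.leaf 0x1618005))) (.node (.node (.leaf 0x0) (.leaf 0x15ae1006)) (.node (.leaf 0x5112005) (.leaf 0x1318005)))) (.node (.node (.node (.node (.leaf 0x0) (.leaf 0x0)) (.leaf 0x0)) (.node (.leaf 0x0) (.leaf 0x0))) (.node (.node (.leaf 0x0) (.leaf 0x0)) (.node (.leaf 0x0) (.leaf 0x0)))))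 (.node (.node (.node (.node (.node (.leaf 0x0) (.leaf 0x0)) (.leaf 0x0)) (.node (.leaf 0x0) (.leaf 0x0))) (.node (.node (.leaf 0x0) (.leaf 0x0)) (.node (.leaf 0x0) (.leaf 0x0)))) (.node (.node (.node (.node (.leaf 0x0) (.leaf 0x0)) (.leaf 0x0)) (.node (.leaf 0x0) (.leaf 0x0))) (.node (.node (.leaf 0x0) (.leaf 0xaab004)) (.node (.leaf 0x0) (.leaf 0x216e0006)))))) (.node (.node (.node (.node (.node (.node (.leaf 0x0) (.leaf 0x55268007)) (.leaf 0x549004)) (.node (.leaf 0x0) (.leaf 0x0))) (.node (.node (.leaf 0x0) (.leaf 0x0)) (.node (.leaf 0x0) (.leaf 0x0)))) (.node (.node (.node (.node (.leaf 0x0) (.leaf 0x0)) (.leaf 0x30c9005)) (.node (.leaf 0x0) (.leaf 0x1b4c005))) (.node (.node (.leaf 0x0) (.leaf 0x0)) (.node (.leaf 0x0) (.leaf 0x0))))) (.node (.node (.node (.node (.node (.leaf 0x0) (.leaf 0x0)) (.leaf 0x0)) (.node (.leaf 0x0) (.leaf 0x56e1005))) (.node (.node (.leaf 0x0) (.leaf 0x0)) (.node (.leaf 0x0) (.leaf 0x0)))) (.node (.node (.node (.node (.leaf 0x0)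 (.leaf 0x0)) (.leaf 0x0)) (.node (.leaf 0x0) (.leaf 0x0))) (.node (.node (.leaf 0x0) (.leaf 0x0)) (.node (.leaf 0x0) (.leaf 0x0))))))))

/-- data -/
def lab0p13 : Trie (ℕ) := .node (.node (.node (.node (.node (.node (.node (.node (.node (.leaf 0x0) (.leaf 0x0)) (.leaf 0x0)) (.node (.leaf 0x0) (.leaf 0x0))) (.node (.node (.leaf 0x0) (.leaf 0x0)) (.node (.leaf 0x0) (.leaf 0x0)))) (.node (.node (.node (.node (.leaf 0x0) (.leaf 0x0)) (.leaf 0xd71b006)) (.node (.leaf 0x0) (.leaf 0x0))) (.node (.node (.leaf 0x0) (.leaf 0x0)) (.node (.leaf 0x0) (.leaf 0x0))))) (.node (.node (.node (.node (.node (.leaf 0x0) (.leaf 0x0)) (.leaf 0x0)) (.node (.leaf 0x0) (.leaf 0x0))) (.node (.node (.leaf 0x0) (.leaf 0x0)) (.node (.leaf 0x0) (.leaf 0x15002)))) (.node (.node (.node (.node (.leaf 0x0) (.leaf 0x0)) (.leaf 0x0)) (.node (.leaf 0x0) (.leaf 0xdbaa8007))) (.node (.node (.leaf 0x0) (.leaf 0x0)) (.node (.leaf 0x0) (.leaf 0x111620007)))))) (.node (.node (.node (.node (.node (.node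 (.leaf 0x0) (.leaf 0x0)) (.leaf 0x0)) (.node (.leaf 0x0) (.leaf 0x0))) (.node (.node (.leaf 0x0) (.leaf 0x0)) (.node (.leaf 0x1) (.leaf 0x0)))) (.node (.node (.node (.node (.leaf 0x0) (.leaf 0x64468007)) (.leaf 0x0)) (.node (.leaf 0x0) (.leaf 0x0))) (.node (.node (.leaf 0x0) (.leaf 0x0)) (.node (.leaf 0x0) (.leaf 0xd9419007))))) (.node (.node (.node (.node (.node (.leaf 0x0) (.leaf 0x1164a006)) (.leaf 0x1618005)) (.node (.leaf 0x0) (.leaf 0x0))) (.node (.node (.leaf 0x0) (.leaf 0x0)) (.node (.leaf 0x0) (.leaf 0x0)))) (.node (.node (.node (.node (.leaf 0x0) (.leaf 0x0)) (.leaf 0x0)) (.node (.leaf 0x0) (.leaf 0x0))) (.node (.node (.leaf 0x0) (.leaf 0x0)) (.node (.leaf 0x0) (.leaf 0x0))))))) (.node (.node (.node (.node (.node (.node (.node (.leaf 0x0) (.leaf 0x0)) (.leaf 0x0)) (.node (.leaf 0x0) (.leaf 0x0))) (.node (.node (.leaf 0x0) (.leaf 0x0)) (.node (.leaf 0x0) (.leaf 0x4468005)))) (.node (.node (.node (.node (.leaf 0x0) (.leaf 0x0)) (.leaf 0x12aa0006)) (.node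 (.leaf 0x0) (.leaf 0x0))) (.node (.node (.leaf 0x0) (.leaf 0x0)) (.node (.leaf 0x0) (.leaf 0x0))))) (.node (.node (.node (.node (.node (.leaf 0x0) (.leaf 0x0)) (.leaf 0x0)) (.node (.leaf 0x0) (.leaf 0x0))) (.node (.node (.leaf 0x0) (.leaf 0x0)) (.node (.leaf 0x0) (.leaf 0x2b111006)))) (.node (.node (.node (.node (.leaf 0x0) (.leaf 0x2d8004)) (.leaf 0x0)) (.node (.leaf 0x0) (.leaf 0x0))) (.node (.node (.leaf 0xd002) (.leaf 0x0)) (.node (.leaf 0x159858007) (.leaf 0xd512006)))))) (.node (.node (.node (.node (.node (.node (.leaf 0x0) (.leaf 0x0)) (.leaf 0x0)) (.node (.leaf 0x1d50b006) (.leaf 0x0))) (.node (.node (.leaf 0x0) (.leaf 0x0)) (.node (.leaf 0x1b144006) (.leaf 0x0)))) (.node (.node (.node (.node (.leaf 0x0) (.leaf 0x111620007)) (.leaf 0x0)) (.node (.leaf 0x0) (.leaf 0x0))) (.node (.node (.leaf 0x0) (.leaf 0x0)) (.node (.leaf 0x0) (.leaf 0x0))))) (.node (.node (.node (.node (.node (.leaf 0x0) (.leaf 0x0)) (.leaf 0x0)) (.node (.leaf 0x0) (.leaf 0x0))) (.node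 (.node (.leaf 0x0) (.leaf 0x0)) (.node (.leaf 0x0) (.leaf 0x0)))) (.node (.node (.node (.node (.leaf 0x0) (.leaf 0x2850005)) (.leaf 0x0)) (.node (.leaf 0x0) (.leaf 0x0))) (.node (.node (.leaf 0x0) (.leaf 0x0)) (.node (.leaf 0x0) (.leaf 0x0)))))))) (.node (.node (.node (.node (.node (.node (.node (.node (.leaf 0x0) (.leaf 0x0)) (.leaf 0x0)) (.node (.leaf 0x0) (.leaf 0x2891d006))) (.node (.node (.leaf 0x0) (.leaf 0x0)) (.node (.leaf 0x0) (.leaf 0x2446a006)))) (.node (.node (.node (.node (.leaf 0x0) (.leaf 0x0)) (.leaf 0x0)) (.node (.leaf 0x0) (.leaf 0x0))) (.node (.node (.leaf 0x0) (.leaf 0x0)) (.node (.leaf 0x0) (.leaf 0x0))))) (.node (.node (.node (.node (.node (.leaf 0x0) (.leaf 0x550b005)) (.leaf 0x0)) (.node (.leaf 0x3001) (.leaf 0x0))) (.node (.node (.leaf 0x0) (.leaf 0x0)) (.node (.leaf 0x0) (.leaf 0x0)))) (.node (.node (.node (.node (.leaf 0x0) (.leaf 0x0)) (.leaf 0x0)) (.node (.leaf 0x0) (.leaf 0x0))) (.node (.node (.leaf 0x1001) (.leaf 0x0)) (.node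 (.leaf 0x0) (.leaf 0x0)))))) (.node (.node (.node (.node (.node (.node (.leaf 0x0) (.leaf 0x2ac9005)) (.leaf 0x0)) (.node (.leaf 0x0) (.leaf 0x0))) (.node (.node (.leaf 0x0) (.leaf 0x0)) (.node (.leaf 0xa0003) (.leaf 0x0)))) (.node (.node (.node (.node (.leaf 0x0) (.leaf 0x0)) (.leaf 0x0)) (.node (.leaf 0x0) (.leaf 0x488c006))) (.node (.node (.leaf 0x0) (.leaf 0xb311006)) (.node (.leaf 0x0) (.leaf 0x0))))) (.node (.node (.node (.node (.node (.leaf 0x0) (.leaf 0x0)) (.leaf 0x0)) (.node (.leaf 0x0) (.leaf 0x0))) (.node (.node (.leaf 0x0) (.leaf 0x0)) (.node (.leaf 0x0) (.leaf 0x0)))) (.node (.node (.node (.node (.leaf 0x0) (.leaf 0x1b71b006)) (.leaf 0x0)) (.node (.leaf 0x0) (.leaf 0x0))) (.node (.node (.leaf 0x0) (.leaf 0x0)) (.node (.leaf 0x718005) (.leaf 0x0))))))) (.node (.node (.node (.node (.node (.node (.node (.leaf 0x0) (.leaf 0x1551005)) (.leaf 0x0)) (.node (.leaf 0x1448e9007) (.leaf 0x0))) (.node (.node (.leaf 0x0) (.leaf 0x0)) (.node (.leaf 0x0) (.leaf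 0x0)))) (.node (.node (.node (.node (.leaf 0x0) (.leaf 0x0)) (.leaf 0x0)) (.node (.leaf 0x0) (.leaf 0x0))) (.node (.node (.leaf 0x0) (.leaf 0x0)) (.node (.leaf 0x0) (.leaf 0x0))))) (.node (.node (.node (.node (.node (.leaf 0x0) (.leaf 0x0)) (.leaf 0x0)) (.node (.leaf 0x0) (.leaf 0x24669006))) (.node (.node (.leaf 0x0) (.leaf 0x0)) (.node (.leaf 0x0) (.leaf 0x0)))) (.node (.node (.node (.node (.leaf 0x0) (.leaf 0x2134b006)) (.leaf 0x0)) (.node (.leaf 0x0) (.leaf 0x0))) (.node (.node (.leaf 0x0) (.leaf 0x0)) (.node (.leaf 0x0) (.leaf 0x0)))))) (.node (.node (.node (.node (.node (.node (.leaf 0x0) (.leaf 0x0)) (.leaf 0x0)) (.node (.leaf 0x0) (.leaf 0x0))) (.node (.node (.leaf 0x0) (.leaf 0x0)) (.node (.leaf 0x0) (.leaf 0x0)))) (.node (.node (.node (.node (.leaf 0x0) (.leaf 0x0)) (.leaf 0x0)) (.node (.leaf 0x0) (.leaf 0x0))) (.node (.node (.leaf 0x0) (.leaf 0x0)) (.node (.leaf 0x0) (.leaf 0x0))))) (.node (.node (.node (.node (.node (.leaf 0x0) (.leaf 0x461b005))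 (.leaf 0x0)) (.node (.leaf 0x0) (.leaf 0x0))) (.node (.node (.leaf 0x0) (.leaf 0x0)) (.node (.leaf 0x0) (.leaf 0x0)))) (.node (.node (.node (.node (.leaf 0x0) (.leaf 0x574d005)) (.leaf 0x0)) (.node (.leaf 0x0) (.leaf 0x0))) (.node (.node (.leaf 0x0) (.leaf 0x0)) (.node (.leaf 0x0) (.leaf 0x1b16b006))))))))

/-- data -/
def lab0p14 : Trie (ℕ) := .node (.node (.node (.node (.node (.node (.node (.node (.node (.leaf 0x0) (.leaf 0x3001)) (.leaf 0x0)) (.node (.leaf 0x0) (.leaf 0x0))) (.node (.node (.leaf 0x0) (.leaf 0x0)) (.node (.leaf 0x0) (.leaf 0x0)))) (.node (.node (.node (.node (.leaf 0x0) (.leaf 0x0)) (.leaf 0x0)) (.node (.leaf 0x4001) (.leaf 0x1549005))) (.node (.node (.leaf 0x0) (.leaf 0x20b50006)) (.node (.leaf 0x0) (.leaf 0x5169006))))) (.node (.node (.node (.node (.node (.leaf 0x0) (.leaf 0x2305005)) (.leaf 0x0)) (.node (.leaf 0x0) (.leaf 0x0))) (.node (.node (.leaf 0x0) (.leaf 0x0)) (.node (.leaf 0x0) (.leaf 0x2001)))) (.node (.node (.node (.node (.leaf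 0x0) (.leaf 0x0)) (.leaf 0x0)) (.node (.leaf 0x0) (.leaf 0x0))) (.node (.node (.leaf 0x0) (.leaf 0x0)) (.node (.leaf 0x0) (.leaf 0x0)))))) (.node (.node (.node (.node (.node (.node (.leaf 0x0) (.leaf 0x0)) (.leaf 0x0)) (.node (.leaf 0x0) (.leaf 0x0))) (.node (.node (.leaf 0x0) (.leaf 0x0)) (.node (.leaf 0x0) (.leaf 0x4aa58007)))) (.node (.node (.node (.node (.leaf 0x0) (.leaf 0x0)) (.leaf 0x0)) (.node (.leaf 0x0) (.leaf 0x0))) (.node (.node (.leaf 0x0) (.leaf 0x0)) (.node (.leaf 0x0) (.leaf 0x4468005))))) (.node (.node (.node (.node (.node (.leaf 0x0) (.leaf 0x0)) (.leaf 0x0)) (.node (.leaf 0x0) (.leaf 0xa4a004))) (.node (.node (.leaf 0x0) (.leaf 0x0)) (.node (.leaf 0x0) (.leaf 0x0)))) (.node (.node (.node (.node (.leaf 0x0) (.leaf 0x11c6d9007)) (.leaf 0x549004)) (.node (.leaf 0x0) (.leaf 0x0))) (.node (.node (.leaf 0x0) (.leaf 0x0)) (.node (.leaf 0x0) (.leaf 0x0))))))) (.node (.node (.node (.node (.node (.node (.node (.leaf 0x0) (.leaf 0x0)) (.leaf 0x4001))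 (.node (.leaf 0x0) (.leaf 0x0))) (.node (.node (.leaf 0x0) (.leaf 0x0)) (.node (.leaf 0x0) (.leaf 0x0)))) (.node (.node (.node (.node (.leaf 0x0) (.leaf 0x0)) (.leaf 0x0)) (.node (.leaf 0x0) (.leaf 0x0))) (.node (.node (.leaf 0x0) (.leaf 0xdbaa8007)) (.node (.leaf 0x0) (.leaf 0x0))))) (.node (.node (.node (.node (.node (.leaf 0x0) (.leaf 0x0)) (.leaf 0x0)) (.node (.leaf 0x0) (.leaf 0x0))) (.node (.node (.leaf 0x0) (.leaf 0x0)) (.node (.leaf 0x0) (.leaf 0x0)))) (.node (.node (.node (.node (.leaf 0x0) (.leaf 0x0)) (.leaf 0x0)) (.node (.leaf 0x0) (.leaf 0x0))) (.node (.node (.leaf 0x0) (.leaf 0x0)) (.node (.leaf 0x0) (.leaf 0x0)))))) (.node (.node (.node (.node (.node (.node (.leaf 0x0) (.leaf 0x0)) (.leaf 0x0)) (.node (.leaf 0x0) (.leaf 0x51c004))) (.node (.node (.leaf 0x0) (.leaf 0x0)) (.node (.leaf 0x0) (.leaf 0x0)))) (.node (.node (.node (.node (.leaf 0x0) (.leaf 0x1b260006)) (.leaf 0x0)) (.node (.leaf 0x0) (.leaf 0x0))) (.node (.node (.leaf 0x0) (.leaf 0x0))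 (.node (.leaf 0x0) (.leaf 0x0))))) (.node (.node (.node (.node (.node (.leaf 0x0) (.leaf 0xd002)) (.leaf 0x0)) (.node (.leaf 0x0) (.leaf 0x0))) (.node (.node (.leaf 0x0) (.leaf 0x11c349007)) (.node (.leaf 0x0) (.leaf 0x0)))) (.node (.node (.node (.node (.leaf 0x0) (.leaf 0x0)) (.leaf 0x0)) (.node (.leaf 0x0) (.leaf 0x0))) (.node (.node (.leaf 0x0) (.leaf 0x0)) (.node (.leaf 0x0) (.leaf 0x0)))))))) (.node (.node (.node (.node (.node (.node (.node (.node (.leaf 0x0) (.leaf 0x0)) (.leaf 0x0)) (.node (.leaf 0x0) (.leaf 0x0))) (.node (.node (.leaf 0x0) (.leaf 0x0)) (.node (.leaf 0x0) (.leaf 0x0)))) (.node (.node (.node (.node (.leaf 0x0) (.leaf 0x0)) (.leaf 0x0)) (.node (.leaf 0x0) (.leaf 0x0))) (.node (.node (.leaf 0x0) (.leaf 0x0)) (.node (.leaf 0x0) (.leaf 0x0))))) (.node (.node (.node (.node (.node (.leaf 0x0) (.leaf 0x0)) (.leaf 0x0)) (.node (.leaf 0x0) (.leaf 0x0))) (.node (.node (.leaf 0x0) (.leaf 0x0)) (.node (.leaf 0x0) (.leaf 0x0)))) (.node (.node (.node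 (.node (.leaf 0x0) (.leaf 0x216e2006)) (.leaf 0x0)) (.node (.leaf 0x0) (.leaf 0x0))) (.node (.node (.leaf 0x0) (.leaf 0x0)) (.node (.leaf 0x0) (.leaf 0x0)))))) (.node (.node (.node (.node (.node (.node (.leaf 0x0) (.leaf 0x0)) (.leaf 0x0)) (.node (.leaf 0x0) (.leaf 0x0))) (.node (.node (.leaf 0x0) (.leaf 0x0)) (.node (.leaf 0x0) (.leaf 0x0)))) (.node (.node (.node (.node (.leaf 0x0) (.leaf 0x0)) (.leaf 0x0)) (.node (.leaf 0x0) (.leaf 0x0))) (.node (.node (.leaf 0x0) (.leaf 0x263004)) (.node (.leaf 0x0) (.leaf 0x0))))) (.node (.node (.node (.node (.node (.leaf 0x0) (.leaf 0x2951b006)) (.leaf 0x0)) (.node (.leaf 0x0) (.leaf 0x0))) (.node (.node (.leaf 0x0) (.leaf 0x0)) (.node (.leaf 0x0) (.leaf 0x0)))) (.node (.node (.node (.node (.leaf 0x0) (.leaf 0x0)) (.leaf 0x0)) (.node (.leaf 0xab003) (.leaf 0x0))) (.node (.node (.leaf 0x0) (.leaf 0x0)) (.node (.leaf 0x0) (.leaf 0x0))))))) (.node (.node (.node (.node (.node (.node (.node (.leaf 0x0) (.leaf 0x0)) (.leaf 0x0))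 (.node (.leaf 0x0) (.leaf 0x0))) (.node (.node (.leaf 0x0) (.leaf 0x0)) (.node (.leaf 0x0) (.leaf 0x314b005)))) (.node (.node (.node (.node (.leaf 0x0) (.leaf 0x0)) (.leaf 0x0)) (.node (.leaf 0x0) (.leaf 0xb36a006))) (.node (.node (.leaf 0x0) (.leaf 0x0)) (.node (.leaf 0x0) (.leaf 0x6cb004))))) (.node (.node (.node (.node (.node (.leaf 0x0) (.leaf 0x3b54006)) (.leaf 0x0)) (.node (.leaf 0x0) (.leaf 0x0))) (.node (.node (.leaf 0x0) (.leaf 0x0)) (.node (.leaf 0x0) (.leaf 0x0)))) (.node (.node (.node (.node (.leaf 0x0) (.leaf 0x0)) (.leaf 0x0)) (.node (.leaf 0x0) (.leaf 0x0))) (.node (.node (.leaf 0x0) (.leaf 0x0)) (.node (.leaf 0x0) (.leaf 0x0)))))) (.node (.node (.node (.node (.node (.node (.leaf 0x0) (.leaf 0x0)) (.leaf 0x0)) (.node (.leaf 0x28862006) (.leaf 0x0))) (.node (.node (.leaf 0x0) (.leaf 0x0)) (.node (.leaf 0x0) (.leaf 0x0)))) (.node (.node (.node (.node (.leaf 0x0) (.leaf 0x0)) (.leaf 0x0)) (.node (.leaf 0x0) (.leaf 0x0))) (.node (.node (.leaf 0x0)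 (.leaf 0x0)) (.node (.leaf 0x0) (.leaf 0x0))))) (.node (.node (.node (.node (.node (.leaf 0x0) (.leaf 0x0)) (.leaf 0x0)) (.node (.leaf 0x0) (.leaf 0x0))) (.node (.node (.leaf 0x0) (.leaf 0x0)) (.node (.leaf 0x0) (.leaf 0x0)))) (.node (.node (.node (.node (.leaf 0x0) (.leaf 0x0)) (.leaf 0x0)) (.node (.leaf 0x0) (.leaf 0x0))) (.node (.node (.leaf 0x0) (.leaf 0x0)) (.node (.leaf 0x0) (.leaf 0x620005))))))))

/-- data -/
def lab0p15 : Trie (ℕ) := .node (.node (.node (.node (.node (.node (.node (.node (.node (.leaf 0x0) (.leaf 0x0)) (.leaf 0x0)) (.node (.leaf 0x128a1006) (.leaf 0x0))) (.node (.node (.leaf 0x0) (.leaf 0x0)) (.node (.leaf 0x0) (.leaf 0x0)))) (.node (.node (.node (.node (.leaf 0x0) (.leaf 0x1c34a006)) (.leaf 0x0)) (.node (.leaf 0x0) (.leaf 0x23744006))) (.node (.node (.leaf 0x0) (.leaf 0x0)) (.node (.leaf 0x0) (.leaf 0x0))))) (.node (.node (.node (.node (.node (.leaf 0x0) (.leaf 0x1b144006)) (.leaf 0xd75b006)) (.node (.leaf 0x0) (.leaf 0x0))) (.node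 (.node (.leaf 0x0) (.leaf 0x0)) (.node (.leaf 0x0) (.leaf 0x0)))) (.node (.node (.node (.node (.leaf 0x0) (.leaf 0x20b4d006)) (.leaf 0x0)) (.node (.leaf 0x0) (.leaf 0xeb004))) (.node (.node (.leaf 0x0) (.leaf 0x0)) (.node (.leaf 0x0) (.leaf 0x0)))))) (.node (.node (.node (.node (.node (.node (.leaf 0x0) (.leaf 0xc158006)) (.leaf 0x0)) (.node (.leaf 0x0) (.leaf 0x0))) (.node (.node (.leaf 0x0) (.leaf 0x0)) (.node (.leaf 0x0) (.leaf 0x0)))) (.node (.node (.node (.node (.leaf 0x0) (.leaf 0x111a28007)) (.leaf 0x0)) (.node (.leaf 0x0) (.leaf 0x0))) (.node (.node (.leaf 0x0) (.leaf 0x0)) (.node (.leaf 0x0) (.leaf 0x0))))) (.node (.node (.node (.node (.node (.leaf 0x0) (.leaf 0x0)) (.leaf 0x0)) (.node (.leaf 0x0) (.leaf 0x0))) (.node (.node (.leaf 0x0) (.leaf 0x0)) (.node (.leaf 0x0) (.leaf 0x0)))) (.node (.node (.node (.node (.leaf 0x0) (.leaf 0x1050b006)) (.leaf 0x0)) (.node (.leaf 0x0) (.leaf 0x0))) (.node (.node (.leaf 0x216e2006) (.leaf 0x0)) (.node (.leaf 0x0)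 (.leaf 0x0))))))) (.node (.node (.node (.node (.node (.node (.node (.leaf 0x0) (.leaf 0x371b005)) (.leaf 0x0)) (.node (.leaf 0x0) (.leaf 0x4001))) (.node (.node (.leaf 0x0) (.leaf 0x0)) (.node (.leaf 0x0) (.leaf 0x0)))) (.node (.node (.node (.node (.leaf 0x0) (.leaf 0x0)) (.leaf 0x0)) (.node (.leaf 0x0) (.leaf 0x0))) (.node (.node (.leaf 0x0) (.leaf 0x0)) (.node (.leaf 0x0) (.leaf 0x0))))) (.node (.node (.node (.node (.node (.leaf 0x0) (.leaf 0x2a10d006)) (.leaf 0x0)) (.node (.leaf 0x0) (.leaf 0x0))) (.node (.node (.leaf 0x0) (.leaf 0x0)) (.node (.leaf 0x0) (.leaf 0x19423006)))) (.node (.node (.node (.node (.leaf 0x0) (.leaf 0x2b4b006)) (.leaf 0x30c5005)) (.node (.leaf 0x0) (.leaf 0x0))) (.node (.node (.leaf 0x0) (.leaf 0x0)) (.node (.leaf 0x0) (.leaf 0x0)))))) (.node (.node (.node (.node (.node (.node (.leaf 0x0) (.leaf 0x2a26b006)) (.leaf 0x0)) (.node (.leaf 0x0) (.leaf 0x0))) (.node (.node (.leaf 0x0) (.leaf 0x0)) (.node (.leaf 0x0) (.leaf 0x0)))) (.node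 (.node (.node (.node (.leaf 0x0) (.leaf 0x620005)) (.leaf 0x0)) (.node (.leaf 0x0) (.leaf 0x5721005))) (.node (.node (.leaf 0x0) (.leaf 0x0)) (.node (.leaf 0x0) (.leaf 0x0))))) (.node (.node (.node (.node (.node (.leaf 0x0) (.leaf 0xd002)) (.leaf 0x0)) (.node (.leaf 0x0) (.leaf 0x0))) (.node (.node (.leaf 0x0) (.leaf 0x0)) (.node (.leaf 0x0) (.leaf 0x0)))) (.node (.node (.node (.node (.leaf 0x0) (.leaf 0x64b004)) (.leaf 0x0)) (.node (.leaf 0x0) (.leaf 0x2464d006))) (.node (.node (.leaf 0x0) (.leaf 0x0)) (.node (.leaf 0x62509007) (.leaf 0x0)))))))) (.node (.node (.node (.node (.node (.node (.node (.node (.leaf 0x0) (.leaf 0xaa89006)) (.leaf 0x0)) (.node (.leaf 0x0) (.leaf 0x0))) (.node (.node (.leaf 0x0) (.leaf 0x0)) (.node (.leaf 0x0) (.leaf 0x0)))) (.node (.node (.node (.node (.leaf 0x0) (.leaf 0x3001)) (.leaf 0x0)) (.node (.leaf 0x0) (.leaf 0x0))) (.node (.node (.leaf 0x0) (.leaf 0x0)) (.node (.leaf 0x0) (.leaf 0x0))))) (.node (.node (.node (.node (.node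 (.leaf 0x0) (.leaf 0x20002)) (.leaf 0x0)) (.node (.leaf 0x0) (.leaf 0x325b005))) (.node (.node (.leaf 0x0) (.leaf 0x0)) (.node (.leaf 0x0) (.leaf 0x0)))) (.node (.node (.node (.node (.leaf 0x0) (.leaf 0x2a2c3006)) (.leaf 0x0)) (.node (.leaf 0x0) (.leaf 0x0))) (.node (.node (.leaf 0x0) (.leaf 0x0)) (.node (.leaf 0x0) (.leaf 0x0)))))) (.node (.node (.node (.node (.node (.node (.leaf 0x0) (.leaf 0x1bae0006)) (.leaf 0x0)) (.node (.leaf 0x0) (.leaf 0x40a1006))) (.node (.node (.leaf 0x0) (.leaf 0x31c004)) (.node (.leaf 0x0) (.leaf 0x0)))) (.node (.node (.node (.node (.leaf 0x0) (.leaf 0x0)) (.leaf 0x0)) (.node (.leaf 0x0) (.leaf 0x24420006))) (.node (.node (.leaf 0x0) (.leaf 0x0)) (.node (.leaf 0x0) (.leaf 0x0))))) (.node (.node (.node (.node (.node (.leaf 0x0) (.leaf 0x0)) (.leaf 0x0)) (.node (.leaf 0x0) (.leaf 0x0))) (.node (.node (.leaf 0x0) (.leaf 0x0)) (.node (.leaf 0x0) (.leaf 0x29852006)))) (.node (.node (.node (.node (.leaf 0x0) (.leaf 0x2d8004)) (.leaf 0x0))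 (.node (.leaf 0x0) (.leaf 0x152c2006))) (.node (.node (.leaf 0x0) (.leaf 0x0)) (.node (.leaf 0x0) (.leaf 0x0))))))) (.node (.node (.node (.node (.node (.node (.node (.leaf 0x0) (.leaf 0x1bae9006)) (.leaf 0x0)) (.node (.leaf 0x0) (.leaf 0x0))) (.node (.node (.leaf 0x0) (.leaf 0x0)) (.node (.leaf 0x0) (.leaf 0x550b005)))) (.node (.node (.node (.node (.leaf 0x0) (.leaf 0x0)) (.leaf 0x0)) (.node (.leaf 0x0) (.leaf 0xd669006))) (.node (.node (.leaf 0x0) (.leaf 0x3a10006)) (.node (.leaf 0x0) (.leaf 0x0))))) (.node (.node (.node (.node (.node (.leaf 0x0) (.leaf 0x2446a006)) (.leaf 0x0)) (.node (.leaf 0x6b003) (.leaf 0x0))) (.node (.node (.leaf 0x0) (.leaf 0x0)) (.node (.leaf 0x0) (.leaf 0x0)))) (.node (.node (.node (.node (.leaf 0x0) (.leaf 0x64468007)) (.leaf 0x0)) (.node (.leaf 0x0) (.leaf 0x0))) (.node (.node (.leaf 0x0) (.leaf 0x0)) (.node (.leaf 0x0) (.leaf 0x0)))))) (.node (.node (.node (.node (.node (.node (.leaf 0x0) (.leaf 0x0)) (.leaf 0x0)) (.node (.leaf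 0x0) (.leaf 0x0))) (.node (.node (.leaf 0x0) (.leaf 0x0)) (.node (.leaf 0x0) (.leaf 0x0)))) (.node (.node (.node (.node (.leaf 0x0) (.leaf 0x0)) (.leaf 0xa69005)) (.node (.leaf 0x0) (.leaf 0x0))) (.node (.node (.leaf 0x2891d006) (.leaf 0x0)) (.node (.leaf 0x128a1006) (.leaf 0x1419005))))) (.node (.node (.node (.node (.node (.leaf 0x0) (.leaf 0x28862006)) (.leaf 0x0)) (.node (.leaf 0x2001) (.leaf 0x0))) (.node (.node (.leaf 0x22b4c006) (.leaf 0x0)) (.node (.leaf 0x0) (.leaf 0x0)))) (.node (.node (.node (.node (.leaf 0x0) (.leaf 0x4114005)) (.leaf 0x0)) (.node (.leaf 0x0) (.leaf 0x103659007))) (.node (.node (.leaf 0x0) (.leaf 0x0)) (.node (.leaf 0x0) (.leaf 0x0))))))))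

/-- data -/
def lab0 : Trie (ℕ) := .node (.node (.node (.node (lab0p0) (lab0p8)) (.node (lab0p4) (lab0p12))) (.node (.node (lab0p2) (lab0p10)) (.node (lab0p6) (lab0p14)))) (.node (.node (.node (lab0p1) (lab0p9)) (.node (lab0p5) (lab0p13))) (.node (.node (lab0p3) (lab0p11)) (.node (lab0p7) (lab0p15))))

/-- data -/
def val0p0 : Trie (ℕ) := .node (.node (.node (.node (.node (.node (.node (.node (.node (.leaf 0x100) (.leaf 0x500000113)) (.leaf 0x100)) (.node (.leaf 0x100) (.leaf 0x100))) (.node (.node (.leaf 0x2f00000000000000314) (.leaf 0x2000000000211)) (.node (.leaf 0x100) (.leaf 0x1002008b46c2d8444522904ac5d9a2e995b19602641096e330916)))) (.node (.node (.node (.node (.leaf 0x2000000000211) (.leaf 0x2000000000211)) (.leaf 0x2000000000211)) (.node (.leaf 0x100) (.leaf 0x2000000000211))) (.node (.node (.leaf 0x100) (.leaf 0x2000000000211)) (.node (.leaf 0x2000000000211) (.leaf 0x100))))) (.node (.node (.node (.node (.node (.leaf 0x100) (.leaf 0x2000000000211))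 (.leaf 0x2000000000211)) (.node (.leaf 0x100) (.leaf 0x2000000000211))) (.node (.node (.leaf 0x100) (.leaf 0x100)) (.node (.leaf 0x100) (.leaf 0x515a300000000000000000415)))) (.node (.node (.node (.node (.leaf 0x2000000000211) (.leaf 0x2000000000211)) (.leaf 0x810a14709244c09126ac82447e180b785841b0716)) (.node (.leaf 0x2000000000211) (.leaf 0x2000000000211))) (.node (.node (.leaf 0x100) (.leaf 0x2000000000211)) (.node (.leaf 0x2000000000211) (.leaf 0x100)))))) (.node (.node (.node (.node (.node (.node (.leaf 0x100) (.leaf 0x100)) (.leaf 0x100)) (.node (.leaf 0x2000000000211) (.leaf 0x2000000000211))) (.node (.node (.leaf 0x2000000000211) (.leaf 0x2000000000211)) (.node (.leaf 0x100) (.leaf 0x2000000000211)))) (.node (.node (.node (.node (.leaf 0x100) (.leaf 0x100)) (.leaf 0x100)) (.node (.leaf 0x2000000000211) (.leaf 0x100))) (.node (.node (.leaf 0x500000113) (.leaf 0x2000000000211)) (.node (.leaf 0x100) (.leaf 0x2000000000211))))) (.node (.node (.node (.node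 (.node (.leaf 0x2000000000211) (.leaf 0x2000000000211)) (.leaf 0x2000000000211)) (.node (.leaf 0x2000000000211) (.leaf 0x2000000000211))) (.node (.node (.leaf 0x100) (.leaf 0x100)) (.node (.leaf 0x100) (.leaf 0x602600a02800fe0b22df83acc3416c82a31623d81321cbd63c5f817975c9d1d68c0d10d16)))) (.node (.node (.node (.node (.leaf 0x100) (.leaf 0xe040a8385c0176024805532884562a1ee2822444a0646a260916)) (.leaf 0x400000113)) (.node (.leaf 0x2000000000211) (.leaf 0x100))) (.node (.node (.leaf 0x100) (.leaf 0x100)) (.node (.leaf 0x201060d0d05000b2749050e7302428e57151608210e0816) (.leaf 0x100))))))) (.node (.node (.node (.node (.node (.node (.node (.leaf 0x100) (.leaf 0x802d0441fc108633551991ab14886a2e5db71500464e780484c861a38620b16)) (.leaf 0x2000000000211)) (.node (.leaf 0x100) (.leaf 0x2000000000211))) (.node (.node (.leaf 0x100) (.leaf 0x2000000000211)) (.node (.leaf 0x100) (.leaf 0x2000000000211)))) (.node (.node (.node (.node (.leaf 0x100) (.leaf 0x422a28000000000000000000000515))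 (.leaf 0x2000000000211)) (.node (.leaf 0x2000000000211) (.leaf 0xe00078502808548d914d160288504650864e802858f6a06f0916))) (.node (.node (.leaf 0x100) (.leaf 0x2000000000211)) (.node (.leaf 0x500000113) (.leaf 0x2000000000211))))) (.node (.node (.node (.node (.node (.leaf 0x100) (.leaf 0x100)) (.leaf 0x100)) (.node (.leaf 0x2000000000211) (.leaf 0x2000000000211))) (.node (.node (.leaf 0x100) (.leaf 0x2000000000211)) (.node (.leaf 0x8070803c5a0142a34008068181c81e1f4d42241698c534630916) (.leaf 0x2000000000211)))) (.node (.node (.node (.node (.leaf 0x2000000000211) (.leaf 0x2000000000211)) (.leaf 0x2000000000211)) (.node (.leaf 0x100) (.leaf 0x2000000000211))) (.node (.node (.leaf 0x100) (.leaf 0x812010140141862c4f60919750cc601200aeaf20028d74c35b00f0a16)) (.node (.leaf 0x100) (.leaf 0x2000000000211)))))) (.node (.node (.node (.node (.node (.node (.leaf 0x100) (.leaf 0x4109683000000000000000000000516)) (.leaf 0x2000000000211)) (.node (.leaf 0x209400000000000000000414)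 (.leaf 0x100400802c018091de3985b1bc480590ec0830b155c088151be28c6e03e0b16))) (.node (.node (.leaf 0x100) (.leaf 0x2000000000211)) (.node (.leaf 0x100) (.leaf 0x2000000000211)))) (.node (.node (.node (.node (.leaf 0x2000000000211) (.leaf 0x280e0080b81d8400ea0dced108714d4b0800444b9fcc803e77286d5700a0b16)) (.leaf 0x2000000000211)) (.node (.leaf 0x100) (.leaf 0x100))) (.node (.node (.leaf 0x2000000000211) (.leaf 0x2000000000211)) (.node (.leaf 0x1000000115) (.leaf 0x100))))) (.node (.node (.node (.node (.node (.leaf 0x2000000000211) (.leaf 0x100)) (.leaf 0x100)) (.node (.leaf 0x100) (.leaf 0xe01010a86a2c66c502e83233c95453c19de14370b828ec060916))) (.node (.node (.leaf 0x100) (.leaf 0x40002416d02c6b4a473420415)) (.node (.leaf 0x100) (.leaf 0x2000000000211)))) (.node (.node (.node (.node (.leaf 0x100) (.leaf 0x2000000000211)) (.leaf 0x100)) (.node (.leaf 0x100) (.leaf 0x2000000000211))) (.node (.node (.leaf 0x100) (.leaf 0x20140280982083445e0ad2416f6f88e19e15415b53c6703c9ca65d0407c0b16))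 (.node (.leaf 0x2000000000211) (.leaf 0x208000301a0e6d9315c9f1f150185851a24e842af85560230916)))))))) (.node (.node (.node (.node (.node (.node (.node (.node (.leaf 0x100) (.leaf 0x12a200000000000000000414)) (.leaf 0x2000000000211)) (.node (.leaf 0x100) (.leaf 0x100))) (.node (.node (.leaf 0x100) (.leaf 0x100)) (.node (.leaf 0x100) (.leaf 0x2000000000211)))) (.node (.node (.node (.node (.leaf 0x2000000000211) (.leaf 0x100)) (.leaf 0x2000000000211)) (.node (.leaf 0x100) (.leaf 0x2000000000211))) (.node (.node (.leaf 0x100) (.leaf 0x100)) (.node (.leaf 0x100) (.leaf 0x100))))) (.node (.node (.node (.node (.node (.leaf 0x2000000000211) (.leaf 0x2000000000211)) (.leaf 0x302c150b81b4582348c2484dc18bc33283f41bc31ae1084b46b0a15)) (.node (.leaf 0x100) (.leaf 0x100))) (.node (.node (.leaf 0x100) (.leaf 0x100)) (.node (.leaf 0x2000000000211) (.leaf 0x2000000000211)))) (.node (.node (.node (.node (.leaf 0x100) (.leaf 0x2000000000211)) (.leaf 0x100)) (.node (.leaf 0x20006060d0c5d093e319a744c2014cd1d01a53f421c0816)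 (.leaf 0x482307a07c690471b439cc8961324378f18203692a105959638024000170b16))) (.node (.node (.leaf 0x100) (.leaf 0x1000700160574423f8ad787af511cc62320c85253330816)) (.node (.leaf 0x2000000000211) (.leaf 0x100)))))) (.node (.node (.node (.node (.node (.node (.leaf 0x2000000000211) (.leaf 0x100)) (.leaf 0x500000113)) (.node (.leaf 0x2000000000211) (.leaf 0x400000113))) (.node (.node (.leaf 0x2000000000211) (.leaf 0x2000000000211)) (.node (.leaf 0x100500525168960e28c79d6c2ad33860615) (.leaf 0x2000000000211)))) (.node (.node (.node (.node (.leaf 0x100) (.leaf 0x100)) (.leaf 0x100)) (.node (.leaf 0x100) (.leaf 0x100))) (.node (.node (.leaf 0x2000000000211) (.leaf 0x2000000000211)) (.node (.leaf 0x100) (.leaf 0x2000000000211))))) (.node (.node (.node (.node (.node (.leaf 0x100) (.leaf 0x2c2605c660684e2940968977330608592472c827680880c91800ab0a16)) (.leaf 0x100)) (.node (.leaf 0x2000000000211) (.leaf 0x100))) (.node (.node (.leaf 0x2000000000211) (.leaf 0x2000000000211))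 (.node (.leaf 0x100) (.leaf 0x100)))) (.node (.node (.node (.node (.leaf 0x100) (.leaf 0x100)) (.leaf 0x2000000000211)) (.node (.leaf 0x100) (.leaf 0x2000000000211))) (.node (.node (.leaf 0x100) (.leaf 0x2000000000211)) (.node (.leaf 0x2000000000211) (.leaf 0x3025060690644f2b05a68d4841c839d5297304b77c00908bc89cbc0a16))))))) (.node (.node (.node (.node (.node (.node (.node (.leaf 0x2000000000211) (.leaf 0x2000000000211)) (.leaf 0x2000000000211)) (.node (.leaf 0x2000000000211) (.leaf 0x100))) (.node (.node (.leaf 0x100) (.leaf 0x2000000000211)) (.node (.leaf 0x100) (.leaf 0x2000000000211)))) (.node (.node (.node (.node (.leaf 0x2000000000211) (.leaf 0x100)) (.leaf 0x100)) (.node (.leaf 0x2000000000211) (.leaf 0x2000000000211))) (.node (.node (.leaf 0x100) (.leaf 0x2000000000211)) (.node (.leaf 0x1000000115) (.leaf 0x2000000000211))))) (.node (.node (.node (.node (.node (.leaf 0x100) (.leaf 0x1008d01241e9064821123d01353d7419b4984d398bb43f936e23923c3406d85c8a6252b440e0e16))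 (.leaf 0x100)) (.node (.leaf 0x2000000000211) (.leaf 0x701000f0480100424752654de167a1e6a6afc298235b4927a0c9a4f4ad7a80a30c16))) (.node (.node (.leaf 0x100) (.leaf 0x100)) (.node (.leaf 0x100) (.leaf 0x2000000000211)))) (.node (.node (.node (.node (.leaf 0x500000113) (.leaf 0x100)) (.leaf 0x2000000000211)) (.node (.leaf 0x2000000000211) (.leaf 0x2000000000211))) (.node (.node (.leaf 0x100) (.leaf 0x1008120247acc98e5a0369f8882a9fc842d7ea0d88140914)) (.node (.leaf 0x100) (.leaf 0x100)))))) (.node (.node (.node (.node (.node (.node (.leaf 0x2000000000211) (.leaf 0x2000000000211)) (.leaf 0x100)) (.node (.leaf 0x2000000000211) (.leaf 0x100))) (.node (.node (.leaf 0x100) (.leaf 0x2000000000211)) (.node (.leaf 0x100) (.leaf 0x100)))) (.node (.node (.node (.node (.leaf 0x100) (.leaf 0x2000000000211)) (.leaf 0x2000000000211)) (.node (.leaf 0x100) (.leaf 0x2000000000211))) (.node (.node (.leaf 0x2000000000211) (.leaf 0x100)) (.node (.leaf 0x100) (.leaf 0x2000000000211)))))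 (.node (.node (.node (.node (.node (.leaf 0x100) (.leaf 0x2000000000211)) (.leaf 0x2000000000211)) (.node (.leaf 0x2000000000211) (.leaf 0x203080315045d3d4459c076b64c0dcb1619c14950200816))) (.node (.node (.leaf 0x2000000000211) (.leaf 0x100)) (.node (.leaf 0x2000000000211) (.leaf 0x2000000000211)))) (.node (.node (.node (.node (.leaf 0x2000000000211) (.leaf 0x2000000000211)) (.leaf 0x201602c098258364520c52014d6f48d1a514814f57c670389c265d0a06a0b16)) (.node (.leaf 0x2000000000211) (.leaf 0x100))) (.node (.node (.leaf 0x100) (.leaf 0x100)) (.node (.leaf 0x2000000000211) (.leaf 0x2000000000211))))))))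

/-- data -/
def val0p1 : Trie (ℕ) := .node (.node (.node (.node (.node (.node (.node (.node (.node (.leaf 0x100) (.leaf 0x1b04602b0e60000c027d0966dc0e5814606b101f23f5abb38e064a3747986e10f0c16)) (.leaf 0x20001800080511188b4d35ba2d7e4814ca04c34269082c2b0916)) (.node (.leaf 0x100) (.leaf 0x8000000000212))) (.node (.node (.leaf 0x8000000000212) (.leaf 0x2080500466002657a2f30c5ba5cb135a8edbc26a93827a2c0916)) (.node (.leaf 0x100) (.leaf 0x8000000000212)))) (.node (.node (.node (.node (.leaf 0x100) (.leaf 0x100)) (.leaf 0x100)) (.node (.leaf 0x8000000000212) (.leaf 0x100))) (.node (.node (.leaf 0x8000000000212) (.leaf 0x100)) (.node (.leaf 0x100) (.leaf 0x806010042000249004852270f8f02314c5c74023986c8c0d0916))))) (.node (.node (.node (.node (.node (.leaf 0x100) (.leaf 0x112a400000000000000000415)) (.leaf 0x180503e0f43d05b2f843d198865e2a0db88512b9a98948a98d46b0c68f70b16)) (.node (.leaf 0x212a200000000000000000415) (.leaf 0x40609038861a24888c8428b3eb34172df7494197ba64dc420916)))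 (.node (.node (.leaf 0x100) (.leaf 0x8000000000212)) (.node (.leaf 0x8000000000212) (.leaf 0x3400806c02706a24902631602e4862e45d40fe1698f31c606c6472373100460c15)))) (.node (.node (.node (.node (.leaf 0x100) (.leaf 0x100)) (.leaf 0x8000000000212)) (.node (.leaf 0x100) (.leaf 0x142a03c7e0686014da4b31cd695030a4ea67c7a65942a9c0b5c0890a16))) (.node (.node (.leaf 0x100) (.leaf 0x228000000000215)) (.node (.leaf 0x100) (.leaf 0x1020b092a174a2e47078b936d1102f8321d664e25350816)))))) (.node (.node (.node (.node (.node (.node (.leaf 0x8000000000212) (.leaf 0x100)) (.leaf 0x8000000000212)) (.node (.leaf 0x1000309060d5a53310218245e0535841e1b661714070816) (.leaf 0x200c058000ac0e20402060ec278606b811246353080f3f4330c0090a16))) (.node (.node (.leaf 0x100) (.leaf 0x100)) (.node (.leaf 0x8000000000212) (.leaf 0x100)))) (.node (.node (.node (.node (.leaf 0x100) (.leaf 0x8000000000212)) (.leaf 0x100)) (.node (.leaf 0x100) (.leaf 0x100))) (.node (.node (.leaf 0x100) (.leaf 0x100))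 (.node (.leaf 0x100) (.leaf 0x100))))) (.node (.node (.node (.node (.node (.leaf 0x100) (.leaf 0x402000181c0413934b00f5115a044823a1cb0135d93d2c2b0916)) (.leaf 0x100)) (.node (.leaf 0x100) (.leaf 0x100))) (.node (.node (.leaf 0x100) (.leaf 0x8000000000212)) (.node (.leaf 0x8000000000212) (.leaf 0x100)))) (.node (.node (.node (.node (.leaf 0x8000000000212) (.leaf 0x600d00780c406804d3870be0a8617c7b4a7e5dea30b1324b2060618078d19413f60900d16)) (.leaf 0x120b088401c0221979a591078f12a642eb48304a808e528200916)) (.node (.leaf 0x100) (.leaf 0x100))) (.node (.node (.leaf 0x100) (.leaf 0x8000000000212)) (.node (.leaf 0x100) (.leaf 0x8000000000212))))))) (.node (.node (.node (.node (.node (.node (.node (.leaf 0x8000000000212) (.leaf 0x30210705509c391485ba15c616c3b91d2b778c67acadc10e08c4800a16)) (.leaf 0x100)) (.node (.leaf 0x8000000000212) (.leaf 0x100))) (.node (.node (.leaf 0x8000000000212) (.leaf 0x100)) (.node (.leaf 0x100) (.leaf 0x100)))) (.node (.node (.node (.node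 (.leaf 0x8000000000212) (.leaf 0x8000000000212)) (.leaf 0x100)) (.node (.leaf 0x100) (.leaf 0x8000000000212))) (.node (.node (.leaf 0x100) (.leaf 0x100)) (.node (.leaf 0x100) (.leaf 0x303c13128215984264d08d4673d1ce149b4e39c2af7178a9c540a15))))) (.node (.node (.node (.node (.node (.leaf 0x100) (.leaf 0x8000000000212)) (.leaf 0x8000000000212)) (.node (.leaf 0x100) (.leaf 0x100))) (.node (.node (.leaf 0x8000000000212) (.leaf 0x100)) (.node (.leaf 0x8000000000212) (.leaf 0x102000000000215)))) (.node (.node (.node (.node (.leaf 0x810a0c7074c18b9376ed78213e8c03987888d0716) (.leaf 0x100)) (.leaf 0x100)) (.node (.leaf 0x8000000000212) (.leaf 0x100))) (.node (.node (.leaf 0x100) (.leaf 0x8000000000212)) (.node (.leaf 0x100) (.leaf 0x4bc0000000000000314)))))) (.node (.node (.node (.node (.node (.node (.leaf 0x8000000000212) (.leaf 0x8000000000212)) (.leaf 0x100)) (.node (.leaf 0x100) (.leaf 0x8000000000212))) (.node (.node (.leaf 0x8000000000212) (.leaf 0x100)) (.node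 (.leaf 0x8000000000212) (.leaf 0x100)))) (.node (.node (.node (.node (.leaf 0x100) (.leaf 0xc060040a03c0c090104780d4c124a5836395dd2c80c6fcdd4f80b0a16)) (.leaf 0x100)) (.node (.leaf 0x8000000000212) (.leaf 0x8000000000212))) (.node (.node (.leaf 0x100) (.leaf 0x100)) (.node (.leaf 0x8000000000212) (.leaf 0x8000000000212))))) (.node (.node (.node (.node (.node (.leaf 0x100) (.leaf 0x8000000000212)) (.leaf 0x8000000000212)) (.node (.leaf 0x100) (.leaf 0x8000000000212))) (.node (.node (.leaf 0x8000000000212) (.leaf 0x240d0a0111683f19c4b43cfb5942617240104014708c1dc410a14)) (.node (.leaf 0x100) (.leaf 0x100)))) (.node (.node (.node (.node (.leaf 0x8000000000212) (.leaf 0x30330241d41085d2b4199008856f2795e18ed1556e0708598045f10c8020b16)) (.leaf 0x1008040100b4224eda6310933541182c25084d90fcba6ac66028080a16)) (.node (.leaf 0x100) (.leaf 0x100))) (.node (.node (.leaf 0x100) (.leaf 0x10180180901482a342154fe0836407b9ce10017b3ac790168da5cd2500f0b16)) (.node (.leaf 0x100)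 (.leaf 0x60200c084145341e3f91d338b0248ae3550d2983481c493d8020a15)))))))) (.node (.node (.node (.node (.node (.node (.node (.node (.leaf 0x100) (.leaf 0x161111818ac11671e43cd51308e186a4bba18c23180d4e81b0916)) (.leaf 0x804014110a81b1d0603f4029fdd5d6c6b3eb5637c086d944424870a16)) (.node (.leaf 0x100) (.leaf 0x100))) (.node (.node (.leaf 0x8000000000212) (.leaf 0x8000000000212)) (.node (.leaf 0x8000000000212) (.leaf 0x100)))) (.node (.node (.node (.node (.leaf 0x100) (.leaf 0x20140280a82083644613d25165740909bd15e15b5ec6d0369f66a5120700b16)) (.leaf 0x100)) (.node (.leaf 0x100) (.leaf 0x100))) (.node (.node (.leaf 0x8000000000212) (.leaf 0x100)) (.node (.leaf 0x100) (.leaf 0x100))))) (.node (.node (.node (.node (.node (.leaf 0x100) (.leaf 0x60009000b483a4b98b95d3f692da82a09694858b10815)) (.leaf 0x8000000000212)) (.node (.leaf 0x8000000000212) (.leaf 0x501c0280b00e83627a538d214443c6912706b0a39643c086742484cf00e0b16))) (.node (.node (.leaf 0x100) (.leaf 0x8000000000212))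 (.node (.leaf 0x40502034060927170860389aa51e331ad90840d121a062510916) (.leaf 0x100)))) (.node (.node (.node (.node (.leaf 0x8000000000212) (.leaf 0x100)) (.leaf 0xb00f02300f04c0371680e920324732d27b5490502088da2210c34461c81cd0790c16)) (.node (.leaf 0x2000806150e5d093e319a744c2014cd1d01a53f421c0816) (.leaf 0x100))) (.node (.node (.leaf 0x100) (.leaf 0x100)) (.node (.leaf 0x100) (.leaf 0x8000000000212)))))) (.node (.node (.node (.node (.node (.node (.leaf 0x100) (.leaf 0x100)) (.leaf 0x100)) (.node (.leaf 0x100) (.leaf 0x205060f0b0b38074d0363298f1f38e2510f702a51000816))) (.node (.node (.leaf 0x100) (.leaf 0x100)) (.node (.leaf 0x8000000000212) (.leaf 0x4c040243015c1e4dd0d003497517c3c930366481e9233845f7b0850a16)))) (.node (.node (.node (.node (.leaf 0x100) (.leaf 0x8000000000212)) (.leaf 0x100)) (.node (.leaf 0x8000000000212) (.leaf 0x8000000000212))) (.node (.node (.leaf 0x100) (.leaf 0x100)) (.node (.leaf 0x8000000000212) (.leaf 0x100))))) (.node (.node (.node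 (.node (.node (.leaf 0x8000000000212) (.leaf 0x3834016188000504026ccf319b74c862121d033a634df0897e664dcd0f10b16)) (.leaf 0x8000000000212)) (.node (.leaf 0x100) (.leaf 0x100))) (.node (.node (.leaf 0x200080015083d0f3629503e462405630000812728100816) (.leaf 0x100)) (.node (.leaf 0x8000000000212) (.leaf 0x402070205e0e508916c0f783a2682028fb45818e8a2580040916)))) (.node (.node (.node (.node (.leaf 0x8000000000212) (.leaf 0x8000000000212)) (.leaf 0x100)) (.node (.leaf 0x100) (.leaf 0x100))) (.node (.node (.leaf 0x8000000000212) (.leaf 0x100)) (.node (.leaf 0x100) (.leaf 0x8000000000212))))))) (.node (.node (.node (.node (.node (.node (.node (.leaf 0x100) (.leaf 0x100)) (.leaf 0x100)) (.node (.leaf 0x100) (.leaf 0x80201e0241e0192682d8b683a66e83e158d11d92b08c8206b0608ef8290b16))) (.node (.node (.leaf 0x8000000000212) (.leaf 0x100)) (.node (.leaf 0x8000000000212) (.leaf 0x8210220e42403918852d6896c0b2274a18ef2ec4e0898df9182f0f685a0b16)))) (.node (.node (.node (.node (.leaf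 0x100) (.leaf 0x100)) (.leaf 0x100)) (.node (.leaf 0x100) (.leaf 0x100))) (.node (.node (.leaf 0x100) (.leaf 0x30070100200000e1d60886914b790cd20c02822f154700a1662744be1140b16)) (.node (.leaf 0x100) (.leaf 0x80001000004020a4fd2404a64884a50a21452b3085d464b3508830a16))))) (.node (.node (.node (.node (.node (.leaf 0x8000000000212) (.leaf 0x8000000000212)) (.leaf 0x100)) (.node (.leaf 0x100) (.leaf 0x8000000000212))) (.node (.node (.leaf 0x8000000000212) (.leaf 0x8000000000212)) (.node (.leaf 0x8000000000212) (.leaf 0x2000886c80237219d8c4a842ca00462f615467609abc24820916)))) (.node (.node (.node (.node (.leaf 0x100) (.leaf 0x8000000000212)) (.leaf 0x100)) (.node (.leaf 0x100) (.leaf 0x100))) (.node (.node (.leaf 0x8000000000212) (.leaf 0x8000000000212)) (.node (.leaf 0x1c0b054000b80f2080105ceb2745f6b41224a36304103f8340bc0a0a16) (.leaf 0x8000000000212)))))) (.node (.node (.node (.node (.node (.node (.leaf 0x100) (.leaf 0x2010c0a2718492d48088c946e1201f7311e654d26360816))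 (.leaf 0x100)) (.node (.leaf 0x100) (.leaf 0x401603c03c258003e8750d2a56e6b316279c508ed505c14a848a920a8320b16))) (.node (.node (.leaf 0x8000000000212) (.leaf 0x100)) (.node (.leaf 0x100) (.leaf 0x8000000000212)))) (.node (.node (.node (.node (.leaf 0x8000000000212) (.leaf 0x700901813c1804d25e76c829c92ac142518ee8201fa1f80117a0c8dd92a0b16)) (.leaf 0x100)) (.node (.leaf 0x8000000000212) (.leaf 0x100))) (.node (.node (.leaf 0x100) (.leaf 0x100)) (.node (.leaf 0x1040712180a37084e04642a902037e152106f2952000816) (.leaf 0x100))))) (.node (.node (.node (.node (.node (.leaf 0x8000000000212) (.leaf 0x543f000000000000000000415)) (.leaf 0x100)) (.node (.leaf 0x100) (.leaf 0x8000000000212))) (.node (.node (.leaf 0x100) (.leaf 0x501c0540d03985669a4f18510d5c4ae0f70b0283d145e11ad725d54c0660b16)) (.node (.leaf 0x100) (.leaf 0x100)))) (.node (.node (.node (.node (.leaf 0x100) (.leaf 0x110b800d0131697c09b3db481ca6cbf6ab5ec912215c0150915)) (.leaf 0x100)) (.node (.leaf 0x100) (.leaf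 0x100))) (.node (.node (.leaf 0x100) (.leaf 0x8000000000212)) (.node (.leaf 0x100) (.leaf 0x40110072d049b2d3881d2960f3a649d7115f54b5e140816))))))))

/-- data -/
def val0p2 : Trie (ℕ) := .node (.node (.node (.node (.node (.node (.node (.node (.node (.leaf 0x2000000000211) (.leaf 0x3a00a07003306e24f02c31a03046e2d65bc0f81638e51c207065b23131403e0c15)) (.leaf 0x100)) (.node (.leaf 0x100) (.leaf 0x100))) (.node (.node (.leaf 0x2000000000211) (.leaf 0x2000000000211)) (.node (.leaf 0x2000000000211) (.leaf 0x100)))) (.node (.node (.node (.node (.leaf 0x100) (.leaf 0x100)) (.leaf 0x100)) (.node (.leaf 0x100) (.leaf 0x210a000000000000000000415))) (.node (.node (.leaf 0x100) (.leaf 0x2000000000211)) (.node (.leaf 0x100) (.leaf 0x100))))) (.node (.node (.node (.node (.node (.leaf 0x2000000000211) (.leaf 0x480c0100c82f83e526104ea1ab848cb24a1264df26d1604f92e695b80450b16)) (.leaf 0x100)) (.node (.leaf 0x2000000000211) (.leaf 0x2000000000211))) (.node (.node (.leaf 0x2000000000211)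 (.leaf 0x400000113)) (.node (.leaf 0x2000000000211) (.leaf 0x2000000000211)))) (.node (.node (.node (.node (.leaf 0x2000000000211) (.leaf 0x210000000000215)) (.leaf 0x2000000000211)) (.node (.leaf 0x100) (.leaf 0x100))) (.node (.node (.leaf 0x2000000000211) (.leaf 0x100)) (.node (.leaf 0x100) (.leaf 0x500000113)))))) (.node (.node (.node (.node (.node (.node (.leaf 0x100) (.leaf 0xc0190130850b209d0701892ef2193472919c303051c81658d0113822224050a00c16)) (.leaf 0x2000000000211)) (.node (.leaf 0x2000000000211) (.leaf 0x2000000000211))) (.node (.node (.leaf 0x100) (.leaf 0x100)) (.node (.leaf 0x500000113) (.leaf 0x100)))) (.node (.node (.node (.node (.leaf 0x2000000000211) (.leaf 0x2000000000211)) (.leaf 0x2000000000211)) (.node (.leaf 0x100) (.leaf 0x80110040430260474b0278551104b3576bcd129b2bcd9a3130beb4a54483d0800c16))) (.node (.node (.leaf 0x100) (.leaf 0x100)) (.node (.leaf 0x100) (.leaf 0x100))))) (.node (.node (.node (.node (.node (.leaf 0x100) (.leaf 0x2000000000211))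 (.leaf 0x100)) (.node (.leaf 0x2000000000211) (.leaf 0x100))) (.node (.node (.leaf 0x2000000000211) (.leaf 0x500000113)) (.node (.leaf 0x200018000813934b00f5115a044823a1cb0135d93d2c2b0915) (.leaf 0x100)))) (.node (.node (.node (.node (.leaf 0x100) (.leaf 0x2000000000211)) (.leaf 0x100)) (.node (.leaf 0x100) (.leaf 0x2000000000211))) (.node (.node (.leaf 0x2000000000211) (.leaf 0x100)) (.node (.leaf 0x2000000000211) (.leaf 0x100))))))) (.node (.node (.node (.node (.node (.node (.node (.leaf 0x100) (.leaf 0x2000000000211)) (.leaf 0x2000000000211)) (.node (.leaf 0x100) (.leaf 0x100))) (.node (.node (.leaf 0x100) (.leaf 0x100)) (.node (.leaf 0x2000000000211) (.leaf 0x2000000000211)))) (.node (.node (.node (.node (.leaf 0x100) (.leaf 0x2000000000211)) (.leaf 0x100)) (.node (.leaf 0x2000000000211) (.leaf 0x100))) (.node (.node (.leaf 0x2000000000211) (.leaf 0x100)) (.node (.leaf 0x100) (.leaf 0x100))))) (.node (.node (.node (.node (.node (.leaf 0x2000000000211) (.leaf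 0x400000113)) (.leaf 0x100)) (.node (.leaf 0x2000000000211) (.leaf 0x100))) (.node (.node (.leaf 0x100) (.leaf 0x100)) (.node (.leaf 0x2000000000211) (.leaf 0x2000000000211)))) (.node (.node (.node (.node (.leaf 0x2000000000211) (.leaf 0x2000000000211)) (.leaf 0x2000000000211)) (.node (.leaf 0x22000000000213) (.leaf 0x211000000000215))) (.node (.node (.leaf 0x100) (.leaf 0x100)) (.node (.leaf 0x2000000000211) (.leaf 0x100)))))) (.node (.node (.node (.node (.node (.node (.leaf 0x100) (.leaf 0x50181024023b058be644198c563d0429818138c0d8f60c0915)) (.leaf 0x100)) (.node (.leaf 0x2000000000211) (.leaf 0x2000000000211))) (.node (.node (.leaf 0x500000113) (.leaf 0x100)) (.node (.leaf 0x2000000000211) (.leaf 0x100)))) (.node (.node (.node (.node (.leaf 0x100) (.leaf 0x2000000000211)) (.leaf 0x100)) (.node (.leaf 0x500000113) (.leaf 0x100))) (.node (.node (.leaf 0x100) (.leaf 0x22000000000213)) (.node (.leaf 0x40180481681a2820b4b9009694ac9f208425b514640267da62cfa0260b15)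 (.leaf 0x2000000000211))))) (.node (.node (.node (.node (.node (.leaf 0x100) (.leaf 0x10c44822e042bbe1ccc06a1884d40490615)) (.leaf 0x100)) (.node (.leaf 0x100) (.leaf 0x2000000000211))) (.node (.node (.leaf 0x2000000000211) (.leaf 0x100)) (.node (.leaf 0x2000000000211) (.leaf 0x2806f000053413814b27b021d3e61656dfa77e71e26f30a5d48c120d592a1cd98521200d16)))) (.node (.node (.node (.node (.leaf 0x4290000000000000314) (.leaf 0x2000000000211)) (.leaf 0x2000000000211)) (.node (.leaf 0x100) (.leaf 0x2000000000211))) (.node (.node (.leaf 0x2000000000211) (.leaf 0x100)) (.node (.leaf 0x100) (.leaf 0x2000000000211)))))))) (.node (.node (.node (.node (.node (.node (.node (.node (.leaf 0x2000000000211) (.leaf 0x100)) (.leaf 0x100)) (.node (.leaf 0x2000000000211) (.leaf 0x2000000000211))) (.node (.node (.leaf 0x100) (.leaf 0x100)) (.node (.leaf 0x100) (.leaf 0x100)))) (.node (.node (.node (.node (.leaf 0x100) (.leaf 0x2000000000211)) (.leaf 0x100)) (.node (.leaf 0x2000000000211)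 (.leaf 0x2000000000211))) (.node (.node (.leaf 0x2000000000211) (.leaf 0x100)) (.node (.leaf 0x2000000000211) (.leaf 0x2000000000211))))) (.node (.node (.node (.node (.node (.leaf 0x100) (.leaf 0x20200090c09801a7bdeaf5b017f39c0381d0d483eaf0816)) (.leaf 0x140d0441f0b02d4406d3fc458856b6142f017b000813a98ce4840f0a16)) (.node (.leaf 0x100) (.leaf 0x100))) (.node (.node (.leaf 0x100) (.leaf 0x2000000000211)) (.node (.leaf 0x100) (.leaf 0x20030400f04c012700503dce240287705f102b3040010b8492445c0a16)))) (.node (.node (.node (.node (.leaf 0x100) (.leaf 0x482801e170000500623397d1ba4c46f31c02051f6ed670808da75dd110b0b16)) (.leaf 0x2000000000211)) (.node (.leaf 0x100) (.leaf 0x2000000000211))) (.node (.node (.leaf 0x2000000000211) (.leaf 0x2000000000211)) (.node (.leaf 0x100) (.leaf 0x100)))))) (.node (.node (.node (.node (.node (.node (.leaf 0x100) (.leaf 0xa020583020042c938b55d5a9be125a31bb8ac444493090190916)) (.leaf 0x2000000000211)) (.node (.leaf 0x100) (.leaf 0x2000000000211)))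 (.node (.node (.leaf 0x100) (.leaf 0x2000000000211)) (.node (.leaf 0x100) (.leaf 0x3801036028200151781c4a298f32a5de0c8464216c90d89d46c4b06e8930b16)))) (.node (.node (.node (.node (.leaf 0x100) (.leaf 0x211000000000215)) (.leaf 0x2000000000211)) (.node (.leaf 0x100) (.leaf 0x2000000000211))) (.node (.node (.leaf 0x100) (.leaf 0x840000000000000313)) (.node (.leaf 0x100) (.leaf 0x100))))) (.node (.node (.node (.node (.node (.leaf 0x2000000000211) (.leaf 0x2000000000211)) (.leaf 0x2000000000211)) (.node (.leaf 0x100) (.leaf 0x2000000000211))) (.node (.node (.leaf 0x100) (.leaf 0x2000000000211)) (.node (.leaf 0x2000000000211) (.leaf 0x2000000000211)))) (.node (.node (.node (.node (.leaf 0x100) (.leaf 0x502f02017c0005115426d649e347e55e5882d2fd878ed8b1550629108110b16)) (.leaf 0x100)) (.node (.leaf 0x2000000000211) (.leaf 0x40800810054181b473318448d9a2c305030eeb2b01b5ed173b05e0a16))) (.node (.node (.leaf 0x100) (.leaf 0x800b01003f00f03753425e4b72fcaa770fa9931d296b982ad0c0adc4a076d02a0c16))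 (.node (.leaf 0x100) (.leaf 0x2000000000211))))))) (.node (.node (.node (.node (.node (.node (.node (.leaf 0x100) (.leaf 0x2000000000211)) (.leaf 0x2000000000211)) (.node (.leaf 0x100) (.leaf 0xf0040902805520a656d3a7ece76f5251422626c0dc20e2634160a15))) (.node (.node (.leaf 0x2000000000211) (.leaf 0x100)) (.node (.leaf 0x100) (.leaf 0x1400000115)))) (.node (.node (.node (.node (.leaf 0x100) (.leaf 0x2000000000211)) (.leaf 0x2000000000211)) (.node (.leaf 0x100) (.leaf 0x100))) (.node (.node (.leaf 0x100) (.leaf 0x2000000000211)) (.node (.leaf 0x229400000000000000000414) (.leaf 0x2000000000211))))) (.node (.node (.node (.node (.node (.leaf 0x100) (.leaf 0x10040000000000000315)) (.leaf 0x100)) (.node (.leaf 0x100) (.leaf 0x2000000000211))) (.node (.node (.leaf 0x500000113) (.leaf 0x100)) (.node (.leaf 0x100) (.leaf 0x100)))) (.node (.node (.node (.node (.leaf 0x100) (.leaf 0x100)) (.leaf 0x100)) (.node (.leaf 0x2000000000211) (.leaf 0x100))) (.node (.node (.leaf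 0x2000000000211) (.leaf 0x100)) (.node (.leaf 0x2000000000211) (.leaf 0x2000000000211)))))) (.node (.node (.node (.node (.node (.node (.leaf 0x2000000000211) (.leaf 0x410c6104b230aa19e5893ca458e938e80616)) (.leaf 0x2000000000211)) (.node (.leaf 0x100) (.leaf 0x205010082e0c37868ec075f2fa6c1240da4c8049d9ad0c140916))) (.node (.node (.leaf 0x100) (.leaf 0x2000000000211)) (.node (.leaf 0x2000000000211) (.leaf 0x2010a011f0a2f032a256654400e14851b07692f24200816)))) (.node (.node (.node (.node (.leaf 0x2000000000211) (.leaf 0x60650060bd0160ad1a216b54736548f33da570653bac0841b0eb7d42f658f13e0c16)) (.leaf 0x100)) (.node (.leaf 0x2000000000211) (.leaf 0x2000000000211))) (.node (.node (.leaf 0x100) (.leaf 0x2000000000211)) (.node (.leaf 0x100) (.leaf 0x1a05f023829c1e40d11ad01a48164b34849955b1601d1bb48e07b601349710b898a07b0d16))))) (.node (.node (.node (.node (.node (.leaf 0x2000000000211) (.leaf 0x100)) (.leaf 0x208000000000215)) (.node (.leaf 0x901002903307c04f3e802638340231529f50f1f12d44443030488cc1f249b08a0c16)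 (.leaf 0x100))) (.node (.node (.leaf 0x2000000000211) (.leaf 0x2000000000211)) (.node (.leaf 0x100) (.leaf 0x2000000000211)))) (.node (.node (.node (.node (.leaf 0x100) (.leaf 0x2000000000211)) (.leaf 0x2000000000211)) (.node (.leaf 0x100) (.leaf 0x2000000000211))) (.node (.node (.leaf 0x2000000000211) (.leaf 0x2000000000211)) (.node (.leaf 0x100) (.leaf 0x203020083a0446af498ebad3a230902ba3c8c3380a359c140916))))))))

/-- data -/
def val0p3 : Trie (ℕ) := .node (.node (.node (.node (.node (.node (.node (.node (.node (.leaf 0x100) (.leaf 0x8000000000212)) (.leaf 0x100)) (.node (.leaf 0x100) (.leaf 0x381902a020150004963d526283c61001951bc198edc818f1b0e91e220890b16))) (.node (.node (.leaf 0x100) (.leaf 0x1c036029027823a0e019787d87a82de38e181129c06715dc37c49410249e8e547d80cc0d16)) (.node (.leaf 0x100) (.leaf 0x100)))) (.node (.node (.node (.node (.leaf 0x8000000000212) (.leaf 0x680a0161401684e2887687d1ce2fe1c6480ed8060ee1d001200084cc1250b16)) (.leaf 0x100)) (.node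 (.leaf 0x100) (.leaf 0x8000000000212))) (.node (.node (.leaf 0x100) (.leaf 0x100)) (.node (.leaf 0x8000000000212) (.leaf 0x100))))) (.node (.node (.node (.node (.node (.leaf 0x100) (.leaf 0xc05901182541a40c32520a2cfa608829b90d590220535647c8e1e26b6000f30a5e1330d16)) (.leaf 0x8000000000212)) (.node (.leaf 0x100) (.leaf 0x100))) (.node (.node (.leaf 0x100) (.leaf 0x100)) (.node (.leaf 0x100) (.leaf 0x100)))) (.node (.node (.node (.node (.leaf 0x100) (.leaf 0x8000000000212)) (.leaf 0x100)) (.node (.leaf 0x100) (.leaf 0x8000000000212))) (.node (.node (.leaf 0x100) (.leaf 0x8000000000212)) (.node (.leaf 0x8000000000212) (.leaf 0x2811042020360111fa4156f37b56c979f21be35a584a10038ca7c5b50050b16)))))) (.node (.node (.node (.node (.node (.node (.leaf 0x100) (.leaf 0x8000000000212)) (.leaf 0x100)) (.node (.leaf 0x100) (.leaf 0x2400705c0050b504a33914506d0074f03201b409411c84b10100f5631590671ba0c16))) (.node (.node (.leaf 0x100) (.leaf 0x8000000000212)) (.node (.leaf 0x100)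 (.leaf 0x8000000000212)))) (.node (.node (.node (.node (.leaf 0x100) (.leaf 0xc01602802606704c1470fe1903d226c1b6642093171b532060da4351750180f20c16)) (.leaf 0x100)) (.node (.leaf 0x8000000000212) (.leaf 0x8000000000212))) (.node (.node (.leaf 0x100) (.leaf 0x8000000000212)) (.node (.leaf 0x101401c0481882222e2bcc410a9a4b52fb0741c398cbb089a5a8adaf0a50b16) (.leaf 0x100))))) (.node (.node (.node (.node (.node (.leaf 0x100) (.leaf 0x100)) (.leaf 0x100)) (.node (.leaf 0x100) (.leaf 0x100))) (.node (.node (.leaf 0x100) (.leaf 0x100)) (.node (.leaf 0x100) (.leaf 0x100)))) (.node (.node (.node (.node (.leaf 0x100) (.leaf 0x100)) (.leaf 0x100)) (.node (.leaf 0x8000000000212) (.leaf 0x100))) (.node (.node (.leaf 0x100) (.leaf 0x100)) (.node (.leaf 0x100) (.leaf 0x100))))))) (.node (.node (.node (.node (.node (.node (.node (.leaf 0x100) (.leaf 0x1001b100000000000000000416)) (.leaf 0x100)) (.node (.leaf 0x10c300000000000000000414) (.leaf 0x8000000000212))) (.node (.node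 (.leaf 0x100) (.leaf 0x8000000000212)) (.node (.leaf 0x100) (.leaf 0x608048142c0f3d9d240d3c3d7f5aac004d04ca897a7968e30916)))) (.node (.node (.node (.node (.leaf 0x100) (.leaf 0xe00f01b81a41940a51d30c8c4d672b48a9d0590621017c55006020464440e70a1e0c60d16)) (.leaf 0x8000000000212)) (.node (.leaf 0x100) (.leaf 0x8000000000212))) (.node (.node (.leaf 0x100) (.leaf 0x8000000000212)) (.node (.leaf 0x100) (.leaf 0x8000000000212))))) (.node (.node (.node (.node (.node (.leaf 0x100) (.leaf 0x34060841a100035b40250ac1180355653e15dca228147f4028d1010a16)) (.leaf 0x100)) (.node (.leaf 0x100) (.leaf 0x8000000000212))) (.node (.node (.leaf 0x100) (.leaf 0x8000000000212)) (.node (.leaf 0x100) (.leaf 0x30181307407171b10fc5e52052a38b21cc752f0670986d080040a15)))) (.node (.node (.node (.node (.leaf 0x100) (.leaf 0x401c01800705100a4973ab4202f1bc8712a6c3d0089c2f0e20d3a4f4e55f20840c16)) (.leaf 0x100)) (.node (.leaf 0x100) (.leaf 0x8000000000212))) (.node (.node (.leaf 0x100) (.leaf 0x100))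 (.node (.leaf 0xc020300018022a978b05c36098be1d6b5a55a22738ac02260916) (.leaf 0x8000000000212)))))) (.node (.node (.node (.node (.node (.node (.leaf 0x100) (.leaf 0x100)) (.leaf 0x8000000000212)) (.node (.leaf 0x100) (.leaf 0x100))) (.node (.node (.leaf 0x100) (.leaf 0x8000000000212)) (.node (.leaf 0x100) (.leaf 0x8000000000212)))) (.node (.node (.node (.node (.leaf 0x8000000000212) (.leaf 0x80e0100a00c0e494a15189b8314c868d81feaf2001eb2cf3650170a16)) (.leaf 0x8000000000212)) (.node (.leaf 0x100) (.leaf 0x8000000000212))) (.node (.node (.leaf 0x8000000000212) (.leaf 0x8000000000212)) (.node (.leaf 0x100) (.leaf 0x100))))) (.node (.node (.node (.node (.node (.leaf 0x100) (.leaf 0x100)) (.leaf 0x100)) (.node (.leaf 0x100) (.leaf 0x100))) (.node (.node (.leaf 0x100) (.leaf 0x281a1803ca6120c9fc7afe3cad5ae15d21c686075c900b2770916)) (.node (.leaf 0x100) (.leaf 0x100)))) (.node (.node (.node (.node (.leaf 0x100) (.leaf 0x100)) (.leaf 0x100)) (.node (.leaf 0x100) (.leaf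 0x100))) (.node (.node (.leaf 0x100) (.leaf 0x100)) (.node (.leaf 0x100) (.leaf 0x48020000a82383858611d6f3297c4d39851ac322ad47200ba467b5ec0430b16)))))))) (.node (.node (.node (.node (.node (.node (.node (.node (.leaf 0x100) (.leaf 0x100)) (.leaf 0xa010380400052b174ae5b35894c01e6ada95c21740b004250916)) (.node (.leaf 0x100) (.leaf 0x100))) (.node (.node (.leaf 0x100) (.leaf 0x100)) (.node (.leaf 0x8000000000212) (.leaf 0x100)))) (.node (.node (.node (.node (.leaf 0x8000000000212) (.leaf 0x100)) (.leaf 0x100)) (.node (.leaf 0x100) (.leaf 0x100))) (.node (.node (.leaf 0x100) (.leaf 0x100)) (.node (.leaf 0x100) (.leaf 0x100))))) (.node (.node (.node (.node (.node (.leaf 0x8000000000212) (.leaf 0x8000000000212)) (.leaf 0x100)) (.node (.leaf 0x100) (.leaf 0x100))) (.node (.node (.leaf 0x100) (.leaf 0x100)) (.node (.leaf 0x8000000000212) (.leaf 0x8000000000212)))) (.node (.node (.node (.node (.leaf 0x100) (.leaf 0x8000000000212)) (.leaf 0x100)) (.node (.leaf 0x100)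 (.leaf 0x481b0260ac1003527c534d194343a68d2686c0a59683b885744488ce80d0b16))) (.node (.node (.leaf 0x100) (.leaf 0x1060206a14488893c316c342542a3fe94b816c59d55c0c0915)) (.node (.leaf 0x8000000000212) (.leaf 0x100)))))) (.node (.node (.node (.node (.node (.node (.leaf 0x8000000000212) (.leaf 0x8000000000212)) (.leaf 0x100)) (.node (.leaf 0x8000000000212) (.leaf 0x100))) (.node (.node (.leaf 0x20102814200d0e0606e4964a2e220514618560068168a6130916) (.leaf 0xb0140880785184e4d078999ec09a2a95cab733f072d158fca4c8faa98aa0b16)) (.node (.leaf 0x100) (.leaf 0x8000000000212)))) (.node (.node (.node (.node (.leaf 0x100) (.leaf 0x8000000000212)) (.leaf 0x100)) (.node (.leaf 0x100) (.leaf 0x44380000000000000315))) (.node (.node (.leaf 0x8000000000212) (.leaf 0x8000000000212)) (.node (.leaf 0x100) (.leaf 0x8000000000212))))) (.node (.node (.node (.node (.node (.leaf 0x100) (.leaf 0x1005008090480b08c0f4740e4bd23a5435399de2c40b700de4f40c0a16)) (.leaf 0x100)) (.node (.leaf 0x8000000000212)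 (.leaf 0x100))) (.node (.node (.leaf 0x100) (.leaf 0x100)) (.node (.leaf 0x100) (.leaf 0x1204b0170bd0e40e33923bf58b0d12db37fa2104b69aefa66d20563428e28b1e30c16)))) (.node (.node (.node (.node (.leaf 0x100) (.leaf 0xa0080a01c0c3e4333c8555b1284407412e310203881c9d3d81e0a15)) (.leaf 0x8000000000212)) (.node (.leaf 0x100) (.leaf 0x8000000000212))) (.node (.node (.leaf 0x100) (.leaf 0x8000000000212)) (.node (.leaf 0x8000000000212) (.leaf 0x702d0301b4058555185e13ab4ca6ee7e77a3f4a06c0f58ce9188ba1b8440b16))))))) (.node (.node (.node (.node (.node (.node (.node (.leaf 0x8000000000212) (.leaf 0x100)) (.leaf 0x100)) (.node (.leaf 0x8000000000212) (.leaf 0x202040c03125954320117235d0636831d1c651813080816))) (.node (.node (.leaf 0x100) (.leaf 0x8000000000212)) (.node (.leaf 0x100) (.leaf 0x8000000000212)))) (.node (.node (.node (.node (.leaf 0x8000000000212) (.leaf 0x100)) (.leaf 0x100)) (.node (.leaf 0x8000000000212) (.leaf 0x8000000000212))) (.node (.node (.leaf 0x100) (.leaf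 0x481b0520cc3b05569c4ed8490c5c2adcf68af285d185d919d745d94b8630b16)) (.node (.leaf 0x100) (.leaf 0x40330181840104f4046d0f299c74a85e119cf33c638de88a7e8651cc8f20b16))))) (.node (.node (.node (.node (.node (.leaf 0x100) (.leaf 0x100)) (.leaf 0x8000000000212)) (.node (.leaf 0x8000000000212) (.leaf 0x100))) (.node (.node (.leaf 0x100) (.leaf 0x100)) (.node (.leaf 0x80c0482411432194d63b0d83a8e06605921f75220567cc97388060a16) (.leaf 0x8000000000212)))) (.node (.node (.node (.node (.leaf 0x100) (.leaf 0x4202a1c82c05857aed59812fc40d49ed33a0d5afc69924e32a84f81300b15)) (.leaf 0x8000000000212)) (.node (.leaf 0x100) (.leaf 0x8000000000212))) (.node (.node (.leaf 0x8000000000212) (.leaf 0x100)) (.node (.leaf 0x100) (.leaf 0x100)))))) (.node (.node (.node (.node (.node (.node (.leaf 0x100) (.leaf 0x8000000000212)) (.leaf 0x100)) (.node (.leaf 0x8000000000212) (.leaf 0x100))) (.node (.node (.leaf 0x100) (.leaf 0x100)) (.node (.leaf 0x100) (.leaf 0x100)))) (.node (.node (.node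 (.node (.leaf 0x100) (.leaf 0x100)) (.leaf 0x8000000000212)) (.node (.leaf 0x100) (.leaf 0x2006500c853c1f01655451039862318ca5c34fc0a63f4877c5930613cbce2de22f60250d16))) (.node (.node (.leaf 0x8000000000212) (.leaf 0x100)) (.node (.leaf 0x100) (.leaf 0x8000000000212))))) (.node (.node (.node (.node (.node (.leaf 0x100) (.leaf 0x8000000000212)) (.leaf 0x8000000000212)) (.node (.leaf 0x8000000000212) (.leaf 0x100))) (.node (.node (.leaf 0x100) (.leaf 0x100)) (.node (.leaf 0x8000000000212) (.leaf 0x100)))) (.node (.node (.node (.node (.leaf 0x8000000000212) (.leaf 0x100)) (.leaf 0x100)) (.node (.leaf 0x8000000000212) (.leaf 0x100))) (.node (.node (.leaf 0x100) (.leaf 0x100)) (.node (.leaf 0x8000000000212) (.leaf 0x8000000000212))))))))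

/-- data -/
def val0p4 : Trie (ℕ) := .node (.node (.node (.node (.node (.node (.node (.node (.node (.leaf 0x100) (.leaf 0x2000000000211)) (.leaf 0x2000000000211)) (.node (.leaf 0x2000000000211) (.leaf 0x2000000000211))) (.node (.node (.leaf 0x100) (.leaf 0x2000000000211)) (.node (.leaf 0x2000000000211) (.leaf 0x100)))) (.node (.node (.node (.node (.leaf 0x100) (.leaf 0x100)) (.leaf 0x100)) (.node (.leaf 0x2000000000211) (.leaf 0x100))) (.node (.node (.leaf 0x100) (.leaf 0x10a100000000000000000414)) (.node (.leaf 0x100) (.leaf 0x2000000000211))))) (.node (.node (.node (.node (.node (.leaf 0x2000000000211) (.leaf 0x104031100640f518e3b270245103e0909d21057120815)) (.leaf 0x100)) (.node (.leaf 0x100) (.leaf 0x100))) (.node (.node (.leaf 0x100) (.leaf 0x100)) (.node (.leaf 0x100) (.leaf 0x2000000000211)))) (.node (.node (.node (.node (.leaf 0x100) (.leaf 0xc00060041e0a09ab0466c3993e16575405d32080d130d2090916)) (.leaf 0x100)) (.node (.leaf 0x2000000000211) (.leaf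 0x200a0480904283c26e150ab053634a29ba0481cb4945a0065f6614a90c00b16))) (.node (.node (.leaf 0x2000000000211) (.leaf 0x2000000000211)) (.node (.leaf 0x2000000000211) (.leaf 0x1c000640e10003458cc1b9458a56f6bc2e1977c14866238981f4040a16)))))) (.node (.node (.node (.node (.node (.node (.leaf 0x100) (.leaf 0x2000000000211)) (.leaf 0x40000000000000311)) (.node (.leaf 0x100) (.leaf 0x10a100000000000000000414))) (.node (.node (.leaf 0x2000000000211) (.leaf 0x100)) (.node (.leaf 0x100) (.leaf 0x100)))) (.node (.node (.node (.node (.leaf 0x100) (.leaf 0x2000000000211)) (.leaf 0x2000000000211)) (.node (.leaf 0x100) (.leaf 0x160101604c1252412591934a07e448e81fdd935828e2c97548080a15))) (.node (.node (.leaf 0x2000000000211) (.leaf 0x2000000000211)) (.node (.leaf 0x2000000000211) (.leaf 0x100))))) (.node (.node (.node (.node (.node (.leaf 0x2000000000211) (.leaf 0x2000000000211)) (.leaf 0x2000000000211)) (.node (.leaf 0x100) (.leaf 0x2000000000211))) (.node (.node (.leaf 0x100)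 (.leaf 0x100)) (.node (.leaf 0x2000000000211) (.leaf 0x2000000000211)))) (.node (.node (.node (.node (.leaf 0x2000000000211) (.leaf 0x2000000000211)) (.leaf 0x2000000000211)) (.node (.leaf 0x2000000000211) (.leaf 0x100))) (.node (.node (.leaf 0x205060d0d0738074d0363298f1f38e2510f702a51000816) (.leaf 0x100)) (.node (.leaf 0x100) (.leaf 0x2000000000211))))))) (.node (.node (.node (.node (.node (.node (.node (.leaf 0x100) (.leaf 0x105000a0b0c47394c97ba5e406a2ea7290c6a4757b20816)) (.leaf 0x10a100000000000000000414)) (.node (.leaf 0x100) (.leaf 0x2000000000211))) (.node (.node (.leaf 0x2000000000211) (.leaf 0x100)) (.node (.leaf 0x100) (.leaf 0xa0603850060c2a059f4bd5c421cc5c3a8f45a58a6acd004e0916)))) (.node (.node (.node (.node (.leaf 0x2000000000211) (.leaf 0x20140280902083245e0ad2416f6f88e19e15415b53c6703c9ca65d0407c0b16)) (.leaf 0x2000000000211)) (.node (.leaf 0x100) (.leaf 0x100))) (.node (.node (.leaf 0x2000000000211) (.leaf 0x8020301c0200582405740639ec348d0f6141268300fa327c0916))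 (.node (.leaf 0x2000000000211) (.leaf 0x100))))) (.node (.node (.node (.node (.node (.leaf 0x2000000000211) (.leaf 0x100)) (.leaf 0x2000000000211)) (.node (.leaf 0x100) (.leaf 0x1e02d021816c1a408f1e6040862a353456978562609d0f343104820024b50ed093e0050d16))) (.node (.node (.leaf 0x100) (.leaf 0x100080a0240851ca55693b7f0e86f92613e252700ec1ce1638150a15)) (.node (.leaf 0x100) (.leaf 0x100)))) (.node (.node (.node (.node (.leaf 0x100) (.leaf 0x2000000000211)) (.leaf 0x110a000000000000000000415)) (.node (.leaf 0x2000000000211) (.leaf 0x100))) (.node (.node (.leaf 0x2000000000211) (.leaf 0x6010282004025fb1c3d09e5490c080300c8e28318a6614190916)) (.node (.leaf 0x100) (.leaf 0x2000000000211)))))) (.node (.node (.node (.node (.node (.node (.leaf 0x2000000000211) (.leaf 0x4040101407c1e1b473318448d9a2c305030eeb2b01b5ed173b05e0a16)) (.leaf 0x2000000000211)) (.node (.leaf 0x2000000000211) (.leaf 0x2000000000211))) (.node (.node (.leaf 0x100) (.leaf 0x2000000000211)) (.node (.leaf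 0x1101c00307a06308007721843e17c3de38a96e00b4439bf42a0cc4872f340001e0c16) (.leaf 0x110060640a0131242188886762a6e5ec8850d510861844564578cc8090b15)))) (.node (.node (.node (.node (.leaf 0x2000000000211) (.leaf 0x2000000000211)) (.leaf 0x100)) (.node (.leaf 0x100) (.leaf 0x100))) (.node (.node (.leaf 0x100) (.leaf 0x100)) (.node (.leaf 0x2000000000211) (.leaf 0x400000113))))) (.node (.node (.node (.node (.node (.leaf 0x2000000000211) (.leaf 0x2000000000211)) (.leaf 0x100)) (.node (.leaf 0x2000000000211) (.leaf 0x100))) (.node (.node (.leaf 0x20101325e01b5c39184310415) (.leaf 0x2000000000211)) (.node (.leaf 0x113000000000215) (.leaf 0x2000000000211)))) (.node (.node (.node (.node (.leaf 0x100) (.leaf 0x2000000000211)) (.leaf 0x100)) (.node (.leaf 0x2000000000211) (.leaf 0x603202805e08f08258b07c58837d5904125442c4299a9925e136b6b29b53202e0c16))) (.node (.node (.leaf 0x2000000000211) (.leaf 0x2000000000211)) (.node (.leaf 0x2000000000211) (.leaf 0x100)))))))) (.node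 (.node (.node (.node (.node (.node (.node (.node (.leaf 0x100) (.leaf 0x100)) (.leaf 0x2000000000211)) (.node (.leaf 0x2000000000211) (.leaf 0x500000113))) (.node (.node (.leaf 0x2000000000211) (.leaf 0x2000000000211)) (.node (.leaf 0x100) (.leaf 0x2000000000211)))) (.node (.node (.node (.node (.leaf 0x100) (.leaf 0x2000000000211)) (.leaf 0x2000000000211)) (.node (.leaf 0x2000000000211) (.leaf 0x100))) (.node (.node (.leaf 0x100) (.leaf 0x2000000000211)) (.node (.leaf 0x3080f142e08301d445f688c2e30452421382e4f1f700816) (.leaf 0x100))))) (.node (.node (.node (.node (.node (.leaf 0x100) (.leaf 0x301202203a0b105c1590e92c80205404168140e22797d924400f55f2e139a0560c16)) (.leaf 0x2000000000211)) (.node (.leaf 0x100) (.leaf 0x2000000000211))) (.node (.node (.leaf 0x100) (.leaf 0x2000000000211)) (.node (.leaf 0x2000000000211) (.leaf 0x2000000000211)))) (.node (.node (.node (.node (.leaf 0x2000000000211) (.leaf 0x100)) (.leaf 0x2000000000211)) (.node (.leaf 0x2000000000211)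 (.leaf 0x100))) (.node (.node (.leaf 0x2000000000211) (.leaf 0x100)) (.node (.leaf 0x2000000000211) (.leaf 0x100)))))) (.node (.node (.node (.node (.node (.node (.leaf 0x100) (.leaf 0x2000000000211)) (.leaf 0x206000000000215)) (.node (.leaf 0x100) (.leaf 0x2000000000211))) (.node (.node (.leaf 0x100) (.leaf 0x2000000000211)) (.node (.leaf 0x100) (.leaf 0x100)))) (.node (.node (.node (.node (.leaf 0x2000000000211) (.leaf 0x2000000000211)) (.leaf 0x2000000000211)) (.node (.leaf 0x100) (.leaf 0x40b0342b0d037170db3bce927c9559c541ab1a20c596a882284130a16))) (.node (.node (.leaf 0x400000113) (.leaf 0x2000000000211)) (.node (.leaf 0x100) (.leaf 0x400018043c013c27076ba88b2e066740200ca245b1e16e110916))))) (.node (.node (.node (.node (.node (.leaf 0x100) (.leaf 0x400000113)) (.leaf 0x100)) (.node (.leaf 0x100) (.leaf 0x100))) (.node (.node (.leaf 0x2000000000211) (.leaf 0x100)) (.node (.leaf 0x100) (.leaf 0x2000000000211)))) (.node (.node (.node (.node (.leaf 0x2000000000211)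 (.leaf 0x2000000000211)) (.leaf 0x100)) (.node (.leaf 0x100) (.leaf 0x80600401060092a035304383f5195d42729a4216c2da28943c4140a16))) (.node (.node (.leaf 0x100) (.leaf 0x100)) (.node (.leaf 0x100) (.leaf 0x209038182c034b808011d3c9efda4a4a681060220150120d0916))))))) (.node (.node (.node (.node (.node (.node (.node (.leaf 0x2000000000211) (.leaf 0x281e05810084203ee5d2687d721301e1602f0d154c7880cdd3bd560a16)) (.leaf 0x100)) (.node (.leaf 0x2000000000211) (.leaf 0x10080300406c1206c8919938660f6b88201a7172380f4ccc11882c0a16))) (.node (.node (.leaf 0x100) (.leaf 0x2000000000211)) (.node (.leaf 0x100) (.leaf 0x100)))) (.node (.node (.node (.node (.leaf 0x400000113) (.leaf 0x581d04a07c2f03b37448d0d87f1de2553a87d22d960b090d8742b8278b70b16)) (.leaf 0x2000000000211)) (.node (.leaf 0x3158100000000000000000415) (.leaf 0x100))) (.node (.node (.leaf 0x2000000000211) (.leaf 0x581d0520d4340556605256b8a8566a15028832ddde08191fd305694284f0b16)) (.node (.leaf 0x2000000000211) (.leaf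 0x11a300000000000000000414))))) (.node (.node (.node (.node (.node (.leaf 0x100) (.leaf 0x2000000000211)) (.leaf 0x100)) (.node (.leaf 0x100) (.leaf 0x100))) (.node (.node (.leaf 0x100) (.leaf 0x100)) (.node (.leaf 0x100) (.leaf 0x140b03c1b088274406d3fc458856b6142f017b000813a98ce4840f0a16)))) (.node (.node (.node (.node (.leaf 0x2000000000211) (.leaf 0x1200c1800f2e40a8ae8da57a8bd468910e51a01e8097a8508c786f0b14)) (.leaf 0x100)) (.node (.leaf 0x100) (.leaf 0x2000000000211))) (.node (.node (.leaf 0x100) (.leaf 0x100)) (.node (.leaf 0x100) (.leaf 0x102000000000215)))))) (.node (.node (.node (.node (.node (.node (.leaf 0x100) (.leaf 0x2000000000211)) (.leaf 0x2000000000211)) (.node (.leaf 0x100) (.leaf 0x2000000000211))) (.node (.node (.leaf 0x2000000000211) (.leaf 0x181502a094260334580c1219567028eda394914d5a8638399d86710986f0b16)) (.node (.leaf 0x100) (.leaf 0x2000000000211)))) (.node (.node (.node (.node (.leaf 0x500000113) (.leaf 0x100)) (.leaf 0x100)) (.node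 (.leaf 0x90170081f432081098a15cc97b3c27ffe186c85df7a398b78107f9c78620b16) (.leaf 0x100))) (.node (.node (.leaf 0x2000000000211) (.leaf 0x2000000000211)) (.node (.leaf 0x100) (.leaf 0x100))))) (.node (.node (.node (.node (.node (.leaf 0x100) (.leaf 0x2000000000211)) (.leaf 0x2000000000211)) (.node (.leaf 0x100) (.leaf 0x502102225c4509f44085cec80c59acc6b68426c96896f85a880589678240b16))) (.node (.node (.leaf 0x100) (.leaf 0x2000000000211)) (.node (.leaf 0x100) (.leaf 0x202000000000215)))) (.node (.node (.node (.node (.leaf 0x2000000000211) (.leaf 0x2000000000211)) (.leaf 0xc0502c030700f0542a03151374917543410272144011305e108510a16)) (.node (.leaf 0x2000000000211) (.leaf 0x405044031100d0881316c71404c96b41a1a2161c406410901fc1f0a16))) (.node (.node (.leaf 0x100) (.leaf 0x2000000000211)) (.node (.leaf 0x2000000000211) (.leaf 0x210000000000215))))))))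

/-- data -/
def val0p5 : Trie (ℕ) := .node (.node (.node (.node (.node (.node (.node (.node (.node (.leaf 0x100) (.leaf 0x100)) (.leaf 0x100)) (.node (.leaf 0xad000000000214) (.leaf 0x100))) (.node (.node (.leaf 0x8000000000212) (.leaf 0x101030b06115a53310218245e0535841e1b661714070816)) (.node (.leaf 0x100) (.leaf 0x201004815064074d041326cc2b4b96f0b90d54f258112c04a22c8b0a16)))) (.node (.node (.node (.node (.leaf 0x100) (.leaf 0x100)) (.leaf 0x8000000000212)) (.node (.leaf 0x100) (.leaf 0x3801000058148120f27b054a056be59df386927b3804d0181fc6c84986d0b16))) (.node (.node (.leaf 0x100) (.leaf 0x8000000000212)) (.node (.leaf 0x100) (.leaf 0x100))))) (.node (.node (.node (.node (.node (.leaf 0x100) (.leaf 0x80001602c1601929c0489b86e53a8255586313d2e04181f6f04e8b58730b16)) (.leaf 0x100)) (.node (.leaf 0x8000000000212) (.leaf 0x8000000000212))) (.node (.node (.leaf 0x100) (.leaf 0x100)) (.node (.leaf 0x8000000000212) (.leaf 0x114a000000000000000000415)))) (.node (.node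 (.node (.node (.leaf 0x8000000000212) (.leaf 0x10c250229264a5cd24b75e701b143450615)) (.leaf 0x8000000000212)) (.node (.leaf 0x100) (.leaf 0x8000000000212))) (.node (.node (.leaf 0x100) (.leaf 0x40481c5c134006cfe1064b165a133c618b605ae1c92a0f0915)) (.node (.leaf 0x100) (.leaf 0x8000000000212)))))) (.node (.node (.node (.node (.node (.node (.leaf 0x100) (.leaf 0x1c0d054090c8174c80f53430594d53e48b0a6b805843b38aa48c200a16)) (.leaf 0x8000000000212)) (.node (.leaf 0x8000000000212) (.leaf 0x8000000000212))) (.node (.node (.leaf 0x100) (.leaf 0x100)) (.node (.leaf 0x100) (.leaf 0x100)))) (.node (.node (.node (.node (.leaf 0x100) (.leaf 0x6070582c3c178152d6656460527c01272d81285a41545a1e0916)) (.leaf 0x100)) (.node (.leaf 0x100) (.leaf 0x1e07001603402621002f28e1113814332d14b9d20212428cfed1d422c6ed9144ce414a0d16))) (.node (.node (.leaf 0x100) (.leaf 0x80e0482411432194d63b0d83a8e06605921f75220567cc97388060a16)) (.node (.leaf 0x100) (.leaf 0x400024050800f320002bc2f725337dc490eab60fc2e698a83ec0e0a16)))))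 (.node (.node (.node (.node (.node (.leaf 0x100) (.leaf 0x380503e0142f01f1b41c0df85f47669e0388525cf189c80b7a8581208660b16)) (.leaf 0x100)) (.node (.leaf 0x8000000000212) (.leaf 0x430310930ec0cd54e1935d71c44933db6c920b41ad043cf1e5ae429842b0dd0c15))) (.node (.node (.leaf 0x8000000000212) (.leaf 0x10001c000740179327286a7e66812b3c0b612bd1d1de340915)) (.node (.leaf 0x100) (.leaf 0x100)))) (.node (.node (.node (.node (.leaf 0x100) (.leaf 0x100)) (.leaf 0x100)) (.node (.leaf 0x100) (.leaf 0x8000000000212))) (.node (.node (.leaf 0x8000000000212) (.leaf 0x8000000000212)) (.node (.leaf 0x40b03c290f835170bd3cce7314ab67c4423b4e27c5b7c888334000a16) (.leaf 0x100))))))) (.node (.node (.node (.node (.node (.node (.node (.leaf 0x100) (.leaf 0x405b0170f909e1070852eb30164119b27166d21623eaf019716b5061902fb11a0c16)) (.leaf 0x8000000000212)) (.node (.leaf 0x100) (.leaf 0x100))) (.node (.node (.leaf 0x100) (.leaf 0x100)) (.node (.leaf 0x8000000000212) (.leaf 0x100)))) (.node (.node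 (.node (.node (.leaf 0x100) (.leaf 0x8000000000212)) (.leaf 0x4010181409c1e1cc633e0009a1ced10683e7353600369d3b400880a16)) (.node (.leaf 0x8000000000212) (.leaf 0x310a000000000000000000415))) (.node (.node (.leaf 0x100) (.leaf 0x404020100a082a0bc34de6625b502319e9c680d599ac9c090916)) (.node (.leaf 0x100) (.leaf 0x240001c1206c0a3fd871b22f6c968401164c4d22d0253ccb95203a0a16))))) (.node (.node (.node (.node (.node (.leaf 0x100) (.leaf 0xc00001c02f02b0233701e83611b895f6d7ac31e734e9f23010f48a444065d0040c16)) (.leaf 0x100)) (.node (.leaf 0x8000000000212) (.leaf 0x100))) (.node (.node (.leaf 0x100) (.leaf 0x100080e01c0a3240b4d8eb2a8224a0c2204ed3681eb047b5606f0a15)) (.node (.leaf 0x8000000000212) (.leaf 0x100)))) (.node (.node (.node (.node (.leaf 0x8000000000212) (.leaf 0x100)) (.leaf 0x8000000000212)) (.node (.leaf 0x100) (.leaf 0x100))) (.node (.node (.leaf 0x100) (.leaf 0x8000000000212)) (.node (.leaf 0x8000000000212) (.leaf 0x801010160141a0e86d334d880998930870e62d0b897300cd154e20a16))))))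 (.node (.node (.node (.node (.node (.node (.leaf 0x100) (.leaf 0x201038303008031b4980265202504829a3490072299cb8140916)) (.leaf 0x100)) (.node (.leaf 0x100) (.leaf 0x100))) (.node (.node (.leaf 0x100) (.leaf 0x100)) (.node (.leaf 0x100) (.leaf 0x100)))) (.node (.node (.node (.node (.leaf 0x100) (.leaf 0x401002c0401882849e494ec03eb3cbfa3411e129ca40806baaa8a59d05d0b16)) (.leaf 0x100)) (.node (.leaf 0x100) (.leaf 0x101e0900a204201ec202e8b27955f4502a646317f106594622542a0a16))) (.node (.node (.leaf 0x100) (.leaf 0xc070040703405428674fc1d574bb1ac3d267981b871a2898374250a16)) (.node (.leaf 0x100) (.leaf 0x100))))) (.node (.node (.node (.node (.node (.leaf 0x100) (.leaf 0x70100403c0842caa2e2551141f7d48a1292814c1c21c2a1683c0a15)) (.leaf 0x100)) (.node (.leaf 0x100) (.leaf 0x8000000000212))) (.node (.node (.leaf 0x8000000000212) (.leaf 0xc0100240100490381670ea20424832e27c54a04f2078d92220c44451c71ce07a0c16)) (.node (.leaf 0x8000000000212) (.leaf 0x100)))) (.node (.node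 (.node (.node (.leaf 0x100) (.leaf 0x200c060110c4031d16a20dc0c3e1f73cf706079110c8359347b41a0a16)) (.leaf 0x100)) (.node (.leaf 0x100) (.leaf 0x8000000000212))) (.node (.node (.leaf 0x100) (.leaf 0x100)) (.node (.leaf 0x100) (.leaf 0x8000000000212)))))))) (.node (.node (.node (.node (.node (.node (.node (.node (.leaf 0x100) (.leaf 0x100)) (.leaf 0x100)) (.node (.leaf 0x100) (.leaf 0x100))) (.node (.node (.leaf 0x100) (.leaf 0x100)) (.node (.leaf 0x100) (.leaf 0x100)))) (.node (.node (.node (.node (.leaf 0x100) (.leaf 0x100)) (.leaf 0x100)) (.node (.leaf 0x100) (.leaf 0x100))) (.node (.node (.leaf 0x8000000000212) (.leaf 0x100)) (.node (.leaf 0x8000000000212) (.leaf 0x100))))) (.node (.node (.node (.node (.node (.leaf 0x100) (.leaf 0x100)) (.leaf 0x100)) (.node (.leaf 0x8000000000212) (.leaf 0x100))) (.node (.node (.leaf 0x100) (.leaf 0x100)) (.node (.leaf 0x100) (.leaf 0x100)))) (.node (.node (.node (.node (.leaf 0x100) (.leaf 0x100)) (.leaf 0x100)) (.node (.leaf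 0x100) (.leaf 0x8000000000212))) (.node (.node (.leaf 0x100) (.leaf 0x8000000000212)) (.node (.leaf 0x100) (.leaf 0x100)))))) (.node (.node (.node (.node (.node (.node (.leaf 0x100) (.leaf 0x100)) (.leaf 0x8000000000212)) (.node (.leaf 0x100) (.leaf 0x1418014440243619042432840a049d506152f197f8685ec9d560e70a16))) (.node (.node (.leaf 0x100) (.leaf 0x100)) (.node (.leaf 0x8000000000212) (.leaf 0x8070501826103e1ce3ed4c45835cab004cc4aa79827566e40916)))) (.node (.node (.node (.node (.leaf 0x100) (.leaf 0x3801006e04d07a2050023641424d23527fc0d02739c92be0667152a139e0030c15)) (.leaf 0x100)) (.node (.leaf 0x100) (.leaf 0x8000000000212))) (.node (.node (.leaf 0x100) (.leaf 0xa000b8308c031d91c42890c886ee3c5033996206d0f0a22c0916)) (.node (.leaf 0x100) (.leaf 0x100))))) (.node (.node (.node (.node (.node (.leaf 0x8000000000212) (.leaf 0x13a300000000000000000414)) (.leaf 0x8000000000212)) (.node (.leaf 0x100) (.leaf 0x8000000000212))) (.node (.node (.leaf 0x100) (.leaf 0x8000000000212))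 (.node (.leaf 0x8000000000212) (.leaf 0x100)))) (.node (.node (.node (.node (.leaf 0x100) (.leaf 0x40c0482415c325fca112802911e4b48142ce752d0b1a6501730690a16)) (.leaf 0x100)) (.node (.leaf 0x100) (.leaf 0x8000000000212))) (.node (.node (.leaf 0x100) (.leaf 0x10030c8033041e171463c1c8139b8ba91f956a35505ea8ca5848e90a16)) (.node (.leaf 0x100) (.leaf 0x8000000000212))))))) (.node (.node (.node (.node (.node (.node (.node (.leaf 0x100) (.leaf 0x8000000000212)) (.leaf 0x8000000000212)) (.node (.leaf 0x100) (.leaf 0x100))) (.node (.node (.leaf 0x8000000000212) (.leaf 0x100)) (.node (.leaf 0x100) (.leaf 0x600e002810000604c2d98a34a1013d73b2719d582a4172c40c61c1476dd98ad2bc05b0d16)))) (.node (.node (.node (.node (.leaf 0x100) (.leaf 0x18100080b81282c5a64b14c24d4789980e0900a2f142289ab4e52d870390b16)) (.leaf 0x100)) (.node (.leaf 0x100) (.leaf 0x100))) (.node (.node (.leaf 0x100) (.leaf 0x8000000000212)) (.node (.leaf 0x100) (.leaf 0x8000000000212))))) (.node (.node (.node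 (.node (.node (.leaf 0x100) (.leaf 0x3805088190f4045b801506c217c365693d161c9224137f8018cd020a16)) (.leaf 0x100)) (.node (.leaf 0x100) (.leaf 0x8000000000212))) (.node (.node (.leaf 0x100) (.leaf 0x28040a80a1dc1e174543a8d6400f64f81f0bac51743a68c9b2d0050a16)) (.node (.leaf 0x100) (.leaf 0x8000000000212)))) (.node (.node (.node (.node (.leaf 0x100) (.leaf 0xc07034150a81d55d01192437212c1c92e175320888b3fc7d5c0490a16)) (.leaf 0x8000000000212)) (.node (.leaf 0x8000000000212) (.leaf 0x100))) (.node (.node (.leaf 0x8000000000212) (.leaf 0x80c0382c0d43a11cb4378fe308a26b84b22f372985275483310050a16)) (.node (.leaf 0x8000000000212) (.leaf 0x8000000000212)))))) (.node (.node (.node (.node (.node (.node (.leaf 0x8000000000212) (.leaf 0x402024050800f320002bc2f725337dc490eab60fc2e698a83ec0e0a16)) (.leaf 0x240004c200681228caf1c21b1a84e16cf22e6701e8153ac35488670a16)) (.node (.leaf 0x100) (.leaf 0x100))) (.node (.node (.leaf 0x100) (.leaf 0x8000000000212)) (.node (.leaf 0x8000000000212)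 (.leaf 0x100)))) (.node (.node (.node (.node (.leaf 0x8000000000212) (.leaf 0x3812080120ac2066ce8140851fc2b65c013a8fd354149e45604c2b0a16)) (.leaf 0x100)) (.node (.leaf 0x100) (.leaf 0x100))) (.node (.node (.leaf 0x100) (.leaf 0x2030180c1007298c032dd65a574e241a6a0660e5a1b09a0a0916)) (.node (.leaf 0x100) (.leaf 0x100))))) (.node (.node (.node (.node (.node (.leaf 0x8000000000212) (.leaf 0x40300e0c41620c122980a5f948750141ce8914002644c12f8440a15)) (.leaf 0x100)) (.node (.leaf 0x100) (.leaf 0x100))) (.node (.node (.leaf 0x8000000000212) (.leaf 0x100)) (.node (.leaf 0x100) (.leaf 0x8000000000212)))) (.node (.node (.node (.node (.leaf 0x100) (.leaf 0x1500903500806a02b16013c0f927d5a737d5ef0310f395208a08642c25216f0950c16)) (.leaf 0x8000000000212)) (.node (.leaf 0x100) (.leaf 0x8000000000212))) (.node (.node (.leaf 0x8000000000212) (.leaf 0x100)) (.node (.leaf 0x100) (.leaf 0x8000000000212))))))))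

/-- data -/
def val0p6 : Trie (ℕ) := .node (.node (.node (.node (.node (.node (.node (.node (.node (.leaf 0x100) (.leaf 0x100)) (.leaf 0x2000000000211)) (.node (.leaf 0x2000000000211) (.leaf 0x100))) (.node (.node (.leaf 0x100) (.leaf 0x41100c13018155704a5d4ac7ccf37b4f5192de29c19c20ce634220a16)) (.node (.leaf 0x100) (.leaf 0x2000000000211)))) (.node (.node (.node (.node (.leaf 0x2000000000211) (.leaf 0x241905413088216e2de1bcfe8052d37dbf0ad0027853de0c40e8c10a16)) (.leaf 0x100)) (.node (.leaf 0x100) (.leaf 0x100))) (.node (.node (.leaf 0x2000000000211) (.leaf 0x209400000000000000000414)) (.node (.leaf 0x100) (.leaf 0x100))))) (.node (.node (.node (.node (.node (.leaf 0x100) (.leaf 0x100e0200d024052844d5d85d20822010b0191f5164c8b047b248340a16)) (.leaf 0x2000000000211)) (.node (.leaf 0x2000000000211) (.leaf 0x2000000000211))) (.node (.node (.leaf 0x2000000000211) (.leaf 0x100)) (.node (.leaf 0x100) (.leaf 0x8212090072410e8876de2851788906a8905990716)))) (.node (.node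 (.node (.node (.leaf 0x100) (.leaf 0x2000000000211)) (.leaf 0x100)) (.node (.leaf 0x100) (.leaf 0x100))) (.node (.node (.leaf 0x100) (.leaf 0x100)) (.node (.leaf 0x4060101207c1c1b473318448d9a2c305030eeb2b01b5ed173b05e0a16) (.leaf 0x100)))))) (.node (.node (.node (.node (.node (.node (.leaf 0x2000000000211) (.leaf 0x181302609c210334580c1219567028eda394914d5a8638399d86710986f0b16)) (.leaf 0x2000000000211)) (.node (.leaf 0x2000000000211) (.leaf 0x209400000000000000000414))) (.node (.node (.leaf 0x2000000000211) (.leaf 0x2000000000211)) (.node (.leaf 0x6050280802043414c7a2d1a8ecb6141940066094a050aa1e0916) (.leaf 0x2000000000211)))) (.node (.node (.node (.node (.leaf 0x2000000000211) (.leaf 0xa00058182003458f109874a97e226c20b208444828c8e4170916)) (.leaf 0x100)) (.node (.leaf 0x2000000000211) (.leaf 0x2000000000211))) (.node (.node (.leaf 0x2000000000211) (.leaf 0x31000000000213)) (.node (.leaf 0x100) (.leaf 0x2000000000211))))) (.node (.node (.node (.node (.node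 (.leaf 0x2000000000211) (.leaf 0x100)) (.leaf 0x100)) (.node (.leaf 0x2000000000211) (.leaf 0x100))) (.node (.node (.leaf 0x2000000000211) (.leaf 0x2000000000211)) (.node (.leaf 0x6148400000000000000000415) (.leaf 0x6229200000000000000000415)))) (.node (.node (.node (.node (.leaf 0x100) (.leaf 0x100)) (.leaf 0x100)) (.node (.leaf 0x2000000000211) (.leaf 0x2000000000211))) (.node (.node (.leaf 0x100) (.leaf 0x100)) (.node (.leaf 0x100) (.leaf 0x2000000000211))))))) (.node (.node (.node (.node (.node (.node (.node (.leaf 0x2000000000211) (.leaf 0x2211a66000000000000000000000516)) (.leaf 0x209400000000000000000414)) (.node (.leaf 0x100) (.leaf 0x2000000000211))) (.node (.node (.leaf 0x100) (.leaf 0x2000000000211)) (.node (.leaf 0x100) (.leaf 0x2000000000211)))) (.node (.node (.node (.node (.leaf 0x2000000000211) (.leaf 0x2000000000211)) (.leaf 0x28000402101417290b01be1c1a44d170f12ea6f1e4163b036484680a16)) (.node (.leaf 0x2000000000211) (.leaf 0x2000000000211)))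 (.node (.node (.leaf 0x100) (.leaf 0x2000000000211)) (.node (.leaf 0x100) (.leaf 0x2000000000211))))) (.node (.node (.node (.node (.node (.leaf 0x100) (.leaf 0x2000000000211)) (.leaf 0x100)) (.node (.leaf 0x2000000000211) (.leaf 0x1c06f006852c1641512bc050d5160f56afa6de7b62853635eb0da60e99f01c699ca18e0d16))) (.node (.node (.leaf 0x2000000000211) (.leaf 0x2000000000211)) (.node (.leaf 0x100) (.leaf 0x100)))) (.node (.node (.node (.node (.leaf 0x2000000000211) (.leaf 0x500000113)) (.leaf 0x2000000000211)) (.node (.leaf 0x45bc0000000000000315) (.leaf 0x100))) (.node (.node (.leaf 0x820e08b052410e8876de2851788906a8905990716) (.leaf 0xc0c0a00c660c10a107b08579d414711bbfcd0301e11986360916)) (.node (.leaf 0x2000000000211) (.leaf 0x100)))))) (.node (.node (.node (.node (.node (.node (.leaf 0x100) (.leaf 0x100)) (.leaf 0x100)) (.node (.leaf 0x2000000000211) (.leaf 0x2000000000211))) (.node (.node (.leaf 0x2000000000211) (.leaf 0x100)) (.node (.leaf 0x2000000000211) (.leaf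 0x100)))) (.node (.node (.node (.node (.leaf 0x100) (.leaf 0x2000000000211)) (.leaf 0x2000000000211)) (.node (.leaf 0x100) (.leaf 0x800000705f05606b2d41e715137385768b745156132c920bb1124f62d056b1460c16))) (.node (.node (.leaf 0x100) (.leaf 0x2000000000211)) (.node (.leaf 0x2000000000211) (.leaf 0x2000000000211))))) (.node (.node (.node (.node (.node (.leaf 0x2000000000211) (.leaf 0x2000000000211)) (.leaf 0x100)) (.node (.leaf 0x2000000000211) (.leaf 0x2000000000211))) (.node (.node (.leaf 0x100) (.leaf 0x100)) (.node (.leaf 0x100) (.leaf 0x100)))) (.node (.node (.node (.node (.leaf 0x2000000000211) (.leaf 0x1001702605f03d0454ac09c7db66c8f756db4f4a750a8a45a7004de44b492d0860c16)) (.leaf 0x2000000000211)) (.node (.leaf 0x2000000000211) (.leaf 0x100))) (.node (.node (.leaf 0x10a100000000000000000414) (.leaf 0x100)) (.node (.leaf 0x2000000000211) (.leaf 0x2000000000211)))))))) (.node (.node (.node (.node (.node (.node (.node (.node (.leaf 0x2000000000211) (.leaf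 0x1c06802402901e20d02658040a6027655d1cc1cf41581d9cf0c8980026489324c8406a0d16)) (.leaf 0x2000000000211)) (.node (.leaf 0x100) (.leaf 0x100))) (.node (.node (.leaf 0x100) (.leaf 0x100)) (.node (.leaf 0x100) (.leaf 0x2000000000211)))) (.node (.node (.node (.node (.leaf 0x100) (.leaf 0x100)) (.leaf 0x2000000000211)) (.node (.leaf 0x100) (.leaf 0x100))) (.node (.node (.leaf 0x100) (.leaf 0x2000000000211)) (.node (.leaf 0x2000000000211) (.leaf 0x2000000000211))))) (.node (.node (.node (.node (.node (.leaf 0x2000000000211) (.leaf 0x2000000000211)) (.leaf 0x100)) (.node (.leaf 0x100) (.leaf 0x2000000000211))) (.node (.node (.leaf 0x2000000000211) (.leaf 0x1010a004a2a3f58512b0e2b05200407802471160814)) (.node (.leaf 0x100) (.leaf 0x420a66000000000000000000000515)))) (.node (.node (.node (.node (.leaf 0x100) (.leaf 0x2000000000211)) (.leaf 0x100)) (.node (.leaf 0x14f90000000000000315) (.leaf 0x400000113))) (.node (.node (.leaf 0x100) (.leaf 0x400000113)) (.node (.leaf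 0x100) (.leaf 0x2000000000211)))))) (.node (.node (.node (.node (.node (.node (.leaf 0x100) (.leaf 0x2000000000211)) (.leaf 0x100)) (.node (.leaf 0x2000000000211) (.leaf 0x100))) (.node (.node (.leaf 0x2000000000211) (.leaf 0x100)) (.node (.leaf 0x3e000000000213) (.leaf 0x2000000000211)))) (.node (.node (.node (.node (.leaf 0x100) (.leaf 0x2080c8803a14f0130682840cf4792b2451030715)) (.leaf 0x100)) (.node (.leaf 0x2000000000211) (.leaf 0x400000113))) (.node (.node (.leaf 0x2000000000211) (.leaf 0x100)) (.node (.leaf 0x2000000000211) (.leaf 0x2000000000211))))) (.node (.node (.node (.node (.node (.leaf 0x100) (.leaf 0x2000000000211)) (.leaf 0x100)) (.node (.leaf 0x2000000000211) (.leaf 0x2000000000211))) (.node (.node (.leaf 0x2000000000211) (.leaf 0x2000000000211)) (.node (.leaf 0x100) (.leaf 0x2000000000211)))) (.node (.node (.node (.node (.leaf 0x100) (.leaf 0x100)) (.leaf 0x2000000000211)) (.node (.leaf 0x2000000000211) (.leaf 0x502407c0806884a14e3c8b21a43be484e104138312d1615850a0b0198160b16)))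 (.node (.node (.leaf 0x2000000000211) (.leaf 0x500000113)) (.node (.leaf 0x2000000000211) (.leaf 0x100))))))) (.node (.node (.node (.node (.node (.node (.node (.leaf 0x100) (.leaf 0x782e0422001106639318d133538b0a7a4e3745024d0ea00f866865a70530b16)) (.leaf 0x80200c150801d1d0643dc019adcfd14653e33a35c066a13e3fc890a16)) (.node (.leaf 0x207060d0d05000b2749050e7302428e57151608210e0816) (.leaf 0xa0b0982068051d33d24e97610974be144100e3d1c9ee08570916))) (.node (.node (.leaf 0x100) (.leaf 0x100)) (.node (.leaf 0x2000000000211) (.leaf 0x100)))) (.node (.node (.node (.node (.leaf 0x100) (.leaf 0x100)) (.leaf 0x2000000000211)) (.node (.leaf 0x2000000000211) (.leaf 0x40503c110e019218192ac015e545704131b29011c05668c22fc450a16))) (.node (.node (.leaf 0x2000000000211) (.leaf 0x2000000000211)) (.node (.leaf 0x2000000000211) (.leaf 0x700c0640584283e3ea100b707b418629480941b732c7b03880a3e4950640b16))))) (.node (.node (.node (.node (.node (.leaf 0x2000000000211) (.leaf 0x2000000000211))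 (.leaf 0x2000000000211)) (.node (.leaf 0x2000000000211) (.leaf 0x2002e02201681a20901e283dc61035e44817315d80920ecc28c4740014a58e949140080d16))) (.node (.node (.leaf 0x2000000000211) (.leaf 0x2000000000211)) (.node (.leaf 0x2000000000211) (.leaf 0x100)))) (.node (.node (.node (.node (.leaf 0x100) (.leaf 0x2000000000211)) (.leaf 0x100)) (.node (.leaf 0x2000000000211) (.leaf 0x100))) (.node (.node (.leaf 0x100) (.leaf 0x2000000000211)) (.node (.leaf 0x2000000000211) (.leaf 0x500000113)))))) (.node (.node (.node (.node (.node (.node (.leaf 0x2000000000211) (.leaf 0x2000000000211)) (.leaf 0x100)) (.node (.leaf 0x2000000000211) (.leaf 0xe03010806e2ac4bf0d13b645f94002c1c3da819c58cdec0e0916))) (.node (.node (.leaf 0x100) (.leaf 0x2000000000211)) (.node (.leaf 0x400000113) (.leaf 0x100)))) (.node (.node (.node (.node (.leaf 0x100) (.leaf 0x2000000000211)) (.leaf 0x2000000000211)) (.node (.leaf 0x100) (.leaf 0x8060480410c100841417072408ca6b81919e151c80340c8f200200a16)))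 (.node (.node (.leaf 0x100) (.leaf 0xc0702c030700f0542a03151374917543410272144011305e108510a16)) (.node (.leaf 0x2000000000211) (.leaf 0x50220500083681a1dc46806a44b731452d8d311e420b71904447295a80a0b16))))) (.node (.node (.node (.node (.node (.leaf 0x100) (.leaf 0x2000000000211)) (.leaf 0x100)) (.node (.leaf 0x1815026094210314580c1219567028eda394914d5a8638399d86710986f0b16) (.leaf 0x2000000000211))) (.node (.node (.leaf 0x100) (.leaf 0x100)) (.node (.leaf 0x100) (.leaf 0x100)))) (.node (.node (.node (.node (.leaf 0x100) (.leaf 0xf01402506003e04846908f7b86418b855cb2a49251383558e000d754918ea0770c16)) (.leaf 0x500000113)) (.node (.leaf 0x2000000000211) (.leaf 0x100))) (.node (.node (.leaf 0x400000113) (.leaf 0x12010e0122e2f5e25cb5d49b7a60e21e0906f057930c62e0915)) (.node (.leaf 0xa03068102c014227d2e7420078ca1f511c98609cf0358a6c0916) (.leaf 0x100))))))))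

/-- data -/
def val0p7 : Trie (ℕ) := .node (.node (.node (.node (.node (.node (.node (.node (.node (.leaf 0x100) (.leaf 0x8000000000212)) (.leaf 0x100)) (.node (.leaf 0x100) (.leaf 0x100))) (.node (.node (.leaf 0x100) (.leaf 0x8000000000212)) (.node (.leaf 0x8000000000212) (.leaf 0x100)))) (.node (.node (.node (.node (.leaf 0x100) (.leaf 0x10208081844a14c1478f180115e4b84967490e0716)) (.leaf 0x100)) (.node (.leaf 0x100) (.leaf 0x100))) (.node (.node (.leaf 0x100) (.leaf 0x100)) (.node (.leaf 0x100) (.leaf 0x100))))) (.node (.node (.node (.node (.node (.leaf 0x8000000000212) (.leaf 0x1820068061241e584267d81f154fda0d0c6a19f5ad48b2c34160470a16)) (.leaf 0x100)) (.node (.leaf 0x100) (.leaf 0x100))) (.node (.node (.leaf 0x100) (.leaf 0x111a100000000000000000415)) (.node (.leaf 0x100) (.leaf 0x8000000000212)))) (.node (.node (.node (.node (.leaf 0x100) (.leaf 0x50200e07c181dc1e1f8404f8fc5c8161e62f1700e424832801c0a15)) (.leaf 0x100)) (.node (.leaf 0x8000000000212)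 (.leaf 0x100))) (.node (.node (.leaf 0x8000000000212) (.leaf 0x8000000000212)) (.node (.leaf 0x8000000000212) (.leaf 0x100)))))) (.node (.node (.node (.node (.node (.node (.leaf 0x100) (.leaf 0x8000000000212)) (.leaf 0x100)) (.node (.leaf 0x100) (.leaf 0x100))) (.node (.node (.leaf 0x100) (.leaf 0x40b0342b0e039120b3374fd304a16b44c23338294517588430c060a16)) (.node (.leaf 0x100) (.leaf 0x100)))) (.node (.node (.node (.node (.leaf 0x100) (.leaf 0x8000000000212)) (.leaf 0x8000000000212)) (.node (.leaf 0x100) (.leaf 0x100))) (.node (.node (.leaf 0x100) (.leaf 0x8000000000212)) (.node (.leaf 0x100) (.leaf 0x40901c02058050b4682ccc75a4edcb43938aa23c404718ca41c340a16))))) (.node (.node (.node (.node (.node (.leaf 0x100) (.leaf 0x8000000000212)) (.leaf 0x8000000000212)) (.node (.leaf 0x100) (.leaf 0x100))) (.node (.node (.leaf 0x100) (.leaf 0x10851c325168960e28c79d6c2ad33860615)) (.node (.leaf 0x416a600000000000000000415) (.leaf 0x100)))) (.node (.node (.node (.node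 (.leaf 0x8000000000212) (.leaf 0x8000000000212)) (.leaf 0x4071202331291915437f8b4a65e42ad5b1d8971640c0816)) (.node (.leaf 0x100) (.leaf 0x20381c480f4006cfe1064b165a133c618b605ae1c92a0f0915))) (.node (.node (.leaf 0x100) (.leaf 0x100)) (.node (.leaf 0x8000000000212) (.leaf 0x10040140140e80420a2b87c21a6707a18506b0d9be40001f3c645c9b04a0b16))))))) (.node (.node (.node (.node (.node (.node (.node (.leaf 0x100) (.leaf 0x100)) (.leaf 0x206018380c0a688e520fbe24997084177d46e0971a8ce89e0916)) (.node (.leaf 0x100) (.leaf 0x100))) (.node (.node (.leaf 0x100) (.leaf 0x80e040000ec0e48c4b6989f99148e08e850f2d6a817fe52b9c87f0a16)) (.node (.leaf 0x100) (.leaf 0x100)))) (.node (.node (.node (.node (.leaf 0x100) (.leaf 0x101202c0042a80e2fe65cc005fb4ce2b0214221788c9607b90a985830010b16)) (.leaf 0x100)) (.node (.leaf 0x100) (.leaf 0x100))) (.node (.node (.leaf 0x8000000000212) (.leaf 0x404030081a0a0586c58627028a680713eb450036198ca01c0916)) (.node (.leaf 0x100) (.leaf 0x100))))) (.node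 (.node (.node (.node (.node (.leaf 0x8000000000212) (.leaf 0x103c03e06c11f0a221a75601a58cb6967d4133c531f12f37034c7743b46331360c16)) (.leaf 0x100)) (.node (.leaf 0x100) (.leaf 0x100))) (.node (.node (.leaf 0x100) (.leaf 0x100)) (.node (.leaf 0x100) (.leaf 0x8000000000212)))) (.node (.node (.node (.node (.leaf 0x100) (.leaf 0x108250220404581a3331b48134bcc53bafb2184b6b00ae2111fab2edf1490b16)) (.leaf 0x100)) (.node (.leaf 0x100) (.leaf 0x8000000000212))) (.node (.node (.leaf 0x100) (.leaf 0x8010100200404034f9220705d074a38881951d3684d37cb74d0790a16)) (.node (.leaf 0x100) (.leaf 0x8000000000212)))))) (.node (.node (.node (.node (.node (.node (.leaf 0x8000000000212) (.leaf 0x8000000000212)) (.leaf 0x8000000000212)) (.node (.leaf 0x100) (.leaf 0x100))) (.node (.node (.leaf 0x100) (.leaf 0x8000000000212)) (.node (.leaf 0x100) (.leaf 0x100)))) (.node (.node (.node (.node (.leaf 0x8000000000212) (.leaf 0x100)) (.leaf 0x100)) (.node (.leaf 0x8000000000212) (.leaf 0x8000000000212)))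 (.node (.node (.leaf 0x100) (.leaf 0x100)) (.node (.leaf 0x100) (.leaf 0x100))))) (.node (.node (.node (.node (.node (.leaf 0x100) (.leaf 0x100)) (.leaf 0x100)) (.node (.leaf 0x100) (.leaf 0x100))) (.node (.node (.leaf 0x100) (.leaf 0x100)) (.node (.leaf 0x100) (.leaf 0x8000000000212)))) (.node (.node (.node (.node (.leaf 0x100) (.leaf 0xa06600b0ba0660862c206d1c93ea70147d9b70fb39e5985192f04a02d864b09c0c16)) (.leaf 0x100)) (.node (.leaf 0x100) (.leaf 0x400800c08c0d027180308ce880ab70cf2f8c53f17f0b383e5eca39059370b16))) (.node (.node (.leaf 0x8000000000212) (.leaf 0x8000000000212)) (.node (.leaf 0x100) (.leaf 0x100)))))))) (.node (.node (.node (.node (.node (.node (.node (.node (.leaf 0x100) (.leaf 0x34076032027022e0d63228888d2c0b443c190167c168165d29467810e81390dcc380520d16)) (.leaf 0x100)) (.node (.leaf 0x8000000000212) (.leaf 0x100))) (.node (.node (.leaf 0x100) (.leaf 0x100)) (.node (.leaf 0x100) (.leaf 0x100)))) (.node (.node (.node (.node (.leaf 0x100) (.leaf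 0x8000000000212)) (.leaf 0x100)) (.node (.leaf 0x8000000000212) (.leaf 0x1400000115))) (.node (.node (.leaf 0x100) (.leaf 0x100)) (.node (.leaf 0x100) (.leaf 0x2604502681a41cc09d30d0738b6e08566f9f45c222d70c14fd05020706bf1608e3a0470d16))))) (.node (.node (.node (.node (.node (.leaf 0x100) (.leaf 0x100)) (.leaf 0x8000000000212)) (.node (.leaf 0x100) (.leaf 0x100))) (.node (.node (.leaf 0x100) (.leaf 0x8000000000212)) (.node (.leaf 0x8000000000212) (.leaf 0x100)))) (.node (.node (.node (.node (.leaf 0x8000000000212) (.leaf 0x8040b0708626849696a15609d5aa4923c510075062580e750916)) (.leaf 0x8000000000212)) (.node (.leaf 0x100) (.leaf 0x100))) (.node (.node (.leaf 0x8000000000212) (.leaf 0x100)) (.node (.leaf 0x8000000000212) (.leaf 0x100)))))) (.node (.node (.node (.node (.node (.node (.leaf 0x100) (.leaf 0x100)) (.leaf 0x100)) (.node (.leaf 0x100) (.leaf 0x8000000000212))) (.node (.node (.leaf 0x100) (.leaf 0x8000000000212)) (.node (.leaf 0x100) (.leaf 0x101800b07a01c06a2cd1514ee2978a4686b6822c33db2d30803f9f34b76020e80c16))))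 (.node (.node (.node (.node (.leaf 0x100) (.leaf 0x201000241a072f004ca174f9957e1d1757072135e120c60d0916)) (.leaf 0x8000000000212)) (.node (.leaf 0x100) (.leaf 0x140705c1d1182d128c9304cf0bc632e45809a4a06453598481d40c0a16))) (.node (.node (.leaf 0x313a100000000000000000415) (.leaf 0x100)) (.node (.leaf 0x100) (.leaf 0x100))))) (.node (.node (.node (.node (.node (.leaf 0x100) (.leaf 0xa030380400052b174ae5b35894c01e6ada95c21740b004250916)) (.leaf 0x100)) (.node (.leaf 0x100) (.leaf 0x100))) (.node (.node (.leaf 0x100) (.leaf 0x100)) (.node (.leaf 0x100) (.leaf 0x100)))) (.node (.node (.node (.node (.leaf 0x100) (.leaf 0x8000000000212)) (.leaf 0x24ba0000000000000315)) (.node (.leaf 0x100) (.leaf 0x100))) (.node (.node (.leaf 0x100) (.leaf 0x100)) (.node (.leaf 0x100) (.leaf 0x8000000000212))))))) (.node (.node (.node (.node (.node (.node (.node (.leaf 0x8000000000212) (.leaf 0x100)) (.leaf 0x228000000000215)) (.node (.leaf 0x8000000000212) (.leaf 0x100))) (.node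 (.node (.leaf 0x100) (.leaf 0x8000000000212)) (.node (.leaf 0x100) (.leaf 0x100)))) (.node (.node (.node (.node (.leaf 0x100) (.leaf 0x100)) (.leaf 0x100)) (.node (.leaf 0x100) (.leaf 0x100))) (.node (.node (.leaf 0x100) (.leaf 0x100)) (.node (.leaf 0x100) (.leaf 0x100))))) (.node (.node (.node (.node (.node (.leaf 0x100) (.leaf 0x1c04502c0e50020bf27e0956db0e6813605b0f1f13f6abc38d063a3847a86d1100c16)) (.leaf 0x100)) (.node (.leaf 0x357d0000000000000315) (.leaf 0x100))) (.node (.node (.leaf 0x100) (.leaf 0x100)) (.node (.leaf 0x100) (.leaf 0x100)))) (.node (.node (.node (.node (.leaf 0x100) (.leaf 0x4020002820082e808cc1850199801e16d6c74145d91cc80e0916)) (.leaf 0x100)) (.node (.leaf 0x100) (.leaf 0x16024098278305fe12d722bf6e48d19c1ce26f454b603ecea66d8f01e0b15))) (.node (.node (.leaf 0x100) (.leaf 0x100)) (.node (.leaf 0x2030811150938074d0363298f1f38e2510f702a51000816) (.leaf 0x100)))))) (.node (.node (.node (.node (.node (.node (.leaf 0x100) (.leaf 0x100)) (.leaf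 0x8000000000212)) (.node (.leaf 0x100) (.leaf 0x100))) (.node (.node (.leaf 0x8000000000212) (.leaf 0x100)) (.node (.leaf 0x100) (.leaf 0x8000000000212)))) (.node (.node (.node (.node (.leaf 0x100) (.leaf 0x9004090280b350143144c48cc93ac5b0da020b4277507e37c010a15)) (.leaf 0x100)) (.node (.leaf 0x100) (.leaf 0x100))) (.node (.node (.leaf 0x8000000000212) (.leaf 0x8000000000212)) (.node (.leaf 0x100) (.leaf 0x200e0580a0bc184c4105382f598d63e88c0aab705444b34a94901f0a16))))) (.node (.node (.node (.node (.node (.leaf 0x100) (.leaf 0x100)) (.leaf 0x8000000000212)) (.node (.leaf 0x100) (.leaf 0x9004090280b350143144c48cc93ac5b0da020b4277507e37c010a15))) (.node (.node (.leaf 0x100) (.leaf 0x8000000000212)) (.node (.leaf 0x100) (.leaf 0x100)))) (.node (.node (.node (.node (.leaf 0x8000000000212) (.leaf 0x6807001e817e065c1f23b8424059600038549726dd105c64bc7d7959480a7c75d1bd75281b30e16)) (.leaf 0x100)) (.node (.leaf 0x100) (.leaf 0x100))) (.node (.node (.leaf 0x100) (.leaf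 0x8000000000212)) (.node (.leaf 0x100) (.leaf 0x100))))))))

/-- data -/
def val0p8 : Trie (ℕ) := .node (.node (.node (.node (.node (.node (.node (.node (.node (.leaf 0x2000000000211) (.leaf 0x100)) (.leaf 0x100)) (.node (.leaf 0x100) (.leaf 0x2000000000211))) (.node (.node (.leaf 0x400000113) (.leaf 0x100)) (.node (.leaf 0x100) (.leaf 0x100)))) (.node (.node (.node (.node (.leaf 0x100) (.leaf 0x2000000000211)) (.leaf 0x2000000000211)) (.node (.leaf 0x2000000000211) (.leaf 0x2000000000211))) (.node (.node (.leaf 0x2000000000211) (.leaf 0x2000000000211)) (.node (.leaf 0x2000000000211) (.leaf 0x2000000000211))))) (.node (.node (.node (.node (.node (.leaf 0x100) (.leaf 0x2000000000211)) (.leaf 0x100)) (.node (.leaf 0x2000000000211) (.leaf 0x100))) (.node (.node (.leaf 0x2000000000211) (.leaf 0x100)) (.node (.leaf 0x2000000000211) (.leaf 0x40603020160e0c97c87084d14164411e4cc3221250cc160e0916)))) (.node (.node (.node (.node (.leaf 0x100) (.leaf 0x101c0d090132481a2345767d25784211da861c40c4e0ae37c0f0a15))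 (.leaf 0x2000000000211)) (.node (.leaf 0x2000000000211) (.leaf 0x2000000000211))) (.node (.node (.leaf 0x100) (.leaf 0x2000000000211)) (.node (.leaf 0x400000113) (.leaf 0x2000000000211)))))) (.node (.node (.node (.node (.node (.node (.leaf 0x100) (.leaf 0x400000113)) (.leaf 0x207028181c005380413492290faa5840691120d2512816060916)) (.node (.leaf 0x100) (.leaf 0x2000000000211))) (.node (.node (.leaf 0x100) (.leaf 0x101401c0401982222e2bcc410a9a4b52fb0741c398cbb089a5a8adaf0a50b16)) (.node (.leaf 0x2000000000211) (.leaf 0x26074000054813615227a82213e81666e02782720270309dd44c140d69299cd585411f0d16)))) (.node (.node (.node (.node (.leaf 0x2000000000211) (.leaf 0x20300c0cc161fc042c0056b1588782625eb7200025e4d72d0680a15)) (.leaf 0x2000000000211)) (.node (.leaf 0x100) (.leaf 0x2000000000211))) (.node (.node (.leaf 0x2000000000211) (.leaf 0x400000113)) (.node (.leaf 0x2000000000211) (.leaf 0x100))))) (.node (.node (.node (.node (.node (.leaf 0x100) (.leaf 0x2000000000211))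 (.leaf 0x100)) (.node (.leaf 0x100) (.leaf 0x2000000000211))) (.node (.node (.leaf 0x2000000000211) (.leaf 0x100)) (.node (.leaf 0x2000000000211) (.leaf 0x100)))) (.node (.node (.node (.node (.leaf 0x400000113) (.leaf 0x2000000000211)) (.leaf 0x100)) (.node (.leaf 0x100) (.leaf 0x100))) (.node (.node (.leaf 0x2000000000211) (.leaf 0x100)) (.node (.leaf 0x10100416d02c6b4a473420415) (.leaf 0x1808040140842209c3b1817c941aad2041147d51883b40d1d2306c0a16))))))) (.node (.node (.node (.node (.node (.node (.node (.leaf 0x2000000000211) (.leaf 0x2000000000211)) (.leaf 0x2000000000211)) (.node (.leaf 0x2000000000211) (.leaf 0x100))) (.node (.node (.leaf 0x2000000000211) (.leaf 0x100)) (.node (.leaf 0x100) (.leaf 0x1e03502181541a4089273020071e123431964d3161390e9403049a0075660da09a60350d16)))) (.node (.node (.node (.node (.leaf 0x100) (.leaf 0x100)) (.leaf 0x2000000000211)) (.node (.leaf 0x100) (.leaf 0xc00060141e044824013286198c78810ce343872060c1f27c0916))) (.node (.node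 (.leaf 0x100) (.leaf 0x2000000000211)) (.node (.leaf 0x2000000000211) (.leaf 0x100))))) (.node (.node (.node (.node (.node (.leaf 0x2000000000211) (.leaf 0x2000000000211)) (.leaf 0x2000000000211)) (.node (.leaf 0x100) (.leaf 0x100))) (.node (.node (.leaf 0x2000000000211) (.leaf 0x2000000000211)) (.node (.leaf 0x2000000000211) (.leaf 0x219200000000000000000414)))) (.node (.node (.node (.node (.leaf 0x400000113) (.leaf 0x2000000000211)) (.leaf 0x100)) (.node (.leaf 0x500000113) (.leaf 0x2000000000211))) (.node (.node (.leaf 0x2000000000211) (.leaf 0x100)) (.node (.leaf 0x100) (.leaf 0x100)))))) (.node (.node (.node (.node (.node (.node (.leaf 0x100) (.leaf 0x18060701815c2c124ca308d00c0642e8570964906854594471d80b0a16)) (.leaf 0x100)) (.node (.leaf 0x100) (.leaf 0x2000000000211))) (.node (.node (.leaf 0x100) (.leaf 0x100)) (.node (.leaf 0x800a147094c18b9376ed78213e8c03987888d0716) (.leaf 0x2000000000211)))) (.node (.node (.node (.node (.leaf 0x100) (.leaf 0x100))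 (.leaf 0x100)) (.node (.leaf 0x100) (.leaf 0x100))) (.node (.node (.leaf 0x2000000000211) (.leaf 0x100)) (.node (.leaf 0x2000000000211) (.leaf 0x100))))) (.node (.node (.node (.node (.node (.leaf 0x100) (.leaf 0x4000003c1c0f100fc9ec75ba85f2301a7182a1b43148de180916)) (.leaf 0x2000000000211)) (.node (.leaf 0x100) (.leaf 0x3100216c070531b41250b8cd41e42e3a89b2c93a8f18338784a91587e0b15))) (.node (.node (.leaf 0x2000000000211) (.leaf 0x100)) (.node (.leaf 0x12a200000000000000000414) (.leaf 0x2000068110fc02454cb1b5468a9706c02d19b7b14465234971f8030a16)))) (.node (.node (.node (.node (.leaf 0x100) (.leaf 0x100)) (.leaf 0x2000000000211)) (.node (.leaf 0x100) (.leaf 0x34000000000213))) (.node (.node (.leaf 0x209400000000000000000414) (.leaf 0x100)) (.node (.leaf 0x100) (.leaf 0xb0260140860b10a026109a4500eb7b45f8abe15048bb6942c0346213ed4d211c0c16)))))))) (.node (.node (.node (.node (.node (.node (.node (.node (.leaf 0x2000000000211) (.leaf 0x28075000053c13814d27b021d3e61656dfa77e71e26f30a5d48c120d592a1cd98521200d16))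 (.leaf 0x2000000000211)) (.node (.leaf 0x100) (.leaf 0x100))) (.node (.node (.leaf 0x2000000000211) (.leaf 0x2000000000211)) (.node (.leaf 0x2000000000211) (.leaf 0x100)))) (.node (.node (.node (.node (.leaf 0x2000000000211) (.leaf 0x500000113)) (.leaf 0x2000000000211)) (.node (.leaf 0x100) (.leaf 0x2000000000211))) (.node (.node (.leaf 0x2000000000211) (.leaf 0x100)) (.node (.leaf 0x40300541704687611a5687c3883e4602581172e7b14e900843e3ecb504d0b16) (.leaf 0x100))))) (.node (.node (.node (.node (.node (.leaf 0x100) (.leaf 0x2000000000211)) (.leaf 0x2000000000211)) (.node (.leaf 0x2000000000211) (.leaf 0x100))) (.node (.node (.leaf 0x2000000000211) (.leaf 0x400000113)) (.node (.leaf 0x2000000000211) (.leaf 0x2000000000211)))) (.node (.node (.node (.node (.leaf 0x2000000000211) (.leaf 0x141c014140040a9fe3d36573c89c42f8dc370802559544cb3618770a16)) (.leaf 0x100)) (.node (.leaf 0x2000000000211) (.leaf 0x100))) (.node (.node (.leaf 0x104050e0e0837084e04642a902037e152106f2952000816)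 (.leaf 0x30000007036723cd49720e08ba8424b0615)) (.node (.leaf 0x100) (.leaf 0x2000000000211)))))) (.node (.node (.node (.node (.node (.node (.leaf 0x2000000000211) (.leaf 0x2000000000211)) (.leaf 0x2000000000211)) (.node (.leaf 0x100) (.leaf 0x2000000000211))) (.node (.node (.leaf 0x2000000000211) (.leaf 0x103000a0b0c47394c97ba5e406a2ea7290c6a4757b20816)) (.node (.leaf 0x2000000000211) (.leaf 0x80200405058070a0a43541aa0dedec46f532aa45c2450950464850a16)))) (.node (.node (.node (.node (.leaf 0x2000000000211) (.leaf 0x2000000000211)) (.leaf 0x100)) (.node (.leaf 0x2000000000211) (.leaf 0x100))) (.node (.node (.leaf 0x100) (.leaf 0x2000000000211)) (.node (.leaf 0x2000000000211) (.leaf 0x100))))) (.node (.node (.node (.node (.node (.leaf 0x2000000000211) (.leaf 0x80400c170801f1d0643dc019adcfd14653e33a35c066a13e3fc890a16)) (.leaf 0x100)) (.node (.leaf 0x100) (.leaf 0x100))) (.node (.node (.leaf 0x10a100000000000000000414) (.leaf 0x100)) (.node (.leaf 0x100) (.leaf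 0x2000000000211)))) (.node (.node (.node (.node (.leaf 0x2000000000211) (.leaf 0x100)) (.leaf 0x100)) (.node (.leaf 0x2000000000211) (.leaf 0x100))) (.node (.node (.leaf 0x2000000000211) (.leaf 0x14050641713827128c9304cf0bc632e45809a4a06453598481d40c0a16)) (.node (.leaf 0x100) (.leaf 0x100))))))) (.node (.node (.node (.node (.node (.node (.node (.leaf 0x100) (.leaf 0x2000000000211)) (.leaf 0x2000000000211)) (.node (.leaf 0x500000113) (.leaf 0xa0005828200247a3c15276219076820d6383671058bdf47b0916))) (.node (.node (.leaf 0x2000000000211) (.leaf 0x2000000000211)) (.node (.leaf 0x2000000000211) (.leaf 0x2000000000211)))) (.node (.node (.node (.node (.leaf 0x2000000000211) (.leaf 0x10a100000000000000000414)) (.leaf 0x100)) (.node (.leaf 0x100) (.leaf 0x2000000000211))) (.node (.node (.leaf 0x100) (.leaf 0x100)) (.node (.leaf 0x702f02905b08e0730fe0731573d13d52c36630b81788681af0222e41c22190280c16) (.leaf 0x1500000115))))) (.node (.node (.node (.node (.node (.leaf 0x2000000000211)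 (.leaf 0x200000000000215)) (.leaf 0x100)) (.node (.leaf 0x100) (.leaf 0x1601204c0200bd0643bb0d829809e3442f23640360fb8f30ce09c7951952ea02f0c16))) (.node (.node (.leaf 0x100) (.leaf 0x100)) (.node (.leaf 0x2000000000211) (.leaf 0x2000000000211)))) (.node (.node (.node (.node (.leaf 0x2000000000211) (.leaf 0x100)) (.leaf 0x100)) (.node (.leaf 0x100) (.leaf 0x2000000000211))) (.node (.node (.leaf 0x100) (.leaf 0x2000000000211)) (.node (.leaf 0x100) (.leaf 0x2000000000211)))))) (.node (.node (.node (.node (.node (.node (.leaf 0x100) (.leaf 0x100)) (.leaf 0x2000000000211)) (.node (.leaf 0x100) (.leaf 0x2000000000211))) (.node (.node (.leaf 0x100) (.leaf 0x1817026094210313a81510d88e6b68addf9031695986c81b9a46512e8030b16)) (.node (.leaf 0x106050e0e0837084e04642a902037e152106f2952000816) (.leaf 0x100)))) (.node (.node (.node (.node (.leaf 0x2000000000211) (.leaf 0x502c0b0d0131f012254395f51d79c1d1926617c0e4f0b826c4b0a15)) (.leaf 0x100)) (.node (.leaf 0x2000000000211)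 (.leaf 0x2000000000211))) (.node (.node (.leaf 0x100) (.leaf 0x2000000000211)) (.node (.leaf 0x2000000000211) (.leaf 0x2000000000211))))) (.node (.node (.node (.node (.node (.leaf 0x100) (.leaf 0x2000000000211)) (.leaf 0x500000113)) (.node (.leaf 0x2000000000211) (.leaf 0x100))) (.node (.node (.leaf 0x2000000000211) (.leaf 0x100)) (.node (.leaf 0x2000000000211) (.leaf 0x482504e004370171ba5cc1a1cfbe0fb9540f61dc4a4a899b3ae7b5540020b16)))) (.node (.node (.node (.node (.leaf 0x100) (.leaf 0x2000000000211)) (.leaf 0x2000000000211)) (.node (.leaf 0x100) (.leaf 0x100))) (.node (.node (.leaf 0x100) (.leaf 0x100)) (.node (.leaf 0x2000000000211) (.leaf 0x2000000000211))))))))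

/-- data -/
def val0p9 : Trie (ℕ) := .node (.node (.node (.node (.node (.node (.node (.node (.node (.leaf 0x100) (.leaf 0x100)) (.leaf 0x8000000000212)) (.node (.leaf 0x8000000000212) (.leaf 0x100))) (.node (.node (.leaf 0x100) (.leaf 0x100)) (.node (.leaf 0x100) (.leaf 0x2605e004063818e1822a088b98ac1bf5051e630583605f6ccb59cc068c249b4e08c4150d16)))) (.node (.node (.node (.node (.leaf 0x8000000000212) (.leaf 0x100)) (.leaf 0x100)) (.node (.leaf 0x100) (.leaf 0x100))) (.node (.node (.leaf 0x100) (.leaf 0x100)) (.node (.leaf 0x100) (.leaf 0x100))))) (.node (.node (.node (.node (.node (.leaf 0x100) (.leaf 0x8070220b41f0353506d48b8432ce6548d8721350f82f823460230958250b16)) (.leaf 0x8000000000212)) (.node (.leaf 0x100) (.leaf 0x100))) (.node (.node (.leaf 0x100) (.leaf 0x100)) (.node (.leaf 0x100) (.leaf 0x100)))) (.node (.node (.node (.node (.leaf 0x100) (.leaf 0x601c0d088172080b204555bd196941120a7419c0748096304150a15)) (.leaf 0x100)) (.node (.leaf 0x100) (.leaf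 0x100))) (.node (.node (.leaf 0x100) (.leaf 0x100)) (.node (.leaf 0x100) (.leaf 0xa00f02a03207904e3e70253844013162a05101f22d34433040478cb1f149c0890c16)))))) (.node (.node (.node (.node (.node (.node (.leaf 0x100) (.leaf 0x3020f0830039c2e3782d1951039639e7216f64c5d130816)) (.leaf 0x8000000000212)) (.node (.leaf 0x8000000000212) (.leaf 0x802080605a2004b0078649eae68a4d151b86a56159f046490916))) (.node (.node (.leaf 0x8000000000212) (.leaf 0x100)) (.node (.leaf 0xc020400804062a978b05c36098be1d6b5a55a22738ac02260916) (.leaf 0x8000000000212)))) (.node (.node (.node (.node (.leaf 0x100) (.leaf 0x100)) (.leaf 0x20002834200f4c070a23c68a1cbe330dc7830067a130e6090916)) (.node (.leaf 0x100) (.leaf 0x100))) (.node (.node (.leaf 0x100) (.leaf 0x100)) (.node (.leaf 0x180a0302603424055401080f79d299d445111461748c118c82ec010a16) (.leaf 0x8000000000212))))) (.node (.node (.node (.node (.node (.leaf 0x8000000000212) (.leaf 0x100)) (.leaf 0x40d03c000f80d4904c694a098d47e04e75132e6a418fe92c9c4800a16))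 (.node (.leaf 0x8000000000212) (.leaf 0x402020080a061682c841c4d239ac0314ec434229a9549c220916))) (.node (.node (.leaf 0x100) (.leaf 0x8000000000212)) (.node (.leaf 0x100) (.leaf 0x100)))) (.node (.node (.node (.node (.leaf 0x100) (.leaf 0xf02201506e00b0620280e84120763d82cc8300f63e96453ca0b03ff28b4160450c16)) (.leaf 0x100)) (.node (.leaf 0x8000000000212) (.leaf 0x8000000000212))) (.node (.node (.leaf 0x100) (.leaf 0x100)) (.node (.leaf 0x100) (.leaf 0x100))))))) (.node (.node (.node (.node (.node (.node (.node (.leaf 0x100) (.leaf 0x605008081a00250fc4651268f4ee241546072013a0708a0e0916)) (.leaf 0x100)) (.node (.leaf 0x100) (.leaf 0x8000000000212))) (.node (.node (.leaf 0x100) (.leaf 0x8000000000212)) (.node (.leaf 0x100) (.leaf 0x8000000000212)))) (.node (.node (.node (.node (.leaf 0x8000000000212) (.leaf 0x8000000000212)) (.leaf 0x100)) (.node (.leaf 0x8000000000212) (.leaf 0x8000000000212))) (.node (.node (.leaf 0x100) (.leaf 0x100)) (.node (.leaf 0x100) (.leaf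 0x8000000000212))))) (.node (.node (.node (.node (.node (.leaf 0x100) (.leaf 0x2010058080bc164c4105382f598d63e88c0aab705444b34a94901f0a16)) (.leaf 0x100)) (.node (.leaf 0x8000000000212) (.leaf 0x8000000000212))) (.node (.node (.leaf 0x100) (.leaf 0x100)) (.node (.leaf 0x100) (.leaf 0x20101804100517030821b4ca35aa04156c832219b1589a210916)))) (.node (.node (.node (.node (.leaf 0x8000000000212) (.leaf 0x1c1b084041800b0c0af19c9d931e41180a151a23e4db2d8ab578590a16)) (.leaf 0x8000000000212)) (.node (.leaf 0x100) (.leaf 0x100))) (.node (.node (.leaf 0x100) (.leaf 0x8000000000212)) (.node (.leaf 0x8000000000212) (.leaf 0x100)))))) (.node (.node (.node (.node (.node (.node (.leaf 0x100) (.leaf 0x101103811094075f08c61df8775379ad2f4e24255c05f40f87ac000a16)) (.leaf 0x100)) (.node (.leaf 0x8000000000212) (.leaf 0x100))) (.node (.node (.leaf 0x100) (.leaf 0x100)) (.node (.leaf 0x100) (.leaf 0x100)))) (.node (.node (.node (.node (.leaf 0x100) (.leaf 0x8000000000212)) (.leaf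 0x8000000000212)) (.node (.leaf 0x100) (.leaf 0x100))) (.node (.node (.leaf 0x100) (.leaf 0x8000000000212)) (.node (.leaf 0x100) (.leaf 0x100))))) (.node (.node (.node (.node (.node (.leaf 0x8000000000212) (.leaf 0x8000000000212)) (.leaf 0x181502608c220313a81510d88e6b68addf9031695986c81b9a46512e8030b16)) (.node (.leaf 0x8000000000212) (.leaf 0x8000000000212))) (.node (.node (.leaf 0x100) (.leaf 0x8000000000212)) (.node (.leaf 0x8000000000212) (.leaf 0x8000000000212)))) (.node (.node (.node (.node (.leaf 0x100) (.leaf 0xd81b08a0e046008040c81185072f6018038707d6ec9bb04c96a035a00ed0b16)) (.leaf 0x100)) (.node (.leaf 0x8000000000212) (.leaf 0x100))) (.node (.node (.leaf 0x100) (.leaf 0x3000a043001837e06e2b6947c42816277d2509ab426a02847c405c1d3401960c90c1de0d16)) (.node (.leaf 0x8000000000212) (.leaf 0x8000000000212)))))))) (.node (.node (.node (.node (.node (.node (.node (.node (.leaf 0x100) (.leaf 0x8000000000212)) (.leaf 0x340206c2a0901631d0d202811e01b0b56e256ee2984945413550b50a16))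 (.node (.leaf 0x100) (.leaf 0x100))) (.node (.node (.leaf 0x100) (.leaf 0x100)) (.node (.leaf 0x100) (.leaf 0x8000000000212)))) (.node (.node (.node (.node (.leaf 0x100) (.leaf 0x500e0540303981e2821046d02c4d44a1320ae0050cc320055c237c4e05a0b16)) (.leaf 0x80c0402a0ec3616cbe3d0e8318ac680432374d2805e7c487338000a16)) (.node (.leaf 0x100) (.leaf 0x100))) (.node (.node (.leaf 0x100) (.leaf 0x8000000000212)) (.node (.leaf 0x8000000000212) (.leaf 0x7001f026003a07dc0ee2bec3a038083dc6e913ccc8880b443174fd54183cf8f24e3b61a025b0e16))))) (.node (.node (.node (.node (.node (.leaf 0x8000000000212) (.leaf 0x2c2206c560a83a1445ca19c51703c9212c774c57b0b0c0cdf8c87f0a16)) (.leaf 0x100)) (.node (.leaf 0x100) (.leaf 0x8000000000212))) (.node (.node (.leaf 0x102000000000215) (.leaf 0xb03903b0750c80951a80561f94bb777537a4b08e1dacfc21907a44a35831b0930c16)) (.node (.leaf 0x100) (.leaf 0x40d00c0b0180d420a24e47e7852f87ccf2228c2241fad8e85ec1e0a16)))) (.node (.node (.node (.node (.leaf 0x100)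 (.leaf 0x8000000000212)) (.leaf 0x380302a0ac1a03b09a4ac68a5f0d60b4c48dc0233b0298a72f41c80005b0b16)) (.node (.leaf 0x100) (.leaf 0x4014140800816db21005d51c51a34b11d0762ec6a0946e07c030a15))) (.node (.node (.leaf 0x8000000000212) (.leaf 0x100)) (.node (.leaf 0x1e05801904102a614431190293d00e13b01a49e9c20245dd7fd1182ac81f93850d807c0d16) (.leaf 0x10050281b04411318822d43c825315246d10ebc0b007488d62f46f0a16)))))) (.node (.node (.node (.node (.node (.node (.leaf 0x100) (.leaf 0x100)) (.leaf 0x100)) (.node (.leaf 0x100) (.leaf 0x100))) (.node (.node (.leaf 0x100) (.leaf 0xad000000000214)) (.node (.leaf 0x100) (.leaf 0x100)))) (.node (.node (.node (.node (.leaf 0x100) (.leaf 0x3005e0168132058c17a279c24a36503204c78ca08a202902c2e8a539100b981d49e74f683e30e16)) (.leaf 0x100)) (.node (.leaf 0x18090481109c00364cb0e544590f65f0230d25909c53234671e82b0a16) (.leaf 0x100))) (.node (.node (.leaf 0x100) (.leaf 0x100)) (.node (.leaf 0x100) (.leaf 0x8000000000212))))) (.node (.node (.node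 (.node (.node (.leaf 0x100) (.leaf 0x100)) (.leaf 0x100)) (.node (.leaf 0x8000000000212) (.leaf 0x8000000000212))) (.node (.node (.leaf 0x8000000000212) (.leaf 0x8000000000212)) (.node (.leaf 0x8000000000212) (.leaf 0x100)))) (.node (.node (.node (.node (.leaf 0x100) (.leaf 0x8000000000212)) (.leaf 0x8000000000212)) (.node (.leaf 0x100) (.leaf 0xa0b028681616941d140e20889344674bc6d2c44599b554410916))) (.node (.node (.leaf 0x100) (.leaf 0x100)) (.node (.leaf 0x8000000000212) (.leaf 0x24f80000000000000315))))))) (.node (.node (.node (.node (.node (.node (.node (.leaf 0x100) (.leaf 0x100)) (.leaf 0x100)) (.node (.leaf 0x100) (.leaf 0x2a05302e81d42380cf3cf0108d7631c3079594d3638b19a47604063378600d504da2fd0d16))) (.node (.node (.leaf 0x100) (.leaf 0x100)) (.node (.leaf 0x100) (.leaf 0x100)))) (.node (.node (.node (.node (.leaf 0x100) (.leaf 0x8000000000212)) (.leaf 0x8000000000212)) (.node (.leaf 0x100) (.leaf 0x100))) (.node (.node (.leaf 0x8000000000212) (.leaf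 0x100)) (.node (.leaf 0x100) (.leaf 0x8000000000212))))) (.node (.node (.node (.node (.node (.leaf 0x100) (.leaf 0x8000000000212)) (.leaf 0x8000000000212)) (.node (.leaf 0x8000000000212) (.leaf 0x100))) (.node (.node (.leaf 0x100) (.leaf 0x8000000000212)) (.node (.leaf 0x100) (.leaf 0x180702606c2102b2bc1089383c5b67b53688b0a9018278085884a8c38350b16)))) (.node (.node (.node (.node (.leaf 0x100) (.leaf 0x8000000000212)) (.leaf 0x100)) (.node (.leaf 0x8000000000212) (.leaf 0x100))) (.node (.node (.leaf 0x100) (.leaf 0x100)) (.node (.leaf 0x8000000000212) (.leaf 0x100)))))) (.node (.node (.node (.node (.node (.node (.leaf 0x8000000000212) (.leaf 0xa040482414134098248c9bcd7756aa114801ca4a6a4178e50916)) (.leaf 0x100)) (.node (.leaf 0x8000000000212) (.leaf 0x100))) (.node (.node (.leaf 0x100) (.leaf 0x8000000000212)) (.node (.leaf 0x40c00c080180238c954888b6a8ea7c8ce2260f2a8129dcc95c82f0a16) (.leaf 0x8000000000212)))) (.node (.node (.node (.node (.leaf 0x100) (.leaf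 0x8000000000212)) (.leaf 0x100)) (.node (.leaf 0x100) (.leaf 0x40d03c010f80d4904c694a098d47e04e75132e6a418fe92c9c4800a16))) (.node (.node (.leaf 0x100) (.leaf 0x100)) (.node (.leaf 0x100) (.leaf 0x100))))) (.node (.node (.node (.node (.node (.leaf 0x100) (.leaf 0x4020402c2a07029b89601649fe4e472a2388e08231a0b6130916)) (.leaf 0x100)) (.node (.leaf 0x100) (.leaf 0x11a300000000000000000414))) (.node (.node (.leaf 0x100) (.leaf 0x100)) (.node (.leaf 0x100) (.leaf 0x8000000000212)))) (.node (.node (.node (.node (.leaf 0x100) (.leaf 0x5a092022870802a18e2f38eb58784d78182c02c886ba48dbe5d0dc074ad3a2b5e6c18b0d16)) (.leaf 0x100)) (.node (.leaf 0x8000000000212) (.leaf 0x8000000000212))) (.node (.node (.leaf 0x100) (.leaf 0x100)) (.node (.leaf 0x100) (.leaf 0x100))))))))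

/-- data -/
def val0p10 : Trie (ℕ) := .node (.node (.node (.node (.node (.node (.node (.node (.node (.leaf 0x100) (.leaf 0x2000000000211)) (.leaf 0x100)) (.node (.leaf 0x2000000000211) (.leaf 0x2000000000211))) (.node (.node (.leaf 0x100) (.leaf 0x2000000000211)) (.node (.leaf 0x2000000000211) (.leaf 0x2000000000211)))) (.node (.node (.node (.node (.leaf 0x500000113) (.leaf 0x100)) (.leaf 0x100)) (.node (.leaf 0x2000000000211) (.leaf 0x2000000000211))) (.node (.node (.leaf 0x100) (.leaf 0x2000000000211)) (.node (.leaf 0x500000113) (.leaf 0x100))))) (.node (.node (.node (.node (.node (.leaf 0x2000000000211) (.leaf 0x40a040242a024c004031c3d1f3dc4949e7d08011f94c140e0916)) (.leaf 0x400000113)) (.node (.leaf 0x2000000000211) (.leaf 0x2000000000211))) (.node (.node (.leaf 0x100) (.leaf 0x2000000000211)) (.node (.leaf 0x2000000000211) (.leaf 0x100)))) (.node (.node (.node (.node (.leaf 0x2000000000211) (.leaf 0x2000000000211)) (.leaf 0x2000000000211)) (.node (.leaf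 0x100) (.leaf 0x700000806005506e1f7106090494964754a1e19f1fdd9719a1773d73775220f50c16))) (.node (.node (.leaf 0x2000000000211) (.leaf 0x2000000000211)) (.node (.leaf 0x2000000000211) (.leaf 0x100)))))) (.node (.node (.node (.node (.node (.node (.leaf 0x2000000000211) (.leaf 0x2000000000211)) (.leaf 0x100)) (.node (.leaf 0x100) (.leaf 0x2000000000211))) (.node (.node (.leaf 0x100) (.leaf 0x2000000000211)) (.node (.leaf 0x100) (.leaf 0x2000000000211)))) (.node (.node (.node (.node (.leaf 0x100) (.leaf 0x100)) (.leaf 0x2000000000211)) (.node (.leaf 0x2000000000211) (.leaf 0x100))) (.node (.node (.leaf 0x100) (.leaf 0x100)) (.node (.leaf 0x2000000000211) (.leaf 0x2000000000211))))) (.node (.node (.node (.node (.node (.leaf 0x100) (.leaf 0x2000000000211)) (.leaf 0x100)) (.node (.leaf 0x100) (.leaf 0x2000000000211))) (.node (.node (.leaf 0x2000000000211) (.leaf 0x100)) (.node (.leaf 0x100) (.leaf 0x2000000000211)))) (.node (.node (.node (.node (.leaf 0x100) (.leaf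 0x2000000000211)) (.leaf 0x2000000000211)) (.node (.leaf 0x2000000000211) (.leaf 0x100))) (.node (.node (.leaf 0x2000000000211) (.leaf 0x2000000000211)) (.node (.leaf 0x100) (.leaf 0x18683000000000000000000000514))))))) (.node (.node (.node (.node (.node (.node (.node (.leaf 0x100) (.leaf 0x100)) (.leaf 0x20106020d080f5e22147343301563087c06972032430816)) (.node (.leaf 0x100) (.leaf 0x2000000000211))) (.node (.node (.leaf 0x100) (.leaf 0x400000113)) (.node (.leaf 0x2000000000211) (.leaf 0x100)))) (.node (.node (.node (.node (.leaf 0x2000000000211) (.leaf 0x20040140000981219625452112880aca1300c0335dc2d0816966ed0d0190b16)) (.leaf 0x2000000000211)) (.node (.leaf 0x100) (.leaf 0x6209200000000000000000415))) (.node (.node (.leaf 0x2000000000211) (.leaf 0x100)) (.node (.leaf 0x100) (.leaf 0x100))))) (.node (.node (.node (.node (.node (.leaf 0x100) (.leaf 0x2000000000211)) (.leaf 0x100)) (.node (.leaf 0x100) (.leaf 0x100))) (.node (.node (.leaf 0x100) (.leaf 0x100))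 (.node (.leaf 0x100) (.leaf 0x2000000000211)))) (.node (.node (.node (.node (.leaf 0x100) (.leaf 0x181702a08c2603144c0d91d9346fe8ddaa93d1415e8638359d06710f85d0b16)) (.leaf 0x500000113)) (.node (.leaf 0x100) (.leaf 0x180904608c430392240b8918335d67ed8e8450a52783c8163b0598838c10b16))) (.node (.node (.leaf 0x100) (.leaf 0x600038000e2e808cc1850199801e16d6c74145d91cc80e0915)) (.node (.leaf 0x100) (.leaf 0x2000000000211)))))) (.node (.node (.node (.node (.node (.node (.leaf 0x100) (.leaf 0x2000000000211)) (.leaf 0x100)) (.node (.leaf 0x400000113) (.leaf 0x100))) (.node (.node (.leaf 0x2000000000211) (.leaf 0x2000000000211)) (.node (.leaf 0x2000000000211) (.leaf 0x100)))) (.node (.node (.node (.node (.leaf 0x100) (.leaf 0x100)) (.leaf 0x100)) (.node (.leaf 0x100) (.leaf 0x2000000000211))) (.node (.node (.leaf 0x2000000000211) (.leaf 0x2000000000211)) (.node (.leaf 0x100) (.leaf 0x2000000000211))))) (.node (.node (.node (.node (.node (.leaf 0x100) (.leaf 0x201040903051d04045779777f1652801b1145300f1b0816))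 (.leaf 0x100)) (.node (.leaf 0x100) (.leaf 0x206028301c06688e520fbe24997084177d46e0971a8ce89e0916))) (.node (.node (.leaf 0x100) (.leaf 0x2000000000211)) (.node (.leaf 0x41020000000000000315) (.leaf 0x100)))) (.node (.node (.node (.node (.leaf 0x2000000000211) (.leaf 0x2000000000211)) (.leaf 0x100)) (.node (.leaf 0x100) (.leaf 0x100))) (.node (.node (.leaf 0x2000000000211) (.leaf 0x2000000000211)) (.node (.leaf 0x102000000000215) (.leaf 0x2000000000211)))))))) (.node (.node (.node (.node (.node (.node (.node (.node (.leaf 0x100) (.leaf 0x100)) (.leaf 0x100)) (.node (.leaf 0x2000000000211) (.leaf 0x100))) (.node (.node (.leaf 0x2000000000211) (.leaf 0x10a100000000000000000414)) (.node (.leaf 0x2000000000211) (.leaf 0x100)))) (.node (.node (.node (.node (.leaf 0x100) (.leaf 0x1704e0050ec0910ee23912855a10672e57acec0e660dc0d6160587794196a804d0c16)) (.leaf 0x100)) (.node (.leaf 0x2000000000211) (.leaf 0x100))) (.node (.node (.leaf 0x100) (.leaf 0x100)) (.node (.leaf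 0x100) (.leaf 0x2000000000211))))) (.node (.node (.node (.node (.node (.leaf 0x100) (.leaf 0x10a100000000000000000414)) (.leaf 0x481904609433041364008b096971287e1186f0b9b885080e794518b98230b16)) (.node (.leaf 0x2000000000211) (.leaf 0x2000000000211))) (.node (.node (.leaf 0x100) (.leaf 0x2000000000211)) (.node (.leaf 0x2000000000211) (.leaf 0x100)))) (.node (.node (.node (.node (.leaf 0x100) (.leaf 0x2000000000211)) (.leaf 0x2000000000211)) (.node (.leaf 0x2000000000211) (.leaf 0x2000000000211))) (.node (.node (.leaf 0x500000113) (.leaf 0x2000000000211)) (.node (.leaf 0x100) (.leaf 0x100)))))) (.node (.node (.node (.node (.node (.node (.leaf 0x2000000000211) (.leaf 0x100)) (.leaf 0x10a100000000000000000414)) (.node (.leaf 0x2000000000211) (.leaf 0x100))) (.node (.node (.leaf 0x100) (.leaf 0x2000000000211)) (.node (.leaf 0x100) (.leaf 0x2000000000211)))) (.node (.node (.node (.node (.leaf 0x2000000000211) (.leaf 0x2000000000211)) (.leaf 0x2000000000211)) (.node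 (.leaf 0x100) (.leaf 0x2000000000211))) (.node (.node (.leaf 0x2000000000211) (.leaf 0x2000000000211)) (.node (.leaf 0x100) (.leaf 0x2000000000211))))) (.node (.node (.node (.node (.node (.leaf 0x100) (.leaf 0x601e04c0802e83e342490f10921881e91f05e21389caf10882225c1e0aa0b16)) (.leaf 0x2000000000211)) (.node (.leaf 0x500000113) (.leaf 0x100))) (.node (.node (.leaf 0x209400000000000000000414) (.leaf 0x2000000000211)) (.node (.leaf 0x400000113) (.leaf 0x2000000000211)))) (.node (.node (.node (.node (.leaf 0x2000000000211) (.leaf 0x20030580d0b4045a543120caa91aeaf0660ef591406177cef520330a16)) (.leaf 0x2209200000000000000000415)) (.node (.leaf 0x100) (.leaf 0x80c0382c0cc3a0d4a23313c2c8885f8610f6c31a03850c85298070a16))) (.node (.node (.leaf 0x100) (.leaf 0x2000000000211)) (.node (.leaf 0x100) (.leaf 0x100))))))) (.node (.node (.node (.node (.node (.node (.node (.leaf 0x100) (.leaf 0x200d0420e45905927c2b93f84f8a2e2f6f8a14c5ae9098158489e97088d0b16)) (.leaf 0x1806048180ac2809c3b1817c941aad2041147d51883b40d1d2306c0a16))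 (.node (.leaf 0x100) (.leaf 0x2000000000211))) (.node (.node (.leaf 0x100) (.leaf 0x2000000000211)) (.node (.leaf 0x100) (.leaf 0x602a01c03a05904e36b08931a10958837c6701c01b395b20e01086f24d3b00200c16)))) (.node (.node (.node (.node (.leaf 0x2000000000211) (.leaf 0x209400000000000000000414)) (.leaf 0x100)) (.node (.leaf 0x100) (.leaf 0x100))) (.node (.node (.leaf 0x100) (.leaf 0x100)) (.node (.leaf 0x2000000000211) (.leaf 0x2000000000211))))) (.node (.node (.node (.node (.node (.leaf 0x100) (.leaf 0x2000000000211)) (.leaf 0x500000113)) (.node (.leaf 0x100) (.leaf 0x2000000000211))) (.node (.node (.leaf 0x2000000000211) (.leaf 0x100)) (.node (.leaf 0x100) (.leaf 0x502101b03d05a04f2540e22811295973ad7991031b69dc1ed0096c628233900d0c16)))) (.node (.node (.node (.node (.leaf 0x2000000000211) (.leaf 0x2000000000211)) (.leaf 0x2000000000211)) (.node (.leaf 0x2016028098208343ae13d100a76ac8a1da10e17752c7001e99663d290100b16) (.leaf 0x9000000000212))) (.node (.node (.leaf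 0x2000000000211) (.leaf 0x200000000000215)) (.node (.leaf 0x100) (.leaf 0x2000000000211)))))) (.node (.node (.node (.node (.node (.node (.leaf 0x100) (.leaf 0x2000000000211)) (.leaf 0x100)) (.node (.leaf 0x2000000000211) (.leaf 0x500044000f2f004ca174f9957e1d1757072135e120c60d0915))) (.node (.node (.leaf 0x2000000000211) (.leaf 0x2000000000211)) (.node (.leaf 0x2000000000211) (.leaf 0x2000000000211)))) (.node (.node (.node (.node (.leaf 0x100) (.leaf 0x2000000000211)) (.leaf 0x100)) (.node (.leaf 0x2000000000211) (.leaf 0x2000000000211))) (.node (.node (.leaf 0x2000000000211) (.leaf 0x100)) (.node (.leaf 0x10a100000000000000000414) (.leaf 0x2000000000211))))) (.node (.node (.node (.node (.node (.leaf 0x2000000000211) (.leaf 0x204038461660879604558299844c4ada4cc36d192da8270915)) (.leaf 0x100)) (.node (.leaf 0x2000000000211) (.leaf 0x2000000000211))) (.node (.node (.leaf 0x100) (.leaf 0x100)) (.node (.leaf 0x30000000000213) (.leaf 0x2000000000211)))) (.node (.node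 (.node (.node (.leaf 0x100) (.leaf 0x2000000000211)) (.leaf 0x240003c220181a28caf1c21b1a84e16cf22e6701e8153ac35488670a16)) (.node (.leaf 0x2000000000211) (.leaf 0x700e00304002504654b25b5162a9bc8800c3c30a2ddd912ec0cbbdd5417f20020c16))) (.node (.node (.leaf 0x2000000000211) (.leaf 0x806040120dc1c20c122980a5f948750141ce8914002644c12f8440a16)) (.node (.leaf 0x100) (.leaf 0x100))))))))

/-- data -/
def val0p11 : Trie (ℕ) := .node (.node (.node (.node (.node (.node (.node (.node (.node (.leaf 0x8000000000212) (.leaf 0x100)) (.leaf 0x100)) (.node (.leaf 0x100) (.leaf 0x100))) (.node (.node (.leaf 0x100) (.leaf 0x100)) (.node (.leaf 0x100) (.leaf 0x100)))) (.node (.node (.node (.node (.leaf 0x100) (.leaf 0x8000000000212)) (.leaf 0x8000000000212)) (.node (.leaf 0x100) (.leaf 0x100))) (.node (.node (.leaf 0x8000000000212) (.leaf 0x100)) (.node (.leaf 0x100) (.leaf 0x8000000000212))))) (.node (.node (.node (.node (.node (.leaf 0x100) (.leaf 0x80a0200104c060b8672d0c85a8eecb83c386a13c803714c9420330a16))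 (.leaf 0x408030281a0c36828a81957248e8160748442027492cc80c0916)) (.node (.leaf 0x100) (.leaf 0x100))) (.node (.node (.leaf 0x8000000000212) (.leaf 0x80106024220b54035f77860b64e6853e0545601a61fa5e120916)) (.node (.leaf 0x100) (.leaf 0x100)))) (.node (.node (.node (.node (.leaf 0x100) (.leaf 0x40308014720c1e8a83445659be1a0730240c624329105a110916)) (.leaf 0x100)) (.node (.leaf 0x100) (.leaf 0x8000000000212))) (.node (.node (.leaf 0x100) (.leaf 0x100)) (.node (.leaf 0x100) (.leaf 0x100)))))) (.node (.node (.node (.node (.node (.node (.leaf 0x100) (.leaf 0x28150220641602d4cc43d0393622649c0d0ab13cdc81d8db8ec208c98100b16)) (.leaf 0x100)) (.node (.leaf 0x100) (.leaf 0x100))) (.node (.node (.leaf 0x100) (.leaf 0x1a07200705281621522bb85115180f66b026e27b8286362deacda80ea9ef9c659cc18d0d16)) (.node (.leaf 0x100) (.leaf 0x100)))) (.node (.node (.node (.node (.leaf 0x8000000000212) (.leaf 0x50010000a4250375881216eb2a7c2d35849ab324ad87180ca487b9eb8440b16)) (.leaf 0x100)) (.node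 (.leaf 0x100) (.leaf 0x8000000000212))) (.node (.node (.leaf 0x8000000000212) (.leaf 0x100)) (.node (.leaf 0x100) (.leaf 0xa00c02e01608d0400b90ae11434022a1a257408512f9791880b839b15305b1180c16))))) (.node (.node (.node (.node (.node (.leaf 0x100) (.leaf 0x100)) (.leaf 0x100)) (.node (.leaf 0x100) (.leaf 0x100))) (.node (.node (.leaf 0x100) (.leaf 0x60205828280c53839f97761368e8863d8585802a59f660110916)) (.node (.leaf 0x8000000000212) (.leaf 0x3008300dc13d05581632db01e8320c1185c54fdf70bc4fd23021ce24d404267e0abe438403c0e16)))) (.node (.node (.node (.node (.leaf 0x20021325e01b5c39184310415) (.leaf 0x100)) (.leaf 0x500300300100d00b0201d81a12bd52d2a164908d08386602101729627e1c306d0c16)) (.node (.leaf 0x100) (.leaf 0x8000000000212))) (.node (.node (.leaf 0x100) (.leaf 0x100)) (.node (.leaf 0x8000000000212) (.leaf 0x8000000000212))))))) (.node (.node (.node (.node (.node (.node (.node (.leaf 0x8000000000212) (.leaf 0x8000000000212)) (.leaf 0x8000000000212)) (.node (.leaf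 0x2720000000000000314) (.leaf 0x100))) (.node (.node (.leaf 0x8000000000212) (.leaf 0x100)) (.node (.leaf 0x100) (.leaf 0x8000000000212)))) (.node (.node (.node (.node (.leaf 0x10002416d02c6b4a473420415) (.leaf 0x806038040bc0a0841417072408ca6b81919e151c80340c8f200200a16)) (.leaf 0x2720000000000000314)) (.node (.leaf 0x100) (.leaf 0x100))) (.node (.node (.leaf 0x100) (.leaf 0x8000000000212)) (.node (.leaf 0x8000000000212) (.leaf 0x100))))) (.node (.node (.node (.node (.node (.leaf 0x8000000000212) (.leaf 0x1f00d00d07e0950782df10c5801b9a3c904ec8102665daf55006fb2758d7c20ca0c16)) (.leaf 0x8000000000212)) (.node (.leaf 0x100) (.leaf 0x80cb014420106a023d27f004d40ec55767a51819c2c3d72fc2f20359c0d18f80cfa57cc2d60e16))) (.node (.node (.leaf 0x8000000000212) (.leaf 0x8000000000212)) (.node (.leaf 0x100) (.leaf 0x60503850140c74ac41995652018a981b7f0a675258b604630916)))) (.node (.node (.node (.node (.leaf 0x100) (.leaf 0x8000000000212)) (.leaf 0xe0600880421c73ad19c6b98531cc0363edcd80c94a0e840f0916))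 (.node (.leaf 0x222000000000215) (.leaf 0x8000000000212))) (.node (.node (.leaf 0x8000000000212) (.leaf 0x100)) (.node (.leaf 0x8000000000212) (.leaf 0x100)))))) (.node (.node (.node (.node (.node (.node (.leaf 0x100) (.leaf 0x10080381609c1e5610218e4471d2b1c52d179310848c4007e5bc4a0a16)) (.leaf 0x8000000000212)) (.node (.leaf 0x100) (.leaf 0x8000000000212))) (.node (.node (.leaf 0x100) (.leaf 0x100)) (.node (.leaf 0x100) (.leaf 0x2c0704c200281633cd921b1f180627251802b241c4144544b3a0030a16)))) (.node (.node (.node (.node (.leaf 0x100) (.leaf 0x300d300407641581c135016919d61d2887aa1f15276b3f04f48fea0dfaa32479d8e1c60d16)) (.leaf 0x100)) (.node (.leaf 0x100) (.leaf 0x600f01601103900b44822e3ab24694d621a1d2a53189303390f48383fe65d0360c16))) (.node (.node (.leaf 0x100) (.leaf 0x100e0501c0fc30160273c6660746738ca34788d41c106f0664341f0a16)) (.node (.leaf 0x8000000000212) (.leaf 0x100))))) (.node (.node (.node (.node (.node (.leaf 0x100) (.leaf 0x619240000000000000000000000515))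 (.leaf 0x100)) (.node (.leaf 0x100) (.leaf 0x100))) (.node (.node (.leaf 0x8000000000212) (.leaf 0x100)) (.node (.leaf 0x8000000000212) (.leaf 0x8000000000212)))) (.node (.node (.node (.node (.leaf 0x100) (.leaf 0x282b0486b02c572e09a4cc40654cfb4ce15b8a063c30610ce76c9e0a16)) (.leaf 0x8000000000212)) (.node (.leaf 0x8038304802059d0027f47986520e0f3505a32481193e560915) (.leaf 0x2030813150b38074d0363298f1f38e2510f702a51000816))) (.node (.node (.leaf 0x100) (.leaf 0x100)) (.node (.leaf 0x18070460944303b2240b8918335d67ed8e8450a52783c8163b0598838c10b16) (.leaf 0x301204401c348121fc4196eb7a57297df29bb358598a08068cc7d1b48040b16)))))))) (.node (.node (.node (.node (.node (.node (.node (.node (.leaf 0x8000000000212) (.leaf 0x100)) (.leaf 0x8000000000212)) (.node (.leaf 0x100) (.leaf 0x100))) (.node (.node (.leaf 0x100) (.leaf 0x8000000000212)) (.node (.leaf 0x100) (.leaf 0x100)))) (.node (.node (.node (.node (.leaf 0x100) (.leaf 0x170480020e00b30ea2310b05621887c85dee1a0da625ced6420267ff46374a09f0c16))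 (.leaf 0x8000000000212)) (.node (.leaf 0x100) (.leaf 0x100))) (.node (.node (.leaf 0x8000000000212) (.leaf 0xe04102008d02506754429e71d4c69e769ba8942f320a1c30d002dc05049170880c16)) (.node (.leaf 0x100) (.leaf 0x100))))) (.node (.node (.node (.node (.node (.leaf 0x100) (.leaf 0x8000000000212)) (.leaf 0x8000000000212)) (.node (.leaf 0x14790000000000000315) (.leaf 0x10090020240d0091343a0220e209c210a507f017014028a20a81ac9d9440b16))) (.node (.node (.leaf 0x8000000000212) (.leaf 0x100)) (.node (.leaf 0x100) (.leaf 0x8000000000212)))) (.node (.node (.node (.node (.leaf 0x8000000000212) (.leaf 0x410030031040511d2f1f0b55e8cc9f0f24549f458331d49f3f81d0a16)) (.leaf 0xc07044250f837248ab4e4a5434bb7240424b962d467980a23fc010a16)) (.node (.leaf 0x100) (.leaf 0x100))) (.node (.node (.leaf 0x100) (.leaf 0x100)) (.node (.leaf 0x100) (.leaf 0x8000000000212)))))) (.node (.node (.node (.node (.node (.node (.leaf 0x100) (.leaf 0x100)) (.leaf 0x8000000000212)) (.node (.leaf 0x100) (.leaf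 0x8000000000212))) (.node (.node (.leaf 0x8000000000212) (.leaf 0x100)) (.node (.leaf 0x8000000000212) (.leaf 0x20406160d1875a3dd92d45836014ab239bbd22227210816)))) (.node (.node (.node (.node (.leaf 0x100) (.leaf 0x405034030c8090881316c71404c96b41a1a2161c406410901fc1f0a16)) (.leaf 0x100)) (.node (.leaf 0x8000000000212) (.leaf 0x100))) (.node (.node (.leaf 0x100) (.leaf 0x200020040813934b00f5115a044823a1cb0135d93d2c2b0915)) (.node (.leaf 0x8000000000212) (.leaf 0x100))))) (.node (.node (.node (.node (.node (.leaf 0x8000000000212) (.leaf 0x8000000000212)) (.leaf 0x100)) (.node (.leaf 0x100) (.leaf 0x100))) (.node (.node (.leaf 0x100) (.leaf 0x100)) (.node (.leaf 0x100) (.leaf 0x100)))) (.node (.node (.node (.node (.leaf 0x100) (.leaf 0x380f02a03c1a0275504d90c824c12d1e4c95710be480986ac28939c98660b16)) (.leaf 0x100)) (.node (.leaf 0x8000000000212) (.leaf 0x100))) (.node (.node (.leaf 0x8000000000212) (.leaf 0x100)) (.node (.leaf 0x100) (.leaf 0x100))))))) (.node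 (.node (.node (.node (.node (.node (.node (.leaf 0x100) (.leaf 0x8000000000212)) (.leaf 0x100)) (.node (.leaf 0x100) (.leaf 0x100))) (.node (.node (.leaf 0x8000000000212) (.leaf 0x100)) (.node (.leaf 0x8000000000212) (.leaf 0x8000000000212)))) (.node (.node (.node (.node (.leaf 0x100) (.leaf 0x782e03a2000806a39318d133538b0a7a4e3745024d0ea00f866865a70530b16)) (.leaf 0x100)) (.node (.leaf 0x8000000000212) (.leaf 0x8000000000212))) (.node (.node (.leaf 0x100) (.leaf 0x100)) (.node (.leaf 0x100) (.leaf 0x100))))) (.node (.node (.node (.node (.node (.leaf 0x8000000000212) (.leaf 0x100)) (.leaf 0x100)) (.node (.leaf 0x100) (.leaf 0x100))) (.node (.node (.leaf 0x100) (.leaf 0x100)) (.node (.leaf 0x8000000000212) (.leaf 0x100)))) (.node (.node (.node (.node (.leaf 0x100) (.leaf 0x500500c0fc1504159c57565b24556c3c4d8c12048980283d9b4611b782a0b16)) (.leaf 0x100)) (.node (.leaf 0x100) (.leaf 0x100))) (.node (.node (.leaf 0x100) (.leaf 0x8000000000212)) (.node (.leaf 0x100)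 (.leaf 0x100)))))) (.node (.node (.node (.node (.node (.node (.leaf 0x100) (.leaf 0xc09c00e81ee052c2102b7c04f42f80435490e6e94185c037465dd3e28050935cb7959904190e16)) (.leaf 0x8000000000212)) (.node (.leaf 0x100) (.leaf 0x100))) (.node (.node (.leaf 0x100) (.leaf 0x10605100e0c37084e04642a902037e152106f2952000816)) (.node (.leaf 0x100) (.leaf 0x100)))) (.node (.node (.node (.node (.leaf 0x8000000000212) (.leaf 0x8106043034c18b9376ed78213e8c03987888d0716)) (.leaf 0x8000000000212)) (.node (.leaf 0x100) (.leaf 0x2815010830c0717d9c9a8f169719627961b00b3bb519a58b7674bc0a16))) (.node (.node (.leaf 0x100) (.leaf 0x8000000000212)) (.node (.leaf 0x8000000000212) (.leaf 0x100))))) (.node (.node (.node (.node (.node (.leaf 0x100) (.leaf 0x8000000000212)) (.leaf 0x100)) (.node (.leaf 0x100) (.leaf 0x100))) (.node (.node (.leaf 0x100) (.leaf 0x100)) (.node (.leaf 0x100) (.leaf 0x18100080b81282c5a64b14c24d4789980e0900a2f142289ab4e52d870390b16)))) (.node (.node (.node (.node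 (.leaf 0x100) (.leaf 0x100301c1d0e02303c9307d5d4650f8fc90322e62c4101808625c180a16)) (.leaf 0x100)) (.node (.leaf 0x100) (.leaf 0x205088348c1925084c6418abe732182e778921a7c268da410916))) (.node (.node (.leaf 0x100) (.leaf 0x100)) (.node (.leaf 0x100) (.leaf 0x8000000000212))))))))

/-- data -/
def val0p12 : Trie (ℕ) := .node (.node (.node (.node (.node (.node (.node (.node (.node (.leaf 0x2000000000211) (.leaf 0x2000000000211)) (.leaf 0x2000000000211)) (.node (.leaf 0x2000000000211) (.leaf 0x100))) (.node (.node (.leaf 0x2000000000211) (.leaf 0x2000000000211)) (.node (.leaf 0x100) (.leaf 0x100)))) (.node (.node (.node (.node (.leaf 0x100) (.leaf 0x400000113)) (.leaf 0x500000113)) (.node (.leaf 0x100) (.leaf 0x202000000000215))) (.node (.node (.leaf 0x100) (.leaf 0x11008ec142f2edde5ab6d51bba80d2260508ed5812cc82d0915)) (.node (.leaf 0x100) (.leaf 0x2000000000211))))) (.node (.node (.node (.node (.node (.leaf 0x2000000000211) (.leaf 0x1010713181768a6cc69cf5f3d071fef1eb6c11b02300816))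 (.leaf 0x100)) (.node (.leaf 0x100) (.leaf 0x100))) (.node (.node (.leaf 0x2000000000211) (.leaf 0x100)) (.node (.leaf 0x100) (.leaf 0x600000113)))) (.node (.node (.node (.node (.leaf 0x2000000000211) (.leaf 0x201402c0a0258384520c52014d6f48d1a514814f57c670389c265d0a06a0b16)) (.leaf 0x100)) (.node (.leaf 0x2000000000211) (.leaf 0x2000000000211))) (.node (.node (.leaf 0x810a047054c18b9376ed78213e8c03987888d0716) (.leaf 0x100)) (.node (.leaf 0x100) (.leaf 0x2000000000211)))))) (.node (.node (.node (.node (.node (.node (.leaf 0x2000000000211) (.leaf 0x100)) (.leaf 0x2000000000211)) (.node (.leaf 0xa00f02a03007b04e3e70253844013162a05101f22d34433040478cb1f149c0890c16) (.leaf 0x1806068181342a124ca308d00c0642e8570964906854594471d80b0a16))) (.node (.node (.leaf 0x2000000000211) (.leaf 0x100)) (.node (.leaf 0x2000000000211) (.leaf 0x100)))) (.node (.node (.node (.node (.leaf 0x2000000000211) (.leaf 0x100)) (.leaf 0x80801805034021d0550fd663b8be828551560b120190886f0b4480a16))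 (.node (.leaf 0x2000000000211) (.leaf 0x2000000000211))) (.node (.node (.leaf 0x2000000000211) (.leaf 0x100)) (.node (.leaf 0x230000000000000312) (.leaf 0x2000000000211))))) (.node (.node (.node (.node (.node (.leaf 0x2000000000211) (.leaf 0x2000000000211)) (.leaf 0x2000000000211)) (.node (.leaf 0x100) (.leaf 0x80160740984a8563a27d8bc09e0de150128ab1c34cc6f1308c606c6a0200b16))) (.node (.node (.leaf 0x100) (.leaf 0x100)) (.node (.leaf 0x100) (.leaf 0x2000000000211)))) (.node (.node (.node (.node (.leaf 0x2000000000211) (.leaf 0x2000000000211)) (.leaf 0x100)) (.node (.leaf 0x100) (.leaf 0x100))) (.node (.node (.leaf 0x100) (.leaf 0x2000000000211)) (.node (.leaf 0x100) (.leaf 0x2000000000211))))))) (.node (.node (.node (.node (.node (.node (.node (.leaf 0x100) (.leaf 0x2000000000211)) (.leaf 0x100)) (.node (.leaf 0x2000000000211) (.leaf 0x100))) (.node (.node (.leaf 0x100) (.leaf 0x2000000000211)) (.node (.leaf 0x100) (.leaf 0x2000000000211)))) (.node (.node (.node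 (.node (.leaf 0x100) (.leaf 0x100)) (.leaf 0x2000000000211)) (.node (.leaf 0x2000000000211) (.leaf 0x2000000000211))) (.node (.node (.leaf 0x2000000000211) (.leaf 0x100)) (.node (.leaf 0x2000000000211) (.leaf 0x2000000000211))))) (.node (.node (.node (.node (.node (.leaf 0x100) (.leaf 0x100)) (.leaf 0x100)) (.node (.leaf 0x100) (.leaf 0x100))) (.node (.node (.leaf 0x100) (.leaf 0x100)) (.node (.leaf 0x100) (.leaf 0x100)))) (.node (.node (.node (.node (.leaf 0x2000000000211) (.leaf 0x100)) (.leaf 0x100)) (.node (.leaf 0x2000000000211) (.leaf 0x2000000000211))) (.node (.node (.leaf 0x100) (.leaf 0x2000000000211)) (.node (.leaf 0x2000000000211) (.leaf 0x100)))))) (.node (.node (.node (.node (.node (.node (.leaf 0x2000000000211) (.leaf 0x10a100000000000000000414)) (.leaf 0x400000113)) (.node (.leaf 0x100) (.leaf 0x2000000000211))) (.node (.node (.leaf 0x100) (.leaf 0x2000000000211)) (.node (.leaf 0x2000000000211) (.leaf 0x100)))) (.node (.node (.node (.node (.leaf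 0x2000000000211) (.leaf 0x2000000000211)) (.leaf 0x2002e02201701a20941e983bc64033e45117915d009a0f5c37447c0124d58eb49640000d16)) (.node (.leaf 0x100) (.leaf 0x100))) (.node (.node (.leaf 0x100) (.leaf 0x2000000000211)) (.node (.leaf 0x2000000000211) (.leaf 0x100))))) (.node (.node (.node (.node (.node (.leaf 0x2000000000211) (.leaf 0xc020601c1e0210a00263e238b65a417401dc60a0c8b8b2030916)) (.leaf 0x2000000000211)) (.node (.leaf 0x2000000000211) (.leaf 0x100))) (.node (.node (.leaf 0x400000113) (.leaf 0x100)) (.node (.leaf 0x2000000000211) (.leaf 0x2000000000211)))) (.node (.node (.node (.node (.leaf 0x100) (.leaf 0x6030683c4c196305d7404108ee8c5043ac54060378fc700e0916)) (.leaf 0x2000000000211)) (.node (.leaf 0x2000000000211) (.leaf 0x100))) (.node (.node (.leaf 0x2000000000211) (.leaf 0x2000000000211)) (.node (.leaf 0x100) (.leaf 0x2000000000211)))))))) (.node (.node (.node (.node (.node (.node (.node (.node (.leaf 0x100) (.leaf 0x2000000000211)) (.leaf 0x100))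 (.node (.leaf 0x100) (.leaf 0x2000000000211))) (.node (.node (.leaf 0x100) (.leaf 0x209400000000000000000414)) (.node (.leaf 0x2000000000211) (.leaf 0x100)))) (.node (.node (.node (.node (.leaf 0x2000000000211) (.leaf 0x140506c1716029128c9304cf0bc632e45809a4a06453598481d40c0a16)) (.leaf 0x1000000115)) (.node (.leaf 0x100) (.leaf 0x100))) (.node (.node (.leaf 0x100) (.leaf 0x2000000000211)) (.node (.leaf 0x2000000000211) (.leaf 0x500000113))))) (.node (.node (.node (.node (.node (.leaf 0x100) (.leaf 0x209400000000000000000414)) (.leaf 0x100)) (.node (.leaf 0x100) (.leaf 0x100))) (.node (.node (.leaf 0x10100416d02c6b4a473420415) (.leaf 0x10060300406c121b819135b41c8486906d0c609138001c83926c5a0a16)) (.node (.leaf 0x100) (.leaf 0x2000000000211)))) (.node (.node (.node (.node (.leaf 0x100) (.leaf 0x400000113)) (.leaf 0x100)) (.node (.leaf 0x100) (.leaf 0x2000000000211))) (.node (.node (.leaf 0x100) (.leaf 0x100)) (.node (.leaf 0x2000000000211) (.leaf 0x100))))))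 (.node (.node (.node (.node (.node (.node (.leaf 0x100) (.leaf 0x2000000000211)) (.leaf 0x209400000000000000000414)) (.node (.leaf 0x2000000000211) (.leaf 0x100))) (.node (.node (.leaf 0x100) (.leaf 0x1600f02501260ae21f818c9443627172bd1edc016149cb2439817558c98c52dc0ff0d15)) (.node (.leaf 0x100) (.leaf 0x2000000000211)))) (.node (.node (.node (.node (.leaf 0x100) (.leaf 0x318642000000000000000000000515)) (.leaf 0x2000000000211)) (.node (.leaf 0x100) (.leaf 0x100))) (.node (.node (.leaf 0x2000000000211) (.leaf 0x2000000000211)) (.node (.leaf 0xc000700c2a0441a8130731f874cc20509c5880ace8398c6b0916) (.leaf 0x2000000000211))))) (.node (.node (.node (.node (.node (.leaf 0x100) (.leaf 0x100)) (.leaf 0x100)) (.node (.leaf 0x100) (.leaf 0x100))) (.node (.node (.leaf 0x2000000000211) (.leaf 0x2000000000211)) (.node (.leaf 0x100) (.leaf 0x8025009828c1000b32e003b0c3216b829b15e3d61311cc56405f617a75d1d2168a0d20d16)))) (.node (.node (.node (.node (.leaf 0x100) (.leaf 0x400000113))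 (.leaf 0x100)) (.node (.leaf 0x2000000000211) (.leaf 0x2000000000211))) (.node (.node (.leaf 0x100) (.leaf 0x1900e824c1280ab21501c08c6363780af460ca00c1794ea03ce1965e71a4137e10a0d15)) (.node (.leaf 0x500000113) (.leaf 0x100))))))) (.node (.node (.node (.node (.node (.node (.node (.leaf 0x2000000000211) (.leaf 0x100)) (.leaf 0x2000000000211)) (.node (.leaf 0x2000000000211) (.leaf 0x10080086c702339324604d35ade6e7a9b30a265a57848be010916))) (.node (.node (.leaf 0x100) (.leaf 0x601e0540e83385c31a690d60840e44705f0692b34bc7a14086223c6f0780b16)) (.node (.leaf 0x406060202026356402e0c08061d13f92e209d05440f0816) (.leaf 0x8090603c3600520c8bac4c6bc4ca5f24ed09408372109a930916)))) (.node (.node (.node (.node (.leaf 0x100) (.leaf 0x2000000000211)) (.leaf 0x100)) (.node (.leaf 0x2000000000211) (.leaf 0x2000000000211))) (.node (.node (.leaf 0x2000000000211) (.leaf 0x2000000000211)) (.node (.leaf 0x100) (.leaf 0x100))))) (.node (.node (.node (.node (.node (.leaf 0x100) (.leaf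 0x100)) (.leaf 0x2000000000211)) (.node (.leaf 0x100) (.leaf 0x2000000000211))) (.node (.node (.leaf 0x2000000000211) (.leaf 0x100)) (.node (.leaf 0x100) (.leaf 0x2000000000211)))) (.node (.node (.node (.node (.leaf 0x100) (.leaf 0x2000000000211)) (.leaf 0x100)) (.node (.leaf 0x100) (.leaf 0x100))) (.node (.node (.leaf 0x2000000000211) (.leaf 0x8070580814c126c14c42e6a884a331dc305cd014c20a50b0524090a16)) (.node (.leaf 0x2000000000211) (.leaf 0x402040302e12508918e33408fff24b545b96e41601f8f60d0916)))))) (.node (.node (.node (.node (.node (.node (.leaf 0x100) (.leaf 0x14000189498270f33ccca5099de36a8981b22a5aa782432030916)) (.leaf 0x20101325e01b5c39184310415)) (.node (.leaf 0x100) (.leaf 0x100))) (.node (.node (.leaf 0x2000000000211) (.leaf 0x33000000000213)) (.node (.leaf 0x2000000000211) (.leaf 0x1000000115)))) (.node (.node (.node (.node (.leaf 0x500000113) (.leaf 0x100)) (.leaf 0x81301a03c1a01f290110f48b989ea8e7f87719992098832b1c7f9b38a80b16)) (.node (.leaf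 0x100) (.leaf 0x1a07000705301621542bb85115180f66b026e27b8286362deacda80ea9ef9c659cc18d0d16))) (.node (.node (.leaf 0x100) (.leaf 0x100)) (.node (.leaf 0x209400000000000000000414) (.leaf 0x100))))) (.node (.node (.node (.node (.node (.leaf 0x2000000000211) (.leaf 0x2000000000211)) (.leaf 0x100)) (.node (.leaf 0x100) (.leaf 0x80400413058191d0643dc019adcfd14653e33a35c066a13e3fc890a16))) (.node (.node (.leaf 0x2000000000211) (.leaf 0x2000000000211)) (.node (.leaf 0x2000000000211) (.leaf 0x100)))) (.node (.node (.node (.node (.leaf 0x2000000000211) (.leaf 0x100)) (.leaf 0x2000000000211)) (.node (.leaf 0x100) (.leaf 0x100))) (.node (.node (.leaf 0x2000000000211) (.leaf 0x2000000000211)) (.node (.leaf 0x100) (.leaf 0x2000000000211))))))))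

/-- data -/
def val0p13 : Trie (ℕ) := .node (.node (.node (.node (.node (.node (.node (.node (.node (.leaf 0x100) (.leaf 0x100)) (.leaf 0x100)) (.node (.leaf 0x8000000000212) (.leaf 0x8000000000212))) (.node (.node (.leaf 0x100) (.leaf 0x100)) (.node (.leaf 0x100) (.leaf 0x8000000000212)))) (.node (.node (.node (.node (.leaf 0x100) (.leaf 0x100)) (.leaf 0x140503c15098232106e19d0db35e5c241413bf217c3c409382d4950a16)) (.node (.leaf 0x8000000000212) (.leaf 0x8000000000212))) (.node (.node (.leaf 0x100) (.leaf 0x8000000000212)) (.node (.leaf 0x100) (.leaf 0x100))))) (.node (.node (.node (.node (.node (.leaf 0x100) (.leaf 0x8000000000212)) (.leaf 0x100)) (.node (.leaf 0x8000000000212) (.leaf 0x8000000000212))) (.node (.node (.leaf 0x209400000000000000000414) (.leaf 0x8000000000212)) (.node (.leaf 0x8000000000212) (.leaf 0x209000000000215)))) (.node (.node (.node (.node (.leaf 0x100) (.leaf 0x100)) (.leaf 0x8000000000212)) (.node (.leaf 0x100) (.leaf 0xc1d08c092101f1e81f2d4b57915c45c236423c7dd055a85f2602b0a16)))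 (.node (.node (.leaf 0x8000000000212) (.leaf 0x8000000000212)) (.node (.leaf 0x100) (.leaf 0x404502b0770de0a32177890754a7be262c52a3be3040742b73b56653976421670c16)))))) (.node (.node (.node (.node (.node (.node (.leaf 0x100) (.leaf 0x8000000000212)) (.leaf 0x100)) (.node (.leaf 0x100) (.leaf 0x8000000000212))) (.node (.node (.leaf 0x100) (.leaf 0x8000000000212)) (.node (.leaf 0x1400000115) (.leaf 0x8000000000212)))) (.node (.node (.node (.node (.leaf 0x100) (.leaf 0x101c01a04208305e2511292ec0cb5ba4527c81682cd82328e0146272eb3be07e0c16)) (.leaf 0x8000000000212)) (.node (.leaf 0x100) (.leaf 0x100))) (.node (.node (.leaf 0x100) (.leaf 0x100)) (.node (.leaf 0x8000000000212) (.leaf 0x2010681c640d4507d4a2679b8e76252f7807215d22215a110916))))) (.node (.node (.node (.node (.node (.leaf 0x100) (.leaf 0x4012098000e4143252c024c23dcb14c47538a0f24450694864f46e0a16)) (.leaf 0x1006000746023cf3dd175c73e855211c44c18a0ee21221a170916)) (.node (.leaf 0x100) (.leaf 0x8000000000212)))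 (.node (.node (.leaf 0x8000000000212) (.leaf 0x100)) (.node (.leaf 0x100) (.leaf 0x100)))) (.node (.node (.node (.node (.leaf 0x100) (.leaf 0x100)) (.leaf 0x8000000000212)) (.node (.leaf 0x8000000000212) (.leaf 0x100))) (.node (.node (.leaf 0x8000000000212) (.leaf 0x100)) (.node (.leaf 0x100) (.leaf 0x100))))))) (.node (.node (.node (.node (.node (.node (.node (.leaf 0x100) (.leaf 0x100)) (.leaf 0x100)) (.node (.leaf 0x100) (.leaf 0x100))) (.node (.node (.leaf 0x100) (.leaf 0x100)) (.node (.leaf 0x8000000000212) (.leaf 0x603402703702ee12a3d58d88fd82412e71611d381b2454ce952a81426c99024d7812e0d16)))) (.node (.node (.node (.node (.leaf 0x8000000000212) (.leaf 0x8000000000212)) (.leaf 0x400401407405015210550969e2906d65d19211687e81b8be48c7c9468470b16)) (.node (.leaf 0x100) (.leaf 0x100))) (.node (.node (.leaf 0x100) (.leaf 0x100)) (.node (.leaf 0x100) (.leaf 0x100))))) (.node (.node (.node (.node (.node (.leaf 0x100) (.leaf 0x8000000000212)) (.leaf 0x8000000000212))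 (.node (.leaf 0x100) (.leaf 0x100))) (.node (.node (.leaf 0x100) (.leaf 0x100)) (.node (.leaf 0x8000000000212) (.leaf 0xa0080a01c0c3e4333c8555b1284407412e310203881c9d3d81e0a15)))) (.node (.node (.node (.node (.leaf 0x100) (.leaf 0x3203d03682142900e50f505fc6f68cb3bd962e1861781e56f509a61d956c11d818a2b10d16)) (.leaf 0x100)) (.node (.leaf 0x100) (.leaf 0x100))) (.node (.node (.leaf 0x453a0000000000000315) (.leaf 0x100)) (.node (.leaf 0x80f0080280f814050274571de5606420d0210272f43c03337657ca40110b16) (.leaf 0xa06010405a1630a7cc8054b28b1c4aa1abe0c1e69965c02d0916)))))) (.node (.node (.node (.node (.node (.node (.leaf 0x100) (.leaf 0x8000000000212)) (.leaf 0x100)) (.node (.leaf 0x80200c2b090292d00c324c22dc950b04511d5a1803d9006041c200a16) (.leaf 0x100))) (.node (.node (.leaf 0x8000000000212) (.leaf 0x100)) (.node (.leaf 0x70402c4201061cc04804818a540d0eb4c5c314791540550915) (.leaf 0x8000000000212)))) (.node (.node (.node (.node (.leaf 0x100) (.leaf 0x1600604e01f0c30280df41819967438724f0bb2e907597715019c03920433103d0c16))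 (.leaf 0x100)) (.node (.leaf 0x100) (.leaf 0x8000000000212))) (.node (.node (.leaf 0x8000000000212) (.leaf 0x100)) (.node (.leaf 0x100) (.leaf 0x8000000000212))))) (.node (.node (.node (.node (.node (.leaf 0x100) (.leaf 0x8000000000212)) (.leaf 0x100)) (.node (.leaf 0x100) (.leaf 0x100))) (.node (.node (.leaf 0x100) (.leaf 0x8000000000212)) (.node (.leaf 0x100) (.leaf 0x100)))) (.node (.node (.node (.node (.leaf 0x8000000000212) (.leaf 0x6030a86c8c25851656c16611d9ac4a2444cfe7605a5410760916)) (.leaf 0x100)) (.node (.leaf 0x100) (.leaf 0x100))) (.node (.node (.leaf 0x100) (.leaf 0x100)) (.node (.leaf 0x100) (.leaf 0x100)))))))) (.node (.node (.node (.node (.node (.node (.node (.node (.leaf 0x100) (.leaf 0x100)) (.leaf 0x100)) (.node (.leaf 0x8000000000212) (.leaf 0x1040714180c37084e04642a902037e152106f2952000816))) (.node (.node (.leaf 0x8000000000212) (.leaf 0x100)) (.node (.leaf 0x100) (.leaf 0x80e0100c00c0e494a15189b8314c868d81feaf2001eb2cf3650170a16)))) (.node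 (.node (.node (.node (.leaf 0x100) (.leaf 0x8000000000212)) (.leaf 0x100)) (.node (.leaf 0x100) (.leaf 0x8000000000212))) (.node (.node (.leaf 0x100) (.leaf 0x100)) (.node (.leaf 0x100) (.leaf 0x100))))) (.node (.node (.node (.node (.node (.leaf 0x100) (.leaf 0x2030285420172a279d08354904320a10c4434b6788bc30360916)) (.leaf 0x100)) (.node (.leaf 0x100) (.leaf 0x8000000000212))) (.node (.node (.leaf 0x8000000000212) (.leaf 0x8000000000212)) (.node (.leaf 0x8000000000212) (.leaf 0x100)))) (.node (.node (.node (.node (.leaf 0x100) (.leaf 0x100)) (.leaf 0x100)) (.node (.leaf 0x8000000000212) (.leaf 0x100))) (.node (.node (.leaf 0x209000000000215) (.leaf 0x100)) (.node (.leaf 0x100) (.leaf 0x11a300000000000000000414)))))) (.node (.node (.node (.node (.node (.node (.leaf 0x8000000000212) (.leaf 0x200f0060b41402b5a84ad4ba4e4769940d88f0a4f1823097b505318783c0b16)) (.leaf 0x100)) (.node (.leaf 0x100) (.leaf 0x100))) (.node (.node (.leaf 0x100) (.leaf 0x100)) (.node (.leaf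 0x119e85000000000000000000000515) (.leaf 0x100)))) (.node (.node (.node (.node (.leaf 0x8000000000212) (.leaf 0x8000000000212)) (.leaf 0x100)) (.node (.leaf 0x100) (.leaf 0x181412014a610529706f181c1b07675207ecea2e4586862030916))) (.node (.node (.leaf 0x100) (.leaf 0x6050a130709ae1f6386dfb10c3f422905202434e9400816)) (.node (.leaf 0x100) (.leaf 0x100))))) (.node (.node (.node (.node (.node (.leaf 0x100) (.leaf 0x100)) (.leaf 0x8000000000212)) (.node (.leaf 0x100) (.leaf 0x100))) (.node (.node (.leaf 0x100) (.leaf 0x100)) (.node (.leaf 0x100) (.leaf 0x8000000000212)))) (.node (.node (.node (.node (.leaf 0x8000000000212) (.leaf 0x98110080484781e14f0bc1717bb28e4ae51b02f63c09c1c90028f5c40810b16)) (.leaf 0x8000000000212)) (.node (.leaf 0x100) (.leaf 0x100))) (.node (.node (.leaf 0x100) (.leaf 0x100)) (.node (.leaf 0x140902c25040230593f104107a12a9d84610d451788b114c72f0020a16) (.leaf 0x8000000000212))))))) (.node (.node (.node (.node (.node (.node (.node (.leaf 0x100)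 (.leaf 0x901001b04c03a03c5a918970a5a9a3c63cb3848a431a274c405bd9f4c99200870c16)) (.leaf 0x100)) (.node (.leaf 0x800e14c0d4c18b9376ed78213e8c03987888d0716) (.leaf 0x100))) (.node (.node (.leaf 0x100) (.leaf 0x8000000000212)) (.node (.leaf 0x100) (.leaf 0x8000000000212)))) (.node (.node (.node (.node (.leaf 0x8000000000212) (.leaf 0x100)) (.leaf 0x100)) (.node (.leaf 0x100) (.leaf 0x100))) (.node (.node (.leaf 0x100) (.leaf 0x100)) (.node (.leaf 0x100) (.leaf 0x8000000000212))))) (.node (.node (.node (.node (.node (.leaf 0x100) (.leaf 0x8000000000212)) (.leaf 0x100)) (.node (.leaf 0x100) (.leaf 0x3300706b02a06925401d32302d48d2e95e31011709061cd06d67024032703b0c15))) (.node (.node (.leaf 0x100) (.leaf 0x100)) (.node (.leaf 0x100) (.leaf 0x100)))) (.node (.node (.node (.node (.leaf 0x8000000000212) (.leaf 0x1c06000120cc1817cef1d837531209787a63ced5080240ca9458030a16)) (.leaf 0x100)) (.node (.leaf 0x100) (.leaf 0x100))) (.node (.node (.leaf 0x100) (.leaf 0x100)) (.node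 (.leaf 0x100) (.leaf 0x100)))))) (.node (.node (.node (.node (.node (.node (.leaf 0x100) (.leaf 0x8000000000212)) (.leaf 0x100)) (.node (.leaf 0x8000000000212) (.leaf 0x100))) (.node (.node (.leaf 0x100) (.leaf 0x8000000000212)) (.node (.leaf 0x100) (.leaf 0x100)))) (.node (.node (.node (.node (.leaf 0x100) (.leaf 0x8000000000212)) (.leaf 0x100)) (.node (.leaf 0x8000000000212) (.leaf 0x100))) (.node (.node (.leaf 0x8000000000212) (.leaf 0x100)) (.node (.leaf 0x100) (.leaf 0x8000000000212))))) (.node (.node (.node (.node (.node (.leaf 0x100) (.leaf 0x210144125168960e28c79d6c2ad33860615)) (.leaf 0x8000000000212)) (.node (.leaf 0x8000000000212) (.leaf 0x100))) (.node (.node (.leaf 0x100) (.leaf 0x100)) (.node (.leaf 0x100) (.leaf 0x8000000000212)))) (.node (.node (.node (.node (.leaf 0x100) (.leaf 0x5014058110408644f22b08e02c6208499303c207484ac063816444f50130b16)) (.leaf 0x100)) (.node (.leaf 0x8000000000212) (.leaf 0x8000000000212))) (.node (.node (.leaf 0x100)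 (.leaf 0x100)) (.node (.leaf 0x100) (.leaf 0x4209a01184c80ae1180e3832120440667124324401ae27ad62c8dc17672f9b0d4780f10d16))))))))

/-- data -/
def val0p14 : Trie (ℕ) := .node (.node (.node (.node (.node (.node (.node (.node (.node (.leaf 0x100) (.leaf 0x219000000000000000000414)) (.leaf 0x102000000000215)) (.node (.leaf 0x100) (.leaf 0x100))) (.node (.node (.leaf 0x2000000000211) (.leaf 0x102000000000215)) (.node (.leaf 0x2000000000211) (.leaf 0x500000113)))) (.node (.node (.node (.node (.leaf 0x2000000000211) (.leaf 0x2000000000211)) (.leaf 0x100)) (.node (.leaf 0x840000000000000313) (.leaf 0x60a0584038021f9a4540c771d0a83c1e41c72100f12454360916))) (.node (.node (.leaf 0x2000000000211) (.leaf 0x100360440540d108a4df07538212e84657e96412e1c5feb246008aad3594be0380c16)) (.node (.leaf 0x2000000000211) (.leaf 0x68130620644303f5c0180ce920902cf5b9903075d08128079d07609695d0b16))))) (.node (.node (.node (.node (.node (.leaf 0x100) (.leaf 0xc08e01281ea0644214246c0783d802124db0db491d842437be4af3df003c8544ad554003fb0e16))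 (.leaf 0x2000000000211)) (.node (.leaf 0x2000000000211) (.leaf 0x2000000000211))) (.node (.node (.leaf 0x100) (.leaf 0x2000000000211)) (.node (.leaf 0x100) (.leaf 0x19000000000213)))) (.node (.node (.node (.node (.leaf 0x2000000000211) (.leaf 0x2000000000211)) (.leaf 0x100)) (.node (.leaf 0x100) (.leaf 0x2000000000211))) (.node (.node (.leaf 0x100) (.leaf 0x2000000000211)) (.node (.leaf 0x2000000000211) (.leaf 0x2000000000211)))))) (.node (.node (.node (.node (.node (.node (.leaf 0x100) (.leaf 0x2000000000211)) (.leaf 0x100)) (.node (.leaf 0x2000000000211) (.leaf 0x2000000000211))) (.node (.node (.leaf 0x100) (.leaf 0x100)) (.node (.leaf 0x2000000000211) (.leaf 0x2090281c180b0717889094a96d62481dcf8501e1a8d8180d0916)))) (.node (.node (.node (.node (.leaf 0x100) (.leaf 0x2000000000211)) (.leaf 0x400000113)) (.node (.leaf 0x100) (.leaf 0x2000000000211))) (.node (.node (.leaf 0x100) (.leaf 0x2000000000211)) (.node (.leaf 0x2000000000211) (.leaf 0xc050404c08094ebe58b106a170e41b2533c565f4d00804310916)))))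 (.node (.node (.node (.node (.node (.leaf 0x2000000000211) (.leaf 0x100)) (.leaf 0x2000000000211)) (.node (.leaf 0x2000000000211) (.leaf 0xf0150390290960573aa0dd2cd0343332ad28509711c83c0df0e179416c30b0280c16))) (.node (.node (.leaf 0x100) (.leaf 0x100)) (.node (.leaf 0x2000000000211) (.leaf 0x100)))) (.node (.node (.node (.node (.leaf 0x2000000000211) (.leaf 0x4000e182524353bbdea1c33ae2159fe9ab7a45c10890816)) (.leaf 0x22391325e01b5c39184310415)) (.node (.leaf 0x400000113) (.leaf 0x200000000000215))) (.node (.node (.leaf 0x2000000000211) (.leaf 0x100)) (.node (.leaf 0x2000000000211) (.leaf 0x100))))))) (.node (.node (.node (.node (.node (.node (.node (.leaf 0x2000000000211) (.leaf 0x100)) (.leaf 0x112000000000215)) (.node (.leaf 0x100) (.leaf 0x2000000000211))) (.node (.node (.leaf 0x2000000000211) (.leaf 0x2000000000211)) (.node (.leaf 0x2000000000211) (.leaf 0x2000000000211)))) (.node (.node (.node (.node (.leaf 0x100) (.leaf 0x2000000000211)) (.leaf 0x2000000000211))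 (.node (.leaf 0x400000113) (.leaf 0x100))) (.node (.node (.leaf 0x100) (.leaf 0xa81509606c5f05d1c86fc70ac33502702c94e1d51c08e91d6900fc3a89c0b16)) (.node (.leaf 0x100) (.leaf 0x2000000000211))))) (.node (.node (.node (.node (.node (.leaf 0x2000000000211) (.leaf 0x2000000000211)) (.leaf 0x100)) (.node (.leaf 0x2000000000211) (.leaf 0x2000000000211))) (.node (.node (.leaf 0x2000000000211) (.leaf 0x2000000000211)) (.node (.leaf 0x2000000000211) (.leaf 0x2000000000211)))) (.node (.node (.node (.node (.leaf 0x100) (.leaf 0x2000000000211)) (.leaf 0x100)) (.node (.leaf 0x100) (.leaf 0x100))) (.node (.node (.leaf 0x2000000000211) (.leaf 0x2000000000211)) (.node (.leaf 0x100) (.leaf 0x2000000000211)))))) (.node (.node (.node (.node (.node (.node (.leaf 0x100) (.leaf 0x209400000000000000000414)) (.leaf 0x2000000000211)) (.node (.leaf 0x2000000000211) (.leaf 0x408054031500b58d2d4520173868411a4010ad1d81d98c9f5101d0a16))) (.node (.node (.leaf 0x2000000000211) (.leaf 0x100))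 (.node (.leaf 0x100) (.leaf 0x2000000000211)))) (.node (.node (.node (.node (.leaf 0x2000000000211) (.leaf 0x3028000bc0e2840c2b80e579366a0050771905818534d31b8920a15)) (.leaf 0x2000000000211)) (.node (.leaf 0x2000000000211) (.leaf 0x100))) (.node (.node (.leaf 0x100) (.leaf 0x100)) (.node (.leaf 0x100) (.leaf 0x100))))) (.node (.node (.node (.node (.node (.leaf 0x2000000000211) (.leaf 0x20c50000000000000315)) (.leaf 0x2000000000211)) (.node (.leaf 0x100) (.leaf 0x2000000000211))) (.node (.node (.leaf 0x100) (.leaf 0x40800034180d1286c344e612b23c0b33bec94153495d34310916)) (.node (.leaf 0x100) (.leaf 0x100)))) (.node (.node (.node (.node (.leaf 0x100) (.leaf 0x100)) (.leaf 0x100)) (.node (.leaf 0x100) (.leaf 0x2000000000211))) (.node (.node (.leaf 0x100) (.leaf 0x100)) (.node (.leaf 0x2000000000211) (.leaf 0x2000000000211)))))))) (.node (.node (.node (.node (.node (.node (.node (.node (.leaf 0x2000000000211) (.leaf 0x2000000000211)) (.leaf 0x100)) (.node (.leaf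 0x2000000000211) (.leaf 0x100))) (.node (.node (.leaf 0x2000000000211) (.leaf 0x2000000000211)) (.node (.leaf 0x100) (.leaf 0x2000000000211)))) (.node (.node (.node (.node (.leaf 0x2000000000211) (.leaf 0x2000000000211)) (.leaf 0x2000000000211)) (.node (.leaf 0x2000000000211) (.leaf 0x2000000000211))) (.node (.node (.leaf 0x2000000000211) (.leaf 0x100)) (.node (.leaf 0x100) (.leaf 0x100))))) (.node (.node (.node (.node (.node (.leaf 0x2000000000211) (.leaf 0x2000000000211)) (.leaf 0x2000000000211)) (.node (.leaf 0x2000000000211) (.leaf 0x100))) (.node (.node (.leaf 0x2000000000211) (.leaf 0x2000000000211)) (.node (.leaf 0x2000000000211) (.leaf 0x100)))) (.node (.node (.node (.node (.leaf 0x100) (.leaf 0x18030120000a00f1501a86096f89ab4e2481a0957003487260c6d92d83a0b16)) (.leaf 0x100)) (.node (.leaf 0x2000000000211) (.leaf 0x100))) (.node (.node (.leaf 0x100) (.leaf 0x2000000000211)) (.node (.leaf 0x100) (.leaf 0x100)))))) (.node (.node (.node (.node (.node (.node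 (.leaf 0x2000000000211) (.leaf 0x2000000000211)) (.leaf 0x2000000000211)) (.node (.leaf 0x10a100000000000000000414) (.leaf 0x2000000000211))) (.node (.node (.leaf 0x2000000000211) (.leaf 0x2000000000211)) (.node (.leaf 0x2000000000211) (.leaf 0x100)))) (.node (.node (.node (.node (.leaf 0x100) (.leaf 0x202000000000215)) (.leaf 0x100)) (.node (.leaf 0x2000000000211) (.leaf 0x2000000000211))) (.node (.node (.leaf 0x100) (.leaf 0x113a3416d02c6b4a473420415)) (.node (.leaf 0x2000000000211) (.leaf 0x2000000000211))))) (.node (.node (.node (.node (.node (.leaf 0x100) (.leaf 0xc0501c0a028042dc9001da7414596bc301ae5e0a81b1f88e0b41e0a16)) (.leaf 0x100)) (.node (.leaf 0x100) (.leaf 0x2000000000211))) (.node (.node (.leaf 0x2000000000211) (.leaf 0x100)) (.node (.leaf 0x2000000000211) (.leaf 0x2000000000211)))) (.node (.node (.node (.node (.leaf 0x2000000000211) (.leaf 0x2000000000211)) (.leaf 0x100)) (.node (.leaf 0x1020000000000000313) (.leaf 0x100))) (.node (.node (.leaf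 0x2000000000211) (.leaf 0x2000000000211)) (.node (.leaf 0x100) (.leaf 0x2000000000211))))))) (.node (.node (.node (.node (.node (.node (.node (.leaf 0x2000000000211) (.leaf 0x2000000000211)) (.leaf 0x2000000000211)) (.node (.leaf 0x100) (.leaf 0x100))) (.node (.node (.leaf 0x100) (.leaf 0x100)) (.node (.leaf 0x2000000000211) (.leaf 0x4050303c1a0727170860389aa51e331ad90840d121a062510916)))) (.node (.node (.node (.node (.leaf 0x100) (.leaf 0x2000000000211)) (.leaf 0x100)) (.node (.leaf 0x100) (.leaf 0x400a0380041f82034e448f30c835c6313e00136f884cb1087f6404cd0320b16))) (.node (.node (.leaf 0x100) (.leaf 0x2000000000211)) (.node (.leaf 0x2000000000211) (.leaf 0x4010080a0540e07c8f3502f8e1bed28684be793f00956d39428780a16))))) (.node (.node (.node (.node (.node (.leaf 0x100) (.leaf 0x3900907303406f25002b31902f46d2d55bb0f71648e61c106f65c23231303d0c15)) (.leaf 0x100)) (.node (.leaf 0x2000000000211) (.leaf 0x100))) (.node (.node (.leaf 0x100) (.leaf 0x2000000000211)) (.node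 (.leaf 0x2000000000211) (.leaf 0x100)))) (.node (.node (.node (.node (.leaf 0x2000000000211) (.leaf 0x2000000000211)) (.leaf 0x100)) (.node (.leaf 0x2000000000211) (.leaf 0x2000000000211))) (.node (.node (.leaf 0x100) (.leaf 0x2000000000211)) (.node (.leaf 0x2000000000211) (.leaf 0x2000000000211)))))) (.node (.node (.node (.node (.node (.node (.leaf 0x2000000000211) (.leaf 0x100)) (.leaf 0x100)) (.node (.leaf 0x401040042a080d878e8824613a780817f1c9c0a738f5142f0916) (.leaf 0x2000000000211))) (.node (.node (.leaf 0x100) (.leaf 0x2000000000211)) (.node (.leaf 0x2000000000211) (.leaf 0x100)))) (.node (.node (.node (.node (.leaf 0x100) (.leaf 0x100)) (.leaf 0x2000000000211)) (.node (.leaf 0x100) (.leaf 0x100))) (.node (.node (.leaf 0x100) (.leaf 0x2000000000211)) (.node (.leaf 0x2000000000211) (.leaf 0x2000000000211))))) (.node (.node (.node (.node (.node (.leaf 0x100) (.leaf 0x100)) (.leaf 0x100)) (.node (.leaf 0x2000000000211) (.leaf 0x2000000000211))) (.node (.node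 (.leaf 0x2000000000211) (.leaf 0x100)) (.node (.leaf 0x100) (.leaf 0x2000000000211)))) (.node (.node (.node (.node (.leaf 0x2000000000211) (.leaf 0x2000000000211)) (.leaf 0x100)) (.node (.leaf 0x100) (.leaf 0x2000000000211))) (.node (.node (.leaf 0x100) (.leaf 0x100)) (.node (.leaf 0x2000000000211) (.leaf 0x26072000053013614c27a82213e81666e02782720270309dd44c140d69299cd585411f0d16))))))))

/-- data -/
def val0p15 : Trie (ℕ) := .node (.node (.node (.node (.node (.node (.node (.node (.node (.leaf 0x8000000000212) (.leaf 0x100)) (.leaf 0x8000000000212)) (.node (.leaf 0x200040a030e5954320117235d0636831d1c651813080816) (.leaf 0x100))) (.node (.node (.leaf 0x100) (.leaf 0x8000000000212)) (.node (.leaf 0x100) (.leaf 0x100)))) (.node (.node (.node (.node (.leaf 0x100) (.leaf 0xc12034120a0085ec8b621f9769369a9324e63d56008f3cf57b0010a16)) (.leaf 0x100)) (.node (.leaf 0x100) (.leaf 0x407048086c0025d76312fc63a9cd145b0f1ba25a8b7e7c2b0916))) (.node (.node (.leaf 0x100) (.leaf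 0x8000000000212)) (.node (.leaf 0x100) (.leaf 0x100))))) (.node (.node (.node (.node (.node (.leaf 0x8000000000212) (.leaf 0x20330280642080f0820d05024b5667751209c4e7309ad12b61a269372510b16)) (.leaf 0x18050220641c02b2b00208180653e755308670f5060378015104309c84d0b16)) (.node (.leaf 0x100) (.leaf 0x100))) (.node (.node (.leaf 0x8000000000212) (.leaf 0x100)) (.node (.leaf 0x100) (.leaf 0x100)))) (.node (.node (.node (.node (.leaf 0x100) (.leaf 0x341107c110b81f610e5104702002a6280e3cd083800f99851098240a16)) (.leaf 0x100)) (.node (.leaf 0x100) (.leaf 0x1c23024160241418512498ad7aa341d031020bf3ac4dba4c7a40d50a16))) (.node (.node (.leaf 0x100) (.leaf 0x100)) (.node (.leaf 0x100) (.leaf 0x100)))))) (.node (.node (.node (.node (.node (.node (.leaf 0x8000000000212) (.leaf 0x18130260a4220354481412496673e905bc95d15d5f06c8359f86a91186f0b16)) (.leaf 0x8000000000212)) (.node (.leaf 0x100) (.leaf 0x100))) (.node (.node (.leaf 0x8000000000212) (.leaf 0x100)) (.node (.leaf 0x100)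 (.leaf 0x100)))) (.node (.node (.node (.node (.leaf 0x8000000000212) (.leaf 0x201b01904108605d2901402f30f86194897a118326e87422b00565c3043d307d0c16)) (.leaf 0x100)) (.node (.leaf 0x8000000000212) (.leaf 0x100))) (.node (.node (.leaf 0x8000000000212) (.leaf 0x100)) (.node (.leaf 0x100) (.leaf 0x8000000000212))))) (.node (.node (.node (.node (.node (.leaf 0x100) (.leaf 0x8000000000212)) (.leaf 0x100)) (.node (.leaf 0x100) (.leaf 0x8000000000212))) (.node (.node (.leaf 0x100) (.leaf 0x100)) (.node (.leaf 0x100) (.leaf 0x8000000000212)))) (.node (.node (.node (.node (.leaf 0x100) (.leaf 0x10010400a0ac18284883cc362d4578849b2e1282e44f318a422c2b0a16)) (.leaf 0x100)) (.node (.leaf 0x100) (.leaf 0x8000000000212))) (.node (.node (.leaf 0x40b068c6321f2a460f340812808ea5c920c3c5b935167e0915) (.leaf 0x8000000000212)) (.node (.leaf 0x100) (.leaf 0x100))))))) (.node (.node (.node (.node (.node (.node (.node (.leaf 0x100) (.leaf 0x900b02d01509003f0ba0ad11333f2291a157308613097a1870b739c15405c1170c16))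 (.leaf 0x100)) (.node (.leaf 0x100) (.leaf 0x110a000000000000000000415))) (.node (.node (.leaf 0x100) (.leaf 0x100)) (.node (.leaf 0x100) (.leaf 0x100)))) (.node (.node (.node (.node (.leaf 0x100) (.leaf 0x100)) (.leaf 0x100)) (.node (.leaf 0x100) (.leaf 0x8000000000212))) (.node (.node (.leaf 0x8000000000212) (.leaf 0x100)) (.node (.leaf 0x8000000000212) (.leaf 0x100))))) (.node (.node (.node (.node (.node (.leaf 0x100) (.leaf 0x200cf012421106b8247277006b45844596ab52a59f54455318af48346c1319548db6599c26a0e16)) (.leaf 0x100)) (.node (.leaf 0x100) (.leaf 0x100))) (.node (.node (.leaf 0x100) (.leaf 0x100)) (.node (.leaf 0x100) (.leaf 0x20614a0b0238f9146ed48821a882154981a10715)))) (.node (.node (.node (.node (.leaf 0x8000000000212) (.leaf 0xc040800c3a0641a8130731f874cc20509c5880ace8398c6b0916)) (.leaf 0x200818140413934b00f5115a044823a1cb0135d93d2c2b0915)) (.node (.leaf 0x100) (.leaf 0x8000000000212))) (.node (.node (.leaf 0x100) (.leaf 0x100)) (.node (.leaf 0x8000000000212)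 (.leaf 0x100)))))) (.node (.node (.node (.node (.node (.node (.leaf 0x100) (.leaf 0x10080240b81d8363566e89102e2bc6588b06f13f1043202c4c22349602e0b16)) (.leaf 0x100)) (.node (.leaf 0x100) (.leaf 0x8000000000212))) (.node (.node (.leaf 0x100) (.leaf 0x8000000000212)) (.node (.leaf 0x8000000000212) (.leaf 0x100)))) (.node (.node (.node (.node (.leaf 0x100) (.leaf 0x1102502f00706401f3232d72d828380059a6ea20a0f742f0be1654433c16000910c16)) (.leaf 0x100)) (.node (.leaf 0x100) (.leaf 0x607a02403f82c612a2fa805cf542906af24fa5ec1dc326dc7cda404a76099f53600070d16))) (.node (.node (.leaf 0x100) (.leaf 0x8000000000212)) (.node (.leaf 0x8000000000212) (.leaf 0x100))))) (.node (.node (.node (.node (.node (.leaf 0x100) (.leaf 0x247b0000000000000315)) (.leaf 0x100)) (.node (.leaf 0x8000000000212) (.leaf 0x100))) (.node (.node (.leaf 0x100) (.leaf 0x100)) (.node (.leaf 0x100) (.leaf 0x8000000000212)))) (.node (.node (.node (.node (.leaf 0x100) (.leaf 0x300400e09c2502b0ac2817c8c25a285dd294735d4a095967748790f98d90b16))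 (.leaf 0x8000000000212)) (.node (.leaf 0x8000000000212) (.leaf 0xf008e4142d2edde5ab6d51bba80d2260508ed5812cc82d0915))) (.node (.node (.leaf 0x8000000000212) (.leaf 0x8000000000212)) (.node (.leaf 0x400020000206398ac223c5f2712c0509d0c020b048e40a440916) (.leaf 0x100)))))))) (.node (.node (.node (.node (.node (.node (.node (.node (.leaf 0x100) (.leaf 0x480e0201584386609a149691575d4a226f0e648b22cf209c516834c917e0b16)) (.leaf 0x100)) (.node (.leaf 0x100) (.leaf 0x8000000000212))) (.node (.node (.leaf 0x100) (.leaf 0x100)) (.node (.leaf 0x8000000000212) (.leaf 0x100)))) (.node (.node (.node (.node (.leaf 0x100) (.leaf 0x53c0000000000000314)) (.leaf 0x100)) (.node (.leaf 0x100) (.leaf 0x100))) (.node (.node (.leaf 0x100) (.leaf 0x8000000000212)) (.node (.leaf 0x8000000000212) (.leaf 0x8000000000212))))) (.node (.node (.node (.node (.node (.leaf 0x100) (.leaf 0x100a050040fc1a5d48b540f74a8dc310d8031eb08c40c9ca1598430a16)) (.leaf 0x100)) (.node (.leaf 0x100) (.leaf 0xc0d04c1b1082f15c283ca6507868390a44748e4200d6ec65438200a16)))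 (.node (.node (.leaf 0x100) (.leaf 0x100)) (.node (.leaf 0x100) (.leaf 0x100)))) (.node (.node (.node (.node (.leaf 0x100) (.leaf 0x1802804423815002af81e90cccaea6dd9470b4a18459841ec9a15384d0b15)) (.leaf 0x100)) (.node (.leaf 0x100) (.leaf 0x8000000000212))) (.node (.node (.leaf 0x8000000000212) (.leaf 0x100)) (.node (.leaf 0x8000000000212) (.leaf 0x100)))))) (.node (.node (.node (.node (.node (.node (.leaf 0x100) (.leaf 0xc050083c601531280c6064aa871a49a22c20a1d6a169be2e0916)) (.leaf 0x100)) (.node (.leaf 0x8000000000212) (.leaf 0x28000482103415290b01be1c1a44d170f12ea6f1e4163b036484680a16))) (.node (.node (.leaf 0x100) (.leaf 0x14290ac0d260232780f2dc7d5d9086343f722b8894f56303d238590a16)) (.node (.leaf 0x100) (.leaf 0x8000000000212)))) (.node (.node (.node (.node (.leaf 0x100) (.leaf 0x8000000000212)) (.leaf 0x8000000000212)) (.node (.leaf 0x100) (.leaf 0x4090342b0d839170db3bce927c9559c541ab1a20c596a882284130a16))) (.node (.node (.leaf 0x8000000000212) (.leaf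 0x8000000000212)) (.node (.leaf 0x100) (.leaf 0x100))))) (.node (.node (.node (.node (.node (.leaf 0x100) (.leaf 0x100)) (.leaf 0x100)) (.node (.leaf 0x8000000000212) (.leaf 0x100))) (.node (.node (.leaf 0x100) (.leaf 0x8000000000212)) (.node (.leaf 0x100) (.leaf 0x1834026068220100840cc4fa4c5687791189b4e9305ac92c61c26536a520b16)))) (.node (.node (.node (.node (.leaf 0x100) (.leaf 0xc03002002301fa0ce1c08328a6c2fc4511aa9c3009a1e5d70c7e015c5f3932c80c1be0d16)) (.leaf 0x100)) (.node (.leaf 0x8000000000212) (.leaf 0x1081888c043501248f15071fa47a252942220715))) (.node (.node (.leaf 0x100) (.leaf 0x100)) (.node (.leaf 0x100) (.leaf 0x100))))))) (.node (.node (.node (.node (.node (.node (.node (.leaf 0x100) (.leaf 0x24020c009288092b40d57d356a40607b1805415538d41b4910a14)) (.leaf 0x100)) (.node (.leaf 0x100) (.leaf 0x100))) (.node (.node (.leaf 0x100) (.leaf 0x100)) (.node (.leaf 0x100) (.leaf 0x381c0342284f89a3a29d0cb00f374a226f0757330f5910678363e54f0750b16)))) (.node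 (.node (.node (.node (.leaf 0x100) (.leaf 0x100)) (.leaf 0x8000000000212)) (.node (.leaf 0x8000000000212) (.leaf 0x4070040f0000f1140e119574ecdb8d4721b2222244a0548c0585f0a16))) (.node (.node (.leaf 0x8000000000212) (.leaf 0x10060201f01c1303c8323cd24f8c28381518de12285b1e8671dc860a16)) (.node (.leaf 0x100) (.leaf 0x100))))) (.node (.node (.node (.node (.node (.leaf 0x100) (.leaf 0x301300c0320530463491372b8190bfa986c84018271ca91822037d750b8080f30c16)) (.leaf 0x8000000000212)) (.node (.leaf 0x222226000000000000000000000515) (.leaf 0x100))) (.node (.node (.leaf 0x8000000000212) (.leaf 0x100)) (.node (.leaf 0x100) (.leaf 0x8000000000212)))) (.node (.node (.node (.node (.leaf 0x100) (.leaf 0x8010060ec0704540019542a8460ea955b9112b91407c86b8d06f9308a90b16)) (.leaf 0x8000000000212)) (.node (.leaf 0x100) (.leaf 0x100))) (.node (.node (.leaf 0x8000000000212) (.leaf 0x100)) (.node (.leaf 0x100) (.leaf 0x100)))))) (.node (.node (.node (.node (.node (.node (.leaf 0x100) (.leaf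 0x100)) (.leaf 0x8000000000212)) (.node (.leaf 0x100) (.leaf 0x100))) (.node (.node (.leaf 0x8000000000212) (.leaf 0x100)) (.node (.leaf 0x100) (.leaf 0x8000000000212)))) (.node (.node (.node (.node (.leaf 0x100) (.leaf 0x8000000000212)) (.leaf 0x300d00000f0130130aa1ce2e33395e72e98490db028a9611f04356e30838f0740c16)) (.node (.leaf 0x100) (.leaf 0x100))) (.node (.node (.leaf 0x810e0cc094c18b9376ed78213e8c03987888d0716) (.leaf 0x100)) (.node (.leaf 0x80b0100700c01390964848c6a4e97c4cd22a102a4119e0ca5c4300a16) (.leaf 0x500c034024188102fa1213907929c3a13f0ec0bb94c4611493642c7b0860b16))))) (.node (.node (.node (.node (.node (.leaf 0x8000000000212) (.leaf 0x40d00c090180d430a24c48e7953b844cf212801ec1baa0e65f4200a16)) (.leaf 0x100)) (.node (.leaf 0x119000000000215) (.leaf 0x4bc0000000000000314))) (.node (.node (.leaf 0x1021010a8a4a14c1478f180115e4b84967490e0716) (.leaf 0x100)) (.node (.leaf 0x8000000000212) (.leaf 0x100)))) (.node (.node (.node (.node (.leaf 0x100) (.leaf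 0x481305610c420634f42ac8d82b61e8459283b209488ab864818448f48140b16)) (.leaf 0x8000000000212)) (.node (.leaf 0x100) (.leaf 0x1012030ac342d80101c370bfe56ae996a0549256812f32e360916))) (.node (.node (.leaf 0x8000000000212) (.leaf 0x100)) (.node (.leaf 0x100) (.leaf 0x8000000000212))))))))

/-- data -/
def val0 : Trie (ℕ) := .node (.node (.node (.node (val0p0) (val0p8)) (.node (val0p4) (val0p12))) (.node (.node (val0p2) (val0p10)) (.node (val0p6) (val0p14)))) (.node (.node (.node (val0p1) (val0p9)) (.node (val0p5) (val0p13))) (.node (.node (val0p3) (val0p11)) (.node (val0p7) (val0p15))))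

/-- data -/
def rank0p0 : Trie (ℕ) := .node (.node (.node (.node (.node (.node (.node (.node (.node (.leaf 0) (.leaf 1622)) (.leaf 0)) (.node (.leaf 0) (.leaf 0))) (.node (.node (.leaf 1711) (.leaf 533)) (.node (.leaf 0) (.leaf 1984)))) (.node (.node (.node (.node (.leaf 59) (.leaf 907)) (.leaf 481)) (.node (.leaf 0) (.leaf 698))) (.node (.node (.leaf 0) (.leaf 589)) (.node (.leaf 380) (.leaf 0))))) (.node (.node (.node (.node (.node (.leaf 0) (.leaf 879)) (.leaf 460)) (.node (.leaf 0) (.leaf 672))) (.node (.node (.leaf 0) (.leaf 0)) (.node (.leaf 0) (.leaf 1766)))) (.node (.node (.node (.node (.leaf 85) (.leaf 932)) (.leaf 1787)) (.node (.leaf 301) (.leaf 722))) (.node (.node (.leaf 0) (.leaf 620)) (.node (.leaf 407) (.leaf 0)))))) (.node (.node (.node (.node (.node (.node (.leaf 0) (.leaf 0)) (.leaf 0)) (.node (.leaf 232) (.leaf 655))) (.node (.node (.leaf 125) (.leaf 549)) (.node (.leaf 0) (.leaf 758)))) (.node (.node (.node (.node (.leaf 0) (.leaf 0))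 (.leaf 0)) (.node (.leaf 290) (.leaf 0))) (.node (.node (.leaf 1569) (.leaf 604)) (.node (.leaf 0) (.leaf 812))))) (.node (.node (.node (.node (.node (.leaf 44) (.leaf 892)) (.leaf 470)) (.node (.leaf 262) (.leaf 685))) (.node (.node (.leaf 0) (.leaf 0)) (.node (.leaf 0) (.leaf 2209)))) (.node (.node (.node (.node (.leaf 0) (.leaf 2211)) (.leaf 1584)) (.node (.leaf 315) (.leaf 0))) (.node (.node (.leaf 0) (.leaf 0)) (.node (.leaf 1786) (.leaf 0))))))) (.node (.node (.node (.node (.node (.node (.node (.leaf 0) (.leaf 2237)) (.leaf 440)) (.node (.leaf 0) (.leaf 649))) (.node (.node (.leaf 0) (.leaf 541)) (.node (.leaf 0) (.leaf 751)))) (.node (.node (.node (.node (.leaf 0) (.leaf 1719)) (.leaf 488)) (.node (.leaf 283) (.leaf 1879))) (.node (.node (.leaf 0) (.leaf 596)) (.node (.leaf 1586) (.leaf 805))))) (.node (.node (.node (.node (.node (.leaf 0) (.leaf 0)) (.leaf 0)) (.node (.leaf 255) (.leaf 680))) (.node (.node (.leaf 0) (.leaf 572)) (.node (.leaf 2034)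 (.leaf 776)))) (.node (.node (.node (.node (.leaf 92) (.leaf 939)) (.leaf 517)) (.node (.leaf 0) (.leaf 729))) (.node (.node (.leaf 0) (.leaf 1881)) (.node (.leaf 0) (.leaf 833)))))) (.node (.node (.node (.node (.node (.node (.leaf 0) (.leaf 1772)) (.leaf 454)) (.node (.leaf 1636) (.leaf 1981))) (.node (.node (.leaf 0) (.leaf 557)) (.node (.leaf 0) (.leaf 765)))) (.node (.node (.node (.node (.leaf 79) (.leaf 2266)) (.leaf 505)) (.node (.leaf 0) (.leaf 0))) (.node (.node (.leaf 188) (.leaf 612)) (.node (.leaf 1663) (.leaf 0))))) (.node (.node (.node (.node (.node (.leaf 51) (.leaf 0)) (.leaf 0)) (.node (.leaf 0) (.leaf 1996))) (.node (.node (.leaf 0) (.leaf 1749)) (.node (.leaf 0) (.leaf 792)))) (.node (.node (.node (.node (.leaf 0) (.leaf 955)) (.leaf 0)) (.node (.leaf 0) (.leaf 740))) (.node (.node (.leaf 0) (.leaf 1955)) (.node (.leaf 425) (.leaf 1862)))))))) (.node (.node (.node (.node (.node (.node (.node (.node (.leaf 0) (.leaf 1660)) (.leaf 436)) (.node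 (.leaf 0) (.leaf 0))) (.node (.node (.leaf 0) (.leaf 0)) (.node (.leaf 0) (.leaf 747)))) (.node (.node (.node (.node (.leaf 62) (.leaf 0)) (.leaf 483)) (.node (.leaf 0) (.leaf 701))) (.node (.node (.leaf 0) (.leaf 0)) (.node (.leaf 0) (.leaf 0))))) (.node (.node (.node (.node (.node (.leaf 35) (.leaf 881)) (.leaf 2019)) (.node (.leaf 0) (.leaf 0))) (.node (.node (.leaf 0) (.leaf 0)) (.node (.leaf 359) (.leaf 772)))) (.node (.node (.node (.node (.leaf 0) (.leaf 936)) (.leaf 0)) (.node (.leaf 1804) (.leaf 2191))) (.node (.node (.leaf 0) (.leaf 1817)) (.node (.leaf 411) (.leaf 0)))))) (.node (.node (.node (.node (.node (.node (.leaf 21) (.leaf 0)) (.leaf 1592)) (.node (.leaf 236) (.leaf 1597))) (.node (.node (.leaf 129) (.leaf 552)) (.node (.leaf 1746) (.leaf 761)))) (.node (.node (.node (.node (.leaf 0) (.leaf 0)) (.leaf 0)) (.node (.leaf 0) (.leaf 0))) (.node (.node (.leaf 184) (.leaf 607)) (.node (.leaf 0) (.leaf 816))))) (.node (.node (.node (.node (.node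 (.leaf 0) (.leaf 2079)) (.leaf 0)) (.node (.leaf 266) (.leaf 0))) (.node (.node (.leaf 155) (.leaf 579)) (.node (.leaf 0) (.leaf 0)))) (.node (.node (.node (.node (.leaf 0) (.leaf 0)) (.leaf 524)) (.node (.leaf 0) (.leaf 738))) (.node (.node (.leaf 0) (.leaf 635)) (.node (.leaf 423) (.leaf 2055))))))) (.node (.node (.node (.node (.node (.node (.node (.leaf 14) (.leaf 862)) (.leaf 443)) (.node (.leaf 229) (.leaf 0))) (.node (.node (.leaf 0) (.leaf 545)) (.node (.leaf 0) (.leaf 756)))) (.node (.node (.node (.node (.leaf 69) (.leaf 0)) (.leaf 0)) (.node (.leaf 287) (.leaf 707))) (.node (.node (.leaf 0) (.leaf 599)) (.node (.leaf 1673) (.leaf 809))))) (.node (.node (.node (.node (.node (.leaf 0) (.leaf 2275)) (.leaf 0)) (.node (.leaf 259) (.leaf 2104))) (.node (.node (.leaf 0) (.leaf 0)) (.node (.leaf 0) (.leaf 780)))) (.node (.node (.node (.node (.leaf 1561) (.leaf 0)) (.leaf 520)) (.node (.leaf 311) (.leaf 732))) (.node (.node (.leaf 0) (.leaf 1846)) (.node (.leaf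 0) (.leaf 0)))))) (.node (.node (.node (.node (.node (.node (.leaf 27) (.leaf 875)) (.leaf 0)) (.node (.leaf 244) (.leaf 0))) (.node (.node (.leaf 0) (.leaf 561)) (.node (.leaf 0) (.leaf 0)))) (.node (.node (.node (.node (.leaf 0) (.leaf 929)) (.leaf 508)) (.node (.leaf 0) (.leaf 718))) (.node (.node (.leaf 191) (.leaf 0)) (.node (.leaf 0) (.leaf 824))))) (.node (.node (.node (.node (.node (.leaf 0) (.leaf 902)) (.leaf 479)) (.node (.leaf 271) (.leaf 1815))) (.node (.node (.leaf 162) (.leaf 0)) (.node (.leaf 377) (.leaf 795)))) (.node (.node (.node (.node (.leaf 109) (.leaf 959)) (.leaf 1928)) (.node (.leaf 326) (.leaf 0))) (.node (.node (.leaf 0) (.leaf 0)) (.node (.leaf 429) (.leaf 851))))))))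

/-- data -/
def rank0p1 : Trie (ℕ) := .node (.node (.node (.node (.node (.node (.node (.node (.node (.leaf 0) (.leaf 2127)) (.leaf 1833)) (.node (.leaf 0) (.leaf 1362))) (.node (.node (.leaf 1028) (.leaf 2029)) (.node (.leaf 0) (.leaf 1427)))) (.node (.node (.node (.node (.leaf 0) (.leaf 0)) (.leaf 0)) (.node (.leaf 1127) (.leaf 0))) (.node (.node (.leaf 1060) (.leaf 0)) (.node (.leaf 0) (.leaf 1896))))) (.node (.node (.node (.node (.node (.leaf 0) (.leaf 1729)) (.leaf 2008)) (.node (.leaf 1704) (.leaf 2039))) (.node (.node (.leaf 0) (.leaf 1311)) (.node (.leaf 1174) (.leaf 1895)))) (.node (.node (.node (.node (.leaf 0) (.leaf 0)) (.leaf 1276)) (.node (.leaf 0) (.leaf 2254))) (.node (.node (.leaf 0) (.leaf 1726)) (.node (.leaf 0) (.leaf 1838)))))) (.node (.node (.node (.node (.node (.node (.leaf 972) (.leaf 0)) (.leaf 1231)) (.node (.leaf 1813) (.leaf 1903))) (.node (.node (.leaf 0) (.leaf 0)) (.node (.leaf 1167) (.leaf 0)))) (.node (.node (.node (.node (.leaf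 0) (.leaf 1535)) (.leaf 0)) (.node (.leaf 0) (.leaf 0))) (.node (.node (.leaf 0) (.leaf 0)) (.node (.leaf 0) (.leaf 0))))) (.node (.node (.node (.node (.node (.leaf 0) (.leaf 1770)) (.leaf 0)) (.node (.leaf 0) (.leaf 0))) (.node (.node (.leaf 0) (.leaf 1320)) (.node (.leaf 1185) (.leaf 0)))) (.node (.node (.node (.node (.leaf 1020) (.leaf 2245)) (.leaf 2022)) (.node (.leaf 0) (.leaf 0))) (.node (.node (.leaf 0) (.leaf 1354)) (.node (.leaf 0) (.leaf 1484))))))) (.node (.node (.node (.node (.node (.node (.node (.leaf 968) (.leaf 2159)) (.leaf 0)) (.node (.leaf 1099) (.leaf 0))) (.node (.node (.leaf 1032) (.leaf 0)) (.node (.leaf 0) (.leaf 0)))) (.node (.node (.node (.node (.leaf 999) (.leaf 1530)) (.leaf 0)) (.node (.leaf 0) (.leaf 1393))) (.node (.node (.leaf 0) (.leaf 0)) (.node (.leaf 0) (.leaf 2088))))) (.node (.node (.node (.node (.node (.leaf 0) (.leaf 1514)) (.leaf 1248)) (.node (.leaf 0) (.leaf 0))) (.node (.node (.leaf 1049) (.leaf 0)) (.node (.leaf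 1180) (.leaf 1744)))) (.node (.node (.node (.node (.leaf 1776) (.leaf 0)) (.leaf 0)) (.node (.leaf 1145) (.leaf 0))) (.node (.node (.leaf 0) (.leaf 1349)) (.node (.leaf 0) (.leaf 1659)))))) (.node (.node (.node (.node (.node (.node (.leaf 976) (.leaf 1506)) (.leaf 0)) (.node (.leaf 0) (.leaf 1371))) (.node (.node (.leaf 1040) (.leaf 0)) (.node (.leaf 1171) (.leaf 0)))) (.node (.node (.node (.node (.leaf 0) (.leaf 2172)) (.leaf 0)) (.node (.leaf 1139) (.leaf 1403))) (.node (.node (.leaf 0) (.leaf 0)) (.node (.leaf 1204) (.leaf 1473))))) (.node (.node (.node (.node (.node (.leaf 0) (.leaf 1522)) (.leaf 1258)) (.node (.leaf 0) (.leaf 1386))) (.node (.node (.leaf 1056) (.leaf 1910)) (.node (.leaf 0) (.leaf 0)))) (.node (.node (.node (.node (.leaf 1024) (.leaf 2288)) (.leaf 2017)) (.node (.leaf 0) (.leaf 0))) (.node (.node (.leaf 0) (.leaf 1954)) (.node (.leaf 0) (.leaf 1906)))))))) (.node (.node (.node (.node (.node (.node (.node (.node (.leaf 0) (.leaf 2185))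 (.leaf 1965)) (.node (.leaf 0) (.leaf 0))) (.node (.node (.leaf 1030) (.leaf 1295)) (.node (.leaf 1160) (.leaf 0)))) (.node (.node (.node (.node (.leaf 0) (.leaf 2168)) (.leaf 0)) (.node (.leaf 0) (.leaf 0))) (.node (.node (.leaf 1062) (.leaf 0)) (.node (.leaf 0) (.leaf 0))))) (.node (.node (.node (.node (.node (.leaf 0) (.leaf 2197)) (.leaf 1245)) (.node (.leaf 1112) (.leaf 2146))) (.node (.node (.leaf 0) (.leaf 1313)) (.node (.leaf 1792) (.leaf 0)))) (.node (.node (.node (.node (.leaf 1013) (.leaf 0)) (.leaf 2141)) (.node (.leaf 1791) (.leaf 0))) (.node (.node (.leaf 0) (.leaf 0)) (.node (.leaf 0) (.leaf 1478)))))) (.node (.node (.node (.node (.node (.node (.leaf 0) (.leaf 0)) (.leaf 0)) (.node (.leaf 0) (.leaf 1816))) (.node (.node (.leaf 0) (.leaf 0)) (.node (.leaf 1168) (.leaf 2257)))) (.node (.node (.node (.node (.leaf 0) (.leaf 1537)) (.leaf 0)) (.node (.leaf 1137) (.leaf 1401))) (.node (.node (.leaf 0) (.leaf 0)) (.node (.leaf 1202) (.leaf 0))))) (.node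 (.node (.node (.node (.node (.leaf 989) (.leaf 2109)) (.leaf 1255)) (.node (.leaf 0) (.leaf 0))) (.node (.node (.leaf 1778) (.leaf 0)) (.node (.leaf 1187) (.leaf 2152)))) (.node (.node (.node (.node (.leaf 1022) (.leaf 1552)) (.leaf 0)) (.node (.leaf 0) (.leaf 0))) (.node (.node (.leaf 1089) (.leaf 0)) (.node (.leaf 0) (.leaf 1486))))))) (.node (.node (.node (.node (.node (.node (.node (.leaf 0) (.leaf 0)) (.leaf 0)) (.node (.leaf 0) (.leaf 1950))) (.node (.node (.leaf 1034) (.leaf 0)) (.node (.leaf 1165) (.leaf 2253)))) (.node (.node (.node (.node (.leaf 0) (.leaf 0)) (.leaf 0)) (.node (.leaf 0) (.leaf 0))) (.node (.node (.leaf 0) (.leaf 2184)) (.node (.leaf 0) (.leaf 1935))))) (.node (.node (.node (.node (.node (.leaf 986) (.leaf 1516)) (.leaf 0)) (.node (.leaf 0) (.leaf 1380))) (.node (.node (.leaf 1051) (.leaf 1318)) (.node (.leaf 1183) (.leaf 2207)))) (.node (.node (.node (.node (.leaf 0) (.leaf 1549)) (.leaf 0)) (.node (.leaf 0) (.leaf 0))) (.node (.node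 (.leaf 1084) (.leaf 1352)) (.node (.leaf 1873) (.leaf 1482)))))) (.node (.node (.node (.node (.node (.node (.leaf 0) (.leaf 1810)) (.leaf 0)) (.node (.leaf 0) (.leaf 2095))) (.node (.node (.leaf 1042) (.leaf 0)) (.node (.leaf 0) (.leaf 1442)))) (.node (.node (.node (.node (.leaf 1009) (.leaf 2133)) (.leaf 0)) (.node (.leaf 1141) (.leaf 0))) (.node (.node (.leaf 0) (.leaf 0)) (.node (.leaf 1832) (.leaf 0))))) (.node (.node (.node (.node (.node (.leaf 993) (.leaf 1725)) (.leaf 0)) (.node (.leaf 0) (.leaf 1389))) (.node (.node (.leaf 0) (.leaf 2143)) (.node (.leaf 0) (.leaf 0)))) (.node (.node (.node (.node (.leaf 0) (.leaf 2176)) (.leaf 0)) (.node (.leaf 0) (.leaf 0))) (.node (.node (.leaf 0) (.leaf 1360)) (.node (.leaf 0) (.leaf 1897))))))))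

/-- data -/
def rank0p2 : Trie (ℕ) := .node (.node (.node (.node (.node (.node (.node (.node (.node (.leaf 4) (.leaf 1905)) (.leaf 0)) (.node (.leaf 0) (.leaf 0))) (.node (.node (.leaf 113) (.leaf 534)) (.node (.leaf 330) (.leaf 0)))) (.node (.node (.node (.node (.leaf 0) (.leaf 0)) (.leaf 0)) (.node (.leaf 0) (.leaf 1736))) (.node (.node (.leaf 0) (.leaf 590)) (.node (.leaf 0) (.leaf 0))))) (.node (.node (.node (.node (.node (.leaf 31) (.leaf 2096)) (.leaf 0)) (.node (.leaf 247) (.leaf 673))) (.node (.node (.leaf 139) (.leaf 1588)) (.node (.leaf 356) (.leaf 770)))) (.node (.node (.node (.node (.leaf 86) (.leaf 1684)) (.leaf 511)) (.node (.leaf 0) (.leaf 0))) (.node (.node (.leaf 194) (.leaf 0)) (.node (.leaf 0) (.leaf 1620)))))) (.node (.node (.node (.node (.node (.node (.leaf 0) (.leaf 2113)) (.leaf 448)) (.node (.leaf 233) (.leaf 656))) (.node (.node (.leaf 0) (.leaf 0)) (.node (.leaf 1582) (.leaf 0)))) (.node (.node (.node (.node (.leaf 72) (.leaf 919))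 (.leaf 497)) (.node (.leaf 0) (.leaf 2101))) (.node (.node (.leaf 0) (.leaf 0)) (.node (.leaf 0) (.leaf 0))))) (.node (.node (.node (.node (.node (.leaf 0) (.leaf 893)) (.leaf 0)) (.node (.leaf 263) (.leaf 0))) (.node (.node (.leaf 152) (.leaf 1604)) (.node (.leaf 1751) (.leaf 0)))) (.node (.node (.node (.node (.leaf 0) (.leaf 948)) (.leaf 0)) (.node (.leaf 0) (.leaf 736))) (.node (.node (.leaf 206) (.leaf 0)) (.node (.leaf 421) (.leaf 0))))))) (.node (.node (.node (.node (.node (.node (.node (.leaf 0) (.leaf 859)) (.leaf 441)) (.node (.leaf 0) (.leaf 0))) (.node (.node (.leaf 0) (.leaf 0)) (.node (.leaf 337) (.leaf 752)))) (.node (.node (.node (.node (.leaf 0) (.leaf 913)) (.leaf 0)) (.node (.leaf 284) (.leaf 0))) (.node (.node (.leaf 173) (.leaf 0)) (.node (.leaf 0) (.leaf 0))))) (.node (.node (.node (.node (.node (.leaf 38) (.leaf 1615)) (.leaf 0)) (.node (.leaf 256) (.leaf 0))) (.node (.node (.leaf 0) (.leaf 0)) (.node (.leaf 364) (.leaf 777)))) (.node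 (.node (.node (.node (.leaf 93) (.leaf 940)) (.leaf 518)) (.node (.leaf 1606) (.leaf 1691))) (.node (.node (.leaf 0) (.leaf 0)) (.node (.leaf 414) (.leaf 0)))))) (.node (.node (.node (.node (.node (.node (.leaf 0) (.leaf 1735)) (.leaf 0)) (.node (.leaf 240) (.leaf 664))) (.node (.node (.leaf 1565) (.leaf 0)) (.node (.leaf 348) (.leaf 0)))) (.node (.node (.node (.node (.leaf 0) (.leaf 925)) (.leaf 0)) (.node (.leaf 1578) (.leaf 0))) (.node (.node (.leaf 0) (.leaf 1611)) (.node (.leaf 2082) (.leaf 821))))) (.node (.node (.node (.node (.node (.leaf 0) (.leaf 1728)) (.leaf 0)) (.node (.leaf 0) (.leaf 692))) (.node (.node (.leaf 160) (.leaf 0)) (.node (.leaf 375) (.leaf 2267)))) (.node (.node (.node (.node (.leaf 1710) (.leaf 956)) (.leaf 526)) (.node (.leaf 0) (.leaf 741))) (.node (.node (.leaf 213) (.leaf 0)) (.node (.leaf 0) (.leaf 846)))))))) (.node (.node (.node (.node (.node (.node (.node (.node (.leaf 7) (.leaf 0)) (.leaf 0)) (.node (.leaf 223) (.leaf 647)))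 (.node (.node (.leaf 0) (.leaf 0)) (.node (.leaf 0) (.leaf 0)))) (.node (.node (.node (.node (.leaf 0) (.leaf 910)) (.leaf 0)) (.node (.leaf 279) (.leaf 702))) (.node (.node (.leaf 170) (.leaf 0)) (.node (.leaf 383) (.leaf 802))))) (.node (.node (.node (.node (.node (.leaf 0) (.leaf 1974)) (.leaf 1982)) (.node (.leaf 0) (.leaf 0))) (.node (.node (.leaf 0) (.leaf 568)) (.node (.leaf 0) (.leaf 1882)))) (.node (.node (.node (.node (.leaf 0) (.leaf 2041)) (.leaf 514)) (.node (.leaf 0) (.leaf 726))) (.node (.node (.leaf 198) (.leaf 625)) (.node (.leaf 0) (.leaf 0)))))) (.node (.node (.node (.node (.node (.node (.leaf 0) (.leaf 1871)) (.leaf 451)) (.node (.leaf 0) (.leaf 660))) (.node (.node (.leaf 0) (.leaf 553)) (.node (.leaf 0) (.leaf 2226)))) (.node (.node (.node (.node (.leaf 0) (.leaf 1683)) (.leaf 501)) (.node (.leaf 0) (.leaf 714))) (.node (.node (.leaf 0) (.leaf 1610)) (.node (.leaf 0) (.leaf 0))))) (.node (.node (.node (.node (.node (.leaf 49) (.leaf 898))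 (.leaf 474)) (.node (.leaf 0) (.leaf 689))) (.node (.node (.leaf 1) (.leaf 580)) (.node (.leaf 373) (.leaf 786)))) (.node (.node (.node (.node (.leaf 0) (.leaf 2089)) (.leaf 0)) (.node (.leaf 319) (.leaf 1960))) (.node (.node (.leaf 0) (.leaf 2136)) (.node (.leaf 0) (.leaf 844))))))) (.node (.node (.node (.node (.node (.node (.node (.leaf 0) (.leaf 863)) (.leaf 444)) (.node (.leaf 0) (.leaf 1926))) (.node (.node (.leaf 123) (.leaf 0)) (.node (.leaf 0) (.leaf 1689)))) (.node (.node (.node (.node (.leaf 0) (.leaf 916)) (.leaf 494)) (.node (.leaf 0) (.leaf 0))) (.node (.node (.leaf 0) (.leaf 600)) (.node (.leaf 1651) (.leaf 810))))) (.node (.node (.node (.node (.node (.leaf 0) (.leaf 1750)) (.leaf 0)) (.node (.leaf 0) (.leaf 682))) (.node (.node (.leaf 1567) (.leaf 0)) (.node (.leaf 0) (.leaf 0)))) (.node (.node (.node (.node (.leaf 0) (.leaf 0)) (.leaf 0)) (.node (.leaf 312) (.leaf 0))) (.node (.node (.leaf 203) (.leaf 0)) (.node (.leaf 417) (.leaf 837))))))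 (.node (.node (.node (.node (.node (.node (.leaf 28) (.leaf 1818)) (.leaf 457)) (.node (.leaf 0) (.leaf 2049))) (.node (.node (.leaf 0) (.leaf 562)) (.node (.leaf 352) (.leaf 1809)))) (.node (.node (.node (.node (.leaf 83) (.leaf 2110)) (.leaf 0)) (.node (.leaf 298) (.leaf 719))) (.node (.node (.leaf 0) (.leaf 616)) (.node (.leaf 0) (.leaf 2121))))) (.node (.node (.node (.node (.node (.leaf 56) (.leaf 0)) (.leaf 1666)) (.node (.leaf 2123) (.leaf 0))) (.node (.node (.leaf 163) (.leaf 586)) (.node (.leaf 0) (.leaf 796)))) (.node (.node (.node (.node (.leaf 0) (.leaf 960)) (.leaf 530)) (.node (.leaf 0) (.leaf 743))) (.node (.node (.leaf 217) (.leaf 641)) (.node (.leaf 0) (.leaf 1978))))))))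

/-- data -/
def rank0p3 : Trie (ℕ) := .node (.node (.node (.node (.node (.node (.node (.node (.node (.leaf 0) (.leaf 1496)) (.leaf 0)) (.node (.leaf 0) (.leaf 2115))) (.node (.node (.leaf 0) (.leaf 2093)) (.node (.leaf 0) (.leaf 0)))) (.node (.node (.node (.node (.leaf 996) (.leaf 2167)) (.leaf 0)) (.node (.leaf 0) (.leaf 1390))) (.node (.node (.leaf 0) (.leaf 0)) (.node (.leaf 1195) (.leaf 0))))) (.node (.node (.node (.node (.node (.leaf 0) (.leaf 2131)) (.leaf 1243)) (.node (.leaf 0) (.leaf 0))) (.node (.node (.leaf 0) (.leaf 0)) (.node (.leaf 0) (.leaf 0)))) (.node (.node (.node (.node (.leaf 0) (.leaf 1545)) (.leaf 0)) (.node (.leaf 0) (.leaf 1407))) (.node (.node (.leaf 0) (.leaf 1345)) (.node (.leaf 1208) (.leaf 2154)))))) (.node (.node (.node (.node (.node (.node (.leaf 0) (.leaf 1502)) (.leaf 0)) (.node (.leaf 0) (.leaf 2107))) (.node (.node (.leaf 0) (.leaf 1302)) (.node (.leaf 0) (.leaf 1435)))) (.node (.node (.node (.node (.leaf 0) (.leaf 2205))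 (.leaf 0)) (.node (.leaf 1135) (.leaf 1399))) (.node (.node (.leaf 0) (.leaf 1336)) (.node (.leaf 2178) (.leaf 0))))) (.node (.node (.node (.node (.node (.leaf 0) (.leaf 0)) (.leaf 0)) (.node (.leaf 0) (.leaf 0))) (.node (.node (.leaf 0) (.leaf 0)) (.node (.leaf 0) (.leaf 0)))) (.node (.node (.node (.node (.leaf 0) (.leaf 0)) (.leaf 0)) (.node (.leaf 1149) (.leaf 0))) (.node (.node (.leaf 0) (.leaf 0)) (.node (.leaf 0) (.leaf 0))))))) (.node (.node (.node (.node (.node (.node (.node (.leaf 0) (.leaf 1771)) (.leaf 0)) (.node (.leaf 1656) (.leaf 1365))) (.node (.node (.leaf 0) (.leaf 1297)) (.node (.leaf 0) (.leaf 2036)))) (.node (.node (.node (.node (.leaf 0) (.leaf 2239)) (.leaf 1265)) (.node (.leaf 0) (.leaf 1394))) (.node (.node (.leaf 0) (.leaf 1333)) (.node (.leaf 0) (.leaf 1464))))) (.node (.node (.node (.node (.node (.leaf 0) (.leaf 2066)) (.leaf 0)) (.node (.leaf 0) (.leaf 1378))) (.node (.node (.leaf 0) (.leaf 1316)) (.node (.leaf 0) (.leaf 2032))))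 (.node (.node (.node (.node (.leaf 0) (.leaf 2256)) (.leaf 0)) (.node (.leaf 0) (.leaf 1412))) (.node (.node (.leaf 0) (.leaf 0)) (.node (.leaf 1904) (.leaf 1480)))))) (.node (.node (.node (.node (.node (.node (.leaf 0) (.leaf 0)) (.leaf 1237)) (.node (.leaf 0) (.leaf 0))) (.node (.node (.leaf 0) (.leaf 1305)) (.node (.leaf 0) (.leaf 1440)))) (.node (.node (.node (.node (.leaf 1007) (.leaf 1907)) (.leaf 1272)) (.node (.leaf 0) (.leaf 1404))) (.node (.node (.leaf 1073) (.leaf 1340)) (.node (.leaf 0) (.leaf 0))))) (.node (.node (.node (.node (.node (.leaf 0) (.leaf 0)) (.leaf 0)) (.node (.leaf 0) (.leaf 0))) (.node (.node (.leaf 0) (.leaf 2040)) (.node (.leaf 0) (.leaf 0)))) (.node (.node (.node (.node (.leaf 0) (.leaf 0)) (.leaf 0)) (.node (.leaf 0) (.leaf 0))) (.node (.node (.leaf 0) (.leaf 0)) (.node (.leaf 0) (.leaf 2059)))))))) (.node (.node (.node (.node (.node (.node (.node (.node (.leaf 0) (.leaf 0)) (.leaf 1889)) (.node (.leaf 0) (.leaf 0))) (.node (.node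 (.leaf 0) (.leaf 0)) (.node (.leaf 1161) (.leaf 0)))) (.node (.node (.node (.node (.leaf 998) (.leaf 0)) (.leaf 0)) (.node (.leaf 0) (.leaf 0))) (.node (.node (.leaf 0) (.leaf 0)) (.node (.leaf 0) (.leaf 0))))) (.node (.node (.node (.node (.node (.leaf 982) (.leaf 1512)) (.leaf 0)) (.node (.leaf 0) (.leaf 0))) (.node (.node (.leaf 0) (.leaf 0)) (.node (.leaf 1177) (.leaf 1447)))) (.node (.node (.node (.node (.leaf 0) (.leaf 1546)) (.leaf 0)) (.node (.leaf 0) (.leaf 2020))) (.node (.node (.leaf 0) (.leaf 1892)) (.node (.leaf 1210) (.leaf 0)))))) (.node (.node (.node (.node (.node (.node (.leaf 974) (.leaf 1505)) (.leaf 0)) (.node (.leaf 1104) (.leaf 0))) (.node (.node (.leaf 1782) (.leaf 2216)) (.node (.leaf 0) (.leaf 1438)))) (.node (.node (.node (.node (.leaf 0) (.leaf 1538)) (.leaf 0)) (.node (.leaf 0) (.leaf 1753))) (.node (.node (.leaf 1071) (.leaf 1338)) (.node (.leaf 0) (.leaf 1471))))) (.node (.node (.node (.node (.node (.leaf 0) (.leaf 1992)) (.leaf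 0)) (.node (.leaf 1120) (.leaf 0))) (.node (.node (.leaf 0) (.leaf 0)) (.node (.leaf 0) (.leaf 2238)))) (.node (.node (.node (.node (.leaf 0) (.leaf 1900)) (.leaf 1286)) (.node (.leaf 0) (.leaf 1421))) (.node (.node (.leaf 0) (.leaf 1357)) (.node (.leaf 1221) (.leaf 2215))))))) (.node (.node (.node (.node (.node (.node (.node (.leaf 970) (.leaf 0)) (.leaf 0)) (.node (.leaf 1100) (.leaf 1891))) (.node (.node (.leaf 0) (.leaf 1299)) (.node (.leaf 0) (.leaf 1432)))) (.node (.node (.node (.node (.leaf 1002) (.leaf 0)) (.leaf 0)) (.node (.leaf 1132) (.leaf 1397))) (.node (.node (.leaf 0) (.leaf 2035)) (.node (.leaf 0) (.leaf 2161))))) (.node (.node (.node (.node (.node (.leaf 0) (.leaf 0)) (.leaf 1251)) (.node (.leaf 1116) (.leaf 0))) (.node (.node (.leaf 0) (.leaf 0)) (.node (.leaf 1953) (.leaf 1450)))) (.node (.node (.node (.node (.leaf 0) (.leaf 2292)) (.leaf 1282)) (.node (.leaf 0) (.leaf 1416))) (.node (.node (.leaf 1146) (.leaf 0)) (.node (.leaf 0) (.leaf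 0)))))) (.node (.node (.node (.node (.node (.node (.leaf 0) (.leaf 1509)) (.leaf 0)) (.node (.leaf 1107) (.leaf 0))) (.node (.node (.leaf 0) (.leaf 0)) (.node (.leaf 0) (.leaf 0)))) (.node (.node (.node (.node (.leaf 0) (.leaf 0)) (.leaf 1274)) (.node (.leaf 0) (.leaf 2278))) (.node (.node (.leaf 1075) (.leaf 0)) (.node (.leaf 0) (.leaf 1475))))) (.node (.node (.node (.node (.node (.leaf 0) (.leaf 1525)) (.leaf 1259)) (.node (.leaf 1125) (.leaf 0))) (.node (.node (.leaf 0) (.leaf 0)) (.node (.leaf 1193) (.leaf 0)))) (.node (.node (.node (.node (.leaf 1026) (.leaf 0)) (.leaf 0)) (.node (.leaf 1156) (.leaf 0))) (.node (.node (.leaf 0) (.leaf 0)) (.node (.leaf 1224) (.leaf 1492))))))))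

/-- data -/
def rank0p4 : Trie (ℕ) := .node (.node (.node (.node (.node (.node (.node (.node (.node (.leaf 0) (.leaf 854)) (.leaf 433)) (.node (.leaf 220) (.leaf 644))) (.node (.node (.leaf 0) (.leaf 535)) (.node (.leaf 331) (.leaf 0)))) (.node (.node (.node (.node (.leaf 0) (.leaf 0)) (.leaf 0)) (.node (.leaf 275) (.leaf 0))) (.node (.node (.leaf 0) (.leaf 1638)) (.node (.leaf 0) (.leaf 799))))) (.node (.node (.node (.node (.node (.leaf 32) (.leaf 1734)) (.leaf 0)) (.node (.leaf 0) (.leaf 0))) (.node (.node (.leaf 0) (.leaf 0)) (.node (.leaf 0) (.leaf 771)))) (.node (.node (.node (.node (.leaf 0) (.leaf 1919)) (.leaf 0)) (.node (.leaf 302) (.leaf 1941))) (.node (.node (.leaf 195) (.leaf 621)) (.node (.leaf 408) (.leaf 2181)))))) (.node (.node (.node (.node (.node (.node (.leaf 0) (.leaf 866)) (.leaf 1697)) (.node (.leaf 0) (.leaf 1639))) (.node (.node (.leaf 126) (.leaf 0)) (.node (.leaf 0) (.leaf 0)))) (.node (.node (.node (.node (.leaf 0) (.leaf 920)) (.leaf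 498)) (.node (.leaf 0) (.leaf 2021))) (.node (.node (.leaf 180) (.leaf 605)) (.node (.leaf 393) (.leaf 0))))) (.node (.node (.node (.node (.node (.leaf 45) (.leaf 894)) (.leaf 471)) (.node (.leaf 0) (.leaf 686))) (.node (.node (.leaf 0) (.leaf 0)) (.node (.leaf 370) (.leaf 783)))) (.node (.node (.node (.node (.leaf 100) (.leaf 949)) (.leaf 522)) (.node (.leaf 316) (.leaf 0))) (.node (.node (.leaf 1775) (.leaf 0)) (.node (.leaf 0) (.leaf 841))))))) (.node (.node (.node (.node (.node (.node (.node (.leaf 0) (.leaf 1963)) (.leaf 1633)) (.node (.leaf 0) (.leaf 650))) (.node (.node (.leaf 120) (.leaf 0)) (.node (.leaf 0) (.leaf 2094)))) (.node (.node (.node (.node (.leaf 66) (.leaf 2186)) (.leaf 489)) (.node (.leaf 0) (.leaf 0))) (.node (.node (.leaf 174) (.leaf 1917)) (.node (.leaf 386) (.leaf 0))))) (.node (.node (.node (.node (.node (.leaf 39) (.leaf 0)) (.leaf 466)) (.node (.leaf 0) (.leaf 2206))) (.node (.node (.leaf 0) (.leaf 1930)) (.node (.leaf 0) (.leaf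 0)))) (.node (.node (.node (.node (.leaf 0) (.leaf 941)) (.leaf 1694)) (.node (.leaf 309) (.leaf 0))) (.node (.node (.leaf 200) (.leaf 1920)) (.node (.leaf 0) (.leaf 834)))))) (.node (.node (.node (.node (.node (.node (.leaf 25) (.leaf 1912)) (.leaf 455)) (.node (.leaf 241) (.leaf 665))) (.node (.node (.leaf 0) (.leaf 558)) (.node (.leaf 2105) (.leaf 2053)))) (.node (.node (.node (.node (.leaf 80) (.leaf 926)) (.leaf 0)) (.node (.leaf 0) (.leaf 0))) (.node (.node (.leaf 0) (.leaf 0)) (.node (.leaf 400) (.leaf 1609))))) (.node (.node (.node (.node (.node (.leaf 52) (.leaf 900)) (.leaf 0)) (.node (.leaf 268) (.leaf 0))) (.node (.node (.leaf 1760) (.leaf 584)) (.node (.leaf 1669) (.leaf 793)))) (.node (.node (.node (.node (.leaf 0) (.leaf 957)) (.leaf 0)) (.node (.leaf 323) (.leaf 1993))) (.node (.node (.leaf 214) (.leaf 638)) (.node (.leaf 426) (.leaf 0)))))))) (.node (.node (.node (.node (.node (.node (.node (.node (.leaf 0) (.leaf 0)) (.leaf 437)) (.node (.leaf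 224) (.leaf 1608))) (.node (.node (.leaf 116) (.leaf 538)) (.node (.leaf 0) (.leaf 748)))) (.node (.node (.node (.node (.leaf 0) (.leaf 911)) (.leaf 484)) (.node (.leaf 280) (.leaf 0))) (.node (.node (.leaf 0) (.leaf 593)) (.node (.leaf 2064) (.leaf 0))))) (.node (.node (.node (.node (.node (.leaf 0) (.leaf 2274)) (.leaf 463)) (.node (.leaf 3) (.leaf 677))) (.node (.node (.leaf 0) (.leaf 569)) (.node (.leaf 360) (.leaf 773)))) (.node (.node (.node (.node (.leaf 90) (.leaf 0)) (.leaf 515)) (.node (.leaf 305) (.leaf 0))) (.node (.node (.leaf 199) (.leaf 0)) (.node (.leaf 412) (.leaf 0)))))) (.node (.node (.node (.node (.node (.node (.leaf 0) (.leaf 869)) (.leaf 1668)) (.node (.leaf 0) (.leaf 661))) (.node (.node (.leaf 0) (.leaf 554)) (.node (.leaf 0) (.leaf 0)))) (.node (.node (.node (.node (.leaf 76) (.leaf 922)) (.leaf 502)) (.node (.leaf 0) (.leaf 1916))) (.node (.node (.leaf 1564) (.leaf 608)) (.node (.leaf 0) (.leaf 1966))))) (.node (.node (.node (.node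 (.node (.leaf 0) (.leaf 1616)) (.leaf 0)) (.node (.leaf 0) (.leaf 0))) (.node (.node (.leaf 156) (.leaf 0)) (.node (.leaf 0) (.leaf 787)))) (.node (.node (.node (.node (.leaf 103) (.leaf 953)) (.leaf 0)) (.node (.leaf 0) (.leaf 2044))) (.node (.node (.leaf 0) (.leaf 0)) (.node (.leaf 0) (.leaf 1844))))))) (.node (.node (.node (.node (.node (.node (.node (.leaf 15) (.leaf 2103)) (.leaf 0)) (.node (.leaf 230) (.leaf 1850))) (.node (.node (.leaf 0) (.leaf 546)) (.node (.leaf 0) (.leaf 0)))) (.node (.node (.node (.node (.leaf 1555) (.leaf 2075)) (.leaf 495)) (.node (.leaf 1713) (.leaf 0))) (.node (.node (.leaf 177) (.leaf 2046)) (.node (.leaf 389) (.leaf 1643))))) (.node (.node (.node (.node (.node (.leaf 0) (.leaf 889)) (.leaf 0)) (.node (.leaf 0) (.leaf 0))) (.node (.node (.leaf 0) (.leaf 0)) (.node (.leaf 0) (.leaf 1872)))) (.node (.node (.node (.node (.leaf 96) (.leaf 2220)) (.leaf 0)) (.node (.leaf 0) (.leaf 733))) (.node (.node (.leaf 0) (.leaf 0)) (.node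 (.leaf 0) (.leaf 1676)))))) (.node (.node (.node (.node (.node (.node (.leaf 0) (.leaf 876)) (.leaf 458)) (.node (.leaf 0) (.leaf 669))) (.node (.node (.leaf 136) (.leaf 1924)) (.node (.leaf 0) (.leaf 768)))) (.node (.node (.node (.node (.leaf 1560) (.leaf 0)) (.leaf 0)) (.node (.leaf 2098) (.leaf 0))) (.node (.node (.leaf 192) (.leaf 617)) (.node (.leaf 0) (.leaf 0))))) (.node (.node (.node (.node (.node (.leaf 0) (.leaf 903)) (.leaf 480)) (.node (.leaf 0) (.leaf 2056))) (.node (.node (.leaf 0) (.leaf 587)) (.node (.leaf 0) (.leaf 1677)))) (.node (.node (.node (.node (.leaf 110) (.leaf 961)) (.leaf 1853)) (.node (.leaf 327) (.leaf 1951))) (.node (.node (.leaf 0) (.leaf 642)) (.node (.leaf 430) (.leaf 1692))))))))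

/-- data -/
def rank0p5 : Trie (ℕ) := .node (.node (.node (.node (.node (.node (.node (.node (.node (.leaf 0) (.leaf 0)) (.leaf 0)) (.node (.leaf 1700) (.leaf 0))) (.node (.node (.leaf 1029) (.leaf 1854)) (.node (.leaf 0) (.leaf 1936)))) (.node (.node (.node (.node (.leaf 0) (.leaf 0)) (.leaf 1262)) (.node (.leaf 0) (.leaf 1997))) (.node (.node (.leaf 0) (.leaf 1328)) (.node (.leaf 0) (.leaf 0))))) (.node (.node (.node (.node (.node (.leaf 0) (.leaf 1989)) (.leaf 0)) (.node (.leaf 1110) (.leaf 1374))) (.node (.node (.leaf 0) (.leaf 0)) (.node (.leaf 1175) (.leaf 1701)))) (.node (.node (.node (.node (.leaf 1012) (.leaf 1759)) (.leaf 1277)) (.node (.leaf 0) (.leaf 1408))) (.node (.node (.leaf 0) (.leaf 1863)) (.node (.leaf 0) (.leaf 1477)))))) (.node (.node (.node (.node (.node (.node (.leaf 0) (.leaf 1976)) (.leaf 1232)) (.node (.leaf 1102) (.leaf 1367))) (.node (.node (.leaf 0) (.leaf 0)) (.node (.leaf 0) (.leaf 0)))) (.node (.node (.node (.node (.leaf 0)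 (.leaf 1923)) (.leaf 0)) (.node (.leaf 0) (.leaf 2187))) (.node (.node (.leaf 0) (.leaf 1909)) (.node (.leaf 0) (.leaf 1959))))) (.node (.node (.node (.node (.node (.leaf 0) (.leaf 2078)) (.leaf 0)) (.node (.leaf 1118) (.leaf 2129))) (.node (.node (.leaf 1053) (.leaf 1769)) (.node (.leaf 0) (.leaf 0)))) (.node (.node (.node (.node (.leaf 0) (.leaf 0)) (.leaf 0)) (.node (.leaf 0) (.leaf 1417))) (.node (.node (.leaf 1087) (.leaf 1355)) (.node (.leaf 1890) (.leaf 0))))))) (.node (.node (.node (.node (.node (.node (.node (.leaf 0) (.leaf 2258)) (.leaf 1228)) (.node (.leaf 0) (.leaf 0))) (.node (.node (.leaf 0) (.leaf 0)) (.node (.leaf 1163) (.leaf 0)))) (.node (.node (.node (.node (.leaf 0) (.leaf 1531)) (.leaf 1929)) (.node (.leaf 1130) (.leaf 1757))) (.node (.node (.leaf 0) (.leaf 1834)) (.node (.leaf 0) (.leaf 2069))))) (.node (.node (.node (.node (.node (.leaf 0) (.leaf 2203)) (.leaf 0)) (.node (.leaf 1114) (.leaf 0))) (.node (.node (.leaf 0) (.leaf 1933))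 (.node (.leaf 1181) (.leaf 0)))) (.node (.node (.node (.node (.leaf 1016) (.leaf 0)) (.leaf 1280)) (.node (.leaf 0) (.leaf 0))) (.node (.node (.leaf 0) (.leaf 1350)) (.node (.leaf 1213) (.leaf 2188)))))) (.node (.node (.node (.node (.node (.node (.leaf 0) (.leaf 1898)) (.leaf 0)) (.node (.leaf 0) (.leaf 0))) (.node (.node (.leaf 0) (.leaf 0)) (.node (.leaf 0) (.leaf 0)))) (.node (.node (.node (.node (.leaf 0) (.leaf 2050)) (.leaf 0)) (.node (.leaf 0) (.leaf 2001))) (.node (.node (.leaf 0) (.leaf 1961)) (.node (.leaf 0) (.leaf 0))))) (.node (.node (.node (.node (.node (.leaf 0) (.leaf 1827)) (.leaf 0)) (.node (.leaf 0) (.leaf 1387))) (.node (.node (.leaf 1057) (.leaf 2047)) (.node (.leaf 1190) (.leaf 0)))) (.node (.node (.node (.node (.leaf 0) (.leaf 1948)) (.leaf 0)) (.node (.leaf 0) (.leaf 1423))) (.node (.node (.leaf 0) (.leaf 0)) (.node (.leaf 0) (.leaf 1490)))))))) (.node (.node (.node (.node (.node (.node (.node (.node (.leaf 0) (.leaf 0)) (.leaf 0)) (.node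 (.leaf 0) (.leaf 0))) (.node (.node (.leaf 0) (.leaf 0)) (.node (.leaf 0) (.leaf 0)))) (.node (.node (.node (.node (.leaf 0) (.leaf 0)) (.leaf 0)) (.node (.leaf 0) (.leaf 0))) (.node (.node (.leaf 1063) (.leaf 0)) (.node (.leaf 1196) (.leaf 0))))) (.node (.node (.node (.node (.node (.leaf 0) (.leaf 0)) (.leaf 0)) (.node (.leaf 1113) (.leaf 0))) (.node (.node (.leaf 0) (.leaf 0)) (.node (.leaf 0) (.leaf 0)))) (.node (.node (.node (.node (.leaf 0) (.leaf 0)) (.leaf 0)) (.node (.leaf 0) (.leaf 1410))) (.node (.node (.leaf 0) (.leaf 1348)) (.node (.leaf 0) (.leaf 0)))))) (.node (.node (.node (.node (.node (.node (.leaf 0) (.leaf 0)) (.leaf 1235)) (.node (.leaf 0) (.leaf 2051))) (.node (.node (.leaf 0) (.leaf 0)) (.node (.leaf 1169) (.leaf 2151)))) (.node (.node (.node (.node (.leaf 0) (.leaf 1991)) (.leaf 0)) (.node (.leaf 0) (.leaf 1402))) (.node (.node (.leaf 0) (.leaf 2025)) (.node (.leaf 0) (.leaf 0))))) (.node (.node (.node (.node (.node (.leaf 990) (.leaf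 1698)) (.leaf 1256)) (.node (.leaf 0) (.leaf 1384))) (.node (.node (.leaf 0) (.leaf 1322)) (.node (.leaf 1188) (.leaf 0)))) (.node (.node (.node (.node (.leaf 0) (.leaf 2128)) (.leaf 0)) (.node (.leaf 0) (.leaf 1422))) (.node (.node (.leaf 0) (.leaf 2125)) (.node (.leaf 0) (.leaf 1487))))))) (.node (.node (.node (.node (.node (.node (.node (.leaf 0) (.leaf 1500)) (.leaf 1230)) (.node (.leaf 0) (.leaf 0))) (.node (.node (.leaf 1035) (.leaf 0)) (.node (.leaf 0) (.leaf 2244)))) (.node (.node (.node (.node (.leaf 0) (.leaf 2169)) (.leaf 0)) (.node (.leaf 0) (.leaf 0))) (.node (.node (.leaf 0) (.leaf 1335)) (.node (.leaf 0) (.leaf 1466))))) (.node (.node (.node (.node (.node (.leaf 0) (.leaf 2164)) (.leaf 0)) (.node (.leaf 0) (.leaf 1381))) (.node (.node (.leaf 0) (.leaf 2037)) (.node (.leaf 0) (.leaf 1451)))) (.node (.node (.node (.node (.leaf 0) (.leaf 2171)) (.leaf 1283)) (.node (.leaf 1147) (.leaf 0))) (.node (.node (.leaf 1085) (.leaf 2145)) (.node (.leaf 1217)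 (.leaf 1483)))))) (.node (.node (.node (.node (.node (.node (.leaf 978) (.leaf 1949)) (.leaf 1880)) (.node (.leaf 0) (.leaf 0))) (.node (.node (.leaf 0) (.leaf 1308)) (.node (.leaf 1173) (.leaf 0)))) (.node (.node (.node (.node (.leaf 1010) (.leaf 2173)) (.leaf 0)) (.node (.leaf 0) (.leaf 0))) (.node (.node (.leaf 0) (.leaf 1811)) (.node (.leaf 0) (.leaf 0))))) (.node (.node (.node (.node (.node (.leaf 994) (.leaf 1852)) (.leaf 0)) (.node (.leaf 0) (.leaf 0))) (.node (.node (.leaf 1059) (.leaf 0)) (.node (.leaf 0) (.leaf 1459)))) (.node (.node (.node (.node (.leaf 0) (.leaf 2241)) (.leaf 1291)) (.node (.leaf 0) (.leaf 1424))) (.node (.node (.leaf 1093) (.leaf 0)) (.node (.leaf 0) (.leaf 1493))))))))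

/-- data -/
def rank0p6 : Trie (ℕ) := .node (.node (.node (.node (.node (.node (.node (.node (.node (.leaf 0) (.leaf 0)) (.leaf 434)) (.node (.leaf 221) (.leaf 0))) (.node (.node (.leaf 0) (.leaf 1875)) (.node (.leaf 0) (.leaf 745)))) (.node (.node (.node (.node (.leaf 60) (.leaf 2132)) (.leaf 0)) (.node (.leaf 0) (.leaf 0))) (.node (.node (.leaf 167) (.leaf 1648)) (.node (.leaf 0) (.leaf 0))))) (.node (.node (.node (.node (.node (.leaf 0) (.leaf 2070)) (.leaf 461)) (.node (.leaf 248) (.leaf 674))) (.node (.node (.leaf 140) (.leaf 0)) (.node (.leaf 0) (.leaf 1806)))) (.node (.node (.node (.node (.leaf 0) (.leaf 933)) (.leaf 0)) (.node (.leaf 0) (.leaf 0))) (.node (.node (.leaf 0) (.leaf 0)) (.node (.leaf 1915) (.leaf 0)))))) (.node (.node (.node (.node (.node (.node (.leaf 18) (.leaf 2202)) (.leaf 449)) (.node (.leaf 234) (.leaf 1650))) (.node (.node (.leaf 127) (.leaf 550)) (.node (.leaf 1947) (.leaf 759)))) (.node (.node (.node (.node (.leaf 73) (.leaf 1921))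 (.leaf 0)) (.node (.leaf 291) (.leaf 710))) (.node (.node (.leaf 181) (.leaf 1605)) (.node (.leaf 0) (.leaf 813))))) (.node (.node (.node (.node (.node (.leaf 46) (.leaf 0)) (.leaf 0)) (.node (.leaf 264) (.leaf 0))) (.node (.node (.leaf 197) (.leaf 578)) (.node (.leaf 1715) (.leaf 1765)))) (.node (.node (.node (.node (.leaf 0) (.leaf 0)) (.leaf 0)) (.node (.leaf 317) (.leaf 737))) (.node (.node (.leaf 0) (.leaf 0)) (.node (.leaf 0) (.leaf 842))))))) (.node (.node (.node (.node (.node (.node (.node (.leaf 11) (.leaf 1774)) (.leaf 1641)) (.node (.leaf 0) (.leaf 651))) (.node (.node (.leaf 0) (.leaf 542)) (.node (.leaf 0) (.leaf 753)))) (.node (.node (.node (.node (.leaf 67) (.leaf 914)) (.leaf 1925)) (.node (.leaf 285) (.leaf 705))) (.node (.node (.leaf 0) (.leaf 597)) (.node (.leaf 0) (.leaf 806))))) (.node (.node (.node (.node (.node (.leaf 0) (.leaf 885)) (.leaf 0)) (.node (.leaf 257) (.leaf 2270))) (.node (.node (.leaf 146) (.leaf 573)) (.node (.leaf 0) (.leaf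 0)))) (.node (.node (.node (.node (.leaf 94) (.leaf 1626)) (.leaf 519)) (.node (.leaf 1714) (.leaf 0))) (.node (.node (.leaf 1798) (.leaf 1876)) (.node (.leaf 415) (.leaf 0)))))) (.node (.node (.node (.node (.node (.node (.leaf 0) (.leaf 0)) (.leaf 0)) (.node (.leaf 242) (.leaf 666))) (.node (.node (.leaf 133) (.leaf 0)) (.node (.leaf 349) (.leaf 0)))) (.node (.node (.node (.node (.leaf 0) (.leaf 927)) (.leaf 506)) (.node (.leaf 0) (.leaf 2126))) (.node (.node (.leaf 0) (.leaf 613)) (.node (.leaf 401) (.leaf 822))))) (.node (.node (.node (.node (.node (.leaf 53) (.leaf 901)) (.leaf 0)) (.node (.leaf 269) (.leaf 693))) (.node (.node (.leaf 0) (.leaf 0)) (.node (.leaf 0) (.leaf 0)))) (.node (.node (.node (.node (.leaf 107) (.leaf 2287)) (.leaf 527)) (.node (.leaf 324) (.leaf 0))) (.node (.node (.leaf 1629) (.leaf 0)) (.node (.leaf 427) (.leaf 847)))))))) (.node (.node (.node (.node (.node (.node (.node (.node (.leaf 8) (.leaf 2119)) (.leaf 438)) (.node (.leaf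 0) (.leaf 0))) (.node (.node (.leaf 0) (.leaf 0)) (.node (.leaf 0) (.leaf 749)))) (.node (.node (.node (.node (.leaf 0) (.leaf 0)) (.leaf 485)) (.node (.leaf 0) (.leaf 0))) (.node (.node (.leaf 0) (.leaf 594)) (.node (.leaf 384) (.leaf 803))))) (.node (.node (.node (.node (.node (.leaf 36) (.leaf 882)) (.leaf 0)) (.node (.leaf 0) (.leaf 678))) (.node (.node (.leaf 143) (.leaf 1843)) (.node (.leaf 0) (.leaf 1721)))) (.node (.node (.node (.node (.leaf 0) (.leaf 937)) (.leaf 0)) (.node (.leaf 1718) (.leaf 1601))) (.node (.node (.leaf 0) (.leaf 1593)) (.node (.leaf 0) (.leaf 831)))))) (.node (.node (.node (.node (.node (.node (.leaf 0) (.leaf 870)) (.leaf 0)) (.node (.leaf 237) (.leaf 0))) (.node (.node (.leaf 130) (.leaf 0)) (.node (.leaf 1723) (.leaf 762)))) (.node (.node (.node (.node (.leaf 0) (.leaf 1727)) (.leaf 0)) (.node (.leaf 294) (.leaf 1600))) (.node (.node (.leaf 185) (.leaf 0)) (.node (.leaf 397) (.leaf 817))))) (.node (.node (.node (.node (.node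 (.leaf 0) (.leaf 899)) (.leaf 0)) (.node (.leaf 267) (.leaf 690))) (.node (.node (.leaf 157) (.leaf 581)) (.node (.leaf 0) (.leaf 788)))) (.node (.node (.node (.node (.leaf 0) (.leaf 0)) (.leaf 525)) (.node (.leaf 320) (.leaf 2201))) (.node (.node (.leaf 210) (.leaf 1607)) (.node (.leaf 424) (.leaf 0))))))) (.node (.node (.node (.node (.node (.node (.node (.leaf 0) (.leaf 2242)) (.leaf 1922)) (.node (.leaf 1780) (.leaf 1877))) (.node (.node (.leaf 0) (.leaf 0)) (.node (.leaf 340) (.leaf 0)))) (.node (.node (.node (.node (.leaf 0) (.leaf 0)) (.leaf 496)) (.node (.leaf 288) (.leaf 1939))) (.node (.node (.leaf 178) (.leaf 601)) (.node (.leaf 390) (.leaf 1987))))) (.node (.node (.node (.node (.node (.leaf 42) (.leaf 890)) (.leaf 468)) (.node (.leaf 260) (.leaf 2196))) (.node (.node (.leaf 149) (.leaf 576)) (.node (.leaf 367) (.leaf 0)))) (.node (.node (.node (.node (.leaf 0) (.leaf 944)) (.leaf 0)) (.node (.leaf 313) (.leaf 0))) (.node (.node (.leaf 0) (.leaf 630))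 (.node (.leaf 418) (.leaf 1621)))))) (.node (.node (.node (.node (.node (.node (.leaf 29) (.leaf 877)) (.leaf 0)) (.node (.leaf 245) (.leaf 2052))) (.node (.node (.leaf 0) (.leaf 563)) (.node (.leaf 1574) (.leaf 0)))) (.node (.node (.node (.node (.leaf 0) (.leaf 930)) (.leaf 509)) (.node (.leaf 0) (.leaf 1938))) (.node (.node (.leaf 0) (.leaf 1851)) (.node (.leaf 404) (.leaf 2217))))) (.node (.node (.node (.node (.node (.leaf 0) (.leaf 904)) (.leaf 0)) (.node (.leaf 1887) (.leaf 695))) (.node (.node (.leaf 0) (.leaf 0)) (.node (.leaf 0) (.leaf 0)))) (.node (.node (.node (.node (.leaf 0) (.leaf 2290)) (.leaf 1599)) (.node (.leaf 328) (.leaf 0))) (.node (.node (.leaf 1566) (.leaf 2249)) (.node (.leaf 1975) (.leaf 0))))))))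

/-- data -/
def rank0p7 : Trie (ℕ) := .node (.node (.node (.node (.node (.node (.node (.node (.node (.leaf 0) (.leaf 1497)) (.leaf 0)) (.node (.leaf 0) (.leaf 0))) (.node (.node (.leaf 0) (.leaf 1293)) (.node (.leaf 1159) (.leaf 0)))) (.node (.node (.node (.node (.leaf 0) (.leaf 1794)) (.leaf 0)) (.node (.leaf 0) (.leaf 0))) (.node (.node (.leaf 0) (.leaf 0)) (.node (.leaf 0) (.leaf 0))))) (.node (.node (.node (.node (.node (.leaf 980) (.leaf 2232)) (.leaf 0)) (.node (.leaf 0) (.leaf 0))) (.node (.node (.leaf 0) (.leaf 1707)) (.node (.leaf 0) (.leaf 1446)))) (.node (.node (.node (.node (.leaf 0) (.leaf 1829)) (.leaf 0)) (.node (.leaf 1143) (.leaf 0))) (.node (.node (.leaf 1078) (.leaf 1346)) (.node (.leaf 1209) (.leaf 0)))))) (.node (.node (.node (.node (.node (.node (.leaf 0) (.leaf 1503)) (.leaf 0)) (.node (.leaf 0) (.leaf 0))) (.node (.node (.leaf 0) (.leaf 1964)) (.node (.leaf 0) (.leaf 0)))) (.node (.node (.node (.node (.leaf 0) (.leaf 1536)) (.leaf 1268))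 (.node (.leaf 0) (.leaf 0))) (.node (.node (.leaf 0) (.leaf 1337)) (.node (.leaf 0) (.leaf 1825))))) (.node (.node (.node (.node (.node (.leaf 0) (.leaf 1519)) (.leaf 1254)) (.node (.leaf 0) (.leaf 0))) (.node (.node (.leaf 0) (.leaf 1732)) (.node (.leaf 1730) (.leaf 0)))) (.node (.node (.node (.node (.leaf 1021) (.leaf 1551)) (.leaf 1821)) (.node (.leaf 0) (.leaf 1934))) (.node (.node (.leaf 0) (.leaf 0)) (.node (.leaf 1219) (.leaf 2011))))))) (.node (.node (.node (.node (.node (.node (.node (.leaf 0) (.leaf 0)) (.leaf 1781)) (.node (.leaf 0) (.leaf 0))) (.node (.node (.leaf 0) (.leaf 2074)) (.node (.leaf 0) (.leaf 0)))) (.node (.node (.node (.node (.leaf 0) (.leaf 2233)) (.leaf 0)) (.node (.leaf 0) (.leaf 0))) (.node (.node (.leaf 1065) (.leaf 1796)) (.node (.leaf 0) (.leaf 0))))) (.node (.node (.node (.node (.node (.leaf 984) (.leaf 2296)) (.leaf 0)) (.node (.leaf 0) (.leaf 0))) (.node (.node (.leaf 0) (.leaf 0)) (.node (.leaf 0) (.leaf 1449)))) (.node (.node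 (.node (.node (.leaf 0) (.leaf 2260)) (.leaf 0)) (.node (.leaf 0) (.leaf 1413))) (.node (.node (.leaf 0) (.leaf 1956)) (.node (.leaf 0) (.leaf 1481)))))) (.node (.node (.node (.node (.node (.node (.leaf 977) (.leaf 1507)) (.leaf 1238)) (.node (.leaf 0) (.leaf 0))) (.node (.node (.leaf 0) (.leaf 1306)) (.node (.leaf 0) (.leaf 0)))) (.node (.node (.node (.node (.leaf 1008) (.leaf 0)) (.leaf 0)) (.node (.leaf 1140) (.leaf 1405))) (.node (.node (.leaf 0) (.leaf 0)) (.node (.leaf 0) (.leaf 0))))) (.node (.node (.node (.node (.node (.leaf 0) (.leaf 0)) (.leaf 0)) (.node (.leaf 0) (.leaf 0))) (.node (.node (.leaf 0) (.leaf 0)) (.node (.leaf 0) (.leaf 1455)))) (.node (.node (.node (.node (.leaf 0) (.leaf 2293)) (.leaf 0)) (.node (.leaf 0) (.leaf 2023))) (.node (.node (.leaf 1091) (.leaf 1358)) (.node (.leaf 0) (.leaf 0)))))))) (.node (.node (.node (.node (.node (.node (.node (.node (.leaf 0) (.leaf 2229)) (.leaf 0)) (.node (.leaf 1097) (.leaf 0))) (.node (.node (.leaf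 0) (.leaf 0)) (.node (.leaf 0) (.leaf 0)))) (.node (.node (.node (.node (.leaf 0) (.leaf 1528)) (.leaf 0)) (.node (.leaf 1129) (.leaf 1741))) (.node (.node (.leaf 0) (.leaf 0)) (.node (.leaf 0) (.leaf 2299))))) (.node (.node (.node (.node (.node (.leaf 0) (.leaf 0)) (.leaf 1246)) (.node (.leaf 0) (.leaf 0))) (.node (.node (.leaf 0) (.leaf 1314)) (.node (.leaf 1178) (.leaf 0)))) (.node (.node (.node (.node (.leaf 1014) (.leaf 2175)) (.leaf 1279)) (.node (.leaf 0) (.leaf 0))) (.node (.node (.leaf 1080) (.leaf 0)) (.node (.leaf 1211) (.leaf 0)))))) (.node (.node (.node (.node (.node (.node (.leaf 0) (.leaf 0)) (.leaf 0)) (.node (.leaf 0) (.leaf 1369))) (.node (.node (.leaf 0) (.leaf 1304)) (.node (.leaf 0) (.leaf 2234)))) (.node (.node (.node (.node (.leaf 0) (.leaf 1828)) (.leaf 1270)) (.node (.leaf 0) (.leaf 1970))) (.node (.node (.leaf 1699) (.leaf 0)) (.node (.leaf 0) (.leaf 0))))) (.node (.node (.node (.node (.node (.leaf 0) (.leaf 1958)) (.leaf 0)) (.node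 (.leaf 0) (.leaf 0))) (.node (.node (.leaf 0) (.leaf 0)) (.node (.leaf 0) (.leaf 0)))) (.node (.node (.node (.node (.leaf 0) (.leaf 1553)) (.leaf 1688)) (.node (.leaf 0) (.leaf 0))) (.node (.node (.leaf 0) (.leaf 0)) (.node (.leaf 0) (.leaf 1488))))))) (.node (.node (.node (.node (.node (.node (.node (.leaf 971) (.leaf 0)) (.leaf 1706)) (.node (.leaf 1101) (.leaf 0))) (.node (.node (.leaf 0) (.leaf 1300)) (.node (.leaf 0) (.leaf 0)))) (.node (.node (.node (.node (.leaf 0) (.leaf 0)) (.leaf 0)) (.node (.leaf 0) (.leaf 0))) (.node (.node (.leaf 0) (.leaf 0)) (.node (.leaf 0) (.leaf 0))))) (.node (.node (.node (.node (.node (.leaf 0) (.leaf 2157)) (.leaf 0)) (.node (.leaf 1737) (.leaf 0))) (.node (.node (.leaf 0) (.leaf 0)) (.node (.leaf 0) (.leaf 0)))) (.node (.node (.node (.node (.leaf 0) (.leaf 1840)) (.leaf 0)) (.node (.leaf 0) (.leaf 1946))) (.node (.node (.leaf 0) (.leaf 0)) (.node (.leaf 1807) (.leaf 0)))))) (.node (.node (.node (.node (.node (.node (.leaf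 0) (.leaf 0)) (.leaf 1240)) (.node (.leaf 0) (.leaf 0))) (.node (.node (.leaf 1043) (.leaf 0)) (.node (.leaf 0) (.leaf 1443)))) (.node (.node (.node (.node (.leaf 0) (.leaf 1845)) (.leaf 0)) (.node (.leaf 0) (.leaf 0))) (.node (.node (.leaf 1076) (.leaf 1343)) (.node (.leaf 0) (.leaf 2153))))) (.node (.node (.node (.node (.node (.leaf 0) (.leaf 0)) (.leaf 1260)) (.node (.leaf 0) (.leaf 1812))) (.node (.node (.leaf 0) (.leaf 1327)) (.node (.leaf 0) (.leaf 0)))) (.node (.node (.node (.node (.leaf 1027) (.leaf 2289)) (.leaf 0)) (.node (.leaf 0) (.leaf 0))) (.node (.node (.leaf 0) (.leaf 1361)) (.node (.leaf 0) (.leaf 0))))))))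

/-- data -/
def rank0p8 : Trie (ℕ) := .node (.node (.node (.node (.node (.node (.node (.node (.node (.leaf 5) (.leaf 0)) (.leaf 0)) (.node (.leaf 0) (.leaf 645))) (.node (.node (.leaf 1558) (.leaf 0)) (.node (.leaf 0) (.leaf 0)))) (.node (.node (.node (.node (.leaf 0) (.leaf 908)) (.leaf 482)) (.node (.leaf 277) (.leaf 699))) (.node (.node (.leaf 168) (.leaf 591)) (.node (.leaf 381) (.leaf 800))))) (.node (.node (.node (.node (.node (.leaf 0) (.leaf 880)) (.leaf 0)) (.node (.leaf 249) (.leaf 0))) (.node (.node (.leaf 141) (.leaf 0)) (.node (.leaf 357) (.leaf 1858)))) (.node (.node (.node (.node (.leaf 0) (.leaf 1849)) (.leaf 512)) (.node (.leaf 303) (.leaf 723))) (.node (.node (.leaf 0) (.leaf 622)) (.node (.leaf 1577) (.leaf 828)))))) (.node (.node (.node (.node (.node (.node (.leaf 0) (.leaf 1613)) (.leaf 1822)) (.node (.leaf 0) (.leaf 657))) (.node (.node (.leaf 0) (.leaf 2084)) (.node (.leaf 343) (.leaf 2276)))) (.node (.node (.node (.node (.leaf 74) (.leaf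 1861)) (.leaf 499)) (.node (.leaf 0) (.leaf 711))) (.node (.node (.leaf 182) (.leaf 1591)) (.node (.leaf 394) (.leaf 0))))) (.node (.node (.node (.node (.node (.leaf 0) (.leaf 895)) (.leaf 0)) (.node (.leaf 0) (.leaf 687))) (.node (.node (.leaf 153) (.leaf 0)) (.node (.leaf 371) (.leaf 0)))) (.node (.node (.node (.node (.leaf 1557) (.leaf 950)) (.leaf 0)) (.node (.leaf 0) (.leaf 0))) (.node (.node (.leaf 207) (.leaf 0)) (.node (.leaf 1763) (.leaf 1884))))))) (.node (.node (.node (.node (.node (.node (.node (.leaf 12) (.leaf 860)) (.leaf 442)) (.node (.leaf 227) (.leaf 0))) (.node (.node (.leaf 121) (.leaf 0)) (.node (.leaf 0) (.leaf 2199)))) (.node (.node (.node (.node (.leaf 0) (.leaf 0)) (.leaf 490)) (.node (.leaf 0) (.leaf 2027))) (.node (.node (.leaf 0) (.leaf 598)) (.node (.leaf 387) (.leaf 0))))) (.node (.node (.node (.node (.node (.leaf 40) (.leaf 886)) (.leaf 467)) (.node (.leaf 0) (.leaf 0))) (.node (.node (.leaf 147) (.leaf 574)) (.node (.leaf 365)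 (.leaf 1652)))) (.node (.node (.node (.node (.leaf 1562) (.leaf 942)) (.leaf 0)) (.node (.leaf 1579) (.leaf 730))) (.node (.node (.leaf 201) (.leaf 0)) (.node (.leaf 0) (.leaf 0)))))) (.node (.node (.node (.node (.node (.node (.leaf 0) (.leaf 1942)) (.leaf 0)) (.node (.leaf 0) (.leaf 667))) (.node (.node (.leaf 0) (.leaf 0)) (.node (.leaf 1805) (.leaf 766)))) (.node (.node (.node (.node (.leaf 0) (.leaf 0)) (.leaf 0)) (.node (.leaf 0) (.leaf 0))) (.node (.node (.leaf 189) (.leaf 0)) (.node (.leaf 402) (.leaf 0))))) (.node (.node (.node (.node (.node (.leaf 0) (.leaf 1864)) (.leaf 476)) (.node (.leaf 0) (.leaf 2042))) (.node (.node (.leaf 161) (.leaf 0)) (.node (.leaf 1644) (.leaf 2183)))) (.node (.node (.node (.node (.leaf 0) (.leaf 0)) (.leaf 528)) (.node (.leaf 0) (.leaf 1717))) (.node (.node (.leaf 1635) (.leaf 0)) (.node (.leaf 0) (.leaf 2130)))))))) (.node (.node (.node (.node (.node (.node (.node (.node (.leaf 9) (.leaf 2252)) (.leaf 439)) (.node (.leaf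 0) (.leaf 0))) (.node (.node (.leaf 117) (.leaf 539)) (.node (.leaf 334) (.leaf 0)))) (.node (.node (.node (.node (.leaf 63) (.leaf 1624)) (.leaf 486)) (.node (.leaf 0) (.leaf 703))) (.node (.node (.leaf 171) (.leaf 0)) (.node (.leaf 2099) (.leaf 0))))) (.node (.node (.node (.node (.node (.leaf 0) (.leaf 883)) (.leaf 464)) (.node (.leaf 252) (.leaf 0))) (.node (.node (.leaf 144) (.leaf 1589)) (.node (.leaf 361) (.leaf 774)))) (.node (.node (.node (.node (.leaf 91) (.leaf 2134)) (.leaf 0)) (.node (.leaf 306) (.leaf 0))) (.node (.node (.leaf 1783) (.leaf 1748)) (.node (.leaf 0) (.leaf 832)))))) (.node (.node (.node (.node (.node (.node (.leaf 22) (.leaf 871)) (.leaf 452)) (.node (.leaf 0) (.leaf 662))) (.node (.node (.leaf 131) (.leaf 1957)) (.node (.leaf 346) (.leaf 2026)))) (.node (.node (.node (.node (.leaf 77) (.leaf 923)) (.leaf 0)) (.node (.leaf 295) (.leaf 0))) (.node (.node (.leaf 0) (.leaf 609)) (.node (.leaf 398) (.leaf 0))))) (.node (.node (.node (.node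 (.node (.leaf 50) (.leaf 1914)) (.leaf 0)) (.node (.leaf 0) (.leaf 0))) (.node (.node (.leaf 1627) (.leaf 0)) (.node (.leaf 0) (.leaf 789)))) (.node (.node (.node (.node (.leaf 104) (.leaf 0)) (.leaf 0)) (.node (.leaf 321) (.leaf 0))) (.node (.node (.leaf 211) (.leaf 1888)) (.node (.leaf 0) (.leaf 0))))))) (.node (.node (.node (.node (.node (.node (.node (.leaf 0) (.leaf 864)) (.leaf 445)) (.node (.leaf 1573) (.leaf 2016))) (.node (.node (.leaf 124) (.leaf 547)) (.node (.leaf 341) (.leaf 757)))) (.node (.node (.node (.node (.leaf 70) (.leaf 1649)) (.leaf 0)) (.node (.leaf 0) (.leaf 708))) (.node (.node (.leaf 0) (.leaf 0)) (.node (.leaf 2080) (.leaf 1690))))) (.node (.node (.node (.node (.node (.leaf 43) (.leaf 1679)) (.leaf 0)) (.node (.leaf 0) (.leaf 2194))) (.node (.node (.leaf 0) (.leaf 0)) (.node (.leaf 368) (.leaf 781)))) (.node (.node (.node (.node (.leaf 97) (.leaf 0)) (.leaf 0)) (.node (.leaf 0) (.leaf 734))) (.node (.node (.leaf 0) (.leaf 631)) (.node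 (.leaf 0) (.leaf 838)))))) (.node (.node (.node (.node (.node (.node (.leaf 0) (.leaf 0)) (.leaf 459)) (.node (.leaf 0) (.leaf 670))) (.node (.node (.leaf 0) (.leaf 1952)) (.node (.leaf 1788) (.leaf 0)))) (.node (.node (.node (.node (.leaf 84) (.leaf 1866)) (.leaf 0)) (.node (.leaf 299) (.leaf 720))) (.node (.node (.leaf 0) (.leaf 618)) (.node (.leaf 405) (.leaf 825))))) (.node (.node (.node (.node (.node (.leaf 0) (.leaf 905)) (.leaf 1595)) (.node (.leaf 272) (.leaf 0))) (.node (.node (.leaf 164) (.leaf 0)) (.node (.leaf 378) (.leaf 2204)))) (.node (.node (.node (.node (.leaf 0) (.leaf 962)) (.leaf 531)) (.node (.leaf 0) (.leaf 0))) (.node (.node (.leaf 0) (.leaf 0)) (.node (.leaf 431) (.leaf 852))))))))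

/-- data -/
def rank0p9 : Trie (ℕ) := .node (.node (.node (.node (.node (.node (.node (.node (.node (.leaf 0) (.leaf 0)) (.leaf 1225)) (.node (.leaf 1095) (.leaf 0))) (.node (.node (.leaf 0) (.leaf 0)) (.node (.leaf 0) (.leaf 2271)))) (.node (.node (.node (.node (.leaf 997) (.leaf 0)) (.leaf 0)) (.node (.leaf 0) (.leaf 0))) (.node (.node (.leaf 0) (.leaf 0)) (.node (.leaf 0) (.leaf 0))))) (.node (.node (.node (.node (.node (.leaf 0) (.leaf 2163)) (.leaf 1244)) (.node (.leaf 0) (.leaf 0))) (.node (.node (.leaf 0) (.leaf 0)) (.node (.leaf 0) (.leaf 0)))) (.node (.node (.node (.node (.leaf 0) (.leaf 1841)) (.leaf 0)) (.node (.leaf 0) (.leaf 0))) (.node (.node (.leaf 0) (.leaf 0)) (.node (.leaf 0) (.leaf 2182)))))) (.node (.node (.node (.node (.node (.node (.leaf 0) (.leaf 1856)) (.leaf 1233)) (.node (.leaf 1103) (.leaf 1983))) (.node (.node (.leaf 1037) (.leaf 0)) (.node (.leaf 1874) (.leaf 1436)))) (.node (.node (.node (.node (.leaf 0) (.leaf 0)) (.leaf 1808))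 (.node (.leaf 0) (.leaf 0))) (.node (.node (.leaf 0) (.leaf 0)) (.node (.leaf 2139) (.leaf 1469))))) (.node (.node (.node (.node (.node (.leaf 988) (.leaf 0)) (.leaf 2140)) (.node (.leaf 1119) (.leaf 1836))) (.node (.node (.leaf 0) (.leaf 1321)) (.node (.leaf 0) (.leaf 0)))) (.node (.node (.node (.node (.leaf 0) (.leaf 2219)) (.leaf 0)) (.node (.leaf 1150) (.leaf 1418))) (.node (.node (.leaf 0) (.leaf 0)) (.node (.leaf 0) (.leaf 0))))))) (.node (.node (.node (.node (.node (.node (.node (.leaf 0) (.leaf 1865)) (.leaf 0)) (.node (.leaf 0) (.leaf 1366))) (.node (.node (.leaf 0) (.leaf 1298)) (.node (.leaf 0) (.leaf 1430)))) (.node (.node (.node (.node (.leaf 1000) (.leaf 1532)) (.leaf 0)) (.node (.leaf 1131) (.leaf 1395))) (.node (.node (.leaf 0) (.leaf 0)) (.node (.leaf 0) (.leaf 1465))))) (.node (.node (.node (.node (.node (.leaf 0) (.leaf 1940)) (.leaf 0)) (.node (.leaf 1115) (.leaf 1379))) (.node (.node (.leaf 0) (.leaf 0)) (.node (.leaf 0) (.leaf 1814))))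 (.node (.node (.node (.node (.leaf 1017) (.leaf 2000)) (.leaf 1281)) (.node (.leaf 0) (.leaf 0))) (.node (.node (.leaf 0) (.leaf 1351)) (.node (.leaf 1214) (.leaf 0)))))) (.node (.node (.node (.node (.node (.node (.leaf 0) (.leaf 2072)) (.leaf 0)) (.node (.leaf 1106) (.leaf 0))) (.node (.node (.leaf 0) (.leaf 0)) (.node (.leaf 0) (.leaf 0)))) (.node (.node (.node (.node (.leaf 0) (.leaf 1541)) (.leaf 1273)) (.node (.leaf 0) (.leaf 0))) (.node (.node (.leaf 0) (.leaf 1341)) (.node (.leaf 0) (.leaf 0))))) (.node (.node (.node (.node (.node (.leaf 992) (.leaf 1523)) (.leaf 1902)) (.node (.leaf 1123) (.leaf 1388))) (.node (.node (.leaf 0) (.leaf 1325)) (.node (.leaf 1191) (.leaf 1456)))) (.node (.node (.node (.node (.leaf 0) (.leaf 2305)) (.leaf 0)) (.node (.leaf 1154) (.leaf 0))) (.node (.node (.leaf 0) (.leaf 2298)) (.node (.leaf 1223) (.leaf 1491)))))))) (.node (.node (.node (.node (.node (.node (.node (.node (.leaf 0) (.leaf 1498)) (.leaf 2077)) (.node (.leaf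 0) (.leaf 0))) (.node (.node (.leaf 0) (.leaf 0)) (.node (.leaf 0) (.leaf 1429)))) (.node (.node (.node (.node (.leaf 0) (.leaf 2230)) (.leaf 1883)) (.node (.leaf 0) (.leaf 0))) (.node (.node (.leaf 0) (.leaf 1331)) (.node (.leaf 1197) (.leaf 2294))))) (.node (.node (.node (.node (.node (.leaf 983) (.leaf 2061)) (.leaf 0)) (.node (.leaf 0) (.leaf 1376))) (.node (.node (.leaf 1667) (.leaf 2090)) (.node (.leaf 0) (.leaf 1867)))) (.node (.node (.node (.node (.leaf 0) (.leaf 1547)) (.leaf 1990)) (.node (.leaf 0) (.leaf 2149))) (.node (.node (.leaf 1081) (.leaf 0)) (.node (.leaf 2108) (.leaf 1859)))))) (.node (.node (.node (.node (.node (.node (.leaf 0) (.leaf 0)) (.leaf 0)) (.node (.leaf 0) (.leaf 0))) (.node (.node (.leaf 0) (.leaf 1740)) (.node (.leaf 0) (.leaf 0)))) (.node (.node (.node (.node (.leaf 0) (.leaf 2284)) (.leaf 0)) (.node (.leaf 2246) (.leaf 0))) (.node (.node (.leaf 0) (.leaf 0)) (.node (.leaf 0) (.leaf 1472))))) (.node (.node (.node (.node (.node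 (.leaf 0) (.leaf 0)) (.leaf 0)) (.node (.leaf 1121) (.leaf 1385))) (.node (.node (.leaf 1055) (.leaf 1323)) (.node (.leaf 1189) (.leaf 0)))) (.node (.node (.node (.node (.leaf 0) (.leaf 1554)) (.leaf 1287)) (.node (.leaf 0) (.leaf 2060))) (.node (.node (.leaf 0) (.leaf 0)) (.node (.leaf 1222) (.leaf 1708))))))) (.node (.node (.node (.node (.node (.node (.node (.leaf 0) (.leaf 0)) (.leaf 0)) (.node (.leaf 0) (.leaf 2137))) (.node (.node (.leaf 0) (.leaf 0)) (.node (.leaf 0) (.leaf 0)))) (.node (.node (.node (.node (.leaf 0) (.leaf 1534)) (.leaf 1266)) (.node (.leaf 0) (.leaf 0))) (.node (.node (.leaf 1067) (.leaf 0)) (.node (.leaf 0) (.leaf 1467))))) (.node (.node (.node (.node (.node (.leaf 0) (.leaf 1517)) (.leaf 1252)) (.node (.leaf 1117) (.leaf 0))) (.node (.node (.leaf 0) (.leaf 1319)) (.node (.leaf 0) (.leaf 1913)))) (.node (.node (.node (.node (.leaf 0) (.leaf 1550)) (.leaf 0)) (.node (.leaf 1148) (.leaf 0))) (.node (.node (.leaf 0) (.leaf 0)) (.node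 (.leaf 1218) (.leaf 0)))))) (.node (.node (.node (.node (.node (.node (.leaf 979) (.leaf 2250)) (.leaf 0)) (.node (.leaf 1108) (.leaf 0))) (.node (.node (.leaf 0) (.leaf 1309)) (.node (.leaf 1803) (.leaf 1444)))) (.node (.node (.node (.node (.leaf 0) (.leaf 1542)) (.leaf 0)) (.node (.leaf 0) (.leaf 2179))) (.node (.node (.leaf 0) (.leaf 0)) (.node (.leaf 0) (.leaf 0))))) (.node (.node (.node (.node (.node (.leaf 0) (.leaf 1860)) (.leaf 0)) (.node (.leaf 0) (.leaf 1661))) (.node (.node (.leaf 0) (.leaf 0)) (.node (.leaf 0) (.leaf 1460)))) (.node (.node (.node (.node (.leaf 0) (.leaf 2300)) (.leaf 0)) (.node (.leaf 1157) (.leaf 1425))) (.node (.node (.leaf 0) (.leaf 0)) (.node (.leaf 0) (.leaf 0))))))))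

/-- data -/
def rank0p10 : Trie (ℕ) := .node (.node (.node (.node (.node (.node (.node (.node (.node (.leaf 0) (.leaf 855)) (.leaf 0)) (.node (.leaf 222) (.leaf 646))) (.node (.node (.leaf 0) (.leaf 536)) (.node (.leaf 332) (.leaf 746)))) (.node (.node (.node (.node (.leaf 1556) (.leaf 0)) (.leaf 0)) (.node (.leaf 278) (.leaf 700))) (.node (.node (.leaf 0) (.leaf 592)) (.node (.leaf 1585) (.leaf 0))))) (.node (.node (.node (.node (.node (.leaf 33) (.leaf 1847)) (.leaf 1581)) (.node (.leaf 250) (.leaf 675))) (.node (.node (.leaf 0) (.leaf 566)) (.node (.leaf 358) (.leaf 0)))) (.node (.node (.node (.node (.leaf 87) (.leaf 934)) (.leaf 513)) (.node (.leaf 0) (.leaf 2124))) (.node (.node (.leaf 196) (.leaf 623)) (.node (.leaf 409) (.leaf 0)))))) (.node (.node (.node (.node (.node (.node (.leaf 19) (.leaf 867)) (.leaf 0)) (.node (.leaf 0) (.leaf 658))) (.node (.node (.leaf 0) (.leaf 551)) (.node (.leaf 0) (.leaf 760)))) (.node (.node (.node (.node (.leaf 0) (.leaf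 0)) (.leaf 500)) (.node (.leaf 292) (.leaf 0))) (.node (.node (.leaf 0) (.leaf 0)) (.node (.leaf 395) (.leaf 814))))) (.node (.node (.node (.node (.node (.leaf 0) (.leaf 896)) (.leaf 0)) (.node (.leaf 0) (.leaf 688))) (.node (.node (.leaf 154) (.leaf 0)) (.node (.leaf 0) (.leaf 784)))) (.node (.node (.node (.node (.leaf 0) (.leaf 951)) (.leaf 523)) (.node (.leaf 318) (.leaf 0))) (.node (.node (.leaf 208) (.leaf 633)) (.node (.leaf 0) (.leaf 1722))))))) (.node (.node (.node (.node (.node (.node (.node (.leaf 0) (.leaf 0)) (.leaf 1785)) (.node (.leaf 0) (.leaf 652))) (.node (.node (.leaf 0) (.leaf 1587)) (.node (.leaf 338) (.leaf 0)))) (.node (.node (.node (.node (.leaf 68) (.leaf 2033)) (.leaf 491)) (.node (.leaf 0) (.leaf 1733))) (.node (.node (.leaf 175) (.leaf 0)) (.node (.leaf 0) (.leaf 0))))) (.node (.node (.node (.node (.node (.leaf 0) (.leaf 887)) (.leaf 0)) (.node (.leaf 0) (.leaf 0))) (.node (.node (.leaf 0) (.leaf 0)) (.node (.leaf 0) (.leaf 778))))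 (.node (.node (.node (.node (.leaf 0) (.leaf 1980)) (.leaf 1598)) (.node (.leaf 0) (.leaf 1937))) (.node (.node (.leaf 0) (.leaf 1800)) (.node (.leaf 0) (.leaf 835)))))) (.node (.node (.node (.node (.node (.node (.leaf 0) (.leaf 874)) (.leaf 0)) (.node (.leaf 1568) (.leaf 0))) (.node (.node (.leaf 134) (.leaf 559)) (.node (.leaf 350) (.leaf 0)))) (.node (.node (.node (.node (.leaf 0) (.leaf 0)) (.leaf 0)) (.node (.leaf 0) (.leaf 717))) (.node (.node (.leaf 190) (.leaf 614)) (.node (.leaf 0) (.leaf 823))))) (.node (.node (.node (.node (.node (.leaf 0) (.leaf 1826)) (.leaf 0)) (.node (.leaf 0) (.leaf 1801))) (.node (.node (.leaf 0) (.leaf 585)) (.node (.leaf 1695) (.leaf 0)))) (.node (.node (.node (.node (.leaf 108) (.leaf 958)) (.leaf 0)) (.node (.leaf 0) (.leaf 0))) (.node (.node (.leaf 215) (.leaf 639)) (.node (.leaf 1675) (.leaf 848)))))))) (.node (.node (.node (.node (.node (.node (.node (.node (.leaf 0) (.leaf 0)) (.leaf 0)) (.node (.leaf 225) (.leaf 0)))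 (.node (.node (.leaf 118) (.leaf 1637)) (.node (.leaf 335) (.leaf 0)))) (.node (.node (.node (.node (.leaf 0) (.leaf 2251)) (.leaf 0)) (.node (.leaf 281) (.leaf 0))) (.node (.node (.leaf 0) (.leaf 0)) (.node (.leaf 0) (.leaf 804))))) (.node (.node (.node (.node (.node (.leaf 0) (.leaf 1647)) (.leaf 2235)) (.node (.leaf 253) (.leaf 679))) (.node (.node (.leaf 0) (.leaf 570)) (.node (.leaf 362) (.leaf 0)))) (.node (.node (.node (.node (.leaf 0) (.leaf 938)) (.leaf 516)) (.node (.leaf 307) (.leaf 727))) (.node (.node (.leaf 1571) (.leaf 626)) (.node (.leaf 0) (.leaf 0)))))) (.node (.node (.node (.node (.node (.node (.leaf 23) (.leaf 0)) (.leaf 1634)) (.node (.leaf 238) (.leaf 0))) (.node (.node (.leaf 0) (.leaf 555)) (.node (.leaf 0) (.leaf 763)))) (.node (.node (.node (.node (.leaf 78) (.leaf 924)) (.leaf 503)) (.node (.leaf 0) (.leaf 715))) (.node (.node (.leaf 186) (.leaf 610)) (.node (.leaf 0) (.leaf 818))))) (.node (.node (.node (.node (.node (.leaf 0) (.leaf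 2012)) (.leaf 475)) (.node (.leaf 1576) (.leaf 0))) (.node (.node (.leaf 1631) (.leaf 582)) (.node (.leaf 1575) (.leaf 790)))) (.node (.node (.node (.node (.leaf 105) (.leaf 2210)) (.leaf 1696)) (.node (.leaf 0) (.leaf 1911))) (.node (.node (.leaf 0) (.leaf 636)) (.node (.leaf 0) (.leaf 0))))))) (.node (.node (.node (.node (.node (.node (.node (.leaf 0) (.leaf 2263)) (.leaf 1979)) (.node (.leaf 0) (.leaf 654))) (.node (.node (.leaf 0) (.leaf 548)) (.node (.leaf 0) (.leaf 2015)))) (.node (.node (.node (.node (.leaf 71) (.leaf 1655)) (.leaf 0)) (.node (.leaf 0) (.leaf 0))) (.node (.node (.leaf 0) (.leaf 0)) (.node (.leaf 391) (.leaf 811))))) (.node (.node (.node (.node (.node (.leaf 0) (.leaf 891)) (.leaf 1594)) (.node (.leaf 0) (.leaf 683))) (.node (.node (.leaf 150) (.leaf 0)) (.node (.leaf 0) (.leaf 2076)))) (.node (.node (.node (.node (.leaf 98) (.leaf 945)) (.leaf 521)) (.node (.leaf 1878) (.leaf 1716))) (.node (.node (.leaf 204) (.leaf 1671)) (.node (.leaf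 0) (.leaf 839)))))) (.node (.node (.node (.node (.node (.node (.leaf 0) (.leaf 878)) (.leaf 0)) (.node (.leaf 246) (.leaf 1799))) (.node (.node (.leaf 137) (.leaf 564)) (.node (.leaf 353) (.leaf 769)))) (.node (.node (.node (.node (.leaf 0) (.leaf 931)) (.leaf 0)) (.node (.leaf 300) (.leaf 721))) (.node (.node (.leaf 193) (.leaf 0)) (.node (.leaf 1632) (.leaf 826))))) (.node (.node (.node (.node (.node (.leaf 57) (.leaf 1848)) (.leaf 0)) (.node (.leaf 273) (.leaf 696))) (.node (.node (.leaf 0) (.leaf 0)) (.node (.leaf 1755) (.leaf 797)))) (.node (.node (.node (.node (.leaf 0) (.leaf 963)) (.leaf 1927)) (.node (.leaf 329) (.leaf 2112))) (.node (.node (.leaf 218) (.leaf 1931)) (.node (.leaf 0) (.leaf 0))))))))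

/-- data -/
def rank0p11 : Trie (ℕ) := .node (.node (.node (.node (.node (.node (.node (.node (.node (.leaf 965) (.leaf 0)) (.leaf 0)) (.node (.leaf 0) (.leaf 0))) (.node (.node (.leaf 0) (.leaf 0)) (.node (.leaf 0) (.leaf 0)))) (.node (.node (.node (.node (.leaf 0) (.leaf 1527)) (.leaf 1263)) (.node (.leaf 0) (.leaf 0))) (.node (.node (.leaf 1061) (.leaf 0)) (.node (.leaf 0) (.leaf 1462))))) (.node (.node (.node (.node (.node (.leaf 0) (.leaf 1839)) (.leaf 1823)) (.node (.leaf 0) (.leaf 0))) (.node (.node (.leaf 1045) (.leaf 2009)) (.node (.leaf 0) (.leaf 0)))) (.node (.node (.node (.node (.leaf 0) (.leaf 1869)) (.leaf 0)) (.node (.leaf 0) (.leaf 1409))) (.node (.node (.leaf 0) (.leaf 0)) (.node (.leaf 0) (.leaf 0)))))) (.node (.node (.node (.node (.node (.node (.leaf 0) (.leaf 2224)) (.leaf 0)) (.node (.leaf 0) (.leaf 0))) (.node (.node (.leaf 0) (.leaf 2269)) (.node (.leaf 0) (.leaf 0)))) (.node (.node (.node (.node (.leaf 1004) (.leaf 2166)) (.leaf 0))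 (.node (.leaf 0) (.leaf 1400))) (.node (.node (.leaf 1069) (.leaf 0)) (.node (.leaf 0) (.leaf 2120))))) (.node (.node (.node (.node (.node (.leaf 0) (.leaf 0)) (.leaf 0)) (.node (.leaf 0) (.leaf 0))) (.node (.node (.leaf 0) (.leaf 2142)) (.node (.leaf 1186) (.leaf 2268)))) (.node (.node (.node (.node (.leaf 1756) (.leaf 0)) (.leaf 1998)) (.node (.leaf 0) (.leaf 1419))) (.node (.node (.leaf 0) (.leaf 0)) (.node (.leaf 1220) (.leaf 1485))))))) (.node (.node (.node (.node (.node (.node (.node (.leaf 969) (.leaf 1499)) (.leaf 1229)) (.node (.leaf 1703) (.leaf 0))) (.node (.node (.leaf 1033) (.leaf 0)) (.node (.leaf 0) (.leaf 1431)))) (.node (.node (.node (.node (.leaf 1745) (.leaf 1899)) (.leaf 1712)) (.node (.leaf 0) (.leaf 0))) (.node (.node (.leaf 0) (.leaf 1334)) (.node (.leaf 1199) (.leaf 0))))) (.node (.node (.node (.node (.node (.leaf 985) (.leaf 2243)) (.leaf 1249)) (.node (.leaf 0) (.leaf 2286))) (.node (.node (.leaf 1050) (.leaf 1317)) (.node (.leaf 0)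 (.leaf 1918)))) (.node (.node (.node (.node (.leaf 0) (.leaf 1548)) (.leaf 1944)) (.node (.leaf 1705) (.leaf 1414))) (.node (.node (.leaf 1083) (.leaf 0)) (.node (.leaf 1215) (.leaf 0)))))) (.node (.node (.node (.node (.node (.node (.leaf 0) (.leaf 2057)) (.leaf 1239)) (.node (.leaf 0) (.leaf 1372))) (.node (.node (.leaf 0) (.leaf 0)) (.node (.leaf 0) (.leaf 2014)))) (.node (.node (.node (.node (.leaf 0) (.leaf 2304)) (.leaf 0)) (.node (.leaf 0) (.leaf 2228))) (.node (.node (.leaf 0) (.leaf 2097)) (.node (.leaf 1205) (.leaf 0))))) (.node (.node (.node (.node (.node (.leaf 0) (.leaf 1742)) (.leaf 0)) (.node (.leaf 0) (.leaf 0))) (.node (.node (.leaf 1058) (.leaf 0)) (.node (.leaf 1192) (.leaf 1457)))) (.node (.node (.node (.node (.leaf 0) (.leaf 2200)) (.leaf 1289)) (.node (.leaf 2138) (.leaf 1893))) (.node (.node (.leaf 0) (.leaf 0)) (.node (.leaf 2180) (.leaf 2102)))))))) (.node (.node (.node (.node (.node (.node (.node (.node (.leaf 967) (.leaf 0)) (.leaf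 1227)) (.node (.leaf 0) (.leaf 0))) (.node (.node (.leaf 0) (.leaf 1296)) (.node (.leaf 0) (.leaf 0)))) (.node (.node (.node (.node (.leaf 0) (.leaf 2262)) (.leaf 1264)) (.node (.leaf 0) (.leaf 0))) (.node (.node (.leaf 1064) (.leaf 2122)) (.node (.leaf 0) (.leaf 0))))) (.node (.node (.node (.node (.node (.leaf 0) (.leaf 1513)) (.leaf 1247)) (.node (.leaf 1693) (.leaf 2065))) (.node (.node (.leaf 1047) (.leaf 0)) (.node (.leaf 0) (.leaf 1448)))) (.node (.node (.node (.node (.leaf 1015) (.leaf 2277)) (.leaf 2058)) (.node (.leaf 0) (.leaf 0))) (.node (.node (.leaf 0) (.leaf 0)) (.node (.leaf 0) (.leaf 1479)))))) (.node (.node (.node (.node (.node (.node (.leaf 0) (.leaf 0)) (.leaf 1236)) (.node (.leaf 0) (.leaf 1370))) (.node (.node (.leaf 1039) (.leaf 0)) (.node (.leaf 1170) (.leaf 2155)))) (.node (.node (.node (.node (.leaf 0) (.leaf 1868)) (.leaf 0)) (.node (.leaf 1138) (.leaf 0))) (.node (.node (.leaf 0) (.leaf 1764)) (.node (.leaf 1203) (.leaf 0))))) (.node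 (.node (.node (.node (.node (.leaf 991) (.leaf 1521)) (.leaf 0)) (.node (.leaf 0) (.leaf 0))) (.node (.node (.leaf 0) (.leaf 0)) (.node (.leaf 0) (.leaf 0)))) (.node (.node (.node (.node (.leaf 0) (.leaf 2174)) (.leaf 0)) (.node (.leaf 1152) (.leaf 0))) (.node (.node (.leaf 1090) (.leaf 0)) (.node (.leaf 0) (.leaf 0))))))) (.node (.node (.node (.node (.node (.node (.node (.leaf 0) (.leaf 1501)) (.leaf 0)) (.node (.leaf 0) (.leaf 0))) (.node (.node (.leaf 1036) (.leaf 0)) (.node (.leaf 1166) (.leaf 1433)))) (.node (.node (.node (.node (.leaf 0) (.leaf 2240)) (.leaf 0)) (.node (.leaf 1133) (.leaf 1398))) (.node (.node (.leaf 0) (.leaf 0)) (.node (.leaf 0) (.leaf 0))))) (.node (.node (.node (.node (.node (.leaf 987) (.leaf 0)) (.leaf 0)) (.node (.leaf 0) (.leaf 0))) (.node (.node (.leaf 0) (.leaf 0)) (.node (.leaf 1184) (.leaf 0)))) (.node (.node (.node (.node (.leaf 0) (.leaf 2189)) (.leaf 0)) (.node (.leaf 0) (.leaf 0))) (.node (.node (.leaf 0) (.leaf 1353))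 (.node (.leaf 0) (.leaf 0)))))) (.node (.node (.node (.node (.node (.node (.leaf 0) (.leaf 2283)) (.leaf 1241)) (.node (.leaf 0) (.leaf 0))) (.node (.node (.leaf 0) (.leaf 1835)) (.node (.leaf 0) (.leaf 0)))) (.node (.node (.node (.node (.leaf 1011) (.leaf 1779)) (.leaf 1275)) (.node (.leaf 0) (.leaf 2295))) (.node (.node (.leaf 0) (.leaf 1344)) (.node (.leaf 1207) (.leaf 0))))) (.node (.node (.node (.node (.node (.leaf 0) (.leaf 1526)) (.leaf 0)) (.node (.leaf 0) (.leaf 0))) (.node (.node (.leaf 0) (.leaf 0)) (.node (.leaf 0) (.leaf 2195)))) (.node (.node (.node (.node (.leaf 0) (.leaf 2231)) (.leaf 0)) (.node (.leaf 0) (.leaf 2150))) (.node (.node (.leaf 0) (.leaf 0)) (.node (.leaf 0) (.leaf 1494))))))))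

/-- data -/
def rank0p12 : Trie (ℕ) := .node (.node (.node (.node (.node (.node (.node (.node (.node (.leaf 6) (.leaf 856)) (.leaf 435)) (.node (.leaf 276) (.leaf 0))) (.node (.node (.leaf 114) (.leaf 537)) (.node (.leaf 0) (.leaf 0)))) (.node (.node (.node (.node (.leaf 0) (.leaf 1618)) (.leaf 1596)) (.node (.leaf 0) (.leaf 1672))) (.node (.node (.leaf 0) (.leaf 2247)) (.node (.leaf 0) (.leaf 801))))) (.node (.node (.node (.node (.node (.leaf 34) (.leaf 1999)) (.leaf 0)) (.node (.leaf 0) (.leaf 0))) (.node (.node (.leaf 142) (.leaf 0)) (.node (.leaf 0) (.leaf 1612)))) (.node (.node (.node (.node (.leaf 88) (.leaf 1968)) (.leaf 0)) (.node (.leaf 304) (.leaf 724))) (.node (.node (.leaf 1773) (.leaf 0)) (.node (.leaf 0) (.leaf 829)))))) (.node (.node (.node (.node (.node (.node (.leaf 20) (.leaf 0)) (.leaf 450)) (.node (.leaf 2111) (.leaf 1886))) (.node (.node (.leaf 128) (.leaf 0)) (.node (.leaf 344) (.leaf 0)))) (.node (.node (.node (.node (.leaf 75) (.leaf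 0)) (.leaf 1820)) (.node (.leaf 293) (.leaf 712))) (.node (.node (.leaf 183) (.leaf 0)) (.node (.leaf 1724) (.leaf 815))))) (.node (.node (.node (.node (.node (.leaf 47) (.leaf 897)) (.leaf 472)) (.node (.leaf 0) (.leaf 2190))) (.node (.node (.leaf 0) (.leaf 0)) (.node (.leaf 0) (.leaf 785)))) (.node (.node (.node (.node (.leaf 101) (.leaf 952)) (.leaf 0)) (.node (.leaf 0) (.leaf 0))) (.node (.node (.leaf 0) (.leaf 634)) (.node (.leaf 0) (.leaf 843))))))) (.node (.node (.node (.node (.node (.node (.node (.leaf 0) (.leaf 861)) (.leaf 0)) (.node (.leaf 228) (.leaf 0))) (.node (.node (.leaf 0) (.leaf 543)) (.node (.leaf 0) (.leaf 754)))) (.node (.node (.node (.node (.leaf 0) (.leaf 0)) (.leaf 492)) (.node (.leaf 286) (.leaf 706))) (.node (.node (.leaf 176) (.leaf 0)) (.node (.leaf 388) (.leaf 807))))) (.node (.node (.node (.node (.node (.leaf 0) (.leaf 0)) (.leaf 0)) (.node (.leaf 0) (.leaf 0))) (.node (.node (.leaf 0) (.leaf 0)) (.node (.leaf 0) (.leaf 0))))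 (.node (.node (.node (.node (.leaf 95) (.leaf 0)) (.leaf 0)) (.node (.leaf 310) (.leaf 731))) (.node (.node (.leaf 0) (.leaf 628)) (.node (.leaf 416) (.leaf 0)))))) (.node (.node (.node (.node (.node (.node (.leaf 26) (.leaf 1646)) (.leaf 1580)) (.node (.leaf 0) (.leaf 668))) (.node (.node (.leaf 0) (.leaf 560)) (.node (.leaf 351) (.leaf 0)))) (.node (.node (.node (.node (.leaf 81) (.leaf 928)) (.leaf 2212)) (.node (.leaf 0) (.leaf 0))) (.node (.node (.leaf 0) (.leaf 615)) (.node (.leaf 403) (.leaf 0))))) (.node (.node (.node (.node (.node (.leaf 54) (.leaf 1870)) (.leaf 477)) (.node (.leaf 270) (.leaf 0))) (.node (.node (.leaf 1563) (.leaf 0)) (.node (.leaf 376) (.leaf 794)))) (.node (.node (.node (.node (.leaf 0) (.leaf 2005)) (.leaf 529)) (.node (.leaf 325) (.leaf 0))) (.node (.node (.leaf 216) (.leaf 640)) (.node (.leaf 0) (.leaf 849)))))))) (.node (.node (.node (.node (.node (.node (.node (.node (.leaf 0) (.leaf 857)) (.leaf 0)) (.node (.leaf 0) (.leaf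 648))) (.node (.node (.leaf 0) (.leaf 1645)) (.node (.leaf 336) (.leaf 0)))) (.node (.node (.node (.node (.leaf 64) (.leaf 1945)) (.leaf 1678)) (.node (.leaf 0) (.leaf 0))) (.node (.node (.leaf 0) (.leaf 595)) (.node (.leaf 385) (.leaf 1619))))) (.node (.node (.node (.node (.node (.leaf 0) (.leaf 1654)) (.leaf 0)) (.node (.leaf 0) (.leaf 0))) (.node (.node (.leaf 1762) (.leaf 1857)) (.node (.leaf 0) (.leaf 775)))) (.node (.node (.node (.node (.leaf 0) (.leaf 1623)) (.leaf 0)) (.node (.leaf 0) (.leaf 728))) (.node (.node (.leaf 0) (.leaf 0)) (.node (.leaf 413) (.leaf 0)))))) (.node (.node (.node (.node (.node (.node (.leaf 0) (.leaf 872)) (.leaf 1642)) (.node (.leaf 239) (.leaf 0))) (.node (.node (.leaf 0) (.leaf 2114)) (.node (.leaf 0) (.leaf 764)))) (.node (.node (.node (.node (.leaf 0) (.leaf 1720)) (.leaf 504)) (.node (.leaf 0) (.leaf 0))) (.node (.node (.leaf 187) (.leaf 611)) (.node (.leaf 1967) (.leaf 819))))) (.node (.node (.node (.node (.node (.leaf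 0) (.leaf 0)) (.leaf 0)) (.node (.leaf 0) (.leaf 0))) (.node (.node (.leaf 158) (.leaf 583)) (.node (.leaf 0) (.leaf 2198)))) (.node (.node (.node (.node (.leaf 0) (.leaf 1625)) (.leaf 0)) (.node (.leaf 322) (.leaf 739))) (.node (.node (.leaf 0) (.leaf 2106)) (.node (.leaf 1590) (.leaf 0))))))) (.node (.node (.node (.node (.node (.node (.node (.leaf 16) (.leaf 0)) (.leaf 446)) (.node (.leaf 231) (.leaf 2068))) (.node (.node (.leaf 0) (.leaf 2071)) (.node (.leaf 1932) (.leaf 1824)))) (.node (.node (.node (.node (.leaf 0) (.leaf 917)) (.leaf 0)) (.node (.leaf 289) (.leaf 709))) (.node (.node (.leaf 179) (.leaf 602)) (.node (.leaf 0) (.leaf 0))))) (.node (.node (.node (.node (.node (.leaf 0) (.leaf 0)) (.leaf 469)) (.node (.leaf 0) (.leaf 684))) (.node (.node (.leaf 151) (.leaf 0)) (.node (.leaf 0) (.leaf 782)))) (.node (.node (.node (.node (.leaf 0) (.leaf 946)) (.leaf 0)) (.node (.leaf 0) (.leaf 0))) (.node (.node (.leaf 205) (.leaf 2030)) (.node (.leaf 419)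 (.leaf 2004)))))) (.node (.node (.node (.node (.node (.node (.leaf 0) (.leaf 2091)) (.leaf 1761)) (.node (.leaf 0) (.leaf 0))) (.node (.node (.leaf 138) (.leaf 1602)) (.node (.leaf 354) (.leaf 1682)))) (.node (.node (.node (.node (.leaf 1559) (.leaf 0)) (.leaf 2067)) (.node (.leaf 0) (.leaf 2272))) (.node (.node (.leaf 0) (.leaf 0)) (.node (.leaf 1640) (.leaf 0))))) (.node (.node (.node (.node (.node (.leaf 58) (.leaf 906)) (.leaf 0)) (.node (.leaf 0) (.leaf 1988))) (.node (.node (.leaf 165) (.leaf 588)) (.node (.leaf 379) (.leaf 0)))) (.node (.node (.node (.node (.leaf 111) (.leaf 0)) (.leaf 532)) (.node (.leaf 0) (.leaf 0))) (.node (.node (.leaf 219) (.leaf 643)) (.node (.leaf 0) (.leaf 853))))))))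

/-- data -/
def rank0p13 : Trie (ℕ) := .node (.node (.node (.node (.node (.node (.node (.node (.node (.leaf 0) (.leaf 0)) (.leaf 0)) (.node (.leaf 1096) (.leaf 1363))) (.node (.node (.leaf 0) (.leaf 0)) (.node (.leaf 0) (.leaf 1428)))) (.node (.node (.node (.node (.leaf 0) (.leaf 0)) (.leaf 1943)) (.node (.leaf 1128) (.leaf 1391))) (.node (.node (.leaf 0) (.leaf 1329)) (.node (.leaf 0) (.leaf 0))))) (.node (.node (.node (.node (.node (.leaf 0) (.leaf 1511)) (.leaf 0)) (.node (.leaf 1111) (.leaf 1375))) (.node (.node (.leaf 1628) (.leaf 1312)) (.node (.leaf 1176) (.leaf 1758)))) (.node (.node (.node (.node (.leaf 0) (.leaf 0)) (.leaf 1278)) (.node (.leaf 0) (.leaf 2148))) (.node (.node (.leaf 1079) (.leaf 1347)) (.node (.leaf 0) (.leaf 2261)))))) (.node (.node (.node (.node (.node (.node (.leaf 0) (.leaf 1504)) (.leaf 0)) (.node (.leaf 0) (.leaf 1368))) (.node (.node (.leaf 0) (.leaf 1303)) (.node (.leaf 1686) (.leaf 1437)))) (.node (.node (.node (.node (.leaf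 0) (.leaf 2085)) (.leaf 1269)) (.node (.leaf 0) (.leaf 0))) (.node (.node (.leaf 0) (.leaf 0)) (.node (.leaf 1201) (.leaf 2007))))) (.node (.node (.node (.node (.node (.leaf 0) (.leaf 2048)) (.leaf 2221)) (.node (.leaf 0) (.leaf 1382))) (.node (.node (.leaf 1054) (.leaf 0)) (.node (.leaf 0) (.leaf 0)))) (.node (.node (.node (.node (.leaf 0) (.leaf 0)) (.leaf 1285)) (.node (.leaf 1151) (.leaf 0))) (.node (.node (.leaf 1088) (.leaf 0)) (.node (.leaf 0) (.leaf 0))))))) (.node (.node (.node (.node (.node (.node (.node (.leaf 0) (.leaf 0)) (.leaf 0)) (.node (.leaf 0) (.leaf 0))) (.node (.node (.leaf 0) (.leaf 0)) (.node (.leaf 1164) (.leaf 2297)))) (.node (.node (.node (.node (.leaf 1001) (.leaf 1533)) (.leaf 1969)) (.node (.leaf 0) (.leaf 0))) (.node (.node (.leaf 0) (.leaf 0)) (.node (.leaf 0) (.leaf 0))))) (.node (.node (.node (.node (.node (.leaf 0) (.leaf 1515)) (.leaf 1250)) (.node (.leaf 0) (.leaf 0))) (.node (.node (.leaf 0) (.leaf 0)) (.node (.leaf 1182)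 (.leaf 1837)))) (.node (.node (.node (.node (.leaf 0) (.leaf 2302)) (.leaf 0)) (.node (.leaf 0) (.leaf 0))) (.node (.node (.leaf 1702) (.leaf 0)) (.node (.leaf 2024) (.leaf 2156)))))) (.node (.node (.node (.node (.node (.node (.leaf 0) (.leaf 1508)) (.leaf 0)) (.node (.leaf 2018) (.leaf 0))) (.node (.node (.leaf 1041) (.leaf 0)) (.node (.leaf 2013) (.leaf 1441)))) (.node (.node (.node (.node (.leaf 0) (.leaf 2279)) (.leaf 0)) (.node (.leaf 0) (.leaf 1406))) (.node (.node (.leaf 1074) (.leaf 0)) (.node (.leaf 0) (.leaf 1474))))) (.node (.node (.node (.node (.node (.leaf 0) (.leaf 1524)) (.leaf 0)) (.node (.leaf 0) (.leaf 0))) (.node (.node (.leaf 0) (.leaf 1326)) (.node (.leaf 0) (.leaf 0)))) (.node (.node (.node (.node (.leaf 1025) (.leaf 2100)) (.leaf 0)) (.node (.leaf 0) (.leaf 0))) (.node (.node (.leaf 0) (.leaf 0)) (.node (.leaf 0) (.leaf 0)))))))) (.node (.node (.node (.node (.node (.node (.node (.node (.leaf 0) (.leaf 0)) (.leaf 0)) (.node (.leaf 1098)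 (.leaf 1842))) (.node (.node (.leaf 1031) (.leaf 0)) (.node (.leaf 0) (.leaf 1894)))) (.node (.node (.node (.node (.leaf 0) (.leaf 1529)) (.leaf 0)) (.node (.leaf 0) (.leaf 1392))) (.node (.node (.leaf 0) (.leaf 0)) (.node (.leaf 0) (.leaf 0))))) (.node (.node (.node (.node (.node (.leaf 0) (.leaf 2003)) (.leaf 0)) (.node (.leaf 2) (.leaf 1377))) (.node (.node (.leaf 1048) (.leaf 1315)) (.node (.leaf 1179) (.leaf 0)))) (.node (.node (.node (.node (.leaf 0) (.leaf 0)) (.leaf 0)) (.node (.leaf 1144) (.leaf 0))) (.node (.node (.leaf 1685) (.leaf 0)) (.node (.leaf 0) (.leaf 1662)))))) (.node (.node (.node (.node (.node (.node (.leaf 975) (.leaf 2086)) (.leaf 0)) (.node (.leaf 0) (.leaf 0))) (.node (.node (.leaf 0) (.leaf 0)) (.node (.leaf 1738) (.leaf 0)))) (.node (.node (.node (.node (.leaf 1006) (.leaf 1539)) (.leaf 0)) (.node (.leaf 0) (.leaf 2236))) (.node (.node (.leaf 0) (.leaf 2028)) (.node (.leaf 0) (.leaf 0))))) (.node (.node (.node (.node (.node (.leaf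 0) (.leaf 0)) (.leaf 1257)) (.node (.leaf 0) (.leaf 0))) (.node (.node (.leaf 0) (.leaf 0)) (.node (.leaf 0) (.leaf 1454)))) (.node (.node (.node (.node (.leaf 1023) (.leaf 2073)) (.leaf 1288)) (.node (.leaf 0) (.leaf 0))) (.node (.node (.leaf 0) (.leaf 0)) (.node (.leaf 2031) (.leaf 1489))))))) (.node (.node (.node (.node (.node (.node (.node (.leaf 0) (.leaf 2282)) (.leaf 0)) (.node (.leaf 1784) (.leaf 0))) (.node (.node (.leaf 0) (.leaf 1301)) (.node (.leaf 0) (.leaf 1434)))) (.node (.node (.node (.node (.leaf 1003) (.leaf 0)) (.leaf 0)) (.node (.leaf 0) (.leaf 0))) (.node (.node (.leaf 0) (.leaf 0)) (.node (.leaf 0) (.leaf 1468))))) (.node (.node (.node (.node (.node (.leaf 0) (.leaf 1518)) (.leaf 0)) (.node (.leaf 0) (.leaf 1885))) (.node (.node (.leaf 0) (.leaf 0)) (.node (.leaf 0) (.leaf 0)))) (.node (.node (.node (.node (.leaf 1019) (.leaf 2062)) (.leaf 0)) (.node (.leaf 0) (.leaf 0))) (.node (.node (.leaf 0) (.leaf 0)) (.node (.leaf 0) (.leaf 0))))))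 (.node (.node (.node (.node (.node (.node (.leaf 0) (.leaf 1510)) (.leaf 0)) (.node (.leaf 1109) (.leaf 0))) (.node (.node (.leaf 0) (.leaf 1310)) (.node (.leaf 0) (.leaf 0)))) (.node (.node (.node (.node (.leaf 0) (.leaf 1543)) (.leaf 0)) (.node (.leaf 1142) (.leaf 0))) (.node (.node (.leaf 1077) (.leaf 0)) (.node (.leaf 0) (.leaf 1476))))) (.node (.node (.node (.node (.node (.leaf 0) (.leaf 1754)) (.leaf 1261)) (.node (.leaf 1126) (.leaf 0))) (.node (.node (.leaf 0) (.leaf 0)) (.node (.leaf 0) (.leaf 1461)))) (.node (.node (.node (.node (.leaf 0) (.leaf 2177)) (.leaf 0)) (.node (.leaf 1158) (.leaf 1426))) (.node (.node (.leaf 0) (.leaf 0)) (.node (.leaf 0) (.leaf 2255))))))))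

/-- data -/
def rank0p14 : Trie (ℕ) := .node (.node (.node (.node (.node (.node (.node (.node (.node (.leaf 0) (.leaf 1658)) (.leaf 1664)) (.node (.leaf 0) (.leaf 0))) (.node (.node (.leaf 115) (.leaf 1665)) (.node (.leaf 333) (.leaf 1614)))) (.node (.node (.node (.node (.leaf 61) (.leaf 909)) (.leaf 0)) (.node (.leaf 1603) (.leaf 1819))) (.node (.node (.leaf 169) (.leaf 2213)) (.node (.leaf 382) (.leaf 1994))))) (.node (.node (.node (.node (.node (.leaf 0) (.leaf 2285)) (.leaf 462)) (.node (.leaf 251) (.leaf 676))) (.node (.node (.leaf 0) (.leaf 567)) (.node (.leaf 0) (.leaf 1617)))) (.node (.node (.node (.node (.leaf 89) (.leaf 935)) (.leaf 0)) (.node (.leaf 0) (.leaf 725))) (.node (.node (.leaf 0) (.leaf 624)) (.node (.leaf 410) (.leaf 830)))))) (.node (.node (.node (.node (.node (.node (.leaf 0) (.leaf 868)) (.leaf 0)) (.node (.leaf 235) (.leaf 659))) (.node (.node (.leaf 0) (.leaf 0)) (.node (.leaf 345) (.leaf 1855)))) (.node (.node (.node (.node (.leaf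 0) (.leaf 921)) (.leaf 1583)) (.node (.leaf 0) (.leaf 713))) (.node (.node (.leaf 0) (.leaf 606)) (.node (.leaf 396) (.leaf 2045))))) (.node (.node (.node (.node (.node (.leaf 48) (.leaf 0)) (.leaf 473)) (.node (.leaf 265) (.leaf 2193))) (.node (.node (.leaf 0) (.leaf 0)) (.node (.leaf 372) (.leaf 0)))) (.node (.node (.node (.node (.leaf 102) (.leaf 2002)) (.leaf 1768)) (.node (.leaf 1572) (.leaf 1674))) (.node (.node (.leaf 209) (.leaf 0)) (.node (.leaf 422) (.leaf 0))))))) (.node (.node (.node (.node (.node (.node (.node (.leaf 13) (.leaf 0)) (.leaf 1670)) (.node (.leaf 0) (.leaf 653))) (.node (.node (.leaf 122) (.leaf 544)) (.node (.leaf 339) (.leaf 755)))) (.node (.node (.node (.node (.leaf 0) (.leaf 915)) (.leaf 493)) (.node (.leaf 1570) (.leaf 0))) (.node (.node (.leaf 0) (.leaf 2214)) (.node (.leaf 0) (.leaf 808))))) (.node (.node (.node (.node (.node (.leaf 41) (.leaf 888)) (.leaf 0)) (.node (.leaf 258) (.leaf 681))) (.node (.node (.leaf 148) (.leaf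 575)) (.node (.leaf 366) (.leaf 779)))) (.node (.node (.node (.node (.leaf 0) (.leaf 943)) (.leaf 0)) (.node (.leaf 0) (.leaf 0))) (.node (.node (.leaf 202) (.leaf 629)) (.node (.leaf 0) (.leaf 836)))))) (.node (.node (.node (.node (.node (.node (.leaf 0) (.leaf 1653)) (.leaf 456)) (.node (.leaf 243) (.leaf 2063))) (.node (.node (.leaf 135) (.leaf 0)) (.node (.leaf 0) (.leaf 767)))) (.node (.node (.node (.node (.leaf 82) (.leaf 2218)) (.leaf 507)) (.node (.leaf 297) (.leaf 0))) (.node (.node (.leaf 0) (.leaf 0)) (.node (.leaf 0) (.leaf 0))))) (.node (.node (.node (.node (.node (.leaf 55) (.leaf 1747)) (.leaf 478)) (.node (.leaf 0) (.leaf 694))) (.node (.node (.leaf 0) (.leaf 1971)) (.node (.leaf 0) (.leaf 0)))) (.node (.node (.node (.node (.leaf 0) (.leaf 0)) (.leaf 0)) (.node (.leaf 0) (.leaf 742))) (.node (.node (.leaf 0) (.leaf 0)) (.node (.leaf 428) (.leaf 850)))))))) (.node (.node (.node (.node (.node (.node (.node (.node (.leaf 10) (.leaf 858)) (.leaf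 0)) (.node (.leaf 226) (.leaf 0))) (.node (.node (.leaf 119) (.leaf 540)) (.node (.leaf 0) (.leaf 750)))) (.node (.node (.node (.node (.leaf 65) (.leaf 912)) (.leaf 487)) (.node (.leaf 282) (.leaf 704))) (.node (.node (.leaf 172) (.leaf 0)) (.node (.leaf 0) (.leaf 0))))) (.node (.node (.node (.node (.node (.leaf 37) (.leaf 884)) (.leaf 465)) (.node (.leaf 254) (.leaf 0))) (.node (.node (.leaf 145) (.leaf 571)) (.node (.leaf 363) (.leaf 0)))) (.node (.node (.node (.node (.leaf 0) (.leaf 2083)) (.leaf 0)) (.node (.leaf 308) (.leaf 0))) (.node (.node (.leaf 0) (.leaf 627)) (.node (.leaf 0) (.leaf 0)))))) (.node (.node (.node (.node (.node (.node (.leaf 24) (.leaf 873)) (.leaf 453)) (.node (.leaf 1630) (.leaf 663))) (.node (.node (.leaf 132) (.leaf 556)) (.node (.leaf 347) (.leaf 0)))) (.node (.node (.node (.node (.leaf 0) (.leaf 1681)) (.leaf 0)) (.node (.leaf 296) (.leaf 716))) (.node (.node (.leaf 0) (.leaf 1767)) (.node (.leaf 399) (.leaf 820))))) (.node (.node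 (.node (.node (.node (.leaf 0) (.leaf 2081)) (.leaf 0)) (.node (.leaf 0) (.leaf 691))) (.node (.node (.leaf 159) (.leaf 0)) (.node (.leaf 374) (.leaf 791)))) (.node (.node (.node (.node (.leaf 106) (.leaf 954)) (.leaf 0)) (.node (.leaf 1752) (.leaf 0))) (.node (.node (.leaf 212) (.leaf 637)) (.node (.leaf 0) (.leaf 845))))))) (.node (.node (.node (.node (.node (.node (.node (.leaf 17) (.leaf 865)) (.leaf 447)) (.node (.leaf 0) (.leaf 0))) (.node (.node (.leaf 0) (.leaf 0)) (.node (.leaf 342) (.leaf 1802)))) (.node (.node (.node (.node (.leaf 0) (.leaf 918)) (.leaf 0)) (.node (.leaf 0) (.leaf 2223))) (.node (.node (.leaf 0) (.leaf 603)) (.node (.leaf 392) (.leaf 2006))))) (.node (.node (.node (.node (.node (.leaf 0) (.leaf 1908)) (.leaf 0)) (.node (.leaf 261) (.leaf 0))) (.node (.node (.leaf 0) (.leaf 577)) (.node (.leaf 369) (.leaf 0)))) (.node (.node (.node (.node (.leaf 99) (.leaf 947)) (.leaf 0)) (.node (.leaf 314) (.leaf 735))) (.node (.node (.leaf 0) (.leaf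 632)) (.node (.leaf 420) (.leaf 840)))))) (.node (.node (.node (.node (.node (.node (.leaf 30) (.leaf 0)) (.leaf 0)) (.node (.leaf 1795) (.leaf 671))) (.node (.node (.leaf 0) (.leaf 565)) (.node (.leaf 355) (.leaf 0)))) (.node (.node (.node (.node (.leaf 0) (.leaf 0)) (.leaf 510)) (.node (.leaf 0) (.leaf 0))) (.node (.node (.leaf 0) (.leaf 619)) (.node (.leaf 406) (.leaf 827))))) (.node (.node (.node (.node (.node (.leaf 0) (.leaf 0)) (.leaf 0)) (.node (.leaf 274) (.leaf 697))) (.node (.node (.leaf 166) (.leaf 0)) (.node (.leaf 0) (.leaf 798)))) (.node (.node (.node (.node (.leaf 112) (.leaf 964)) (.leaf 0)) (.node (.leaf 0) (.leaf 744))) (.node (.node (.leaf 0) (.leaf 0)) (.node (.leaf 432) (.leaf 2259))))))))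

/-- data -/
def rank0p15 : Trie (ℕ) := .node (.node (.node (.node (.node (.node (.node (.node (.node (.leaf 966) (.leaf 0)) (.leaf 1226)) (.node (.leaf 1830) (.leaf 0))) (.node (.node (.leaf 0) (.leaf 1294)) (.node (.leaf 0) (.leaf 0)))) (.node (.node (.node (.node (.leaf 0) (.leaf 2162)) (.leaf 0)) (.node (.leaf 0) (.leaf 2144))) (.node (.node (.leaf 0) (.leaf 1330)) (.node (.leaf 0) (.leaf 0))))) (.node (.node (.node (.node (.node (.leaf 981) (.leaf 2158)) (.leaf 1962)) (.node (.leaf 0) (.leaf 0))) (.node (.node (.leaf 1046) (.leaf 0)) (.node (.leaf 0) (.leaf 0)))) (.node (.node (.node (.node (.leaf 0) (.leaf 2043)) (.leaf 0)) (.node (.leaf 0) (.leaf 2117))) (.node (.node (.leaf 0) (.leaf 0)) (.node (.leaf 0) (.leaf 0)))))) (.node (.node (.node (.node (.node (.node (.leaf 973) (.leaf 1973)) (.leaf 1234)) (.node (.leaf 0) (.leaf 0))) (.node (.node (.leaf 1038) (.leaf 0)) (.node (.leaf 0) (.leaf 0)))) (.node (.node (.node (.node (.leaf 1005) (.leaf 2170))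 (.leaf 0)) (.node (.leaf 1136) (.leaf 0))) (.node (.node (.leaf 1070) (.leaf 0)) (.node (.leaf 0) (.leaf 1470))))) (.node (.node (.node (.node (.node (.leaf 0) (.leaf 1520)) (.leaf 0)) (.node (.leaf 0) (.leaf 1383))) (.node (.node (.leaf 0) (.leaf 0)) (.node (.leaf 0) (.leaf 1453)))) (.node (.node (.node (.node (.leaf 0) (.leaf 2087)) (.leaf 0)) (.node (.leaf 0) (.leaf 1420))) (.node (.node (.leaf 2010) (.leaf 1356)) (.node (.leaf 0) (.leaf 0))))))) (.node (.node (.node (.node (.node (.node (.node (.leaf 0) (.leaf 2160)) (.leaf 0)) (.node (.leaf 0) (.leaf 1680))) (.node (.node (.leaf 0) (.leaf 0)) (.node (.leaf 0) (.leaf 0)))) (.node (.node (.node (.node (.leaf 0) (.leaf 0)) (.leaf 0)) (.node (.leaf 0) (.leaf 1396))) (.node (.node (.leaf 1066) (.leaf 0)) (.node (.leaf 1200) (.leaf 0))))) (.node (.node (.node (.node (.node (.leaf 0) (.leaf 2291)) (.leaf 0)) (.node (.leaf 0) (.leaf 0))) (.node (.node (.leaf 0) (.leaf 0)) (.node (.leaf 0) (.leaf 1789)))) (.node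 (.node (.node (.node (.leaf 1018) (.leaf 2222)) (.leaf 1739)) (.node (.leaf 0) (.leaf 1415))) (.node (.node (.leaf 0) (.leaf 0)) (.node (.leaf 1216) (.leaf 0)))))) (.node (.node (.node (.node (.node (.node (.leaf 0) (.leaf 1986)) (.leaf 0)) (.node (.leaf 0) (.leaf 1373))) (.node (.node (.leaf 0) (.leaf 1307)) (.node (.leaf 1172) (.leaf 0)))) (.node (.node (.node (.node (.leaf 0) (.leaf 2265)) (.leaf 0)) (.node (.leaf 0) (.leaf 2264))) (.node (.node (.leaf 0) (.leaf 1342)) (.node (.leaf 1206) (.leaf 0))))) (.node (.node (.node (.node (.node (.leaf 0) (.leaf 1743)) (.leaf 0)) (.node (.leaf 1124) (.leaf 0))) (.node (.node (.leaf 0) (.leaf 0)) (.node (.leaf 0) (.leaf 1458)))) (.node (.node (.node (.node (.leaf 0) (.leaf 2303)) (.leaf 1290)) (.node (.leaf 1155) (.leaf 2227))) (.node (.node (.leaf 1092) (.leaf 1359)) (.node (.leaf 1797) (.leaf 0)))))))) (.node (.node (.node (.node (.node (.node (.node (.node (.leaf 0) (.leaf 2280)) (.leaf 0)) (.node (.leaf 0) (.leaf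 1364))) (.node (.node (.leaf 0) (.leaf 0)) (.node (.leaf 1162) (.leaf 0)))) (.node (.node (.node (.node (.leaf 0) (.leaf 1709)) (.leaf 0)) (.node (.leaf 0) (.leaf 0))) (.node (.node (.leaf 0) (.leaf 1332)) (.node (.leaf 1198) (.leaf 1463))))) (.node (.node (.node (.node (.node (.leaf 0) (.leaf 2192)) (.leaf 0)) (.node (.leaf 0) (.leaf 2147))) (.node (.node (.leaf 0) (.leaf 0)) (.node (.leaf 0) (.leaf 0)))) (.node (.node (.node (.node (.leaf 0) (.leaf 2273)) (.leaf 0)) (.node (.leaf 0) (.leaf 1411))) (.node (.node (.leaf 1082) (.leaf 0)) (.node (.leaf 1212) (.leaf 0)))))) (.node (.node (.node (.node (.node (.node (.leaf 0) (.leaf 1977)) (.leaf 0)) (.node (.leaf 1105) (.leaf 1901))) (.node (.node (.leaf 0) (.leaf 2092)) (.node (.leaf 0) (.leaf 1439)))) (.node (.node (.node (.node (.leaf 0) (.leaf 1540)) (.leaf 1271)) (.node (.leaf 0) (.leaf 1972))) (.node (.node (.leaf 1072) (.leaf 1339)) (.node (.leaf 0) (.leaf 0))))) (.node (.node (.node (.node (.node (.leaf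 0) (.leaf 0)) (.leaf 0)) (.node (.leaf 1122) (.leaf 0))) (.node (.node (.leaf 0) (.leaf 1324)) (.node (.leaf 0) (.leaf 2116)))) (.node (.node (.node (.node (.leaf 0) (.leaf 2301)) (.leaf 0)) (.node (.leaf 1153) (.leaf 1793))) (.node (.node (.leaf 0) (.leaf 0)) (.node (.leaf 0) (.leaf 0))))))) (.node (.node (.node (.node (.node (.node (.node (.leaf 0) (.leaf 2281)) (.leaf 0)) (.node (.leaf 0) (.leaf 0))) (.node (.node (.leaf 0) (.leaf 0)) (.node (.leaf 0) (.leaf 2225)))) (.node (.node (.node (.node (.leaf 0) (.leaf 0)) (.leaf 1267)) (.node (.leaf 1134) (.leaf 2248))) (.node (.node (.leaf 1068) (.leaf 1985)) (.node (.leaf 0) (.leaf 0))))) (.node (.node (.node (.node (.node (.leaf 0) (.leaf 2208)) (.leaf 1253)) (.node (.leaf 1731) (.leaf 0))) (.node (.node (.leaf 1052) (.leaf 0)) (.node (.leaf 0) (.leaf 1452)))) (.node (.node (.node (.node (.leaf 0) (.leaf 2135)) (.leaf 1284)) (.node (.leaf 0) (.leaf 0))) (.node (.node (.leaf 1086) (.leaf 0)) (.node (.leaf 0)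 (.leaf 0)))))) (.node (.node (.node (.node (.node (.node (.leaf 0) (.leaf 0)) (.leaf 1242)) (.node (.leaf 0) (.leaf 0))) (.node (.node (.leaf 1044) (.leaf 0)) (.node (.leaf 0) (.leaf 1445)))) (.node (.node (.node (.node (.leaf 0) (.leaf 1544)) (.leaf 2054)) (.node (.leaf 0) (.leaf 0))) (.node (.node (.leaf 1790) (.leaf 0)) (.node (.leaf 1831) (.leaf 2038))))) (.node (.node (.node (.node (.node (.leaf 995) (.leaf 2165)) (.leaf 0)) (.node (.leaf 1687) (.leaf 1657))) (.node (.node (.leaf 1777) (.leaf 0)) (.node (.leaf 1194) (.leaf 0)))) (.node (.node (.node (.node (.leaf 0) (.leaf 2118)) (.leaf 1292)) (.node (.leaf 0) (.leaf 1995))) (.node (.node (.leaf 1094) (.leaf 0)) (.node (.leaf 0) (.leaf 1495))))))))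

/-- data -/
def rank0 : Trie (ℕ) := .node (.node (.node (.node (rank0p0) (rank0p8)) (.node (rank0p4) (rank0p12))) (.node (.node (rank0p2) (rank0p10)) (.node (rank0p6) (rank0p14)))) (.node (.node (.node (rank0p1) (rank0p9)) (.node (rank0p5) (rank0p13))) (.node (.node (rank0p3) (rank0p11)) (.node (rank0p7) (rank0p15))))

/-- data -/
def tree0p0 : Trie (ℕ × ℕ) := .node (.node (.node (.node (.node (.node (.node (.node (.leaf (0, 0)) (.leaf (1890, 1))) (.leaf (847, 1))) (.node (.leaf (405, 1)) (.leaf (1326, 1)))) (.node (.node (.leaf (195, 1)) (.leaf (1087, 0))) (.node (.leaf (627, 1)) (.leaf (1598, 1))))) (.node (.node (.node (.node (.leaf (95, 0)) (.leaf (2034, 0))) (.leaf (961, 0))) (.node (.leaf (513, 1)) (.leaf (1464, 0)))) (.node (.node (.leaf (298, 1)) (.leaf (1201, 0))) (.node (.leaf (734, 0)) (.leaf (1741, 1)))))) (.node (.node (.node (.node (.node (.leaf (47, 1)) (.leaf (1964, 0))) (.leaf (902, 0))) (.node (.leaf (458, 1)) (.leaf (1393, 0)))) (.node (.node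 (.leaf (248, 1)) (.leaf (1141, 1))) (.node (.leaf (681, 1)) (.leaf (1664, 1))))) (.node (.node (.node (.node (.leaf (144, 0)) (.leaf (2160, 0))) (.leaf (1021, 1))) (.node (.leaf (572, 0)) (.leaf (1532, 0)))) (.node (.node (.leaf (350, 1)) (.leaf (1258, 0))) (.node (.leaf (787, 0)) (.leaf (1807, 1))))))) (.node (.node (.node (.node (.node (.node (.leaf (22, 1)) (.leaf (1926, 1))) (.leaf (875, 1))) (.node (.leaf (433, 0)) (.leaf (1365, 0)))) (.node (.node (.leaf (222, 0)) (.leaf (1116, 0))) (.node (.leaf (654, 1)) (.leaf (1631, 0))))) (.node (.node (.node (.node (.leaf (119, 1)) (.leaf (2080, 1))) (.leaf (993, 1))) (.node (.leaf (543, 0)) (.leaf (1500, 1)))) (.node (.node (.leaf (323, 1)) (.leaf (1230, 0))) (.node (.leaf (762, 1)) (.leaf (1775, 0)))))) (.node (.node (.node (.node (.node (.leaf (71, 0)) (.leaf (1997, 0))) (.leaf (929, 0))) (.node (.leaf (488, 0)) (.leaf (1423, 0)))) (.node (.node (.leaf (274, 1)) (.leaf (1171, 1))) (.node (.leaf (705, 1)) (.leaf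 (1699, 1))))) (.node (.node (.node (.node (.leaf (169, 1)) (.leaf (2227, 1))) (.leaf (1054, 1))) (.node (.leaf (602, 0)) (.leaf (1557, 1)))) (.node (.node (.leaf (380, 1)) (.leaf (1291, 1))) (.node (.leaf (815, 1)) (.leaf (1849, 1)))))))) (.node (.node (.node (.node (.node (.node (.node (.leaf (10, 1)) (.leaf (1910, 1))) (.leaf (861, 0))) (.node (.leaf (417, 1)) (.leaf (1346, 0)))) (.node (.node (.leaf (207, 1)) (.leaf (1105, 0))) (.node (.leaf (642, 1)) (.leaf (1614, 0))))) (.node (.node (.node (.node (.leaf (107, 1)) (.leaf (2057, 1))) (.leaf (976, 0))) (.node (.leaf (529, 0)) (.leaf (1483, 1)))) (.node (.node (.leaf (311, 1)) (.leaf (1213, 0))) (.node (.leaf (747, 1)) (.leaf (1758, 0)))))) (.node (.node (.node (.node (.node (.leaf (59, 1)) (.leaf (1978, 1))) (.leaf (915, 1))) (.node (.leaf (474, 0)) (.leaf (1407, 0)))) (.node (.node (.leaf (261, 1)) (.leaf (1155, 0))) (.node (.leaf (693, 1)) (.leaf (1681, 0))))) (.node (.node (.node (.node (.leaf (158, 0))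 (.leaf (2187, 0))) (.leaf (1037, 0))) (.node (.leaf (587, 1)) (.leaf (1544, 0)))) (.node (.node (.leaf (366, 1)) (.leaf (1272, 1))) (.node (.leaf (799, 1)) (.leaf (1830, 0))))))) (.node (.node (.node (.node (.node (.node (.leaf (34, 1)) (.leaf (1941, 1))) (.leaf (890, 0))) (.node (.leaf (445, 1)) (.leaf (1377, 1)))) (.node (.node (.leaf (235, 1)) (.leaf (1131, 0))) (.node (.leaf (668, 1)) (.leaf (1646, 0))))) (.node (.node (.node (.node (.leaf (132, 0)) (.leaf (2123, 1))) (.leaf (1007, 0))) (.node (.leaf (556, 1)) (.leaf (1515, 1)))) (.node (.node (.leaf (338, 0)) (.leaf (1244, 0))) (.node (.leaf (774, 1)) (.leaf (1793, 1)))))) (.node (.node (.node (.node (.node (.leaf (83, 0)) (.leaf (2014, 1))) (.leaf (945, 1))) (.node (.leaf (501, 1)) (.leaf (1444, 1)))) (.node (.node (.leaf (286, 1)) (.leaf (1185, 1))) (.node (.leaf (719, 1)) (.leaf (1719, 0))))) (.node (.node (.node (.node (.leaf (181, 1)) (.leaf (2264, 0))) (.leaf (1072, 1))) (.node (.leaf (615, 1)) (.leaf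 (1581, 0)))) (.node (.node (.leaf (393, 1)) (.leaf (1308, 1))) (.node (.leaf (832, 0)) (.leaf (1870, 1))))))))

/-- data -/
def tree0p1 : Trie (ℕ × ℕ) := .node (.node (.node (.node (.node (.node (.node (.node (.leaf (0, 0)) (.leaf (1891, 1))) (.leaf (849, 1))) (.node (.leaf (406, 1)) (.leaf (1328, 1)))) (.node (.node (.leaf (196, 0)) (.leaf (1089, 0))) (.node (.leaf (628, 0)) (.leaf (1599, 1))))) (.node (.node (.node (.node (.leaf (95, 1)) (.leaf (2035, 1))) (.leaf (962, 1))) (.node (.leaf (515, 1)) (.leaf (1464, 1)))) (.node (.node (.leaf (299, 1)) (.leaf (1202, 0))) (.node (.leaf (734, 1)) (.leaf (1742, 1)))))) (.node (.node (.node (.node (.node (.leaf (48, 0)) (.leaf (1965, 1))) (.leaf (902, 1))) (.node (.leaf (459, 0)) (.leaf (1395, 0)))) (.node (.node (.leaf (249, 0)) (.leaf (1142, 1))) (.node (.leaf (682, 0)) (.leaf (1666, 0))))) (.node (.node (.node (.node (.leaf (145, 0)) (.leaf (2161, 1))) (.leaf (1022, 0))) (.node (.leaf (573, 1)) (.leaf (1532, 1))))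 (.node (.node (.leaf (351, 0)) (.leaf (1258, 1))) (.node (.leaf (787, 1)) (.leaf (1808, 1))))))) (.node (.node (.node (.node (.node (.node (.leaf (23, 1)) (.leaf (1927, 1))) (.leaf (876, 0))) (.node (.leaf (434, 0)) (.leaf (1366, 0)))) (.node (.node (.leaf (223, 1)) (.leaf (1117, 1))) (.node (.leaf (655, 1)) (.leaf (1631, 1))))) (.node (.node (.node (.node (.leaf (120, 0)) (.leaf (2086, 0))) (.leaf (994, 0))) (.node (.leaf (543, 1)) (.leaf (1502, 1)))) (.node (.node (.leaf (324, 1)) (.leaf (1230, 1))) (.node (.leaf (763, 1)) (.leaf (1776, 1)))))) (.node (.node (.node (.node (.node (.leaf (72, 1)) (.leaf (1998, 0))) (.leaf (930, 1))) (.node (.leaf (489, 0)) (.leaf (1424, 1)))) (.node (.node (.leaf (275, 0)) (.leaf (1172, 1))) (.node (.leaf (706, 1)) (.leaf (1700, 1))))) (.node (.node (.node (.node (.leaf (170, 1)) (.leaf (2228, 0))) (.leaf (1055, 1))) (.node (.leaf (602, 1)) (.leaf (1558, 0)))) (.node (.node (.leaf (381, 0)) (.leaf (1292, 1))) (.node (.leaf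 (816, 0)) (.leaf (1850, 1)))))))) (.node (.node (.node (.node (.node (.node (.node (.leaf (11, 1)) (.leaf (1911, 0))) (.leaf (862, 0))) (.node (.leaf (418, 1)) (.leaf (1346, 1)))) (.node (.node (.leaf (209, 1)) (.leaf (1105, 1))) (.node (.leaf (643, 0)) (.leaf (1615, 0))))) (.node (.node (.node (.node (.leaf (108, 1)) (.leaf (2058, 0))) (.leaf (976, 1))) (.node (.leaf (530, 0)) (.leaf (1484, 1)))) (.node (.node (.leaf (312, 0)) (.leaf (1214, 1))) (.node (.leaf (748, 1)) (.leaf (1758, 1)))))) (.node (.node (.node (.node (.node (.leaf (60, 0)) (.leaf (1980, 1))) (.leaf (916, 1))) (.node (.leaf (475, 0)) (.leaf (1407, 1)))) (.node (.node (.leaf (262, 1)) (.leaf (1155, 1))) (.node (.leaf (694, 0)) (.leaf (1682, 0))))) (.node (.node (.node (.node (.leaf (159, 0)) (.leaf (2196, 0))) (.leaf (1038, 0))) (.node (.leaf (588, 1)) (.leaf (1544, 1)))) (.node (.node (.leaf (367, 1)) (.leaf (1273, 1))) (.node (.leaf (800, 0)) (.leaf (1831, 1))))))) (.node (.node (.node (.node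 (.node (.node (.leaf (35, 1)) (.leaf (1942, 1))) (.leaf (890, 1))) (.node (.leaf (446, 0)) (.leaf (1378, 0)))) (.node (.node (.leaf (236, 1)) (.leaf (1131, 1))) (.node (.leaf (669, 0)) (.leaf (1646, 1))))) (.node (.node (.node (.node (.leaf (133, 1)) (.leaf (2128, 0))) (.leaf (1007, 1))) (.node (.leaf (557, 1)) (.leaf (1516, 1)))) (.node (.node (.leaf (338, 1)) (.leaf (1244, 1))) (.node (.leaf (775, 1)) (.leaf (1794, 0)))))) (.node (.node (.node (.node (.node (.leaf (84, 1)) (.leaf (2015, 1))) (.leaf (946, 1))) (.node (.leaf (502, 1)) (.leaf (1445, 0)))) (.node (.node (.leaf (287, 0)) (.leaf (1186, 1))) (.node (.leaf (720, 0)) (.leaf (1720, 1))))) (.node (.node (.node (.node (.leaf (182, 1)) (.leaf (2265, 0))) (.leaf (1073, 0))) (.node (.leaf (616, 1)) (.leaf (1582, 0)))) (.node (.node (.leaf (394, 0)) (.leaf (1309, 1))) (.node (.leaf (833, 1)) (.leaf (1871, 0))))))))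

/-- data -/
def tree0p2 : Trie (ℕ × ℕ) := .node (.node (.node (.node (.node (.node (.node (.node (.leaf (0, 1)) (.leaf (1892, 0))) (.leaf (850, 0))) (.node (.leaf (407, 0)) (.leaf (1329, 0)))) (.node (.node (.leaf (196, 1)) (.leaf (1090, 0))) (.node (.leaf (629, 0)) (.leaf (1601, 1))))) (.node (.node (.node (.node (.leaf (96, 1)) (.leaf (2038, 1))) (.leaf (964, 1))) (.node (.leaf (516, 0)) (.leaf (1465, 1)))) (.node (.node (.leaf (300, 1)) (.leaf (1202, 1))) (.node (.leaf (735, 1)) (.leaf (1743, 0)))))) (.node (.node (.node (.node (.node (.leaf (49, 0)) (.leaf (1966, 1))) (.leaf (903, 1))) (.node (.leaf (461, 1)) (.leaf (1395, 1)))) (.node (.node (.leaf (250, 1)) (.leaf (1143, 1))) (.node (.leaf (682, 1)) (.leaf (1667, 0))))) (.node (.node (.node (.node (.leaf (145, 1)) (.leaf (2163, 1))) (.leaf (1022, 1))) (.node (.leaf (574, 0)) (.leaf (1533, 1)))) (.node (.node (.leaf (352, 0)) (.leaf (1260, 0))) (.node (.leaf (788, 0)) (.leaf (1810, 1))))))) (.node (.node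 (.node (.node (.node (.node (.leaf (24, 1)) (.leaf (1928, 0))) (.leaf (877, 1))) (.node (.leaf (434, 1)) (.leaf (1366, 1)))) (.node (.node (.leaf (224, 0)) (.leaf (1118, 1))) (.node (.leaf (656, 1)) (.leaf (1632, 1))))) (.node (.node (.node (.node (.leaf (121, 1)) (.leaf (2088, 0))) (.leaf (995, 0))) (.node (.leaf (545, 1)) (.leaf (1503, 1)))) (.node (.node (.leaf (325, 0)) (.leaf (1231, 0))) (.node (.leaf (764, 0)) (.leaf (1777, 1)))))) (.node (.node (.node (.node (.node (.leaf (73, 0)) (.leaf (1999, 0))) (.leaf (931, 0))) (.node (.leaf (489, 1)) (.leaf (1425, 0)))) (.node (.node (.leaf (275, 1)) (.leaf (1175, 1))) (.node (.leaf (707, 0)) (.leaf (1701, 0))))) (.node (.node (.node (.node (.leaf (171, 0)) (.leaf (2229, 0))) (.leaf (1056, 0))) (.node (.leaf (604, 0)) (.leaf (1558, 1)))) (.node (.node (.leaf (381, 1)) (.leaf (1294, 1))) (.node (.leaf (817, 1)) (.leaf (1851, 0)))))))) (.node (.node (.node (.node (.node (.node (.node (.leaf (12, 1)) (.leaf (1912,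 1))) (.leaf (862, 1))) (.node (.leaf (419, 1)) (.leaf (1347, 0)))) (.node (.node (.leaf (210, 0)) (.leaf (1106, 1))) (.node (.leaf (643, 1)) (.leaf (1616, 1))))) (.node (.node (.node (.node (.leaf (109, 0)) (.leaf (2058, 1))) (.leaf (978, 0))) (.node (.leaf (530, 1)) (.leaf (1485, 1)))) (.node (.node (.leaf (313, 0)) (.leaf (1217, 1))) (.node (.leaf (749, 0)) (.leaf (1759, 1)))))) (.node (.node (.node (.node (.node (.leaf (61, 0)) (.leaf (1981, 1))) (.leaf (917, 0))) (.node (.leaf (475, 1)) (.leaf (1408, 1)))) (.node (.node (.leaf (263, 1)) (.leaf (1156, 1))) (.node (.leaf (694, 1)) (.leaf (1683, 1))))) (.node (.node (.node (.node (.leaf (159, 1)) (.leaf (2198, 0))) (.leaf (1038, 1))) (.node (.leaf (590, 0)) (.leaf (1545, 1)))) (.node (.node (.leaf (368, 0)) (.leaf (1275, 1))) (.node (.leaf (801, 1)) (.leaf (1834, 0))))))) (.node (.node (.node (.node (.node (.node (.leaf (36, 0)) (.leaf (1943, 1))) (.leaf (891, 0))) (.node (.leaf (447, 0)) (.leaf (1380, 0))))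 (.node (.node (.leaf (237, 1)) (.leaf (1132, 0))) (.node (.leaf (670, 1)) (.leaf (1647, 1))))) (.node (.node (.node (.node (.leaf (134, 0)) (.leaf (2130, 0))) (.leaf (1008, 1))) (.node (.leaf (558, 1)) (.leaf (1517, 1)))) (.node (.node (.leaf (339, 1)) (.leaf (1245, 1))) (.node (.leaf (776, 0)) (.leaf (1795, 1)))))) (.node (.node (.node (.node (.node (.leaf (85, 0)) (.leaf (2016, 0))) (.leaf (947, 1))) (.node (.leaf (503, 0)) (.leaf (1445, 1)))) (.node (.node (.leaf (287, 1)) (.leaf (1187, 0))) (.node (.leaf (721, 1)) (.leaf (1722, 0))))) (.node (.node (.node (.node (.leaf (183, 1)) (.leaf (2268, 0))) (.leaf (1074, 1))) (.node (.leaf (617, 0)) (.leaf (1582, 1)))) (.node (.node (.leaf (395, 0)) (.leaf (1311, 0))) (.node (.leaf (834, 0)) (.leaf (1871, 1))))))))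

/-- data -/
def tree0p3 : Trie (ℕ × ℕ) := .node (.node (.node (.node (.node (.node (.node (.node (.leaf (1, 1)) (.leaf (1892, 1))) (.leaf (851, 0))) (.node (.leaf (408, 0)) (.leaf (1330, 1)))) (.node (.node (.leaf (197, 1)) (.leaf (1090, 1))) (.node (.leaf (629, 1)) (.leaf (1602, 0))))) (.node (.node (.node (.node (.leaf (97, 0)) (.leaf (2039, 1))) (.leaf (965, 1))) (.node (.leaf (517, 1)) (.leaf (1468, 1)))) (.node (.node (.leaf (301, 0)) (.leaf (1203, 1))) (.node (.leaf (736, 1)) (.leaf (1744, 1)))))) (.node (.node (.node (.node (.node (.leaf (49, 1)) (.leaf (1967, 1))) (.leaf (904, 0))) (.node (.leaf (462, 0)) (.leaf (1396, 0)))) (.node (.node (.leaf (251, 0)) (.leaf (1144, 1))) (.node (.leaf (683, 1)) (.leaf (1667, 1))))) (.node (.node (.node (.node (.leaf (146, 1)) (.leaf (2169, 0))) (.leaf (1023, 1))) (.node (.leaf (575, 1)) (.leaf (1534, 1)))) (.node (.node (.leaf (352, 1)) (.leaf (1261, 1))) (.node (.leaf (788, 1)) (.leaf (1811, 1))))))) (.node (.node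 (.node (.node (.node (.node (.leaf (25, 0)) (.leaf (1928, 1))) (.leaf (878, 0))) (.node (.leaf (435, 0)) (.leaf (1367, 1)))) (.node (.node (.leaf (225, 0)) (.leaf (1119, 0))) (.node (.leaf (657, 1)) (.leaf (1633, 0))))) (.node (.node (.node (.node (.leaf (122, 0)) (.leaf (2088, 1))) (.leaf (996, 1))) (.node (.leaf (546, 0)) (.leaf (1504, 0)))) (.node (.node (.leaf (327, 0)) (.leaf (1231, 1))) (.node (.leaf (765, 1)) (.leaf (1779, 0)))))) (.node (.node (.node (.node (.node (.leaf (74, 0)) (.leaf (1999, 1))) (.leaf (931, 1))) (.node (.leaf (490, 0)) (.leaf (1428, 1)))) (.node (.node (.leaf (276, 1)) (.leaf (1176, 0))) (.node (.leaf (708, 1)) (.leaf (1702, 1))))) (.node (.node (.node (.node (.leaf (171, 1)) (.leaf (2233, 1))) (.leaf (1057, 1))) (.node (.leaf (605, 0)) (.leaf (1560, 0)))) (.node (.node (.leaf (382, 1)) (.leaf (1295, 1))) (.node (.leaf (818, 1)) (.leaf (1852, 0)))))))) (.node (.node (.node (.node (.node (.node (.node (.leaf (13, 0)) (.leaf (1913,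 1))) (.leaf (863, 1))) (.node (.leaf (420, 1)) (.leaf (1348, 0)))) (.node (.node (.leaf (211, 1)) (.leaf (1107, 0))) (.node (.leaf (644, 1)) (.leaf (1617, 0))))) (.node (.node (.node (.node (.leaf (110, 0)) (.leaf (2061, 0))) (.leaf (979, 1))) (.node (.leaf (531, 0)) (.leaf (1486, 0)))) (.node (.node (.leaf (313, 1)) (.leaf (1218, 0))) (.node (.leaf (750, 1)) (.leaf (1760, 0)))))) (.node (.node (.node (.node (.node (.leaf (61, 1)) (.leaf (1982, 0))) (.leaf (918, 1))) (.node (.leaf (476, 0)) (.leaf (1409, 1)))) (.node (.node (.leaf (264, 0)) (.leaf (1157, 0))) (.node (.leaf (695, 1)) (.leaf (1685, 1))))) (.node (.node (.node (.node (.leaf (160, 0)) (.leaf (2199, 1))) (.leaf (1039, 0))) (.node (.leaf (591, 1)) (.leaf (1546, 1)))) (.node (.node (.leaf (369, 1)) (.leaf (1276, 1))) (.node (.leaf (802, 0)) (.leaf (1836, 1))))))) (.node (.node (.node (.node (.node (.node (.leaf (36, 1)) (.leaf (1947, 1))) (.leaf (891, 1))) (.node (.leaf (448, 0)) (.leaf (1381, 0))))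 (.node (.node (.leaf (238, 0)) (.leaf (1132, 1))) (.node (.leaf (671, 0)) (.leaf (1649, 1))))) (.node (.node (.node (.node (.leaf (134, 1)) (.leaf (2134, 0))) (.leaf (1009, 0))) (.node (.leaf (560, 1)) (.leaf (1518, 1)))) (.node (.node (.leaf (340, 1)) (.leaf (1246, 0))) (.node (.leaf (777, 0)) (.leaf (1796, 0)))))) (.node (.node (.node (.node (.node (.leaf (86, 0)) (.leaf (2017, 0))) (.leaf (948, 1))) (.node (.leaf (504, 0)) (.leaf (1446, 0)))) (.node (.node (.leaf (288, 1)) (.leaf (1189, 1))) (.node (.leaf (722, 1)) (.leaf (1722, 1))))) (.node (.node (.node (.node (.leaf (184, 0)) (.leaf (2273, 1))) (.leaf (1075, 0))) (.node (.leaf (618, 0)) (.leaf (1585, 1)))) (.node (.node (.leaf (395, 1)) (.leaf (1311, 1))) (.node (.leaf (835, 0)) (.leaf (1874, 0))))))))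

/-- data -/
def tree0p4 : Trie (ℕ × ℕ) := .node (.node (.node (.node (.node (.node (.node (.node (.leaf (2, 0)) (.leaf (1894, 1))) (.leaf (851, 1))) (.node (.leaf (408, 1)) (.leaf (1331, 0)))) (.node (.node (.leaf (198, 1)) (.leaf (1091, 1))) (.node (.leaf (630, 1)) (.leaf (1603, 1))))) (.node (.node (.node (.node (.leaf (97, 1)) (.leaf (2043, 0))) (.leaf (966, 0))) (.node (.leaf (519, 0)) (.leaf (1469, 0)))) (.node (.node (.leaf (302, 0)) (.leaf (1204, 0))) (.node (.leaf (737, 0)) (.leaf (1746, 0)))))) (.node (.node (.node (.node (.node (.leaf (50, 1)) (.leaf (1968, 0))) (.leaf (904, 1))) (.node (.leaf (463, 0)) (.leaf (1397, 1)))) (.node (.node (.leaf (252, 0)) (.leaf (1146, 1))) (.node (.leaf (685, 0)) (.leaf (1668, 1))))) (.node (.node (.node (.node (.leaf (147, 1)) (.leaf (2171, 1))) (.leaf (1024, 0))) (.node (.leaf (576, 0)) (.leaf (1535, 0)))) (.node (.node (.leaf (353, 1)) (.leaf (1262, 0))) (.node (.leaf (789, 1)) (.leaf (1813, 0))))))) (.node (.node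 (.node (.node (.node (.node (.leaf (26, 1)) (.leaf (1929, 1))) (.leaf (878, 1))) (.node (.leaf (435, 1)) (.leaf (1368, 0)))) (.node (.node (.leaf (225, 1)) (.leaf (1120, 1))) (.node (.leaf (658, 0)) (.leaf (1633, 1))))) (.node (.node (.node (.node (.leaf (123, 0)) (.leaf (2090, 1))) (.leaf (997, 0))) (.node (.leaf (547, 1)) (.leaf (1505, 0)))) (.node (.node (.leaf (328, 0)) (.leaf (1232, 1))) (.node (.leaf (766, 0)) (.leaf (1780, 1)))))) (.node (.node (.node (.node (.node (.leaf (74, 1)) (.leaf (2001, 0))) (.leaf (933, 1))) (.node (.leaf (490, 1)) (.leaf (1429, 0)))) (.node (.node (.leaf (277, 0)) (.leaf (1176, 1))) (.node (.leaf (709, 0)) (.leaf (1703, 1))))) (.node (.node (.node (.node (.leaf (172, 1)) (.leaf (2234, 0))) (.leaf (1059, 1))) (.node (.leaf (605, 1)) (.leaf (1562, 1)))) (.node (.node (.leaf (384, 0)) (.leaf (1296, 1))) (.node (.leaf (819, 1)) (.leaf (1853, 1)))))))) (.node (.node (.node (.node (.node (.node (.node (.leaf (14, 0)) (.leaf (1915,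 0))) (.leaf (864, 0))) (.node (.leaf (421, 0)) (.leaf (1348, 1)))) (.node (.node (.leaf (213, 0)) (.leaf (1107, 1))) (.node (.leaf (645, 1)) (.leaf (1618, 1))))) (.node (.node (.node (.node (.leaf (110, 1)) (.leaf (2061, 1))) (.leaf (980, 0))) (.node (.leaf (531, 1)) (.leaf (1486, 1)))) (.node (.node (.leaf (314, 1)) (.leaf (1219, 0))) (.node (.leaf (752, 0)) (.leaf (1760, 1)))))) (.node (.node (.node (.node (.node (.leaf (62, 0)) (.leaf (1984, 0))) (.leaf (919, 0))) (.node (.leaf (476, 1)) (.leaf (1411, 1)))) (.node (.node (.leaf (265, 0)) (.leaf (1159, 0))) (.node (.leaf (696, 0)) (.leaf (1686, 1))))) (.node (.node (.node (.node (.leaf (160, 1)) (.leaf (2200, 0))) (.leaf (1039, 1))) (.node (.leaf (592, 1)) (.leaf (1547, 0)))) (.node (.node (.leaf (371, 0)) (.leaf (1277, 1))) (.node (.leaf (802, 1)) (.leaf (1838, 1))))))) (.node (.node (.node (.node (.node (.node (.leaf (37, 1)) (.leaf (1949, 1))) (.leaf (892, 1))) (.node (.leaf (448, 1)) (.leaf (1382, 0))))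 (.node (.node (.leaf (239, 1)) (.leaf (1133, 1))) (.node (.leaf (672, 1)) (.leaf (1650, 0))))) (.node (.node (.node (.node (.leaf (135, 1)) (.leaf (2137, 1))) (.leaf (1009, 1))) (.node (.leaf (561, 1)) (.leaf (1519, 1)))) (.node (.node (.leaf (341, 0)) (.leaf (1246, 1))) (.node (.leaf (778, 0)) (.leaf (1797, 1)))))) (.node (.node (.node (.node (.node (.leaf (86, 1)) (.leaf (2017, 1))) (.leaf (949, 0))) (.node (.leaf (504, 1)) (.leaf (1446, 1)))) (.node (.node (.leaf (289, 0)) (.leaf (1191, 1))) (.node (.leaf (723, 1)) (.leaf (1723, 1))))) (.node (.node (.node (.node (.leaf (185, 1)) (.leaf (2274, 1))) (.leaf (1076, 0))) (.node (.leaf (618, 1)) (.leaf (1586, 1)))) (.node (.node (.leaf (396, 1)) (.leaf (1312, 1))) (.node (.leaf (835, 1)) (.leaf (1874, 1))))))))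

/-- data -/
def tree0p5 : Trie (ℕ × ℕ) := .node (.node (.node (.node (.node (.node (.node (.node (.leaf (2, 1)) (.leaf (1895, 0))) (.leaf (852, 1))) (.node (.leaf (409, 0)) (.leaf (1332, 0)))) (.node (.node (.leaf (199, 1)) (.leaf (1092, 0))) (.node (.leaf (631, 0)) (.leaf (1604, 0))))) (.node (.node (.node (.node (.leaf (98, 1)) (.leaf (2043, 1))) (.leaf (966, 1))) (.node (.leaf (520, 0)) (.leaf (1470, 0)))) (.node (.node (.leaf (302, 1)) (.leaf (1205, 0))) (.node (.leaf (738, 1)) (.leaf (1746, 1)))))) (.node (.node (.node (.node (.node (.leaf (51, 0)) (.leaf (1969, 1))) (.leaf (905, 1))) (.node (.leaf (464, 0)) (.leaf (1398, 0)))) (.node (.node (.leaf (252, 1)) (.leaf (1147, 0))) (.node (.leaf (686, 0)) (.leaf (1669, 1))))) (.node (.node (.node (.node (.leaf (148, 0)) (.leaf (2175, 0))) (.leaf (1025, 0))) (.node (.leaf (577, 1)) (.leaf (1535, 1)))) (.node (.node (.leaf (354, 0)) (.leaf (1263, 0))) (.node (.leaf (790, 0)) (.leaf (1815, 1))))))) (.node (.node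 (.node (.node (.node (.node (.leaf (27, 0)) (.leaf (1930, 0))) (.leaf (879, 1))) (.node (.leaf (436, 1)) (.leaf (1369, 0)))) (.node (.node (.leaf (226, 1)) (.leaf (1121, 0))) (.node (.leaf (659, 1)) (.leaf (1635, 0))))) (.node (.node (.node (.node (.leaf (123, 1)) (.leaf (2091, 1))) (.leaf (998, 0))) (.node (.leaf (548, 0)) (.leaf (1505, 1)))) (.node (.node (.leaf (328, 1)) (.leaf (1233, 1))) (.node (.leaf (767, 0)) (.leaf (1781, 0)))))) (.node (.node (.node (.node (.node (.leaf (75, 1)) (.leaf (2003, 0))) (.leaf (935, 1))) (.node (.leaf (491, 1)) (.leaf (1430, 0)))) (.node (.node (.leaf (278, 0)) (.leaf (1177, 1))) (.node (.leaf (709, 1)) (.leaf (1704, 0))))) (.node (.node (.node (.node (.leaf (173, 1)) (.leaf (2238, 0))) (.leaf (1061, 0))) (.node (.leaf (606, 0)) (.leaf (1563, 1)))) (.node (.node (.leaf (385, 0)) (.leaf (1297, 0))) (.node (.leaf (820, 1)) (.leaf (1854, 1)))))))) (.node (.node (.node (.node (.node (.node (.node (.leaf (14, 1)) (.leaf (1915,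 1))) (.leaf (865, 1))) (.node (.leaf (422, 1)) (.leaf (1350, 0)))) (.node (.node (.leaf (213, 1)) (.leaf (1108, 1))) (.node (.leaf (646, 0)) (.leaf (1619, 1))))) (.node (.node (.node (.node (.leaf (111, 0)) (.leaf (2062, 1))) (.leaf (981, 0))) (.node (.leaf (532, 1)) (.leaf (1487, 1)))) (.node (.node (.leaf (315, 0)) (.leaf (1219, 1))) (.node (.leaf (752, 1)) (.leaf (1761, 1)))))) (.node (.node (.node (.node (.node (.leaf (62, 1)) (.leaf (1987, 0))) (.leaf (920, 1))) (.node (.leaf (477, 1)) (.leaf (1412, 1)))) (.node (.node (.leaf (265, 1)) (.leaf (1159, 1))) (.node (.leaf (697, 1)) (.leaf (1687, 0))))) (.node (.node (.node (.node (.leaf (161, 1)) (.leaf (2200, 1))) (.leaf (1040, 1))) (.node (.leaf (593, 1)) (.leaf (1547, 1)))) (.node (.node (.leaf (371, 1)) (.leaf (1278, 1))) (.node (.leaf (803, 1)) (.leaf (1839, 0))))))) (.node (.node (.node (.node (.node (.node (.leaf (38, 1)) (.leaf (1950, 0))) (.leaf (893, 1))) (.node (.leaf (449, 1)) (.leaf (1382, 1))))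 (.node (.node (.leaf (240, 0)) (.leaf (1134, 0))) (.node (.leaf (673, 0)) (.leaf (1651, 1))))) (.node (.node (.node (.node (.leaf (136, 1)) (.leaf (2141, 1))) (.leaf (1010, 1))) (.node (.leaf (562, 1)) (.leaf (1521, 0)))) (.node (.node (.leaf (342, 0)) (.leaf (1247, 0))) (.node (.leaf (778, 1)) (.leaf (1798, 0)))))) (.node (.node (.node (.node (.node (.leaf (87, 1)) (.leaf (2018, 1))) (.leaf (950, 1))) (.node (.leaf (505, 1)) (.leaf (1447, 1)))) (.node (.node (.leaf (289, 1)) (.leaf (1192, 0))) (.node (.leaf (724, 1)) (.leaf (1726, 1))))) (.node (.node (.node (.node (.leaf (187, 0)) (.leaf (2275, 0))) (.leaf (1076, 1))) (.node (.leaf (619, 1)) (.leaf (1587, 1)))) (.node (.node (.leaf (397, 0)) (.leaf (1313, 0))) (.node (.leaf (836, 1)) (.leaf (1875, 0))))))))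

/-- data -/
def tree0p6 : Trie (ℕ × ℕ) := .node (.node (.node (.node (.node (.node (.node (.node (.leaf (3, 0)) (.leaf (1896, 0))) (.leaf (853, 0))) (.node (.leaf (409, 1)) (.leaf (1332, 1)))) (.node (.node (.leaf (200, 0)) (.leaf (1094, 0))) (.node (.leaf (632, 1)) (.leaf (1604, 1))))) (.node (.node (.node (.node (.leaf (99, 1)) (.leaf (2044, 1))) (.leaf (967, 1))) (.node (.leaf (520, 1)) (.leaf (1470, 1)))) (.node (.node (.leaf (303, 1)) (.leaf (1205, 1))) (.node (.leaf (739, 1)) (.leaf (1747, 0)))))) (.node (.node (.node (.node (.node (.leaf (52, 0)) (.leaf (1970, 1))) (.leaf (907, 1))) (.node (.leaf (464, 1)) (.leaf (1399, 1)))) (.node (.node (.leaf (253, 0)) (.leaf (1148, 1))) (.node (.leaf (686, 1)) (.leaf (1672, 1))))) (.node (.node (.node (.node (.leaf (150, 0)) (.leaf (2176, 1))) (.leaf (1025, 1))) (.node (.leaf (578, 0)) (.leaf (1536, 0)))) (.node (.node (.leaf (355, 1)) (.leaf (1263, 1))) (.node (.leaf (791, 1)) (.leaf (1818, 0))))))) (.node (.node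 (.node (.node (.node (.node (.leaf (28, 0)) (.leaf (1930, 1))) (.leaf (880, 0))) (.node (.leaf (437, 1)) (.leaf (1369, 1)))) (.node (.node (.leaf (227, 0)) (.leaf (1121, 1))) (.node (.leaf (660, 0)) (.leaf (1635, 1))))) (.node (.node (.node (.node (.leaf (124, 0)) (.leaf (2092, 1))) (.leaf (998, 1))) (.node (.leaf (549, 0)) (.leaf (1506, 0)))) (.node (.node (.leaf (329, 0)) (.leaf (1235, 1))) (.node (.leaf (767, 1)) (.leaf (1782, 0)))))) (.node (.node (.node (.node (.node (.leaf (76, 0)) (.leaf (2004, 0))) (.leaf (936, 0))) (.node (.leaf (492, 1)) (.leaf (1430, 1)))) (.node (.node (.leaf (278, 1)) (.leaf (1178, 1))) (.node (.leaf (710, 1)) (.leaf (1708, 0))))) (.node (.node (.node (.node (.leaf (174, 0)) (.leaf (2239, 0))) (.leaf (1061, 1))) (.node (.leaf (606, 1)) (.leaf (1565, 1)))) (.node (.node (.leaf (385, 1)) (.leaf (1298, 0))) (.node (.leaf (821, 1)) (.leaf (1855, 0)))))))) (.node (.node (.node (.node (.node (.node (.node (.leaf (15, 1)) (.leaf (1918,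 0))) (.leaf (866, 1))) (.node (.leaf (423, 0)) (.leaf (1351, 1)))) (.node (.node (.leaf (214, 1)) (.leaf (1109, 0))) (.node (.leaf (647, 1)) (.leaf (1620, 0))))) (.node (.node (.node (.node (.leaf (111, 1)) (.leaf (2067, 1))) (.leaf (983, 0))) (.node (.leaf (533, 0)) (.leaf (1489, 0)))) (.node (.node (.leaf (316, 0)) (.leaf (1220, 1))) (.node (.leaf (753, 0)) (.leaf (1762, 0)))))) (.node (.node (.node (.node (.node (.leaf (63, 1)) (.leaf (1987, 1))) (.leaf (921, 1))) (.node (.leaf (478, 1)) (.leaf (1413, 1)))) (.node (.node (.leaf (266, 1)) (.leaf (1160, 1))) (.node (.leaf (698, 1)) (.leaf (1688, 1))))) (.node (.node (.node (.node (.leaf (162, 0)) (.leaf (2201, 1))) (.leaf (1041, 1))) (.node (.leaf (594, 0)) (.leaf (1548, 0)))) (.node (.node (.leaf (372, 1)) (.leaf (1279, 0))) (.node (.leaf (805, 0)) (.leaf (1840, 1))))))) (.node (.node (.node (.node (.node (.node (.leaf (39, 0)) (.leaf (1951, 1))) (.leaf (894, 1))) (.node (.leaf (450, 1)) (.leaf (1383, 0))))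 (.node (.node (.leaf (241, 1)) (.leaf (1135, 0))) (.node (.leaf (674, 0)) (.leaf (1653, 1))))) (.node (.node (.node (.node (.leaf (137, 0)) (.leaf (2142, 0))) (.leaf (1011, 1))) (.node (.leaf (563, 1)) (.leaf (1521, 1)))) (.node (.node (.leaf (342, 1)) (.leaf (1249, 0))) (.node (.leaf (779, 0)) (.leaf (1799, 1)))))) (.node (.node (.node (.node (.node (.leaf (88, 0)) (.leaf (2020, 1))) (.leaf (951, 0))) (.node (.leaf (506, 0)) (.leaf (1448, 1)))) (.node (.node (.leaf (290, 1)) (.leaf (1192, 1))) (.node (.leaf (725, 0)) (.leaf (1727, 0))))) (.node (.node (.node (.node (.leaf (187, 1)) (.leaf (2277, 1))) (.leaf (1077, 0))) (.node (.leaf (620, 0)) (.leaf (1588, 1)))) (.node (.node (.leaf (398, 0)) (.leaf (1314, 0))) (.node (.leaf (837, 1)) (.leaf (1878, 0))))))))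

/-- data -/
def tree0p7 : Trie (ℕ × ℕ) := .node (.node (.node (.node (.node (.node (.node (.node (.leaf (3, 1)) (.leaf (1898, 1))) (.leaf (853, 1))) (.node (.leaf (410, 1)) (.leaf (1333, 1)))) (.node (.node (.leaf (201, 0)) (.leaf (1094, 1))) (.node (.leaf (634, 0)) (.leaf (1605, 1))))) (.node (.node (.node (.node (.leaf (100, 0)) (.leaf (2045, 0))) (.leaf (968, 1))) (.node (.leaf (521, 1)) (.leaf (1471, 1)))) (.node (.node (.leaf (304, 0)) (.leaf (1206, 1))) (.node (.leaf (740, 0)) (.leaf (1748, 1)))))) (.node (.node (.node (.node (.node (.leaf (52, 1)) (.leaf (1971, 1))) (.leaf (909, 0))) (.node (.leaf (465, 0)) (.leaf (1400, 0)))) (.node (.node (.leaf (253, 1)) (.leaf (1149, 0))) (.node (.leaf (687, 1)) (.leaf (1673, 1))))) (.node (.node (.node (.node (.leaf (151, 0)) (.leaf (2177, 0))) (.leaf (1026, 1))) (.node (.leaf (579, 1)) (.leaf (1537, 0)))) (.node (.node (.leaf (356, 1)) (.leaf (1264, 0))) (.node (.leaf (792, 0)) (.leaf (1819, 0))))))) (.node (.node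 (.node (.node (.node (.node (.leaf (28, 1)) (.leaf (1932, 0))) (.leaf (880, 1))) (.node (.leaf (438, 0)) (.leaf (1370, 0)))) (.node (.node (.leaf (228, 1)) (.leaf (1122, 1))) (.node (.leaf (661, 0)) (.leaf (1637, 1))))) (.node (.node (.node (.node (.leaf (124, 1)) (.leaf (2093, 0))) (.leaf (999, 1))) (.node (.leaf (549, 1)) (.leaf (1507, 0)))) (.node (.node (.leaf (329, 1)) (.leaf (1236, 0))) (.node (.leaf (768, 0)) (.leaf (1782, 1)))))) (.node (.node (.node (.node (.node (.leaf (77, 0)) (.leaf (2004, 1))) (.leaf (937, 0))) (.node (.leaf (493, 0)) (.leaf (1431, 1)))) (.node (.node (.leaf (279, 1)) (.leaf (1179, 1))) (.node (.leaf (711, 0)) (.leaf (1708, 1))))) (.node (.node (.node (.node (.leaf (175, 0)) (.leaf (2240, 1))) (.leaf (1062, 1))) (.node (.leaf (608, 1)) (.leaf (1566, 1)))) (.node (.node (.leaf (386, 0)) (.leaf (1298, 1))) (.node (.leaf (823, 0)) (.leaf (1857, 1)))))))) (.node (.node (.node (.node (.node (.node (.node (.leaf (16, 0)) (.leaf (1919,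 1))) (.leaf (868, 1))) (.node (.leaf (424, 1)) (.leaf (1352, 0)))) (.node (.node (.leaf (215, 0)) (.leaf (1110, 0))) (.node (.leaf (648, 0)) (.leaf (1621, 0))))) (.node (.node (.node (.node (.leaf (112, 1)) (.leaf (2069, 0))) (.leaf (984, 0))) (.node (.leaf (534, 1)) (.leaf (1489, 1)))) (.node (.node (.leaf (316, 1)) (.leaf (1221, 1))) (.node (.leaf (753, 1)) (.leaf (1764, 0)))))) (.node (.node (.node (.node (.node (.leaf (64, 0)) (.leaf (1989, 0))) (.leaf (922, 1))) (.node (.leaf (479, 0)) (.leaf (1416, 0)))) (.node (.node (.leaf (267, 0)) (.leaf (1161, 0))) (.node (.leaf (699, 0)) (.leaf (1689, 0))))) (.node (.node (.node (.node (.leaf (162, 1)) (.leaf (2203, 0))) (.leaf (1044, 1))) (.node (.leaf (595, 1)) (.leaf (1548, 1)))) (.node (.node (.leaf (373, 0)) (.leaf (1284, 0))) (.node (.leaf (805, 1)) (.leaf (1841, 0))))))) (.node (.node (.node (.node (.node (.node (.leaf (40, 1)) (.leaf (1952, 1))) (.leaf (895, 0))) (.node (.leaf (451, 0)) (.leaf (1383, 1))))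 (.node (.node (.leaf (242, 0)) (.leaf (1135, 1))) (.node (.leaf (674, 1)) (.leaf (1654, 0))))) (.node (.node (.node (.node (.leaf (138, 0)) (.leaf (2145, 1))) (.leaf (1012, 0))) (.node (.leaf (564, 0)) (.leaf (1522, 1)))) (.node (.node (.leaf (343, 1)) (.leaf (1249, 1))) (.node (.leaf (779, 1)) (.leaf (1800, 1)))))) (.node (.node (.node (.node (.node (.leaf (89, 0)) (.leaf (2022, 1))) (.leaf (952, 0))) (.node (.leaf (507, 1)) (.leaf (1451, 0)))) (.node (.node (.leaf (291, 1)) (.leaf (1193, 1))) (.node (.leaf (726, 1)) (.leaf (1727, 1))))) (.node (.node (.node (.node (.leaf (188, 1)) (.leaf (2278, 1))) (.leaf (1078, 1))) (.node (.leaf (621, 1)) (.leaf (1589, 0)))) (.node (.node (.leaf (398, 1)) (.leaf (1314, 1))) (.node (.leaf (838, 0)) (.leaf (1881, 0))))))))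

/-- data -/
def tree0p8 : Trie (ℕ × ℕ) := .node (.node (.node (.node (.node (.node (.node (.node (.leaf (4, 1)) (.leaf (1899, 1))) (.leaf (854, 0))) (.node (.leaf (411, 1)) (.leaf (1334, 1)))) (.node (.node (.leaf (201, 1)) (.leaf (1097, 1))) (.node (.leaf (634, 1)) (.leaf (1606, 0))))) (.node (.node (.node (.node (.leaf (101, 0)) (.leaf (2050, 1))) (.leaf (969, 0))) (.node (.leaf (522, 1)) (.leaf (1473, 0)))) (.node (.node (.leaf (305, 1)) (.leaf (1207, 1))) (.node (.leaf (741, 1)) (.leaf (1750, 1)))))) (.node (.node (.node (.node (.node (.leaf (53, 0)) (.leaf (1972, 0))) (.leaf (909, 1))) (.node (.leaf (465, 1)) (.leaf (1401, 1)))) (.node (.node (.leaf (254, 1)) (.leaf (1149, 1))) (.node (.leaf (688, 0)) (.leaf (1674, 0))))) (.node (.node (.node (.node (.leaf (151, 1)) (.leaf (2178, 0))) (.leaf (1027, 1))) (.node (.leaf (580, 1)) (.leaf (1538, 1)))) (.node (.node (.leaf (357, 1)) (.leaf (1265, 1))) (.node (.leaf (793, 0)) (.leaf (1819, 1))))))) (.node (.node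 (.node (.node (.node (.node (.leaf (29, 0)) (.leaf (1933, 1))) (.leaf (881, 1))) (.node (.leaf (439, 0)) (.leaf (1371, 1)))) (.node (.node (.leaf (229, 0)) (.leaf (1123, 0))) (.node (.leaf (661, 1)) (.leaf (1640, 0))))) (.node (.node (.node (.node (.leaf (125, 1)) (.leaf (2093, 1))) (.leaf (1000, 1))) (.node (.leaf (550, 1)) (.leaf (1507, 1)))) (.node (.node (.leaf (330, 0)) (.leaf (1238, 0))) (.node (.leaf (768, 1)) (.leaf (1784, 0)))))) (.node (.node (.node (.node (.node (.leaf (77, 1)) (.leaf (2005, 1))) (.leaf (937, 1))) (.node (.leaf (494, 0)) (.leaf (1435, 1)))) (.node (.node (.leaf (280, 0)) (.leaf (1180, 0))) (.node (.leaf (711, 1)) (.leaf (1709, 1))))) (.node (.node (.node (.node (.leaf (175, 1)) (.leaf (2246, 1))) (.leaf (1063, 0))) (.node (.leaf (609, 1)) (.leaf (1567, 0)))) (.node (.node (.leaf (386, 1)) (.leaf (1300, 0))) (.node (.leaf (824, 0)) (.leaf (1860, 1)))))))) (.node (.node (.node (.node (.node (.node (.node (.leaf (17, 0)) (.leaf (1920,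 0))) (.leaf (869, 0))) (.node (.leaf (425, 0)) (.leaf (1353, 1)))) (.node (.node (.leaf (216, 1)) (.leaf (1111, 0))) (.node (.leaf (648, 1)) (.leaf (1622, 0))))) (.node (.node (.node (.node (.leaf (113, 0)) (.leaf (2070, 1))) (.leaf (985, 1))) (.node (.leaf (535, 0)) (.leaf (1492, 0)))) (.node (.node (.leaf (317, 1)) (.leaf (1222, 0))) (.node (.leaf (754, 1)) (.leaf (1765, 0)))))) (.node (.node (.node (.node (.node (.leaf (64, 1)) (.leaf (1989, 1))) (.leaf (923, 1))) (.node (.leaf (480, 0)) (.leaf (1416, 1)))) (.node (.node (.leaf (267, 1)) (.leaf (1161, 1))) (.node (.leaf (699, 1)) (.leaf (1690, 0))))) (.node (.node (.node (.node (.leaf (163, 1)) (.leaf (2203, 1))) (.leaf (1046, 0))) (.node (.leaf (596, 0)) (.leaf (1549, 0)))) (.node (.node (.leaf (374, 1)) (.leaf (1284, 1))) (.node (.leaf (807, 1)) (.leaf (1842, 1))))))) (.node (.node (.node (.node (.node (.node (.leaf (41, 0)) (.leaf (1953, 0))) (.leaf (896, 1))) (.node (.leaf (452, 0)) (.leaf (1384, 1))))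 (.node (.node (.leaf (242, 1)) (.leaf (1136, 0))) (.node (.leaf (675, 1)) (.leaf (1654, 1))))) (.node (.node (.node (.node (.leaf (138, 1)) (.leaf (2147, 0))) (.leaf (1014, 0))) (.node (.leaf (565, 1)) (.leaf (1523, 0)))) (.node (.node (.leaf (344, 0)) (.leaf (1250, 1))) (.node (.leaf (780, 1)) (.leaf (1801, 0)))))) (.node (.node (.node (.node (.node (.leaf (89, 1)) (.leaf (2023, 0))) (.leaf (953, 0))) (.node (.leaf (508, 0)) (.leaf (1451, 1)))) (.node (.node (.leaf (292, 0)) (.leaf (1194, 1))) (.node (.leaf (727, 0)) (.leaf (1729, 0))))) (.node (.node (.node (.node (.leaf (189, 0)) (.leaf (2280, 0))) (.leaf (1079, 1))) (.node (.leaf (622, 0)) (.leaf (1590, 1)))) (.node (.node (.leaf (399, 1)) (.leaf (1316, 1))) (.node (.leaf (839, 0)) (.leaf (1883, 0))))))))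

/-- data -/
def tree0p9 : Trie (ℕ × ℕ) := .node (.node (.node (.node (.node (.node (.node (.node (.leaf (5, 0)) (.leaf (1900, 1))) (.leaf (855, 1))) (.node (.leaf (412, 0)) (.leaf (1335, 0)))) (.node (.node (.leaf (202, 1)) (.leaf (1098, 1))) (.node (.leaf (635, 1)) (.leaf (1607, 1))))) (.node (.node (.node (.node (.leaf (101, 1)) (.leaf (2051, 0))) (.leaf (970, 1))) (.node (.leaf (523, 0)) (.leaf (1475, 0)))) (.node (.node (.leaf (306, 0)) (.leaf (1208, 1))) (.node (.leaf (742, 0)) (.leaf (1751, 0)))))) (.node (.node (.node (.node (.node (.leaf (53, 1)) (.leaf (1972, 1))) (.leaf (910, 1))) (.node (.leaf (466, 1)) (.leaf (1402, 1)))) (.node (.node (.leaf (255, 1)) (.leaf (1150, 0))) (.node (.leaf (689, 1)) (.leaf (1674, 1))))) (.node (.node (.node (.node (.leaf (152, 1)) (.leaf (2178, 1))) (.leaf (1028, 0))) (.node (.leaf (581, 1)) (.leaf (1539, 0)))) (.node (.node (.leaf (358, 0)) (.leaf (1266, 0))) (.node (.leaf (793, 1)) (.leaf (1820, 1))))))) (.node (.node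 (.node (.node (.node (.node (.leaf (29, 1)) (.leaf (1934, 1))) (.leaf (883, 0))) (.node (.leaf (439, 1)) (.leaf (1372, 0)))) (.node (.node (.leaf (230, 1)) (.leaf (1124, 0))) (.node (.leaf (662, 1)) (.leaf (1640, 1))))) (.node (.node (.node (.node (.leaf (126, 1)) (.leaf (2097, 1))) (.leaf (1001, 0))) (.node (.leaf (551, 1)) (.leaf (1508, 0)))) (.node (.node (.leaf (330, 1)) (.leaf (1238, 1))) (.node (.leaf (769, 1)) (.leaf (1784, 1)))))) (.node (.node (.node (.node (.node (.leaf (78, 0)) (.leaf (2006, 0))) (.leaf (938, 0))) (.node (.leaf (494, 1)) (.leaf (1436, 0)))) (.node (.node (.leaf (281, 1)) (.leaf (1181, 0))) (.node (.leaf (713, 0)) (.leaf (1710, 0))))) (.node (.node (.node (.node (.leaf (176, 1)) (.leaf (2248, 1))) (.leaf (1064, 1))) (.node (.leaf (610, 0)) (.leaf (1567, 1)))) (.node (.node (.leaf (387, 1)) (.leaf (1301, 1))) (.node (.leaf (824, 1)) (.leaf (1861, 0)))))))) (.node (.node (.node (.node (.node (.node (.node (.leaf (17, 1)) (.leaf (1921,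 0))) (.leaf (870, 0))) (.node (.leaf (426, 1)) (.leaf (1354, 1)))) (.node (.node (.leaf (217, 0)) (.leaf (1111, 1))) (.node (.leaf (649, 1)) (.leaf (1622, 1))))) (.node (.node (.node (.node (.leaf (113, 1)) (.leaf (2071, 0))) (.leaf (986, 0))) (.node (.leaf (535, 1)) (.leaf (1493, 1)))) (.node (.node (.leaf (318, 1)) (.leaf (1223, 0))) (.node (.leaf (755, 1)) (.leaf (1766, 0)))))) (.node (.node (.node (.node (.node (.leaf (65, 1)) (.leaf (1991, 1))) (.leaf (924, 1))) (.node (.leaf (480, 1)) (.leaf (1417, 0)))) (.node (.node (.leaf (268, 1)) (.leaf (1162, 1))) (.node (.leaf (700, 1)) (.leaf (1690, 1))))) (.node (.node (.node (.node (.leaf (164, 1)) (.leaf (2206, 1))) (.leaf (1046, 1))) (.node (.leaf (597, 0)) (.leaf (1549, 1)))) (.node (.node (.leaf (375, 0)) (.leaf (1285, 1))) (.node (.leaf (809, 0)) (.leaf (1843, 0))))))) (.node (.node (.node (.node (.node (.node (.leaf (42, 0)) (.leaf (1953, 1))) (.leaf (897, 0))) (.node (.leaf (452, 1)) (.leaf (1385, 1))))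 (.node (.node (.leaf (243, 1)) (.leaf (1137, 0))) (.node (.leaf (676, 0)) (.leaf (1655, 1))))) (.node (.node (.node (.node (.leaf (139, 0)) (.leaf (2148, 1))) (.leaf (1014, 1))) (.node (.leaf (566, 0)) (.leaf (1524, 0)))) (.node (.node (.leaf (345, 1)) (.leaf (1251, 0))) (.node (.leaf (781, 1)) (.leaf (1801, 1)))))) (.node (.node (.node (.node (.node (.leaf (90, 0)) (.leaf (2023, 1))) (.leaf (953, 1))) (.node (.leaf (508, 1)) (.leaf (1452, 1)))) (.node (.node (.leaf (293, 0)) (.leaf (1195, 0))) (.node (.leaf (727, 1)) (.leaf (1731, 0))))) (.node (.node (.node (.node (.leaf (190, 1)) (.leaf (2283, 0))) (.leaf (1080, 0))) (.node (.leaf (622, 1)) (.leaf (1592, 0)))) (.node (.node (.leaf (400, 0)) (.leaf (1318, 0))) (.node (.leaf (839, 1)) (.leaf (1883, 1))))))))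

/-- data -/
def tree0p10 : Trie (ℕ × ℕ) := .node (.node (.node (.node (.node (.node (.node (.node (.leaf (6, 1)) (.leaf (1901, 1))) (.leaf (856, 0))) (.node (.leaf (413, 0)) (.leaf (1336, 1)))) (.node (.node (.leaf (203, 0)) (.leaf (1099, 0))) (.node (.leaf (636, 1)) (.leaf (1608, 0))))) (.node (.node (.node (.node (.leaf (102, 1)) (.leaf (2052, 0))) (.leaf (971, 0))) (.node (.leaf (524, 0)) (.leaf (1476, 1)))) (.node (.node (.leaf (306, 1)) (.leaf (1209, 0))) (.node (.leaf (743, 1)) (.leaf (1752, 1)))))) (.node (.node (.node (.node (.node (.leaf (54, 1)) (.leaf (1973, 1))) (.leaf (911, 0))) (.node (.leaf (467, 1)) (.leaf (1403, 0)))) (.node (.node (.leaf (257, 1)) (.leaf (1151, 0))) (.node (.leaf (690, 0)) (.leaf (1675, 0))))) (.node (.node (.node (.node (.leaf (153, 0)) (.leaf (2180, 1))) (.leaf (1029, 0))) (.node (.leaf (582, 0)) (.leaf (1539, 1)))) (.node (.node (.leaf (359, 0)) (.leaf (1266, 1))) (.node (.leaf (794, 0)) (.leaf (1824, 1))))))) (.node (.node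 (.node (.node (.node (.node (.leaf (30, 1)) (.leaf (1935, 0))) (.leaf (883, 1))) (.node (.leaf (440, 1)) (.leaf (1373, 0)))) (.node (.node (.leaf (231, 1)) (.leaf (1125, 0))) (.node (.leaf (663, 1)) (.leaf (1641, 1))))) (.node (.node (.node (.node (.leaf (127, 0)) (.leaf (2099, 0))) (.leaf (1002, 0))) (.node (.leaf (552, 1)) (.leaf (1508, 1)))) (.node (.node (.leaf (331, 1)) (.leaf (1239, 0))) (.node (.leaf (770, 1)) (.leaf (1785, 1)))))) (.node (.node (.node (.node (.node (.leaf (78, 1)) (.leaf (2007, 1))) (.leaf (938, 1))) (.node (.leaf (495, 1)) (.leaf (1436, 1)))) (.node (.node (.leaf (282, 0)) (.leaf (1181, 1))) (.node (.leaf (713, 1)) (.leaf (1712, 0))))) (.node (.node (.node (.node (.leaf (177, 0)) (.leaf (2250, 0))) (.leaf (1065, 1))) (.node (.leaf (611, 1)) (.leaf (1571, 1)))) (.node (.node (.leaf (388, 1)) (.leaf (1302, 1))) (.node (.leaf (825, 1)) (.leaf (1861, 1)))))))) (.node (.node (.node (.node (.node (.node (.node (.leaf (18, 0)) (.leaf (1921,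 1))) (.leaf (870, 1))) (.node (.leaf (428, 0)) (.leaf (1357, 1)))) (.node (.node (.leaf (217, 1)) (.leaf (1112, 0))) (.node (.leaf (650, 1)) (.leaf (1623, 1))))) (.node (.node (.node (.node (.leaf (114, 1)) (.leaf (2072, 1))) (.leaf (988, 0))) (.node (.leaf (536, 1)) (.leaf (1494, 1)))) (.node (.node (.leaf (319, 0)) (.leaf (1223, 1))) (.node (.leaf (756, 0)) (.leaf (1766, 1)))))) (.node (.node (.node (.node (.node (.leaf (66, 1)) (.leaf (1992, 0))) (.leaf (925, 1))) (.node (.leaf (481, 1)) (.leaf (1417, 1)))) (.node (.node (.leaf (269, 1)) (.leaf (1163, 1))) (.node (.leaf (701, 1)) (.leaf (1691, 1))))) (.node (.node (.node (.node (.leaf (165, 0)) (.leaf (2207, 1))) (.leaf (1047, 1))) (.node (.leaf (597, 1)) (.leaf (1551, 0)))) (.node (.node (.leaf (375, 1)) (.leaf (1286, 1))) (.node (.leaf (809, 1)) (.leaf (1843, 1))))))) (.node (.node (.node (.node (.node (.node (.leaf (42, 1)) (.leaf (1954, 0))) (.leaf (898, 0))) (.node (.leaf (453, 1)) (.leaf (1386, 0))))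 (.node (.node (.leaf (244, 0)) (.leaf (1137, 1))) (.node (.leaf (676, 1)) (.leaf (1657, 0))))) (.node (.node (.node (.node (.leaf (139, 1)) (.leaf (2149, 1))) (.leaf (1016, 1))) (.node (.leaf (567, 1)) (.leaf (1525, 1)))) (.node (.node (.leaf (346, 0)) (.leaf (1252, 0))) (.node (.leaf (782, 1)) (.leaf (1802, 1)))))) (.node (.node (.node (.node (.node (.leaf (90, 1)) (.leaf (2027, 0))) (.leaf (954, 0))) (.node (.leaf (509, 1)) (.leaf (1456, 1)))) (.node (.node (.leaf (293, 1)) (.leaf (1196, 0))) (.node (.leaf (728, 1)) (.leaf (1731, 1))))) (.node (.node (.node (.node (.leaf (191, 0)) (.leaf (2284, 0))) (.leaf (1080, 1))) (.node (.leaf (623, 0)) (.leaf (1593, 1)))) (.node (.node (.leaf (400, 1)) (.leaf (1319, 0))) (.node (.leaf (841, 0)) (.leaf (1885, 1))))))))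

/-- data -/
def tree0p11 : Trie (ℕ × ℕ) := .node (.node (.node (.node (.node (.node (.node (.node (.leaf (7, 0)) (.leaf (1904, 1))) (.leaf (857, 0))) (.node (.leaf (413, 1)) (.leaf (1337, 1)))) (.node (.node (.leaf (204, 1)) (.leaf (1100, 1))) (.node (.leaf (637, 1)) (.leaf (1609, 0))))) (.node (.node (.node (.node (.leaf (103, 1)) (.leaf (2052, 1))) (.leaf (972, 0))) (.node (.leaf (524, 1)) (.leaf (1477, 1)))) (.node (.node (.leaf (307, 1)) (.leaf (1210, 0))) (.node (.leaf (744, 0)) (.leaf (1753, 0)))))) (.node (.node (.node (.node (.node (.leaf (55, 0)) (.leaf (1974, 0))) (.leaf (912, 1))) (.node (.leaf (468, 1)) (.leaf (1404, 0)))) (.node (.node (.leaf (258, 0)) (.leaf (1151, 1))) (.node (.leaf (690, 1)) (.leaf (1676, 1))))) (.node (.node (.node (.node (.leaf (154, 1)) (.leaf (2181, 0))) (.leaf (1029, 1))) (.node (.leaf (583, 1)) (.leaf (1540, 1)))) (.node (.node (.leaf (359, 1)) (.leaf (1267, 1))) (.node (.leaf (794, 1)) (.leaf (1825, 0))))))) (.node (.node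 (.node (.node (.node (.node (.leaf (31, 1)) (.leaf (1937, 0))) (.leaf (886, 1))) (.node (.leaf (441, 0)) (.leaf (1373, 1)))) (.node (.node (.leaf (232, 0)) (.leaf (1125, 1))) (.node (.leaf (664, 1)) (.leaf (1642, 0))))) (.node (.node (.node (.node (.leaf (128, 1)) (.leaf (2107, 1))) (.leaf (1002, 1))) (.node (.leaf (553, 0)) (.leaf (1509, 1)))) (.node (.node (.leaf (333, 0)) (.leaf (1240, 1))) (.node (.leaf (771, 0)) (.leaf (1787, 0)))))) (.node (.node (.node (.node (.node (.leaf (79, 1)) (.leaf (2008, 0))) (.leaf (939, 1))) (.node (.leaf (496, 0)) (.leaf (1437, 0)))) (.node (.node (.leaf (283, 0)) (.leaf (1182, 0))) (.node (.leaf (714, 1)) (.leaf (1713, 0))))) (.node (.node (.node (.node (.leaf (178, 1)) (.leaf (2250, 1))) (.leaf (1067, 0))) (.node (.leaf (612, 0)) (.leaf (1573, 1)))) (.node (.node (.leaf (389, 0)) (.leaf (1303, 1))) (.node (.leaf (826, 0)) (.leaf (1863, 1)))))))) (.node (.node (.node (.node (.node (.node (.node (.leaf (18, 1)) (.leaf (1922,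 1))) (.leaf (871, 1))) (.node (.leaf (428, 1)) (.leaf (1359, 1)))) (.node (.node (.leaf (218, 1)) (.leaf (1112, 1))) (.node (.leaf (651, 0)) (.leaf (1625, 1))))) (.node (.node (.node (.node (.leaf (115, 1)) (.leaf (2073, 1))) (.leaf (989, 0))) (.node (.leaf (537, 0)) (.leaf (1495, 1)))) (.node (.node (.leaf (320, 0)) (.leaf (1224, 0))) (.node (.leaf (757, 0)) (.leaf (1768, 1)))))) (.node (.node (.node (.node (.node (.leaf (67, 0)) (.leaf (1993, 0))) (.leaf (926, 0))) (.node (.leaf (483, 0)) (.leaf (1418, 1)))) (.node (.node (.leaf (270, 0)) (.leaf (1165, 0))) (.node (.leaf (702, 0)) (.leaf (1692, 1))))) (.node (.node (.node (.node (.leaf (166, 1)) (.leaf (2208, 0))) (.leaf (1048, 1))) (.node (.leaf (598, 0)) (.leaf (1552, 1)))) (.node (.node (.leaf (376, 1)) (.leaf (1288, 0))) (.node (.leaf (810, 0)) (.leaf (1844, 1))))))) (.node (.node (.node (.node (.node (.node (.leaf (43, 0)) (.leaf (1956, 0))) (.leaf (898, 1))) (.node (.leaf (455, 0)) (.leaf (1387, 1))))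 (.node (.node (.leaf (244, 1)) (.leaf (1138, 0))) (.node (.leaf (677, 1)) (.leaf (1657, 1))))) (.node (.node (.node (.node (.leaf (140, 1)) (.leaf (2151, 0))) (.leaf (1017, 0))) (.node (.leaf (568, 1)) (.leaf (1526, 1)))) (.node (.node (.leaf (346, 1)) (.leaf (1252, 1))) (.node (.leaf (783, 0)) (.leaf (1803, 1)))))) (.node (.node (.node (.node (.node (.leaf (91, 1)) (.leaf (2028, 0))) (.leaf (954, 1))) (.node (.leaf (510, 1)) (.leaf (1458, 0)))) (.node (.node (.leaf (294, 1)) (.leaf (1196, 1))) (.node (.leaf (729, 1)) (.leaf (1732, 1))))) (.node (.node (.node (.node (.leaf (191, 1)) (.leaf (2289, 1))) (.leaf (1081, 1))) (.node (.leaf (624, 0)) (.leaf (1594, 1)))) (.node (.node (.leaf (401, 1)) (.leaf (1319, 1))) (.node (.leaf (842, 1)) (.leaf (1886, 1))))))))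

/-- data -/
def tree0p12 : Trie (ℕ × ℕ) := .node (.node (.node (.node (.node (.node (.node (.node (.leaf (8, 0)) (.leaf (1905, 1))) (.leaf (858, 0))) (.node (.leaf (414, 1)) (.leaf (1339, 1)))) (.node (.node (.leaf (205, 0)) (.leaf (1102, 0))) (.node (.leaf (638, 0)) (.leaf (1609, 1))))) (.node (.node (.node (.node (.leaf (104, 0)) (.leaf (2053, 1))) (.leaf (973, 0))) (.node (.leaf (525, 1)) (.leaf (1478, 0)))) (.node (.node (.leaf (308, 0)) (.leaf (1210, 1))) (.node (.leaf (744, 1)) (.leaf (1754, 1)))))) (.node (.node (.node (.node (.node (.leaf (55, 1)) (.leaf (1975, 0))) (.leaf (913, 0))) (.node (.leaf (469, 0)) (.leaf (1404, 1)))) (.node (.node (.leaf (259, 0)) (.leaf (1152, 1))) (.node (.leaf (691, 0)) (.leaf (1677, 0))))) (.node (.node (.node (.node (.leaf (155, 0)) (.leaf (2182, 1))) (.leaf (1030, 1))) (.node (.leaf (584, 0)) (.leaf (1541, 1)))) (.node (.node (.leaf (361, 1)) (.leaf (1268, 1))) (.node (.leaf (795, 1)) (.leaf (1826, 0))))))) (.node (.node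 (.node (.node (.node (.node (.leaf (32, 0)) (.leaf (1938, 0))) (.leaf (887, 0))) (.node (.leaf (442, 1)) (.leaf (1374, 0)))) (.node (.node (.leaf (233, 0)) (.leaf (1127, 1))) (.node (.leaf (665, 0)) (.leaf (1643, 1))))) (.node (.node (.node (.node (.leaf (129, 0)) (.leaf (2108, 0))) (.leaf (1003, 1))) (.node (.leaf (554, 0)) (.leaf (1510, 1)))) (.node (.node (.leaf (335, 1)) (.leaf (1241, 0))) (.node (.leaf (772, 0)) (.leaf (1787, 1)))))) (.node (.node (.node (.node (.node (.leaf (80, 0)) (.leaf (2009, 1))) (.leaf (940, 1))) (.node (.leaf (496, 1)) (.leaf (1437, 1)))) (.node (.node (.leaf (283, 1)) (.leaf (1182, 1))) (.node (.leaf (715, 1)) (.leaf (1714, 0))))) (.node (.node (.node (.node (.leaf (179, 0)) (.leaf (2254, 1))) (.leaf (1067, 1))) (.node (.leaf (613, 0)) (.leaf (1575, 1)))) (.node (.node (.leaf (390, 0)) (.leaf (1304, 1))) (.node (.leaf (827, 1)) (.leaf (1864, 1)))))))) (.node (.node (.node (.node (.node (.node (.node (.leaf (19, 1)) (.leaf (1923,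 0))) (.leaf (872, 0))) (.node (.leaf (429, 1)) (.leaf (1360, 1)))) (.node (.node (.leaf (219, 0)) (.leaf (1113, 0))) (.node (.leaf (652, 0)) (.leaf (1626, 0))))) (.node (.node (.node (.node (.leaf (116, 0)) (.leaf (2075, 1))) (.leaf (989, 1))) (.node (.leaf (538, 1)) (.leaf (1497, 0)))) (.node (.node (.leaf (320, 1)) (.leaf (1225, 1))) (.node (.leaf (758, 1)) (.leaf (1771, 1)))))) (.node (.node (.node (.node (.node (.leaf (68, 0)) (.leaf (1993, 1))) (.leaf (926, 1))) (.node (.leaf (483, 1)) (.leaf (1419, 1)))) (.node (.node (.leaf (271, 1)) (.leaf (1166, 1))) (.node (.leaf (703, 0)) (.leaf (1693, 0))))) (.node (.node (.node (.node (.leaf (167, 0)) (.leaf (2212, 1))) (.leaf (1049, 1))) (.node (.leaf (598, 1)) (.leaf (1553, 0)))) (.node (.node (.leaf (377, 1)) (.leaf (1289, 0))) (.node (.leaf (811, 1)) (.leaf (1845, 0))))))) (.node (.node (.node (.node (.node (.node (.leaf (43, 1)) (.leaf (1960, 1))) (.leaf (899, 0))) (.node (.leaf (455, 1)) (.leaf (1388, 0))))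 (.node (.node (.leaf (245, 1)) (.leaf (1138, 1))) (.node (.leaf (678, 1)) (.leaf (1658, 1))))) (.node (.node (.node (.node (.leaf (141, 0)) (.leaf (2156, 1))) (.leaf (1018, 1))) (.node (.leaf (569, 0)) (.leaf (1527, 0)))) (.node (.node (.leaf (347, 1)) (.leaf (1254, 0))) (.node (.leaf (784, 0)) (.leaf (1804, 0)))))) (.node (.node (.node (.node (.node (.leaf (92, 1)) (.leaf (2029, 0))) (.leaf (955, 1))) (.node (.leaf (511, 0)) (.leaf (1459, 1)))) (.node (.node (.leaf (295, 0)) (.leaf (1197, 1))) (.node (.leaf (730, 0)) (.leaf (1736, 1))))) (.node (.node (.node (.node (.leaf (192, 1)) (.leaf (2292, 0))) (.leaf (1083, 0))) (.node (.leaf (624, 1)) (.leaf (1595, 1)))) (.node (.node (.leaf (402, 1)) (.leaf (1320, 1))) (.node (.leaf (843, 0)) (.leaf (1887, 0))))))))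

/-- data -/
def tree0p13 : Trie (ℕ × ℕ) := .node (.node (.node (.node (.node (.node (.node (.node (.leaf (8, 1)) (.leaf (1906, 1))) (.leaf (858, 1))) (.node (.leaf (415, 0)) (.leaf (1343, 1)))) (.node (.node (.leaf (206, 0)) (.leaf (1102, 1))) (.node (.leaf (640, 0)) (.leaf (1610, 1))))) (.node (.node (.node (.node (.leaf (105, 1)) (.leaf (2054, 1))) (.leaf (973, 1))) (.node (.leaf (526, 0)) (.leaf (1479, 1)))) (.node (.node (.leaf (308, 1)) (.leaf (1211, 1))) (.node (.leaf (745, 1)) (.leaf (1755, 0)))))) (.node (.node (.node (.node (.node (.leaf (56, 1)) (.leaf (1975, 1))) (.leaf (913, 1))) (.node (.leaf (470, 0)) (.leaf (1405, 0)))) (.node (.node (.leaf (259, 1)) (.leaf (1153, 0))) (.node (.leaf (692, 0)) (.leaf (1677, 1))))) (.node (.node (.node (.node (.leaf (155, 1)) (.leaf (2184, 0))) (.leaf (1033, 0))) (.node (.leaf (585, 0)) (.leaf (1542, 0)))) (.node (.node (.leaf (362, 1)) (.leaf (1269, 0))) (.node (.leaf (796, 1)) (.leaf (1826, 1))))))) (.node (.node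 (.node (.node (.node (.node (.leaf (33, 0)) (.leaf (1939, 1))) (.leaf (887, 1))) (.node (.leaf (443, 0)) (.leaf (1374, 1)))) (.node (.node (.leaf (233, 1)) (.leaf (1128, 0))) (.node (.leaf (666, 1)) (.leaf (1644, 0))))) (.node (.node (.node (.node (.leaf (130, 0)) (.leaf (2111, 0))) (.leaf (1004, 0))) (.node (.leaf (554, 1)) (.leaf (1511, 0)))) (.node (.node (.leaf (336, 0)) (.leaf (1242, 0))) (.node (.leaf (772, 1)) (.leaf (1788, 0)))))) (.node (.node (.node (.node (.node (.leaf (80, 1)) (.leaf (2011, 1))) (.leaf (941, 0))) (.node (.leaf (497, 1)) (.leaf (1438, 1)))) (.node (.node (.leaf (284, 1)) (.leaf (1183, 0))) (.node (.leaf (716, 1)) (.leaf (1716, 0))))) (.node (.node (.node (.node (.leaf (180, 0)) (.leaf (2256, 1))) (.leaf (1068, 1))) (.node (.leaf (613, 1)) (.leaf (1577, 1)))) (.node (.node (.leaf (390, 1)) (.leaf (1305, 0))) (.node (.leaf (829, 1)) (.leaf (1866, 1)))))))) (.node (.node (.node (.node (.node (.node (.node (.leaf (20, 1)) (.leaf (1923,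 1))) (.leaf (873, 1))) (.node (.leaf (430, 1)) (.leaf (1361, 0)))) (.node (.node (.leaf (219, 1)) (.leaf (1114, 0))) (.node (.leaf (652, 1)) (.leaf (1627, 1))))) (.node (.node (.node (.node (.leaf (117, 0)) (.leaf (2076, 1))) (.leaf (990, 1))) (.node (.leaf (540, 1)) (.leaf (1497, 1)))) (.node (.node (.leaf (321, 1)) (.leaf (1226, 1))) (.node (.leaf (759, 0)) (.leaf (1772, 0)))))) (.node (.node (.node (.node (.node (.leaf (68, 1)) (.leaf (1994, 0))) (.leaf (927, 1))) (.node (.leaf (484, 1)) (.leaf (1420, 0)))) (.node (.node (.leaf (272, 0)) (.leaf (1167, 1))) (.node (.leaf (703, 1)) (.leaf (1694, 1))))) (.node (.node (.node (.node (.leaf (168, 0)) (.leaf (2213, 0))) (.leaf (1050, 0))) (.node (.leaf (599, 1)) (.leaf (1554, 1)))) (.node (.node (.leaf (378, 0)) (.leaf (1289, 1))) (.node (.leaf (812, 1)) (.leaf (1846, 0))))))) (.node (.node (.node (.node (.node (.node (.leaf (44, 1)) (.leaf (1961, 0))) (.leaf (899, 1))) (.node (.leaf (456, 0)) (.leaf (1389, 1))))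 (.node (.node (.leaf (246, 0)) (.leaf (1139, 0))) (.node (.leaf (679, 0)) (.leaf (1660, 0))))) (.node (.node (.node (.node (.leaf (141, 1)) (.leaf (2158, 0))) (.leaf (1019, 1))) (.node (.leaf (570, 0)) (.leaf (1528, 0)))) (.node (.node (.leaf (348, 0)) (.leaf (1255, 1))) (.node (.leaf (784, 1)) (.leaf (1805, 0)))))) (.node (.node (.node (.node (.node (.leaf (93, 0)) (.leaf (2029, 1))) (.leaf (956, 1))) (.node (.leaf (512, 0)) (.leaf (1460, 0)))) (.node (.node (.leaf (296, 1)) (.leaf (1198, 1))) (.node (.leaf (731, 1)) (.leaf (1738, 0))))) (.node (.node (.node (.node (.leaf (193, 1)) (.leaf (2295, 0))) (.leaf (1084, 1))) (.node (.leaf (625, 0)) (.leaf (1596, 1)))) (.node (.node (.leaf (403, 0)) (.leaf (1322, 1))) (.node (.leaf (844, 1)) (.leaf (1888, 1))))))))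

/-- data -/
def tree0p14 : Trie (ℕ × ℕ) := .node (.node (.node (.node (.node (.node (.node (.node (.leaf (9, 1)) (.leaf (1907, 0))) (.leaf (859, 1))) (.node (.leaf (416, 1)) (.leaf (1344, 0)))) (.node (.node (.leaf (206, 1)) (.leaf (1103, 1))) (.node (.leaf (641, 0)) (.leaf (1611, 1))))) (.node (.node (.node (.node (.leaf (106, 0)) (.leaf (2055, 1))) (.leaf (974, 1))) (.node (.leaf (527, 1)) (.leaf (1480, 1)))) (.node (.node (.leaf (309, 1)) (.leaf (1212, 0))) (.node (.leaf (746, 0)) (.leaf (1756, 1)))))) (.node (.node (.node (.node (.node (.leaf (57, 1)) (.leaf (1976, 1))) (.leaf (914, 1))) (.node (.leaf (471, 1)) (.leaf (1405, 1)))) (.node (.node (.leaf (260, 1)) (.leaf (1153, 1))) (.node (.leaf (692, 1)) (.leaf (1678, 0))))) (.node (.node (.node (.node (.leaf (156, 1)) (.leaf (2185, 1))) (.leaf (1034, 1))) (.node (.leaf (585, 1)) (.leaf (1543, 0)))) (.node (.node (.leaf (363, 1)) (.leaf (1270, 1))) (.node (.leaf (797, 0)) (.leaf (1827, 1))))))) (.node (.node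 (.node (.node (.node (.node (.leaf (33, 1)) (.leaf (1940, 0))) (.leaf (888, 1))) (.node (.leaf (444, 0)) (.leaf (1375, 1)))) (.node (.node (.leaf (234, 1)) (.leaf (1129, 1))) (.node (.leaf (667, 1)) (.leaf (1645, 0))))) (.node (.node (.node (.node (.leaf (130, 1)) (.leaf (2111, 1))) (.leaf (1005, 0))) (.node (.leaf (555, 1)) (.leaf (1512, 1)))) (.node (.node (.leaf (337, 0)) (.leaf (1243, 0))) (.node (.leaf (773, 1)) (.leaf (1790, 0)))))) (.node (.node (.node (.node (.node (.leaf (81, 1)) (.leaf (2012, 1))) (.leaf (942, 1))) (.node (.leaf (498, 1)) (.leaf (1440, 1)))) (.node (.node (.leaf (285, 0)) (.leaf (1184, 0))) (.node (.leaf (717, 1)) (.leaf (1716, 1))))) (.node (.node (.node (.node (.leaf (180, 1)) (.leaf (2258, 1))) (.leaf (1070, 1))) (.node (.leaf (614, 0)) (.leaf (1579, 0)))) (.node (.node (.leaf (391, 1)) (.leaf (1306, 1))) (.node (.leaf (830, 1)) (.leaf (1867, 1)))))))) (.node (.node (.node (.node (.node (.node (.node (.leaf (21, 0)) (.leaf (1924,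 1))) (.leaf (874, 0))) (.node (.leaf (431, 0)) (.leaf (1363, 1)))) (.node (.node (.leaf (220, 1)) (.leaf (1114, 1))) (.node (.leaf (653, 1)) (.leaf (1628, 1))))) (.node (.node (.node (.node (.leaf (117, 1)) (.leaf (2078, 0))) (.leaf (991, 1))) (.node (.leaf (541, 0)) (.leaf (1498, 0)))) (.node (.node (.leaf (322, 0)) (.leaf (1227, 0))) (.node (.leaf (760, 1)) (.leaf (1773, 1)))))) (.node (.node (.node (.node (.node (.leaf (69, 1)) (.leaf (1994, 1))) (.leaf (928, 0))) (.node (.leaf (485, 1)) (.leaf (1421, 0)))) (.node (.node (.leaf (273, 0)) (.leaf (1168, 1))) (.node (.leaf (704, 1)) (.leaf (1696, 0))))) (.node (.node (.node (.node (.leaf (168, 1)) (.leaf (2214, 0))) (.leaf (1052, 1))) (.node (.leaf (600, 1)) (.leaf (1555, 1)))) (.node (.node (.leaf (379, 0)) (.leaf (1290, 1))) (.node (.leaf (813, 0)) (.leaf (1847, 1))))))) (.node (.node (.node (.node (.node (.node (.leaf (45, 1)) (.leaf (1962, 1))) (.leaf (900, 1))) (.node (.leaf (456, 1)) (.leaf (1390, 1))))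 (.node (.node (.leaf (247, 0)) (.leaf (1139, 1))) (.node (.leaf (680, 0)) (.leaf (1661, 1))))) (.node (.node (.node (.node (.leaf (142, 1)) (.leaf (2158, 1))) (.leaf (1020, 1))) (.node (.leaf (570, 1)) (.leaf (1529, 1)))) (.node (.node (.leaf (348, 1)) (.leaf (1256, 1))) (.node (.leaf (785, 1)) (.leaf (1805, 1)))))) (.node (.node (.node (.node (.node (.leaf (94, 0)) (.leaf (2030, 0))) (.leaf (958, 1))) (.node (.leaf (512, 1)) (.leaf (1462, 1)))) (.node (.node (.leaf (297, 0)) (.leaf (1199, 0))) (.node (.leaf (732, 0)) (.leaf (1739, 1))))) (.node (.node (.node (.node (.leaf (194, 0)) (.leaf (2297, 1))) (.leaf (1085, 0))) (.node (.leaf (625, 1)) (.leaf (1597, 1)))) (.node (.node (.leaf (404, 0)) (.leaf (1323, 0))) (.node (.leaf (845, 1)) (.leaf (1889, 0))))))))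

/-- data -/
def tree0p15 : Trie (ℕ × ℕ) := .node (.node (.node (.node (.node (.node (.node (.node (.leaf (10, 0)) (.leaf (1909, 0))) (.leaf (860, 1))) (.node (.leaf (417, 0)) (.leaf (1345, 1)))) (.node (.node (.leaf (207, 0)) (.leaf (1104, 0))) (.node (.leaf (641, 1)) (.leaf (1612, 0))))) (.node (.node (.node (.node (.leaf (107, 0)) (.leaf (2057, 0))) (.leaf (975, 0))) (.node (.leaf (528, 0)) (.leaf (1482, 0)))) (.node (.node (.leaf (310, 0)) (.leaf (1212, 1))) (.node (.leaf (746, 1)) (.leaf (1757, 1)))))) (.node (.node (.node (.node (.node (.leaf (58, 0)) (.leaf (1978, 0))) (.leaf (915, 0))) (.node (.leaf (472, 0)) (.leaf (1406, 1)))) (.node (.node (.leaf (261, 0)) (.leaf (1154, 0))) (.node (.leaf (693, 0)) (.leaf (1679, 1))))) (.node (.node (.node (.node (.leaf (157, 1)) (.leaf (2186, 1))) (.leaf (1035, 1))) (.node (.leaf (587, 0)) (.leaf (1543, 1)))) (.node (.node (.leaf (365, 1)) (.leaf (1271, 0))) (.node (.leaf (798, 1)) (.leaf (1829, 1))))))) (.node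 (.node (.node (.node (.node (.node (.leaf (34, 0)) (.leaf (1941, 0))) (.leaf (889, 0))) (.node (.leaf (444, 1)) (.leaf (1376, 0)))) (.node (.node (.leaf (235, 0)) (.leaf (1130, 0))) (.node (.leaf (668, 0)) (.leaf (1645, 1))))) (.node (.node (.node (.node (.leaf (131, 1)) (.leaf (2122, 1))) (.leaf (1005, 1))) (.node (.leaf (556, 0)) (.leaf (1514, 0)))) (.node (.node (.leaf (337, 1)) (.leaf (1243, 1))) (.node (.leaf (774, 0)) (.leaf (1793, 0)))))) (.node (.node (.node (.node (.node (.leaf (82, 1)) (.leaf (2013, 1))) (.leaf (943, 1))) (.node (.leaf (500, 1)) (.leaf (1441, 0)))) (.node (.node (.leaf (286, 0)) (.leaf (1184, 1))) (.node (.leaf (718, 0)) (.leaf (1718, 0))))) (.node (.node (.node (.node (.leaf (181, 0)) (.leaf (2262, 0))) (.leaf (1071, 1))) (.node (.leaf (614, 1)) (.leaf (1580, 1)))) (.node (.node (.leaf (392, 0)) (.leaf (1307, 0))) (.node (.leaf (831, 1)) (.leaf (1869, 0)))))))) (.node (.node (.node (.node (.node (.node (.node (.leaf (22, 0)) (.leaf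 (1925, 0))) (.leaf (875, 0))) (.node (.leaf (432, 1)) (.leaf (1364, 1)))) (.node (.node (.leaf (221, 1)) (.leaf (1115, 1))) (.node (.leaf (654, 0)) (.leaf (1629, 1))))) (.node (.node (.node (.node (.leaf (118, 1)) (.leaf (2080, 0))) (.leaf (992, 1))) (.node (.leaf (541, 1)) (.leaf (1499, 1)))) (.node (.node (.leaf (322, 1)) (.leaf (1228, 0))) (.node (.leaf (761, 0)) (.leaf (1774, 1)))))) (.node (.node (.node (.node (.node (.leaf (70, 1)) (.leaf (1995, 1))) (.leaf (928, 1))) (.node (.leaf (486, 0)) (.leaf (1422, 1)))) (.node (.node (.leaf (273, 1)) (.leaf (1169, 0))) (.node (.leaf (705, 0)) (.leaf (1696, 1))))) (.node (.node (.node (.node (.leaf (169, 0)) (.leaf (2216, 0))) (.leaf (1053, 1))) (.node (.leaf (601, 0)) (.leaf (1556, 0)))) (.node (.node (.leaf (379, 1)) (.leaf (1291, 0))) (.node (.leaf (814, 0)) (.leaf (1848, 0))))))) (.node (.node (.node (.node (.node (.node (.leaf (46, 0)) (.leaf (1963, 1))) (.leaf (901, 1))) (.node (.leaf (457, 1)) (.leaf (1391,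 0)))) (.node (.node (.leaf (247, 1)) (.leaf (1141, 0))) (.node (.leaf (681, 0)) (.leaf (1662, 1))))) (.node (.node (.node (.node (.leaf (143, 1)) (.leaf (2159, 1))) (.leaf (1021, 0))) (.node (.leaf (571, 1)) (.leaf (1530, 1)))) (.node (.node (.leaf (349, 1)) (.leaf (1257, 0))) (.node (.leaf (786, 0)) (.leaf (1806, 0)))))) (.node (.node (.node (.node (.node (.leaf (94, 1)) (.leaf (2031, 1))) (.leaf (960, 1))) (.node (.leaf (513, 0)) (.leaf (1463, 0)))) (.node (.node (.leaf (298, 0)) (.leaf (1200, 1))) (.node (.leaf (733, 1)) (.leaf (1740, 0))))) (.node (.node (.node (.node (.leaf (195, 0)) (.leaf (2302, 0))) (.leaf (1086, 1))) (.node (.leaf (626, 1)) (.leaf (1598, 0)))) (.node (.node (.leaf (404, 1)) (.leaf (1325, 1))) (.node (.leaf (846, 0)) (.leaf (1889, 1))))))))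

/-- data -/
def tree0 : Trie (ℕ × ℕ) := .node (.node (.node (.node (tree0p0) (tree0p8)) (.node (tree0p4) (tree0p12))) (.node (.node (tree0p2) (tree0p10)) (.node (tree0p6) (tree0p14)))) (.node (.node (.node (tree0p1) (tree0p9)) (.node (tree0p5) (tree0p13))) (.node (.node (tree0p3) (tree0p11)) (.node (tree0p7) (tree0p15))))

/-- data -/
def cert0p0 : Trie (ℕ × ℕ × ℕ) := .node (.node (.node (.node (.node (.node (.node (.node (.leaf (0, 0, 15)) (.leaf (8, 373, 46))) (.leaf (4, 140, 2))) (.node (.leaf (3, 1025, 1)) (.leaf (4, 1939, 2)))) (.node (.node (.node (.leaf (3, 476, 1)) (.leaf (8, 1607, 15))) (.leaf (4, 860, 2))) (.node (.leaf (3, 1660, 1)) (.leaf (4, 1580, 1))))) (.node (.node (.node (.node (.leaf (3, 229, 1)) (.leaf (4, 2297, 1))) (.leaf (4, 492, 2))) (.node (.leaf (3, 1318, 1)) (.leaf (7, 4, 16)))) (.node (.node (.leaf (3, 746, 1)) (.leaf (4, 1325, 2))) (.node (.leaf (3, 2004, 1)) (.leaf (5, 1346, 15)))))) (.node (.node (.node (.node (.node (.leaf (3,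 107, 1)) (.leaf (8, 1367, 46))) (.leaf (4, 300, 2))) (.node (.leaf (3, 1169, 1)) (.leaf (5, 138, 9)))) (.node (.node (.leaf (3, 613, 1)) (.leaf (4, 1065, 2))) (.node (.leaf (3, 1830, 1)) (.leaf (7, 220, 20))))) (.node (.node (.node (.node (.leaf (3, 348, 1)) (.leaf (6, 1196, 16))) (.leaf (4, 662, 2))) (.node (.leaf (3, 1486, 1)) (.leaf (6, 1246, 18)))) (.node (.node (.leaf (3, 878, 1)) (.leaf (4, 1599, 2))) (.node (.leaf (3, 2284, 1)) (.leaf (7, 790, 3))))))) (.node (.node (.node (.node (.node (.node (.leaf (3, 51, 1)) (.leaf (8, 703, 6))) (.leaf (4, 221, 2))) (.node (.leaf (3, 1111, 1)) (.leaf (5, 20, 9)))) (.node (.node (.leaf (3, 541, 1)) (.leaf (4, 956, 2))) (.node (.leaf (3, 1747, 1)) (.leaf (7, 368, 11))))) (.node (.node (.node (.node (.leaf (3, 289, 1)) (.leaf (5, 1294, 9))) (.leaf (4, 573, 2))) (.node (.leaf (3, 1395, 1)) (.leaf (6, 375, 5)))) (.node (.node (.leaf (3, 809, 1)) (.leaf (4, 1447, 2))) (.node (.leaf (3, 2147, 1)) (.leaf (7, 20, 13))))))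 (.node (.node (.node (.node (.node (.leaf (3, 167, 1)) (.leaf (4, 1286, 1))) (.leaf (4, 393, 2))) (.node (.leaf (3, 1241, 1)) (.leaf (6, 17, 15)))) (.node (.node (.leaf (3, 679, 1)) (.leaf (4, 1198, 2))) (.node (.leaf (3, 1925, 1)) (.leaf (4, 804, 2))))) (.node (.node (.node (.node (.leaf (3, 415, 1)) (.leaf (7, 1350, 23))) (.leaf (4, 754, 2))) (.node (.leaf (3, 1560, 1)) (.leaf (5, 61, 9)))) (.node (.node (.leaf (3, 961, 1)) (.leaf (4, 1756, 2))) (.node (.leaf (4, 65, 2)) (.leaf (8, 89, 11)))))))) (.node (.node (.node (.node (.node (.node (.node (.leaf (3, 22, 1)) (.leaf (8, 548, 49))) (.leaf (4, 182, 2))) (.node (.leaf (3, 1077, 1)) (.leaf (4, 2180, 2)))) (.node (.node (.leaf (3, 512, 1)) (.leaf (4, 916, 2))) (.node (.leaf (3, 1708, 1)) (.leaf (6, 221, 11))))) (.node (.node (.node (.node (.leaf (3, 261, 1)) (.leaf (5, 694, 15))) (.leaf (4, 534, 2))) (.node (.leaf (3, 1368, 1)) (.leaf (7, 62, 14)))) (.node (.node (.leaf (3, 777, 1)) (.leaf (4, 1387, 2))) (.node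 (.leaf (3, 2058, 1)) (.leaf (6, 384, 15)))))) (.node (.node (.node (.node (.node (.leaf (3, 137, 1)) (.leaf (8, 1949, 45))) (.leaf (4, 347, 2))) (.node (.leaf (3, 1209, 1)) (.leaf (5, 291, 9)))) (.node (.node (.leaf (3, 643, 1)) (.leaf (4, 1122, 2))) (.node (.leaf (3, 1878, 1)) (.leaf (8, 129, 7))))) (.node (.node (.node (.node (.leaf (3, 386, 1)) (.leaf (7, 670, 9))) (.leaf (4, 717, 2))) (.node (.leaf (3, 1528, 1)) (.leaf (6, 22, 6)))) (.node (.node (.leaf (3, 915, 1)) (.leaf (4, 1676, 2))) (.node (.leaf (4, 26, 2)) (.leaf (7, 1540, 13))))))) (.node (.node (.node (.node (.node (.node (.leaf (3, 78, 1)) (.leaf (8, 1019, 29))) (.leaf (4, 263, 2))) (.node (.leaf (3, 1136, 1)) (.leaf (5, 70, 9)))) (.node (.node (.leaf (3, 582, 1)) (.leaf (4, 1010, 2))) (.node (.leaf (3, 1787, 1)) (.leaf (4, 2171, 1))))) (.node (.node (.node (.node (.leaf (3, 319, 1)) (.leaf (6, 273, 18))) (.leaf (4, 626, 2))) (.node (.leaf (3, 1436, 1)) (.leaf (5, 110, 13)))) (.node (.node (.leaf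 (3, 850, 1)) (.leaf (4, 1529, 2))) (.node (.leaf (3, 2213, 1)) (.leaf (7, 249, 5)))))) (.node (.node (.node (.node (.node (.leaf (3, 196, 1)) (.leaf (4, 1945, 0))) (.leaf (4, 437, 2))) (.node (.leaf (3, 1266, 1)) (.leaf (6, 138, 15)))) (.node (.node (.leaf (3, 705, 1)) (.leaf (4, 1267, 2))) (.node (.leaf (3, 1972, 1)) (.leaf (5, 346, 9))))) (.node (.node (.node (.node (.leaf (3, 447, 1)) (.leaf (7, 1985, 9))) (.leaf (4, 799, 2))) (.node (.leaf (3, 1617, 1)) (.leaf (6, 8, 12)))) (.node (.node (.leaf (3, 994, 1)) (.leaf (4, 1844, 2))) (.node (.leaf (4, 102, 2)) (.leaf (8, 201, 28))))))))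

/-- data -/
def cert0p1 : Trie (ℕ × ℕ × ℕ) := .node (.node (.node (.node (.node (.node (.node (.node (.leaf (1, 0, 17)) (.leaf (8, 392, 17))) (.leaf (4, 142, 2))) (.node (.leaf (3, 1028, 1)) (.leaf (4, 1942, 2)))) (.node (.node (.leaf (3, 479, 1)) (.leaf (4, 866, 2))) (.node (.leaf (3, 1666, 1)) (.leaf (4, 2039, 1))))) (.node (.node (.node (.node (.leaf (3, 232, 1)) (.leaf (5, 86, 12))) (.leaf (4, 495, 2))) (.node (.leaf (3, 1319, 1)) (.leaf (7, 5, 14)))) (.node (.node (.leaf (3, 749, 1)) (.leaf (4, 1330, 2))) (.node (.leaf (3, 2006, 1)) (.leaf (5, 1460, 5)))))) (.node (.node (.node (.node (.node (.leaf (3, 109, 1)) (.leaf (8, 1384, 28))) (.leaf (4, 303, 2))) (.node (.leaf (3, 1176, 1)) (.leaf (5, 139, 11)))) (.node (.node (.leaf (3, 614, 1)) (.leaf (4, 1068, 2))) (.node (.leaf (3, 1834, 1)) (.leaf (7, 427, 18))))) (.node (.node (.node (.node (.leaf (3, 351, 1)) (.leaf (6, 1318, 19))) (.leaf (4, 664, 2))) (.node (.leaf (3, 1489, 1)) (.leaf (7, 26, 11)))) (.node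 (.node (.leaf (3, 880, 1)) (.leaf (4, 1605, 2))) (.node (.leaf (3, 2292, 1)) (.leaf (7, 803, 7))))))) (.node (.node (.node (.node (.node (.node (.leaf (3, 52, 1)) (.leaf (8, 704, 44))) (.leaf (4, 223, 2))) (.node (.leaf (3, 1112, 1)) (.leaf (5, 22, 9)))) (.node (.node (.leaf (3, 543, 1)) (.leaf (4, 960, 2))) (.node (.leaf (3, 1751, 1)) (.leaf (7, 370, 20))))) (.node (.node (.node (.node (.leaf (3, 292, 1)) (.leaf (5, 1298, 13))) (.leaf (4, 577, 2))) (.node (.leaf (3, 1396, 1)) (.leaf (7, 126, 17)))) (.node (.node (.leaf (3, 810, 1)) (.leaf (4, 1448, 2))) (.node (.leaf (3, 2151, 1)) (.leaf (7, 48, 15)))))) (.node (.node (.node (.node (.node (.leaf (3, 168, 1)) (.leaf (4, 1401, 1))) (.leaf (4, 396, 2))) (.node (.leaf (3, 1242, 1)) (.leaf (6, 18, 15)))) (.node (.node (.leaf (3, 680, 1)) (.leaf (4, 1200, 2))) (.node (.leaf (3, 1928, 1)) (.leaf (4, 817, 1))))) (.node (.node (.node (.node (.leaf (3, 417, 1)) (.leaf (7, 1397, 28))) (.leaf (4, 755, 2))) (.node (.leaf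 (3, 1567, 1)) (.leaf (5, 71, 11)))) (.node (.node (.leaf (3, 966, 1)) (.leaf (4, 1761, 2))) (.node (.leaf (4, 66, 2)) (.leaf (8, 92, 35)))))))) (.node (.node (.node (.node (.node (.node (.node (.leaf (3, 25, 1)) (.leaf (8, 549, 51))) (.leaf (4, 183, 2))) (.node (.leaf (3, 1080, 1)) (.leaf (4, 2185, 2)))) (.node (.node (.leaf (3, 513, 1)) (.leaf (4, 918, 2))) (.node (.leaf (3, 1710, 1)) (.leaf (6, 265, 18))))) (.node (.node (.node (.node (.leaf (3, 264, 1)) (.leaf (5, 719, 11))) (.leaf (4, 536, 2))) (.node (.leaf (3, 1369, 1)) (.leaf (7, 91, 20)))) (.node (.node (.leaf (3, 778, 1)) (.leaf (4, 1389, 2))) (.node (.leaf (3, 2061, 1)) (.leaf (6, 395, 9)))))) (.node (.node (.node (.node (.node (.leaf (3, 138, 1)) (.leaf (8, 2003, 6))) (.leaf (4, 350, 2))) (.node (.leaf (3, 1210, 1)) (.leaf (5, 302, 9)))) (.node (.node (.leaf (3, 646, 1)) (.leaf (4, 1129, 2))) (.node (.leaf (3, 1881, 1)) (.leaf (8, 145, 5))))) (.node (.node (.node (.node (.leaf (3, 389, 1)) (.leaf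 (7, 749, 15))) (.leaf (4, 719, 2))) (.node (.leaf (3, 1532, 1)) (.leaf (6, 80, 19)))) (.node (.node (.leaf (3, 917, 1)) (.leaf (4, 1679, 2))) (.node (.leaf (4, 30, 2)) (.leaf (7, 1795, 26))))))) (.node (.node (.node (.node (.node (.node (.leaf (3, 80, 1)) (.leaf (8, 1029, 32))) (.leaf (4, 266, 2))) (.node (.leaf (3, 1137, 1)) (.leaf (5, 72, 9)))) (.node (.node (.leaf (3, 584, 1)) (.leaf (4, 1011, 2))) (.node (.leaf (3, 1788, 1)) (.leaf (5, 329, 12))))) (.node (.node (.node (.node (.leaf (3, 320, 1)) (.leaf (6, 337, 17))) (.leaf (4, 627, 2))) (.node (.leaf (3, 1437, 1)) (.leaf (5, 169, 5)))) (.node (.node (.leaf (3, 851, 1)) (.leaf (4, 1530, 2))) (.node (.leaf (3, 2214, 1)) (.leaf (7, 251, 13)))))) (.node (.node (.node (.node (.node (.leaf (3, 200, 1)) (.leaf (4, 1949, 2))) (.leaf (4, 440, 2))) (.node (.leaf (3, 1269, 1)) (.leaf (6, 143, 11)))) (.node (.node (.leaf (3, 707, 1)) (.leaf (4, 1268, 2))) (.node (.leaf (3, 1974, 1)) (.leaf (5, 409, 12))))) (.node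 (.node (.node (.node (.leaf (3, 448, 1)) (.leaf (7, 1988, 26))) (.leaf (4, 812, 2))) (.node (.leaf (3, 1620, 1)) (.leaf (6, 49, 20)))) (.node (.node (.leaf (3, 995, 1)) (.leaf (4, 1847, 2))) (.node (.leaf (4, 103, 2)) (.leaf (8, 208, 8))))))))

/-- data -/
def cert0p2 : Trie (ℕ × ℕ × ℕ) := .node (.node (.node (.node (.node (.node (.node (.node (.leaf (2, 0, 17)) (.leaf (8, 401, 51))) (.leaf (4, 143, 2))) (.node (.leaf (3, 1029, 1)) (.leaf (4, 1963, 2)))) (.node (.node (.leaf (3, 480, 1)) (.leaf (4, 868, 2))) (.node (.leaf (3, 1667, 1)) (.leaf (5, 90, 13))))) (.node (.node (.node (.node (.leaf (3, 233, 1)) (.leaf (5, 181, 10))) (.leaf (4, 497, 2))) (.node (.leaf (3, 1323, 1)) (.leaf (7, 7, 19)))) (.node (.node (.leaf (3, 752, 1)) (.leaf (4, 1333, 2))) (.node (.leaf (3, 2008, 1)) (.leaf (5, 1678, 10)))))) (.node (.node (.node (.node (.node (.leaf (3, 110, 1)) (.leaf (8, 1425, 1))) (.leaf (4, 307, 2))) (.node (.leaf (3, 1180, 1)) (.leaf (5, 141, 5)))) (.node (.node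 (.leaf (3, 617, 1)) (.leaf (4, 1071, 2))) (.node (.leaf (3, 1839, 1)) (.leaf (7, 442, 9))))) (.node (.node (.node (.node (.leaf (3, 352, 1)) (.leaf (6, 1366, 14))) (.leaf (4, 670, 2))) (.node (.leaf (3, 1492, 1)) (.leaf (7, 39, 21)))) (.node (.node (.leaf (3, 883, 1)) (.leaf (4, 1607, 2))) (.node (.leaf (3, 2295, 1)) (.leaf (7, 808, 18))))))) (.node (.node (.node (.node (.node (.node (.leaf (3, 53, 1)) (.leaf (8, 751, 46))) (.leaf (4, 226, 2))) (.node (.leaf (3, 1113, 1)) (.leaf (5, 24, 9)))) (.node (.node (.leaf (3, 546, 1)) (.leaf (4, 962, 2))) (.node (.leaf (3, 1753, 1)) (.leaf (7, 677, 25))))) (.node (.node (.node (.node (.leaf (3, 293, 1)) (.leaf (5, 1407, 5))) (.leaf (4, 579, 2))) (.node (.leaf (3, 1398, 1)) (.leaf (7, 127, 25)))) (.node (.node (.leaf (3, 813, 1)) (.leaf (4, 1452, 2))) (.node (.leaf (3, 2158, 1)) (.leaf (7, 54, 20)))))) (.node (.node (.node (.node (.node (.leaf (3, 169, 1)) (.leaf (4, 1406, 1))) (.leaf (4, 399, 2))) (.node (.leaf (3,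 1243, 1)) (.leaf (6, 20, 11)))) (.node (.node (.leaf (3, 681, 1)) (.leaf (4, 1203, 2))) (.node (.leaf (3, 1930, 1)) (.leaf (4, 1282, 2))))) (.node (.node (.node (.node (.leaf (3, 421, 1)) (.leaf (7, 1411, 24))) (.leaf (4, 758, 2))) (.node (.leaf (3, 1579, 1)) (.leaf (5, 82, 9)))) (.node (.node (.leaf (3, 969, 1)) (.leaf (4, 1768, 2))) (.node (.leaf (4, 69, 2)) (.leaf (8, 99, 14)))))))) (.node (.node (.node (.node (.node (.node (.node (.leaf (3, 27, 1)) (.leaf (8, 560, 6))) (.leaf (4, 185, 2))) (.node (.leaf (3, 1083, 1)) (.leaf (5, 0, 9)))) (.node (.node (.leaf (3, 516, 1)) (.leaf (4, 922, 2))) (.node (.leaf (3, 1712, 1)) (.leaf (6, 286, 8))))) (.node (.node (.node (.node (.leaf (3, 265, 1)) (.leaf (5, 772, 14))) (.leaf (4, 538, 2))) (.node (.leaf (3, 1370, 1)) (.leaf (7, 103, 14)))) (.node (.node (.leaf (3, 779, 1)) (.leaf (4, 1390, 2))) (.node (.leaf (3, 2069, 1)) (.leaf (6, 423, 13)))))) (.node (.node (.node (.node (.node (.leaf (3, 139, 1)) (.leaf (8, 2008,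 1))) (.leaf (4, 353, 2))) (.node (.leaf (3, 1212, 1)) (.leaf (5, 314, 9)))) (.node (.node (.leaf (3, 648, 1)) (.leaf (4, 1133, 2))) (.node (.leaf (3, 1883, 1)) (.leaf (8, 276, 32))))) (.node (.node (.node (.node (.leaf (3, 390, 1)) (.leaf (7, 766, 20))) (.leaf (4, 722, 2))) (.node (.leaf (3, 1535, 1)) (.leaf (6, 196, 15)))) (.node (.node (.leaf (3, 919, 1)) (.leaf (4, 1683, 2))) (.node (.leaf (4, 31, 2)) (.leaf (7, 1799, 21))))))) (.node (.node (.node (.node (.node (.node (.leaf (3, 83, 1)) (.leaf (8, 1036, 46))) (.leaf (4, 268, 2))) (.node (.leaf (3, 1138, 1)) (.leaf (5, 74, 9)))) (.node (.node (.leaf (3, 585, 1)) (.leaf (4, 1016, 2))) (.node (.leaf (3, 1790, 1)) (.leaf (5, 338, 7))))) (.node (.node (.node (.node (.leaf (3, 322, 1)) (.leaf (6, 342, 14))) (.leaf (4, 630, 2))) (.node (.leaf (3, 1441, 1)) (.leaf (5, 289, 13)))) (.node (.node (.leaf (3, 853, 1)) (.leaf (4, 1534, 2))) (.node (.leaf (3, 2216, 1)) (.leaf (7, 263, 8)))))) (.node (.node (.node (.node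 (.node (.leaf (3, 201, 1)) (.leaf (4, 1952, 2))) (.leaf (4, 442, 2))) (.node (.leaf (3, 1271, 1)) (.leaf (6, 169, 9)))) (.node (.node (.leaf (3, 709, 1)) (.leaf (4, 1270, 2))) (.node (.leaf (3, 1975, 1)) (.leaf (5, 435, 10))))) (.node (.node (.node (.node (.leaf (3, 451, 1)) (.leaf (7, 1989, 1))) (.leaf (4, 815, 2))) (.node (.leaf (3, 1621, 1)) (.leaf (6, 213, 14)))) (.node (.node (.leaf (3, 997, 1)) (.leaf (4, 1850, 2))) (.node (.leaf (4, 105, 2)) (.leaf (8, 209, 51))))))))

/-- data -/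
def cert0p3 : Trie (ℕ × ℕ × ℕ) := .node (.node (.node (.node (.node (.node (.node (.node (.leaf (3, 0, 1)) (.leaf (8, 425, 48))) (.leaf (4, 146, 2))) (.node (.leaf (3, 1033, 1)) (.leaf (4, 1973, 2)))) (.node (.node (.leaf (3, 483, 1)) (.leaf (4, 873, 2))) (.node (.leaf (3, 1674, 1)) (.leaf (5, 117, 10))))) (.node (.node (.node (.node (.leaf (3, 235, 1)) (.leaf (5, 313, 14))) (.leaf (4, 498, 2))) (.node (.leaf (3, 1329, 1)) (.leaf (7, 8, 14)))) (.node (.node (.leaf (3, 753, 1)) (.leaf (4, 1334, 2))) (.node (.leaf (3, 2016, 1)) (.leaf (6, 29, 15)))))) (.node (.node (.node (.node (.node (.leaf (3, 111, 1)) (.leaf (8, 1434, 5))) (.leaf (4, 309, 2))) (.node (.leaf (3, 1181, 1)) (.leaf (5, 143, 9)))) (.node (.node (.leaf (3, 618, 1)) (.leaf (4, 1074, 2))) (.node (.leaf (3, 1841, 1)) (.leaf (7, 528, 13))))) (.node (.node (.node (.node (.leaf (3, 354, 1)) (.leaf (7, 100, 11))) (.leaf (4, 672, 2))) (.node (.leaf (3, 1497, 1)) (.leaf (7, 215, 23)))) (.node (.node (.leaf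 (3, 887, 1)) (.leaf (4, 1610, 2))) (.node (.leaf (3, 2302, 1)) (.leaf (7, 872, 8))))))) (.node (.node (.node (.node (.node (.node (.leaf (3, 55, 1)) (.leaf (8, 761, 46))) (.leaf (4, 231, 2))) (.node (.leaf (3, 1114, 1)) (.leaf (5, 28, 9)))) (.node (.node (.leaf (3, 548, 1)) (.leaf (4, 965, 2))) (.node (.leaf (3, 1755, 1)) (.leaf (8, 51, 33))))) (.node (.node (.node (.node (.leaf (3, 295, 1)) (.leaf (5, 1408, 3))) (.leaf (4, 581, 2))) (.node (.leaf (3, 1400, 1)) (.leaf (7, 195, 3)))) (.node (.node (.leaf (3, 814, 1)) (.leaf (4, 1456, 2))) (.node (.leaf (3, 2160, 1)) (.leaf (7, 57, 13)))))) (.node (.node (.node (.node (.node (.leaf (3, 171, 1)) (.leaf (4, 1517, 2))) (.leaf (4, 401, 2))) (.node (.leaf (3, 1244, 1)) (.leaf (6, 24, 11)))) (.node (.node (.leaf (3, 682, 1)) (.leaf (4, 1207, 2))) (.node (.leaf (3, 1932, 1)) (.leaf (4, 1474, 1))))) (.node (.node (.node (.node (.leaf (3, 423, 1)) (.leaf (7, 1424, 30))) (.leaf (4, 760, 2))) (.node (.leaf (3, 1581, 1))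 (.leaf (5, 162, 8)))) (.node (.node (.leaf (3, 971, 1)) (.leaf (4, 1774, 2))) (.node (.leaf (4, 70, 2)) (.leaf (8, 102, 47)))))))) (.node (.node (.node (.node (.node (.node (.node (.leaf (3, 28, 1)) (.leaf (8, 570, 28))) (.leaf (4, 188, 2))) (.node (.leaf (3, 1085, 1)) (.leaf (5, 1, 9)))) (.node (.node (.leaf (3, 518, 0)) (.leaf (4, 923, 2))) (.node (.leaf (3, 1713, 1)) (.leaf (6, 870, 4))))) (.node (.node (.node (.node (.leaf (3, 267, 1)) (.leaf (5, 928, 7))) (.leaf (4, 545, 2))) (.node (.leaf (3, 1372, 1)) (.leaf (7, 119, 14)))) (.node (.node (.leaf (3, 783, 1)) (.leaf (4, 1397, 2))) (.node (.leaf (3, 2071, 1)) (.leaf (6, 476, 14)))))) (.node (.node (.node (.node (.node (.leaf (3, 141, 1)) (.leaf (8, 2039, 58))) (.leaf (4, 356, 2))) (.node (.leaf (3, 1213, 1)) (.leaf (5, 340, 9)))) (.node (.node (.leaf (3, 651, 1)) (.leaf (4, 1142, 2))) (.node (.leaf (3, 1887, 1)) (.leaf (8, 291, 36))))) (.node (.node (.node (.node (.leaf (3, 392, 1)) (.leaf (7, 783, 13)))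 (.leaf (4, 726, 2))) (.node (.leaf (3, 1536, 1)) (.leaf (6, 316, 13)))) (.node (.node (.leaf (3, 926, 1)) (.leaf (4, 1692, 2))) (.node (.leaf (4, 35, 2)) (.leaf (7, 1848, 28))))))) (.node (.node (.node (.node (.node (.node (.leaf (3, 85, 1)) (.leaf (8, 1040, 29))) (.leaf (4, 269, 2))) (.node (.leaf (3, 1139, 1)) (.leaf (5, 77, 9)))) (.node (.node (.leaf (3, 587, 1)) (.leaf (4, 1018, 2))) (.node (.leaf (3, 1793, 1)) (.leaf (5, 371, 11))))) (.node (.node (.node (.node (.leaf (3, 325, 1)) (.leaf (6, 386, 10))) (.leaf (4, 632, 2))) (.node (.leaf (3, 1445, 1)) (.leaf (5, 316, 9)))) (.node (.node (.leaf (3, 854, 1)) (.leaf (4, 1538, 2))) (.node (.leaf (3, 2228, 1)) (.leaf (7, 303, 9)))))) (.node (.node (.node (.node (.node (.leaf (3, 203, 1)) (.leaf (4, 1980, 2))) (.leaf (4, 445, 2))) (.node (.leaf (3, 1279, 1)) (.leaf (6, 228, 11)))) (.node (.node (.leaf (3, 711, 1)) (.leaf (4, 1273, 2))) (.node (.leaf (3, 1978, 1)) (.leaf (5, 442, 9))))) (.node (.node (.node (.node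 (.leaf (3, 452, 1)) (.leaf (7, 2025, 19))) (.leaf (4, 819, 2))) (.node (.leaf (3, 1622, 1)) (.leaf (7, 2, 16)))) (.node (.node (.leaf (3, 998, 1)) (.leaf (4, 1853, 2))) (.node (.leaf (4, 108, 2)) (.leaf (8, 218, 17))))))))

/-- data -/
def cert0p4 : Trie (ℕ × ℕ × ℕ) := .node (.node (.node (.node (.node (.node (.node (.node (.leaf (3, 2, 1)) (.leaf (8, 452, 6))) (.leaf (4, 147, 2))) (.node (.leaf (3, 1037, 1)) (.leaf (4, 1991, 2)))) (.node (.node (.leaf (3, 486, 1)) (.leaf (4, 879, 2))) (.node (.leaf (3, 1675, 1)) (.leaf (5, 175, 12))))) (.node (.node (.node (.node (.leaf (3, 238, 1)) (.leaf (5, 330, 9))) (.leaf (4, 501, 2))) (.node (.leaf (3, 1331, 1)) (.leaf (7, 9, 18)))) (.node (.node (.leaf (3, 756, 1)) (.leaf (4, 1336, 2))) (.node (.leaf (3, 2017, 1)) (.leaf (6, 52, 13)))))) (.node (.node (.node (.node (.node (.leaf (3, 113, 1)) (.leaf (8, 1460, 35))) (.leaf (4, 311, 2))) (.node (.leaf (3, 1182, 1)) (.leaf (5, 160, 11)))) (.node (.node (.leaf (3, 620, 1))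 (.leaf (4, 1079, 2))) (.node (.leaf (3, 1843, 1)) (.leaf (7, 594, 20))))) (.node (.node (.node (.node (.leaf (3, 355, 0)) (.leaf (7, 116, 13))) (.leaf (4, 675, 2))) (.node (.leaf (3, 1498, 1)) (.leaf (7, 227, 8)))) (.node (.node (.leaf (3, 889, 1)) (.leaf (4, 1616, 2))) (.node (.leaf (4, 0, 2)) (.leaf (7, 897, 17))))))) (.node (.node (.node (.node (.node (.node (.leaf (3, 58, 1)) (.leaf (8, 781, 15))) (.leaf (4, 234, 2))) (.node (.leaf (3, 1116, 1)) (.leaf (5, 31, 9)))) (.node (.node (.leaf (3, 549, 1)) (.leaf (4, 968, 2))) (.node (.leaf (3, 1758, 1)) (.leaf (8, 60, 29))))) (.node (.node (.node (.node (.leaf (3, 297, 1)) (.leaf (5, 1415, 19))) (.leaf (4, 583, 2))) (.node (.leaf (3, 1403, 1)) (.leaf (7, 291, 11)))) (.node (.node (.leaf (3, 816, 1)) (.leaf (4, 1462, 2))) (.node (.leaf (3, 2169, 1)) (.leaf (7, 58, 12)))))) (.node (.node (.node (.node (.node (.leaf (3, 174, 1)) (.leaf (4, 1541, 1))) (.leaf (4, 402, 2))) (.node (.leaf (3, 1246, 1)) (.leaf (6, 28,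 15)))) (.node (.node (.leaf (3, 685, 1)) (.leaf (4, 1208, 2))) (.node (.leaf (3, 1935, 1)) (.leaf (4, 1550, 2))))) (.node (.node (.node (.node (.leaf (3, 425, 1)) (.leaf (7, 1511, 25))) (.leaf (4, 762, 2))) (.node (.leaf (3, 1582, 1)) (.leaf (5, 598, 9)))) (.node (.node (.leaf (3, 972, 1)) (.leaf (4, 1776, 2))) (.node (.leaf (4, 72, 2)) (.leaf (8, 114, 46)))))))) (.node (.node (.node (.node (.node (.node (.node (.leaf (3, 29, 1)) (.leaf (8, 590, 15))) (.leaf (4, 192, 2))) (.node (.leaf (3, 1087, 1)) (.leaf (5, 2, 9)))) (.node (.node (.leaf (3, 519, 1)) (.leaf (4, 925, 2))) (.node (.leaf (3, 1714, 1)) (.leaf (7, 66, 17))))) (.node (.node (.node (.node (.leaf (3, 270, 1)) (.leaf (5, 931, 8))) (.leaf (4, 547, 2))) (.node (.leaf (3, 1373, 1)) (.leaf (4, 332, 2)))) (.node (.node (.leaf (3, 784, 1)) (.leaf (4, 1402, 2))) (.node (.leaf (3, 2078, 1)) (.leaf (6, 485, 9)))))) (.node (.node (.node (.node (.node (.leaf (3, 144, 1)) (.leaf (8, 2081, 3))) (.leaf (4, 357,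 2))) (.node (.leaf (3, 1218, 1)) (.leaf (5, 353, 9)))) (.node (.node (.leaf (3, 652, 1)) (.leaf (4, 1143, 2))) (.node (.leaf (3, 1889, 1)) (.leaf (8, 320, 6))))) (.node (.node (.node (.node (.leaf (3, 394, 1)) (.leaf (7, 918, 9))) (.leaf (4, 728, 2))) (.node (.leaf (3, 1537, 1)) (.leaf (6, 329, 9)))) (.node (.node (.leaf (3, 928, 1)) (.leaf (4, 1694, 2))) (.node (.leaf (4, 37, 2)) (.leaf (7, 2039, 26))))))) (.node (.node (.node (.node (.node (.node (.leaf (3, 86, 1)) (.leaf (8, 1053, 10))) (.leaf (4, 271, 2))) (.node (.leaf (3, 1141, 1)) (.leaf (5, 78, 9)))) (.node (.node (.leaf (3, 590, 1)) (.leaf (4, 1020, 2))) (.node (.leaf (3, 1794, 1)) (.leaf (5, 461, 10))))) (.node (.node (.node (.node (.leaf (3, 327, 1)) (.leaf (6, 614, 20))) (.leaf (4, 636, 2))) (.node (.leaf (3, 1446, 1)) (.leaf (5, 406, 9)))) (.node (.node (.leaf (3, 856, 1)) (.leaf (4, 1540, 2))) (.node (.leaf (3, 2229, 1)) (.leaf (7, 315, 9)))))) (.node (.node (.node (.node (.node (.leaf (3, 205,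 1)) (.leaf (4, 2031, 1))) (.leaf (4, 449, 2))) (.node (.leaf (3, 1284, 1)) (.leaf (6, 324, 11)))) (.node (.node (.leaf (3, 713, 1)) (.leaf (4, 1278, 2))) (.node (.leaf (3, 1982, 1)) (.leaf (5, 540, 12))))) (.node (.node (.node (.node (.leaf (3, 455, 1)) (.leaf (7, 2120, 27))) (.leaf (4, 821, 2))) (.node (.leaf (3, 1626, 1)) (.leaf (7, 15, 13)))) (.node (.node (.leaf (3, 1001, 1)) (.leaf (4, 1857, 2))) (.node (.leaf (4, 112, 2)) (.leaf (8, 224, 15))))))))

/-- data -/
def cert0p5 : Trie (ℕ × ℕ × ℕ) := .node (.node (.node (.node (.node (.node (.node (.node (.leaf (3, 3, 1)) (.leaf (8, 455, 25))) (.leaf (4, 152, 2))) (.node (.leaf (3, 1038, 1)) (.leaf (4, 2009, 2)))) (.node (.node (.leaf (3, 488, 1)) (.leaf (4, 881, 2))) (.node (.leaf (3, 1677, 1)) (.leaf (5, 216, 13))))) (.node (.node (.node (.node (.leaf (3, 240, 1)) (.leaf (5, 342, 8))) (.leaf (4, 502, 2))) (.node (.leaf (3, 1332, 1)) (.leaf (7, 11, 18)))) (.node (.node (.leaf (3, 757, 1)) (.leaf (4, 1337,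 2))) (.node (.leaf (3, 2023, 1)) (.leaf (6, 95, 13)))))) (.node (.node (.node (.node (.node (.leaf (3, 116, 1)) (.leaf (8, 1500, 51))) (.leaf (4, 314, 2))) (.node (.leaf (3, 1183, 1)) (.leaf (5, 168, 5)))) (.node (.node (.leaf (3, 622, 1)) (.leaf (4, 1081, 2))) (.node (.leaf (3, 1845, 1)) (.leaf (7, 595, 8))))) (.node (.node (.node (.node (.leaf (3, 358, 1)) (.leaf (7, 204, 27))) (.leaf (4, 677, 2))) (.node (.leaf (3, 1504, 1)) (.leaf (7, 336, 20)))) (.node (.node (.leaf (3, 890, 1)) (.leaf (4, 1625, 2))) (.node (.leaf (4, 1, 2)) (.leaf (7, 982, 31))))))) (.node (.node (.node (.node (.node (.node (.leaf (3, 60, 1)) (.leaf (8, 783, 5))) (.leaf (4, 236, 2))) (.node (.leaf (3, 1119, 1)) (.leaf (5, 33, 9)))) (.node (.node (.leaf (3, 553, 1)) (.leaf (4, 970, 2))) (.node (.leaf (3, 1760, 1)) (.leaf (4, 410, 1))))) (.node (.node (.node (.node (.leaf (3, 298, 1)) (.leaf (5, 1430, 3))) (.leaf (4, 588, 2))) (.node (.leaf (3, 1404, 1)) (.leaf (4, 372, 1)))) (.node (.node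 (.leaf (3, 823, 1)) (.leaf (4, 1468, 2))) (.node (.leaf (3, 2175, 1)) (.leaf (7, 60, 13)))))) (.node (.node (.node (.node (.node (.leaf (3, 175, 1)) (.leaf (4, 1596, 1))) (.leaf (4, 405, 2))) (.node (.leaf (3, 1247, 1)) (.leaf (6, 33, 15)))) (.node (.node (.leaf (3, 686, 1)) (.leaf (4, 1220, 2))) (.node (.leaf (3, 1937, 1)) (.leaf (4, 1611, 1))))) (.node (.node (.node (.node (.leaf (3, 428, 1)) (.leaf (7, 1524, 1))) (.leaf (4, 765, 2))) (.node (.leaf (3, 1589, 1)) (.leaf (5, 731, 9)))) (.node (.node (.leaf (3, 973, 1)) (.leaf (4, 1785, 2))) (.node (.leaf (4, 75, 2)) (.leaf (8, 122, 17)))))))) (.node (.node (.node (.node (.node (.node (.node (.leaf (3, 32, 1)) (.leaf (8, 596, 36))) (.leaf (4, 193, 2))) (.node (.leaf (3, 1089, 1)) (.leaf (5, 3, 9)))) (.node (.node (.leaf (3, 520, 1)) (.leaf (4, 927, 2))) (.node (.leaf (3, 1716, 1)) (.leaf (7, 92, 15))))) (.node (.node (.node (.node (.leaf (3, 272, 1)) (.leaf (5, 938, 11))) (.leaf (4, 551, 2))) (.node (.leaf (3,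 1374, 1)) (.leaf (5, 43, 10)))) (.node (.node (.leaf (3, 786, 1)) (.leaf (4, 1408, 2))) (.node (.leaf (3, 2080, 1)) (.leaf (6, 524, 9)))))) (.node (.node (.node (.node (.node (.leaf (3, 145, 1)) (.leaf (8, 2146, 28))) (.leaf (4, 362, 2))) (.node (.leaf (3, 1219, 1)) (.leaf (5, 388, 9)))) (.node (.node (.leaf (3, 654, 1)) (.leaf (4, 1146, 2))) (.node (.leaf (3, 1892, 1)) (.leaf (8, 384, 8))))) (.node (.node (.node (.node (.leaf (3, 395, 1)) (.leaf (7, 927, 25))) (.leaf (4, 729, 2))) (.node (.leaf (3, 1539, 1)) (.leaf (6, 345, 11)))) (.node (.node (.leaf (3, 929, 1)) (.leaf (4, 1699, 2))) (.node (.leaf (4, 38, 2)) (.leaf (8, 5, 16))))))) (.node (.node (.node (.node (.node (.node (.leaf (3, 88, 1)) (.leaf (8, 1054, 11))) (.leaf (4, 274, 2))) (.node (.leaf (3, 1147, 1)) (.leaf (5, 84, 9)))) (.node (.node (.leaf (3, 594, 1)) (.leaf (4, 1023, 2))) (.node (.leaf (3, 1796, 1)) (.leaf (5, 606, 15))))) (.node (.node (.node (.node (.leaf (3, 328, 1)) (.leaf (6, 641, 14)))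 (.leaf (4, 637, 2))) (.node (.leaf (3, 1451, 1)) (.leaf (5, 465, 17)))) (.node (.node (.leaf (3, 857, 1)) (.leaf (4, 1545, 2))) (.node (.leaf (3, 2234, 1)) (.leaf (7, 399, 16)))))) (.node (.node (.node (.node (.node (.leaf (3, 206, 1)) (.leaf (4, 2033, 2))) (.leaf (4, 453, 2))) (.node (.leaf (3, 1288, 1)) (.leaf (6, 340, 11)))) (.node (.node (.leaf (3, 718, 1)) (.leaf (4, 1285, 2))) (.node (.leaf (3, 1984, 1)) (.leaf (5, 570, 16))))) (.node (.node (.node (.node (.leaf (3, 456, 1)) (.leaf (7, 2288, 21))) (.leaf (4, 825, 2))) (.node (.leaf (3, 1631, 1)) (.leaf (7, 25, 23)))) (.node (.node (.leaf (3, 1002, 1)) (.leaf (4, 1866, 2))) (.node (.leaf (4, 114, 2)) (.leaf (8, 228, 33))))))))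

/-- data -/
def cert0p6 : Trie (ℕ × ℕ × ℕ) := .node (.node (.node (.node (.node (.node (.node (.node (.leaf (3, 5, 1)) (.leaf (8, 459, 8))) (.leaf (4, 156, 2))) (.node (.leaf (3, 1039, 1)) (.leaf (4, 2012, 2)))) (.node (.node (.leaf (3, 489, 1)) (.leaf (4, 886, 2))) (.node (.leaf (3, 1678, 1)) (.leaf (5, 355, 9))))) (.node (.node (.node (.node (.leaf (3, 242, 1)) (.leaf (5, 424, 9))) (.leaf (4, 505, 2))) (.node (.leaf (3, 1335, 1)) (.leaf (7, 13, 14)))) (.node (.node (.leaf (3, 759, 1)) (.leaf (4, 1339, 2))) (.node (.leaf (3, 2027, 1)) (.leaf (6, 96, 11)))))) (.node (.node (.node (.node (.node (.leaf (3, 117, 1)) (.leaf (8, 1522, 56))) (.leaf (4, 317, 2))) (.node (.leaf (3, 1184, 1)) (.leaf (5, 178, 9)))) (.node (.node (.leaf (3, 623, 1)) (.leaf (4, 1084, 2))) (.node (.leaf (3, 1846, 1)) (.leaf (7, 730, 25))))) (.node (.node (.node (.node (.leaf (3, 359, 1)) (.leaf (7, 205, 22))) (.leaf (4, 683, 2))) (.node (.leaf (3, 1505, 1)) (.leaf (7, 423, 16)))) (.node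 (.node (.leaf (3, 891, 1)) (.leaf (4, 1632, 2))) (.node (.leaf (4, 4, 2)) (.leaf (7, 1042, 23))))))) (.node (.node (.node (.node (.node (.node (.leaf (3, 61, 1)) (.leaf (8, 863, 41))) (.leaf (4, 237, 2))) (.node (.leaf (3, 1121, 1)) (.leaf (5, 36, 9)))) (.node (.node (.leaf (3, 554, 1)) (.leaf (4, 974, 2))) (.node (.leaf (3, 1762, 1)) (.leaf (4, 678, 2))))) (.node (.node (.node (.node (.leaf (3, 301, 1)) (.leaf (5, 1489, 8))) (.leaf (4, 591, 2))) (.node (.leaf (3, 1405, 1)) (.leaf (4, 422, 1)))) (.node (.node (.leaf (3, 824, 1)) (.leaf (4, 1476, 2))) (.node (.leaf (3, 2177, 1)) (.leaf (7, 67, 13)))))) (.node (.node (.node (.node (.node (.leaf (3, 177, 1)) (.leaf (4, 1641, 1))) (.leaf (4, 406, 2))) (.node (.leaf (3, 1249, 1)) (.leaf (6, 42, 15)))) (.node (.node (.leaf (3, 688, 1)) (.leaf (4, 1221, 2))) (.node (.leaf (3, 1938, 1)) (.leaf (4, 1630, 2))))) (.node (.node (.node (.node (.leaf (3, 431, 1)) (.leaf (7, 1526, 23))) (.leaf (4, 769, 2))) (.node (.leaf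 (3, 1592, 1)) (.leaf (6, 90, 17)))) (.node (.node (.leaf (3, 975, 1)) (.leaf (4, 1795, 2))) (.node (.leaf (4, 79, 2)) (.leaf (8, 130, 35)))))))) (.node (.node (.node (.node (.node (.node (.node (.leaf (3, 33, 1)) (.leaf (8, 608, 54))) (.leaf (4, 197, 2))) (.node (.leaf (3, 1090, 1)) (.leaf (5, 4, 9)))) (.node (.node (.leaf (3, 523, 1)) (.leaf (4, 930, 2))) (.node (.leaf (3, 1718, 1)) (.leaf (7, 106, 16))))) (.node (.node (.node (.node (.leaf (3, 273, 1)) (.leaf (5, 1007, 3))) (.leaf (4, 552, 2))) (.node (.leaf (3, 1376, 1)) (.leaf (5, 94, 6)))) (.node (.node (.leaf (3, 787, 1)) (.leaf (4, 1409, 2))) (.node (.leaf (3, 2086, 1)) (.leaf (6, 531, 22)))))) (.node (.node (.node (.node (.node (.leaf (3, 148, 1)) (.leaf (8, 2156, 49))) (.leaf (4, 366, 2))) (.node (.leaf (3, 1222, 1)) (.leaf (5, 390, 9)))) (.node (.node (.leaf (3, 658, 1)) (.leaf (4, 1160, 2))) (.node (.leaf (3, 1895, 1)) (.leaf (8, 411, 46))))) (.node (.node (.node (.node (.leaf (3, 397, 1)) (.leaf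 (7, 935, 12))) (.leaf (4, 731, 2))) (.node (.leaf (3, 1542, 1)) (.leaf (6, 456, 3)))) (.node (.node (.leaf (3, 931, 1)) (.leaf (4, 1700, 2))) (.node (.leaf (4, 40, 2)) (.leaf (8, 6, 39))))))) (.node (.node (.node (.node (.node (.node (.leaf (3, 89, 1)) (.leaf (8, 1096, 18))) (.leaf (4, 276, 2))) (.node (.leaf (3, 1149, 1)) (.leaf (5, 89, 9)))) (.node (.node (.leaf (3, 596, 1)) (.leaf (4, 1026, 2))) (.node (.leaf (3, 1798, 1)) (.leaf (5, 882, 11))))) (.node (.node (.node (.node (.leaf (3, 329, 1)) (.leaf (6, 703, 18))) (.leaf (4, 642, 2))) (.node (.leaf (3, 1458, 1)) (.leaf (5, 618, 7)))) (.node (.node (.leaf (3, 858, 1)) (.leaf (4, 1554, 2))) (.node (.leaf (3, 2238, 1)) (.leaf (7, 532, 18)))))) (.node (.node (.node (.node (.node (.leaf (3, 207, 1)) (.leaf (4, 2035, 1))) (.leaf (4, 457, 2))) (.node (.leaf (3, 1289, 1)) (.leaf (6, 402, 11)))) (.node (.node (.leaf (3, 720, 1)) (.leaf (4, 1290, 2))) (.node (.leaf (3, 1987, 1)) (.leaf (5, 652, 5))))) (.node (.node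 (.node (.node (.leaf (3, 459, 1)) (.leaf (8, 33, 31))) (.leaf (4, 829, 2))) (.node (.leaf (3, 1633, 1)) (.leaf (7, 37, 20)))) (.node (.node (.leaf (3, 1004, 1)) (.leaf (4, 1886, 2))) (.node (.leaf (4, 115, 2)) (.leaf (8, 262, 51))))))))

/-- data -/
def cert0p7 : Trie (ℕ × ℕ × ℕ) := .node (.node (.node (.node (.node (.node (.node (.node (.leaf (3, 7, 1)) (.leaf (8, 460, 48))) (.leaf (4, 157, 2))) (.node (.leaf (3, 1046, 1)) (.leaf (4, 2013, 2)))) (.node (.node (.leaf (3, 490, 1)) (.leaf (4, 888, 2))) (.node (.leaf (3, 1681, 1)) (.leaf (5, 361, 9))))) (.node (.node (.node (.node (.leaf (3, 244, 1)) (.leaf (5, 448, 14))) (.leaf (4, 509, 2))) (.node (.leaf (3, 1344, 1)) (.leaf (7, 18, 14)))) (.node (.node (.leaf (3, 761, 1)) (.leaf (4, 1343, 2))) (.node (.leaf (3, 2028, 1)) (.leaf (6, 103, 11)))))) (.node (.node (.node (.node (.node (.leaf (3, 120, 1)) (.leaf (8, 1560, 47))) (.leaf (4, 318, 2))) (.node (.leaf (3, 1187, 1)) (.leaf (5, 183, 9)))) (.node (.node (.leaf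 (3, 624, 1)) (.leaf (4, 1091, 2))) (.node (.leaf (3, 1848, 1)) (.leaf (7, 888, 10))))) (.node (.node (.node (.node (.leaf (3, 368, 1)) (.leaf (7, 282, 13))) (.leaf (4, 687, 2))) (.node (.leaf (3, 1506, 1)) (.leaf (7, 1055, 4)))) (.node (.node (.leaf (3, 895, 1)) (.leaf (4, 1637, 2))) (.node (.leaf (4, 6, 2)) (.leaf (7, 1059, 11))))))) (.node (.node (.node (.node (.node (.node (.leaf (3, 62, 1)) (.leaf (8, 864, 13))) (.leaf (4, 239, 2))) (.node (.leaf (3, 1123, 1)) (.leaf (5, 38, 9)))) (.node (.node (.leaf (3, 556, 1)) (.leaf (4, 979, 2))) (.node (.leaf (3, 1764, 1)) (.leaf (4, 780, 1))))) (.node (.node (.node (.node (.leaf (3, 302, 1)) (.leaf (5, 1513, 8))) (.leaf (4, 592, 2))) (.node (.leaf (3, 1407, 1)) (.leaf (4, 458, 1)))) (.node (.node (.leaf (3, 826, 1)) (.leaf (4, 1479, 2))) (.node (.leaf (3, 2178, 1)) (.leaf (7, 105, 12)))))) (.node (.node (.node (.node (.node (.leaf (3, 179, 1)) (.leaf (4, 1709, 1))) (.leaf (4, 411, 2))) (.node (.leaf (3, 1251, 1))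 (.leaf (6, 57, 11)))) (.node (.node (.leaf (3, 690, 1)) (.leaf (4, 1225, 2))) (.node (.leaf (3, 1940, 1)) (.leaf (4, 1741, 1))))) (.node (.node (.node (.node (.leaf (3, 433, 1)) (.leaf (7, 1529, 29))) (.leaf (4, 770, 2))) (.node (.leaf (3, 1598, 1)) (.leaf (6, 168, 9)))) (.node (.node (.leaf (3, 976, 1)) (.leaf (4, 1797, 2))) (.node (.leaf (4, 81, 2)) (.leaf (8, 134, 9)))))))) (.node (.node (.node (.node (.node (.node (.node (.leaf (3, 34, 1)) (.leaf (8, 618, 49))) (.leaf (4, 198, 2))) (.node (.leaf (3, 1092, 1)) (.leaf (5, 5, 11)))) (.node (.node (.leaf (3, 524, 1)) (.leaf (4, 935, 2))) (.node (.leaf (3, 1719, 1)) (.leaf (7, 109, 19))))) (.node (.node (.node (.node (.leaf (3, 275, 1)) (.leaf (5, 1029, 12))) (.leaf (4, 555, 2))) (.node (.leaf (3, 1378, 1)) (.leaf (5, 187, 12)))) (.node (.node (.leaf (3, 788, 1)) (.leaf (4, 1413, 2))) (.node (.leaf (3, 2088, 1)) (.leaf (6, 597, 12)))))) (.node (.node (.node (.node (.node (.leaf (3, 150, 1)) (.leaf (8, 2221,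 52))) (.leaf (4, 367, 2))) (.node (.leaf (3, 1223, 1)) (.leaf (5, 492, 9)))) (.node (.node (.leaf (3, 660, 1)) (.leaf (4, 1162, 2))) (.node (.leaf (3, 1896, 1)) (.leaf (8, 457, 9))))) (.node (.node (.node (.node (.leaf (3, 398, 1)) (.leaf (7, 1002, 7))) (.leaf (4, 735, 2))) (.node (.leaf (3, 1543, 1)) (.leaf (7, 179, 24)))) (.node (.node (.leaf (3, 936, 1)) (.leaf (4, 1702, 2))) (.node (.leaf (4, 44, 2)) (.leaf (8, 7, 39))))))) (.node (.node (.node (.node (.node (.node (.leaf (3, 90, 1)) (.leaf (8, 1099, 22))) (.leaf (4, 279, 2))) (.node (.leaf (3, 1150, 1)) (.leaf (5, 92, 9)))) (.node (.node (.leaf (3, 597, 1)) (.leaf (4, 1034, 2))) (.node (.leaf (3, 1801, 1)) (.leaf (5, 1263, 15))))) (.node (.node (.node (.node (.leaf (3, 330, 1)) (.leaf (6, 713, 18))) (.leaf (4, 644, 2))) (.node (.leaf (3, 1460, 1)) (.leaf (5, 666, 7)))) (.node (.node (.leaf (3, 861, 1)) (.leaf (4, 1555, 2))) (.node (.leaf (3, 2239, 1)) (.leaf (7, 547, 25)))))) (.node (.node (.node (.node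 (.node (.leaf (3, 210, 1)) (.leaf (4, 2050, 1))) (.leaf (4, 466, 2))) (.node (.leaf (3, 1291, 1)) (.leaf (4, 326, 2)))) (.node (.node (.leaf (3, 725, 1)) (.leaf (4, 1292, 2))) (.node (.leaf (3, 1989, 1)) (.leaf (5, 883, 11))))) (.node (.node (.node (.node (.leaf (3, 462, 1)) (.leaf (8, 97, 39))) (.leaf (4, 831, 2))) (.node (.leaf (3, 1635, 1)) (.leaf (7, 82, 7)))) (.node (.node (.leaf (3, 1005, 1)) (.leaf (4, 1894, 2))) (.node (.leaf (4, 118, 2)) (.leaf (8, 272, 15))))))))

/-- data -/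
def cert0p8 : Trie (ℕ × ℕ × ℕ) := .node (.node (.node (.node (.node (.node (.node (.node (.leaf (3, 8, 1)) (.leaf (8, 462, 21))) (.leaf (4, 161, 2))) (.node (.leaf (3, 1050, 1)) (.leaf (4, 2015, 2)))) (.node (.node (.leaf (3, 493, 1)) (.leaf (4, 892, 2))) (.node (.leaf (3, 1682, 1)) (.leaf (5, 455, 13))))) (.node (.node (.node (.node (.leaf (3, 246, 1)) (.leaf (5, 494, 12))) (.leaf (4, 510, 2))) (.node (.leaf (3, 1346, 1)) (.leaf (7, 19, 20)))) (.node (.node (.leaf (3, 764, 1)) (.leaf (4, 1351, 2))) (.node (.leaf (3, 2029, 1)) (.leaf (6, 123, 18)))))) (.node (.node (.node (.node (.node (.leaf (3, 122, 1)) (.leaf (8, 1606, 6))) (.leaf (4, 321, 2))) (.node (.leaf (3, 1192, 1)) (.leaf (5, 201, 9)))) (.node (.node (.leaf (3, 625, 1)) (.leaf (4, 1098, 2))) (.node (.leaf (3, 1851, 1)) (.leaf (7, 940, 5))))) (.node (.node (.node (.node (.leaf (3, 371, 1)) (.leaf (7, 330, 14))) (.leaf (4, 695, 2))) (.node (.leaf (3, 1507, 1)) (.leaf (4, 603, 0)))) (.node (.node (.leaf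 (3, 897, 1)) (.leaf (4, 1643, 2))) (.node (.leaf (4, 9, 2)) (.leaf (7, 1168, 4))))))) (.node (.node (.node (.node (.node (.node (.leaf (3, 64, 1)) (.leaf (8, 870, 50))) (.leaf (4, 243, 2))) (.node (.leaf (3, 1124, 1)) (.leaf (5, 42, 9)))) (.node (.node (.leaf (3, 564, 1)) (.leaf (4, 985, 2))) (.node (.leaf (3, 1765, 1)) (.leaf (4, 847, 1))))) (.node (.node (.node (.node (.leaf (3, 304, 1)) (.leaf (5, 1548, 15))) (.leaf (4, 595, 2))) (.node (.leaf (3, 1416, 1)) (.leaf (4, 593, 1)))) (.node (.node (.leaf (3, 832, 1)) (.leaf (4, 1487, 2))) (.node (.leaf (3, 2181, 1)) (.leaf (7, 120, 15)))))) (.node (.node (.node (.node (.node (.leaf (3, 180, 1)) (.leaf (4, 1803, 1))) (.leaf (4, 414, 2))) (.node (.leaf (3, 1252, 1)) (.leaf (6, 66, 11)))) (.node (.node (.leaf (3, 691, 1)) (.leaf (4, 1226, 2))) (.node (.leaf (3, 1941, 1)) (.leaf (4, 1929, 2))))) (.node (.node (.node (.node (.leaf (3, 434, 1)) (.leaf (7, 1545, 29))) (.leaf (4, 773, 2))) (.node (.leaf (3, 1602, 1))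 (.leaf (4, 1175, 1)))) (.node (.node (.leaf (3, 978, 1)) (.leaf (4, 1800, 2))) (.node (.leaf (4, 82, 2)) (.leaf (8, 136, 17)))))))) (.node (.node (.node (.node (.node (.node (.node (.leaf (3, 36, 1)) (.leaf (8, 634, 27))) (.leaf (4, 199, 2))) (.node (.leaf (3, 1094, 1)) (.leaf (5, 6, 9)))) (.node (.node (.leaf (3, 526, 1)) (.leaf (4, 939, 2))) (.node (.leaf (3, 1722, 1)) (.leaf (7, 129, 20))))) (.node (.node (.node (.node (.leaf (3, 277, 1)) (.leaf (5, 1111, 13))) (.leaf (4, 557, 2))) (.node (.leaf (3, 1380, 1)) (.leaf (5, 267, 11)))) (.node (.node (.leaf (3, 790, 1)) (.leaf (4, 1418, 2))) (.node (.leaf (3, 2093, 1)) (.leaf (6, 618, 19)))))) (.node (.node (.node (.node (.node (.leaf (3, 151, 1)) (.leaf (8, 2277, 47))) (.leaf (4, 369, 2))) (.node (.leaf (3, 1224, 1)) (.leaf (5, 504, 9)))) (.node (.node (.leaf (3, 661, 1)) (.leaf (4, 1167, 2))) (.node (.leaf (3, 1907, 1)) (.leaf (8, 595, 12))))) (.node (.node (.node (.node (.leaf (3, 400, 1)) (.leaf (7, 1011,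 13))) (.leaf (4, 736, 2))) (.node (.leaf (3, 1544, 1)) (.leaf (7, 223, 17)))) (.node (.node (.leaf (3, 937, 1)) (.leaf (4, 1703, 2))) (.node (.leaf (4, 45, 2)) (.leaf (8, 14, 13))))))) (.node (.node (.node (.node (.node (.node (.leaf (3, 93, 1)) (.leaf (8, 1127, 22))) (.leaf (4, 281, 2))) (.node (.leaf (3, 1151, 1)) (.leaf (5, 95, 9)))) (.node (.node (.leaf (3, 598, 1)) (.leaf (4, 1035, 2))) (.node (.leaf (3, 1804, 1)) (.leaf (5, 1657, 7))))) (.node (.node (.node (.node (.leaf (3, 333, 1)) (.leaf (6, 753, 10))) (.leaf (4, 645, 2))) (.node (.leaf (3, 1463, 1)) (.leaf (5, 727, 5)))) (.node (.node (.leaf (3, 862, 1)) (.leaf (4, 1557, 2))) (.node (.leaf (3, 2250, 1)) (.leaf (7, 568, 25)))))) (.node (.node (.node (.node (.node (.leaf (3, 213, 1)) (.leaf (4, 2072, 1))) (.leaf (4, 468, 2))) (.node (.leaf (3, 1297, 1)) (.leaf (5, 219, 8)))) (.node (.node (.leaf (3, 727, 1)) (.leaf (4, 1295, 2))) (.node (.leaf (3, 1992, 1)) (.leaf (5, 904, 4))))) (.node (.node (.node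 (.node (.leaf (3, 463, 1)) (.leaf (8, 179, 27))) (.leaf (4, 833, 2))) (.node (.leaf (3, 1640, 1)) (.leaf (7, 122, 22)))) (.node (.node (.leaf (3, 1007, 1)) (.leaf (4, 1898, 2))) (.node (.leaf (4, 119, 2)) (.leaf (8, 282, 10))))))))

/-- data -/
def cert0p9 : Trie (ℕ × ℕ × ℕ) := .node (.node (.node (.node (.node (.node (.node (.node (.leaf (3, 10, 1)) (.leaf (8, 474, 37))) (.leaf (4, 163, 2))) (.node (.leaf (3, 1056, 1)) (.leaf (4, 2038, 2)))) (.node (.node (.leaf (3, 494, 1)) (.leaf (4, 894, 2))) (.node (.leaf (3, 1687, 1)) (.leaf (5, 556, 13))))) (.node (.node (.node (.node (.leaf (3, 247, 1)) (.leaf (5, 496, 11))) (.leaf (4, 515, 2))) (.node (.leaf (3, 1347, 1)) (.leaf (7, 21, 14)))) (.node (.node (.leaf (3, 766, 1)) (.leaf (4, 1357, 2))) (.node (.leaf (3, 2030, 1)) (.leaf (6, 172, 11)))))) (.node (.node (.node (.node (.node (.leaf (3, 123, 1)) (.leaf (8, 1685, 5))) (.leaf (4, 323, 2))) (.node (.leaf (3, 1195, 1)) (.leaf (5, 213, 7)))) (.node (.node (.leaf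 (3, 628, 1)) (.leaf (4, 1100, 2))) (.node (.leaf (3, 1852, 1)) (.leaf (7, 1234, 24))))) (.node (.node (.node (.node (.leaf (3, 373, 1)) (.leaf (7, 340, 19))) (.leaf (4, 697, 2))) (.node (.leaf (3, 1508, 1)) (.leaf (4, 607, 2)))) (.node (.node (.leaf (3, 898, 1)) (.leaf (4, 1647, 2))) (.node (.leaf (4, 11, 2)) (.leaf (7, 1215, 18))))))) (.node (.node (.node (.node (.node (.node (.leaf (3, 67, 1)) (.leaf (8, 877, 25))) (.leaf (4, 245, 2))) (.node (.leaf (3, 1125, 1)) (.leaf (5, 45, 9)))) (.node (.node (.leaf (3, 566, 1)) (.leaf (4, 990, 2))) (.node (.leaf (3, 1766, 1)) (.leaf (4, 1217, 1))))) (.node (.node (.node (.node (.leaf (3, 306, 1)) (.leaf (5, 1635, 5))) (.leaf (4, 599, 2))) (.node (.leaf (3, 1417, 1)) (.leaf (4, 806, 2)))) (.node (.node (.leaf (3, 834, 1)) (.leaf (4, 1494, 2))) (.node (.leaf (3, 2184, 1)) (.leaf (7, 131, 9)))))) (.node (.node (.node (.node (.node (.leaf (3, 181, 1)) (.leaf (4, 1808, 1))) (.leaf (4, 419, 2))) (.node (.leaf (3, 1254, 1))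 (.leaf (6, 70, 11)))) (.node (.node (.leaf (3, 692, 1)) (.leaf (4, 1232, 2))) (.node (.leaf (3, 1950, 1)) (.leaf (4, 1943, 1))))) (.node (.node (.node (.node (.leaf (3, 435, 1)) (.leaf (7, 1588, 9))) (.leaf (4, 775, 2))) (.node (.leaf (3, 1604, 1)) (.leaf (8, 16, 15)))) (.node (.node (.leaf (3, 980, 1)) (.leaf (4, 1802, 2))) (.node (.leaf (4, 84, 2)) (.leaf (8, 141, 36)))))))) (.node (.node (.node (.node (.node (.node (.node (.leaf (3, 39, 1)) (.leaf (8, 643, 27))) (.leaf (4, 202, 2))) (.node (.leaf (3, 1099, 1)) (.leaf (5, 7, 11)))) (.node (.node (.leaf (3, 528, 1)) (.leaf (4, 940, 2))) (.node (.leaf (3, 1727, 1)) (.leaf (7, 149, 16))))) (.node (.node (.node (.node (.leaf (3, 278, 1)) (.leaf (5, 1113, 11))) (.leaf (4, 558, 2))) (.node (.leaf (3, 1381, 1)) (.leaf (5, 322, 11)))) (.node (.node (.leaf (3, 792, 1)) (.leaf (4, 1419, 2))) (.node (.leaf (3, 2099, 1)) (.leaf (6, 778, 20)))))) (.node (.node (.node (.node (.node (.leaf (3, 153, 1)) (.leaf (4, 619, 1)))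 (.leaf (4, 376, 2))) (.node (.leaf (3, 1227, 1)) (.leaf (5, 627, 9)))) (.node (.node (.leaf (3, 665, 1)) (.leaf (4, 1168, 2))) (.node (.leaf (3, 1909, 1)) (.leaf (8, 640, 16))))) (.node (.node (.node (.node (.leaf (3, 403, 1)) (.leaf (7, 1101, 16))) (.leaf (4, 738, 2))) (.node (.leaf (3, 1547, 1)) (.leaf (7, 357, 11)))) (.node (.node (.leaf (3, 938, 1)) (.leaf (4, 1720, 2))) (.node (.leaf (4, 47, 2)) (.leaf (8, 19, 49))))))) (.node (.node (.node (.node (.node (.node (.leaf (3, 94, 1)) (.leaf (8, 1138, 38))) (.leaf (4, 284, 2))) (.node (.leaf (3, 1153, 1)) (.leaf (5, 99, 9)))) (.node (.node (.leaf (3, 601, 1)) (.leaf (4, 1041, 2))) (.node (.leaf (3, 1805, 1)) (.leaf (6, 141, 11))))) (.node (.node (.node (.node (.leaf (3, 336, 1)) (.leaf (6, 839, 22))) (.leaf (4, 649, 2))) (.node (.leaf (3, 1464, 1)) (.leaf (5, 887, 9)))) (.node (.node (.leaf (3, 864, 1)) (.leaf (4, 1565, 2))) (.node (.leaf (3, 2262, 1)) (.leaf (7, 579, 18)))))) (.node (.node (.node (.node (.node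 (.leaf (3, 215, 1)) (.leaf (4, 2092, 2))) (.leaf (4, 471, 2))) (.node (.leaf (3, 1298, 1)) (.leaf (5, 305, 9)))) (.node (.node (.leaf (3, 730, 1)) (.leaf (4, 1296, 2))) (.node (.leaf (3, 1993, 1)) (.leaf (5, 953, 11))))) (.node (.node (.node (.node (.leaf (3, 464, 1)) (.leaf (8, 181, 7))) (.leaf (4, 837, 2))) (.node (.leaf (3, 1642, 1)) (.leaf (7, 123, 10)))) (.node (.node (.leaf (3, 1009, 1)) (.leaf (4, 1900, 2))) (.node (.leaf (4, 121, 2)) (.leaf (8, 285, 22))))))))

/-- data -/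
def cert0p10 : Trie (ℕ × ℕ × ℕ) := .node (.node (.node (.node (.node (.node (.node (.node (.leaf (3, 13, 1)) (.leaf (8, 475, 19))) (.leaf (4, 164, 2))) (.node (.leaf (3, 1061, 1)) (.leaf (4, 2044, 2)))) (.node (.node (.leaf (3, 496, 1)) (.leaf (4, 896, 2))) (.node (.leaf (3, 1689, 1)) (.leaf (5, 643, 2))))) (.node (.node (.node (.node (.leaf (3, 249, 1)) (.leaf (5, 535, 12))) (.leaf (4, 517, 2))) (.node (.leaf (3, 1348, 1)) (.leaf (7, 23, 20)))) (.node (.node (.leaf (3, 767, 1)) (.leaf (4, 1359, 2))) (.node (.leaf (3, 2034, 1)) (.leaf (6, 195, 11)))))) (.node (.node (.node (.node (.node (.leaf (3, 124, 1)) (.leaf (8, 1696, 20))) (.leaf (4, 324, 2))) (.node (.leaf (3, 1196, 1)) (.leaf (5, 217, 7)))) (.node (.node (.leaf (3, 629, 1)) (.leaf (4, 1103, 2))) (.node (.leaf (3, 1855, 1)) (.leaf (8, 0, 37))))) (.node (.node (.node (.node (.leaf (3, 375, 1)) (.leaf (7, 492, 10))) (.leaf (4, 701, 2))) (.node (.leaf (3, 1511, 1)) (.leaf (4, 1044, 1)))) (.node (.node (.leaf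 (3, 899, 1)) (.leaf (4, 1649, 2))) (.node (.leaf (4, 12, 2)) (.leaf (7, 1217, 5))))))) (.node (.node (.node (.node (.node (.node (.leaf (3, 68, 1)) (.leaf (8, 885, 28))) (.leaf (4, 248, 2))) (.node (.leaf (3, 1128, 1)) (.leaf (5, 50, 9)))) (.node (.node (.leaf (3, 569, 1)) (.leaf (4, 991, 2))) (.node (.leaf (3, 1772, 1)) (.leaf (4, 1341, 0))))) (.node (.node (.node (.node (.leaf (3, 308, 1)) (.leaf (5, 1874, 14))) (.leaf (4, 600, 2))) (.node (.leaf (3, 1420, 1)) (.leaf (4, 1144, 1)))) (.node (.node (.leaf (3, 835, 1)) (.leaf (4, 1495, 2))) (.node (.leaf (3, 2187, 1)) (.leaf (7, 136, 20)))))) (.node (.node (.node (.node (.node (.leaf (3, 184, 1)) (.leaf (4, 1837, 0))) (.leaf (4, 420, 2))) (.node (.leaf (3, 1257, 1)) (.leaf (6, 78, 15)))) (.node (.node (.leaf (3, 693, 1)) (.leaf (4, 1233, 2))) (.node (.leaf (3, 1953, 1)) (.leaf (4, 2062, 1))))) (.node (.node (.node (.node (.leaf (3, 438, 1)) (.leaf (7, 1590, 29))) (.leaf (4, 781, 2))) (.node (.leaf (3, 1606,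 1)) (.leaf (8, 25, 33)))) (.node (.node (.leaf (3, 981, 1)) (.leaf (4, 1811, 2))) (.node (.leaf (4, 87, 2)) (.leaf (8, 165, 22)))))))) (.node (.node (.node (.node (.node (.node (.node (.leaf (3, 41, 1)) (.leaf (8, 645, 30))) (.leaf (4, 204, 2))) (.node (.leaf (3, 1102, 1)) (.leaf (5, 8, 9)))) (.node (.node (.leaf (3, 529, 1)) (.leaf (4, 943, 2))) (.node (.leaf (3, 1729, 1)) (.leaf (7, 222, 8))))) (.node (.node (.node (.node (.leaf (3, 280, 1)) (.leaf (5, 1117, 12))) (.leaf (4, 561, 2))) (.node (.leaf (3, 1382, 1)) (.leaf (5, 685, 11)))) (.node (.node (.leaf (3, 793, 1)) (.leaf (4, 1422, 2))) (.node (.leaf (3, 2108, 1)) (.leaf (6, 803, 25)))))) (.node (.node (.node (.node (.node (.leaf (3, 155, 1)) (.leaf (4, 830, 2))) (.leaf (4, 377, 2))) (.node (.leaf (3, 1228, 1)) (.leaf (6, 0, 15)))) (.node (.node (.leaf (3, 668, 1)) (.leaf (4, 1172, 2))) (.node (.leaf (3, 1911, 1)) (.leaf (8, 1164, 59))))) (.node (.node (.node (.node (.leaf (3, 404, 1)) (.leaf (7, 1102,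 6))) (.leaf (4, 739, 2))) (.node (.leaf (3, 1548, 1)) (.leaf (7, 604, 8)))) (.node (.node (.leaf (3, 941, 1)) (.leaf (4, 1732, 2))) (.node (.leaf (4, 50, 2)) (.leaf (8, 26, 23))))))) (.node (.node (.node (.node (.node (.node (.leaf (3, 95, 1)) (.leaf (8, 1158, 37))) (.leaf (4, 288, 2))) (.node (.leaf (3, 1154, 1)) (.leaf (5, 103, 9)))) (.node (.node (.leaf (3, 602, 1)) (.leaf (4, 1048, 2))) (.node (.leaf (3, 1806, 1)) (.leaf (6, 319, 13))))) (.node (.node (.node (.node (.leaf (3, 337, 1)) (.leaf (6, 913, 1))) (.leaf (4, 650, 2))) (.node (.leaf (3, 1469, 1)) (.leaf (6, 43, 11)))) (.node (.node (.leaf (3, 869, 1)) (.leaf (4, 1573, 2))) (.node (.leaf (3, 2264, 1)) (.leaf (7, 582, 26)))))) (.node (.node (.node (.node (.node (.leaf (3, 217, 1)) (.leaf (4, 2101, 2))) (.leaf (4, 477, 2))) (.node (.leaf (3, 1300, 1)) (.leaf (5, 348, 8)))) (.node (.node (.leaf (3, 732, 1)) (.leaf (4, 1303, 2))) (.node (.leaf (3, 1994, 1)) (.leaf (5, 962, 17))))) (.node (.node (.node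 (.node (.leaf (3, 465, 1)) (.leaf (8, 207, 23))) (.leaf (4, 842, 2))) (.node (.leaf (3, 1644, 1)) (.leaf (7, 158, 22)))) (.node (.node (.leaf (3, 1012, 1)) (.leaf (4, 1901, 2))) (.node (.leaf (4, 125, 2)) (.leaf (8, 294, 47))))))))

/-- data -/
def cert0p11 : Trie (ℕ × ℕ × ℕ) := .node (.node (.node (.node (.node (.node (.node (.node (.leaf (3, 14, 1)) (.leaf (8, 485, 35))) (.leaf (4, 166, 2))) (.node (.leaf (3, 1063, 1)) (.leaf (4, 2070, 2)))) (.node (.node (.leaf (3, 503, 1)) (.leaf (4, 900, 2))) (.node (.leaf (3, 1690, 1)) (.leaf (6, 10, 15))))) (.node (.node (.node (.node (.leaf (3, 251, 1)) (.leaf (5, 549, 8))) (.leaf (4, 521, 2))) (.node (.leaf (3, 1350, 1)) (.leaf (7, 24, 16)))) (.node (.node (.leaf (3, 768, 1)) (.leaf (4, 1363, 2))) (.node (.leaf (3, 2043, 1)) (.leaf (6, 242, 7)))))) (.node (.node (.node (.node (.node (.leaf (3, 127, 1)) (.leaf (8, 1733, 0))) (.leaf (4, 331, 2))) (.node (.leaf (3, 1199, 1)) (.leaf (5, 225, 9)))) (.node (.node (.leaf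 (3, 631, 1)) (.leaf (4, 1106, 2))) (.node (.leaf (3, 1861, 1)) (.leaf (8, 15, 23))))) (.node (.node (.node (.node (.leaf (3, 378, 1)) (.leaf (7, 499, 22))) (.leaf (4, 704, 2))) (.node (.leaf (3, 1514, 1)) (.leaf (4, 1127, 1)))) (.node (.node (.leaf (3, 902, 1)) (.leaf (4, 1655, 2))) (.node (.leaf (4, 15, 2)) (.leaf (7, 1232, 30))))))) (.node (.node (.node (.node (.node (.node (.leaf (3, 71, 1)) (.leaf (8, 888, 17))) (.leaf (4, 250, 2))) (.node (.leaf (3, 1130, 1)) (.leaf (5, 52, 9)))) (.node (.node (.leaf (3, 570, 1)) (.leaf (4, 993, 2))) (.node (.leaf (3, 1775, 1)) (.leaf (4, 1636, 0))))) (.node (.node (.node (.node (.leaf (3, 310, 1)) (.leaf (5, 2080, 17))) (.leaf (4, 608, 2))) (.node (.leaf (3, 1421, 1)) (.leaf (4, 1858, 2)))) (.node (.node (.leaf (3, 838, 1)) (.leaf (4, 1500, 2))) (.node (.leaf (3, 2196, 1)) (.leaf (7, 137, 21)))))) (.node (.node (.node (.node (.node (.leaf (3, 187, 1)) (.leaf (4, 1840, 1))) (.leaf (4, 424, 2))) (.node (.leaf (3, 1258,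 1)) (.leaf (6, 94, 19)))) (.node (.node (.leaf (3, 694, 1)) (.leaf (4, 1235, 2))) (.node (.leaf (3, 1954, 1)) (.leaf (4, 2235, 2))))) (.node (.node (.node (.node (.leaf (3, 439, 1)) (.leaf (7, 1621, 9))) (.leaf (4, 782, 2))) (.node (.leaf (3, 1608, 1)) (.leaf (8, 123, 20)))) (.node (.node (.leaf (3, 983, 1)) (.leaf (4, 1815, 2))) (.node (.leaf (4, 91, 2)) (.leaf (8, 167, 43)))))))) (.node (.node (.node (.node (.node (.node (.node (.leaf (3, 42, 1)) (.leaf (8, 652, 50))) (.leaf (4, 209, 2))) (.node (.leaf (3, 1104, 1)) (.leaf (5, 10, 9)))) (.node (.node (.leaf (3, 530, 1)) (.leaf (4, 946, 2))) (.node (.leaf (3, 1731, 1)) (.leaf (7, 232, 12))))) (.node (.node (.node (.node (.leaf (3, 282, 1)) (.leaf (5, 1131, 3))) (.leaf (4, 562, 2))) (.node (.leaf (3, 1383, 1)) (.leaf (5, 797, 11)))) (.node (.node (.leaf (3, 794, 1)) (.leaf (4, 1424, 2))) (.node (.leaf (3, 2111, 1)) (.leaf (6, 891, 18)))))) (.node (.node (.node (.node (.node (.leaf (3, 158, 1)) (.leaf (4, 933,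 1))) (.leaf (4, 380, 2))) (.node (.leaf (3, 1230, 1)) (.leaf (6, 1, 14)))) (.node (.node (.leaf (3, 669, 1)) (.leaf (4, 1178, 2))) (.node (.leaf (3, 1915, 1)) (.leaf (8, 1185, 14))))) (.node (.node (.node (.node (.leaf (3, 407, 1)) (.leaf (7, 1108, 15))) (.leaf (4, 741, 2))) (.node (.leaf (3, 1549, 1)) (.leaf (4, 149, 2)))) (.node (.node (.leaf (3, 949, 1)) (.leaf (4, 1742, 2))) (.node (.leaf (4, 54, 2)) (.leaf (8, 30, 20))))))) (.node (.node (.node (.node (.node (.node (.leaf (3, 97, 1)) (.leaf (8, 1229, 57))) (.leaf (4, 290, 2))) (.node (.leaf (3, 1155, 1)) (.leaf (5, 105, 9)))) (.node (.node (.leaf (3, 604, 1)) (.leaf (4, 1049, 2))) (.node (.leaf (3, 1813, 1)) (.leaf (6, 887, 20))))) (.node (.node (.node (.node (.leaf (3, 338, 1)) (.leaf (6, 928, 22))) (.leaf (4, 653, 2))) (.node (.leaf (3, 1470, 1)) (.leaf (6, 101, 19)))) (.node (.node (.leaf (3, 870, 1)) (.leaf (4, 1577, 2))) (.node (.leaf (3, 2265, 1)) (.leaf (7, 599, 16)))))) (.node (.node (.node (.node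 (.node (.leaf (3, 219, 1)) (.leaf (4, 2123, 1))) (.leaf (4, 478, 2))) (.node (.leaf (3, 1305, 1)) (.leaf (5, 374, 9)))) (.node (.node (.leaf (3, 734, 1)) (.leaf (4, 1304, 2))) (.node (.leaf (3, 1997, 1)) (.leaf (5, 994, 9))))) (.node (.node (.node (.node (.leaf (3, 469, 1)) (.leaf (8, 770, 37))) (.leaf (4, 844, 2))) (.node (.leaf (3, 1645, 1)) (.leaf (7, 202, 26)))) (.node (.node (.leaf (3, 1014, 1)) (.leaf (4, 1906, 2))) (.node (.leaf (4, 126, 2)) (.leaf (8, 318, 16))))))))

/-- data -/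
def cert0p12 : Trie (ℕ × ℕ × ℕ) := .node (.node (.node (.node (.node (.node (.node (.node (.leaf (3, 16, 1)) (.leaf (8, 490, 25))) (.leaf (4, 170, 2))) (.node (.leaf (3, 1067, 1)) (.leaf (4, 2073, 2)))) (.node (.node (.leaf (3, 504, 1)) (.leaf (4, 903, 2))) (.node (.leaf (3, 1693, 1)) (.leaf (6, 45, 11))))) (.node (.node (.node (.node (.leaf (3, 252, 1)) (.leaf (5, 597, 10))) (.leaf (4, 522, 2))) (.node (.leaf (3, 1352, 1)) (.leaf (7, 29, 14)))) (.node (.node (.leaf (3, 771, 1)) (.leaf (4, 1364, 2))) (.node (.leaf (3, 2045, 1)) (.leaf (6, 247, 10)))))) (.node (.node (.node (.node (.node (.leaf (3, 129, 1)) (.leaf (8, 1770, 55))) (.leaf (4, 335, 2))) (.node (.leaf (3, 1201, 1)) (.leaf (5, 244, 9)))) (.node (.node (.leaf (3, 634, 1)) (.leaf (4, 1108, 2))) (.node (.leaf (3, 1869, 1)) (.leaf (8, 69, 31))))) (.node (.node (.node (.node (.leaf (3, 379, 1)) (.leaf (7, 503, 19))) (.leaf (4, 706, 2))) (.node (.leaf (3, 1521, 1)) (.leaf (4, 1472, 2)))) (.node (.node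 (.leaf (3, 904, 1)) (.leaf (4, 1661, 2))) (.node (.leaf (4, 19, 2)) (.leaf (7, 1237, 5))))))) (.node (.node (.node (.node (.node (.node (.leaf (3, 73, 1)) (.leaf (8, 902, 57))) (.leaf (4, 254, 2))) (.node (.leaf (3, 1131, 1)) (.leaf (5, 53, 9)))) (.node (.node (.leaf (3, 572, 1)) (.leaf (4, 999, 2))) (.node (.leaf (3, 1779, 1)) (.leaf (4, 1659, 2))))) (.node (.node (.node (.node (.leaf (3, 312, 1)) (.leaf (6, 155, 20))) (.leaf (4, 609, 2))) (.node (.leaf (3, 1423, 1)) (.leaf (4, 2007, 2)))) (.node (.node (.leaf (3, 839, 1)) (.leaf (4, 1510, 2))) (.node (.leaf (3, 2198, 1)) (.leaf (7, 144, 23)))))) (.node (.node (.node (.node (.node (.leaf (3, 189, 1)) (.leaf (4, 1890, 2))) (.leaf (4, 429, 2))) (.node (.leaf (3, 1260, 1)) (.leaf (6, 99, 11)))) (.node (.node (.leaf (3, 696, 1)) (.leaf (4, 1240, 2))) (.node (.leaf (3, 1956, 1)) (.leaf (5, 145, 10))))) (.node (.node (.node (.node (.leaf (3, 441, 1)) (.leaf (7, 1796, 2))) (.leaf (4, 785, 2))) (.node (.leaf (3, 1609,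 1)) (.leaf (8, 284, 48)))) (.node (.node (.leaf (3, 984, 1)) (.leaf (4, 1820, 2))) (.node (.leaf (4, 92, 2)) (.leaf (8, 171, 49)))))))) (.node (.node (.node (.node (.node (.node (.node (.leaf (3, 43, 1)) (.leaf (8, 656, 21))) (.leaf (4, 211, 2))) (.node (.leaf (3, 1105, 1)) (.leaf (5, 12, 9)))) (.node (.node (.leaf (3, 531, 1)) (.leaf (4, 947, 2))) (.node (.leaf (3, 1738, 1)) (.leaf (7, 269, 13))))) (.node (.node (.node (.node (.leaf (3, 283, 1)) (.leaf (5, 1141, 14))) (.leaf (4, 563, 2))) (.node (.leaf (3, 1386, 1)) (.leaf (6, 36, 10)))) (.node (.node (.leaf (3, 797, 1)) (.leaf (4, 1428, 2))) (.node (.leaf (3, 2128, 1)) (.leaf (6, 976, 6)))))) (.node (.node (.node (.node (.node (.leaf (3, 159, 1)) (.leaf (4, 1027, 1))) (.leaf (4, 382, 2))) (.node (.leaf (3, 1231, 1)) (.leaf (6, 2, 15)))) (.node (.node (.leaf (3, 671, 1)) (.leaf (4, 1179, 2))) (.node (.leaf (3, 1918, 1)) (.leaf (8, 1471, 49))))) (.node (.node (.node (.node (.leaf (3, 408, 1)) (.leaf (7, 1115,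 3))) (.leaf (4, 745, 2))) (.node (.leaf (3, 1551, 1)) (.leaf (4, 1485, 1)))) (.node (.node (.leaf (3, 951, 1)) (.leaf (4, 1744, 2))) (.node (.leaf (4, 56, 2)) (.leaf (8, 45, 49))))))) (.node (.node (.node (.node (.node (.node (.leaf (3, 100, 1)) (.leaf (8, 1243, 53))) (.leaf (4, 291, 2))) (.node (.leaf (3, 1157, 1)) (.leaf (5, 107, 9)))) (.node (.node (.leaf (3, 605, 1)) (.leaf (4, 1052, 2))) (.node (.leaf (3, 1818, 1)) (.leaf (7, 27, 12))))) (.node (.node (.node (.node (.leaf (3, 341, 1)) (.leaf (6, 1029, 17))) (.leaf (4, 655, 2))) (.node (.leaf (3, 1473, 1)) (.leaf (6, 162, 16)))) (.node (.node (.leaf (3, 872, 1)) (.leaf (4, 1586, 2))) (.node (.leaf (3, 2268, 1)) (.leaf (7, 600, 12)))))) (.node (.node (.node (.node (.node (.leaf (3, 222, 1)) (.leaf (4, 2149, 1))) (.leaf (4, 481, 2))) (.node (.leaf (3, 1307, 1)) (.leaf (4, 1459, 1)))) (.node (.node (.leaf (3, 737, 1)) (.leaf (4, 1306, 2))) (.node (.leaf (3, 1998, 1)) (.leaf (5, 1022, 17))))) (.node (.node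 (.node (.node (.leaf (3, 470, 1)) (.leaf (8, 824, 37))) (.leaf (4, 845, 2))) (.node (.leaf (3, 1646, 1)) (.leaf (8, 193, 45)))) (.node (.node (.leaf (3, 1017, 1)) (.leaf (4, 1913, 2))) (.node (.leaf (4, 128, 2)) (.leaf (8, 331, 26))))))))

/-- data -/
def cert0p13 : Trie (ℕ × ℕ × ℕ) := .node (.node (.node (.node (.node (.node (.node (.node (.leaf (3, 17, 1)) (.leaf (8, 515, 49))) (.leaf (4, 172, 2))) (.node (.leaf (3, 1073, 1)) (.leaf (4, 2090, 2)))) (.node (.node (.leaf (3, 506, 1)) (.leaf (4, 907, 2))) (.node (.leaf (3, 1696, 1)) (.leaf (6, 68, 15))))) (.node (.node (.node (.node (.leaf (3, 253, 1)) (.leaf (5, 621, 11))) (.leaf (4, 525, 2))) (.node (.leaf (3, 1361, 1)) (.leaf (7, 30, 20)))) (.node (.node (.leaf (3, 772, 1)) (.leaf (4, 1367, 2))) (.node (.leaf (3, 2051, 1)) (.leaf (6, 293, 18)))))) (.node (.node (.node (.node (.node (.leaf (3, 130, 1)) (.leaf (8, 1808, 30))) (.leaf (4, 339, 2))) (.node (.leaf (3, 1202, 1)) (.leaf (5, 263, 9)))) (.node (.node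 (.leaf (3, 638, 1)) (.leaf (4, 1115, 2))) (.node (.leaf (3, 1871, 1)) (.leaf (8, 124, 12))))) (.node (.node (.node (.node (.leaf (3, 381, 1)) (.leaf (7, 545, 19))) (.leaf (4, 710, 2))) (.node (.leaf (3, 1523, 1)) (.leaf (4, 2018, 1)))) (.node (.node (.leaf (3, 909, 1)) (.leaf (4, 1668, 2))) (.node (.leaf (4, 20, 2)) (.leaf (7, 1254, 29))))))) (.node (.node (.node (.node (.node (.node (.leaf (3, 74, 1)) (.leaf (8, 906, 36))) (.leaf (4, 255, 2))) (.node (.leaf (3, 1132, 1)) (.leaf (5, 57, 9)))) (.node (.node (.leaf (3, 574, 1)) (.leaf (4, 1000, 2))) (.node (.leaf (3, 1781, 1)) (.leaf (4, 1807, 1))))) (.node (.node (.node (.node (.leaf (3, 313, 1)) (.leaf (6, 206, 16))) (.leaf (4, 611, 2))) (.node (.leaf (3, 1425, 1)) (.leaf (5, 29, 13)))) (.node (.node (.leaf (3, 841, 1)) (.leaf (4, 1519, 2))) (.node (.leaf (3, 2200, 1)) (.leaf (7, 148, 18)))))) (.node (.node (.node (.node (.node (.leaf (3, 191, 1)) (.leaf (4, 1903, 2))) (.leaf (4, 430, 2))) (.node (.leaf (3,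 1262, 1)) (.leaf (6, 107, 15)))) (.node (.node (.leaf (3, 699, 1)) (.leaf (4, 1250, 2))) (.node (.leaf (3, 1961, 1)) (.leaf (5, 171, 12))))) (.node (.node (.node (.node (.leaf (3, 443, 1)) (.leaf (7, 1815, 1))) (.leaf (4, 789, 2))) (.node (.leaf (3, 1612, 1)) (.leaf (8, 289, 30)))) (.node (.node (.leaf (3, 986, 1)) (.leaf (4, 1824, 2))) (.node (.leaf (4, 96, 2)) (.leaf (8, 175, 48)))))))) (.node (.node (.node (.node (.node (.node (.node (.leaf (3, 46, 1)) (.leaf (8, 660, 37))) (.leaf (4, 214, 2))) (.node (.leaf (3, 1107, 1)) (.leaf (5, 14, 9)))) (.node (.node (.leaf (3, 533, 1)) (.leaf (4, 948, 2))) (.node (.leaf (3, 1740, 1)) (.leaf (7, 271, 20))))) (.node (.node (.node (.node (.leaf (3, 285, 1)) (.leaf (5, 1209, 15))) (.leaf (4, 567, 2))) (.node (.leaf (3, 1388, 1)) (.leaf (6, 77, 15)))) (.node (.node (.leaf (3, 800, 1)) (.leaf (4, 1435, 2))) (.node (.leaf (3, 2130, 1)) (.leaf (6, 1176, 22)))))) (.node (.node (.node (.node (.node (.leaf (3, 160, 1)) (.leaf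 (4, 1177, 1))) (.leaf (4, 387, 2))) (.node (.leaf (3, 1236, 1)) (.leaf (6, 3, 15)))) (.node (.node (.leaf (3, 673, 1)) (.leaf (4, 1189, 2))) (.node (.leaf (3, 1920, 1)) (.leaf (8, 1574, 0))))) (.node (.node (.node (.node (.leaf (3, 409, 1)) (.leaf (7, 1202, 2))) (.leaf (4, 747, 2))) (.node (.leaf (3, 1553, 1)) (.leaf (4, 1672, 1)))) (.node (.node (.leaf (3, 952, 1)) (.leaf (4, 1748, 2))) (.node (.leaf (4, 57, 2)) (.leaf (8, 59, 45))))))) (.node (.node (.node (.node (.node (.node (.leaf (3, 101, 1)) (.leaf (8, 1277, 40))) (.leaf (4, 294, 2))) (.node (.leaf (3, 1159, 1)) (.leaf (5, 119, 9)))) (.node (.node (.leaf (3, 606, 1)) (.leaf (4, 1055, 2))) (.node (.leaf (3, 1819, 1)) (.leaf (7, 73, 19))))) (.node (.node (.node (.node (.leaf (3, 342, 1)) (.leaf (6, 1107, 4))) (.leaf (4, 656, 2))) (.node (.leaf (3, 1475, 1)) (.leaf (6, 259, 12)))) (.node (.node (.leaf (3, 874, 1)) (.leaf (4, 1588, 2))) (.node (.leaf (3, 2275, 1)) (.leaf (7, 612, 26)))))) (.node (.node (.node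 (.node (.node (.leaf (3, 224, 1)) (.leaf (4, 2226, 2))) (.leaf (4, 484, 2))) (.node (.leaf (3, 1311, 1)) (.leaf (4, 1827, 1)))) (.node (.node (.leaf (3, 740, 1)) (.leaf (4, 1309, 2))) (.node (.leaf (3, 1999, 1)) (.leaf (5, 1059, 12))))) (.node (.node (.node (.node (.leaf (3, 472, 1)) (.leaf (8, 876, 19))) (.leaf (4, 849, 2))) (.node (.leaf (3, 1650, 1)) (.leaf (4, 349, 1)))) (.node (.node (.leaf (3, 1021, 1)) (.leaf (4, 1922, 2))) (.node (.leaf (4, 131, 2)) (.leaf (8, 334, 32))))))))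

/-- data -/
def cert0p14 : Trie (ℕ × ℕ × ℕ) := .node (.node (.node (.node (.node (.node (.node (.node (.leaf (3, 18, 1)) (.leaf (8, 536, 8))) (.leaf (4, 176, 2))) (.node (.leaf (3, 1075, 1)) (.leaf (4, 2148, 2)))) (.node (.node (.leaf (3, 508, 1)) (.leaf (4, 910, 2))) (.node (.leaf (3, 1701, 1)) (.leaf (6, 89, 16))))) (.node (.node (.node (.node (.leaf (3, 258, 1)) (.leaf (5, 629, 5))) (.leaf (4, 527, 2))) (.node (.leaf (3, 1365, 1)) (.leaf (7, 46, 14)))) (.node (.node (.leaf (3, 774, 1)) (.leaf (4, 1375, 2))) (.node (.leaf (3, 2052, 1)) (.leaf (6, 320, 18)))))) (.node (.node (.node (.node (.node (.leaf (3, 132, 1)) (.leaf (8, 1831, 53))) (.leaf (4, 340, 2))) (.node (.leaf (3, 1204, 1)) (.leaf (5, 265, 9)))) (.node (.node (.leaf (3, 640, 1)) (.leaf (4, 1118, 2))) (.node (.leaf (3, 1874, 1)) (.leaf (8, 125, 32))))) (.node (.node (.node (.node (.leaf (3, 384, 1)) (.leaf (7, 633, 13))) (.leaf (4, 714, 2))) (.node (.leaf (3, 1524, 1)) (.leaf (4, 2022, 1)))) (.node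 (.node (.leaf (3, 911, 1)) (.leaf (4, 1669, 2))) (.node (.leaf (4, 23, 2)) (.leaf (7, 1273, 24))))))) (.node (.node (.node (.node (.node (.node (.leaf (3, 76, 1)) (.leaf (8, 939, 55))) (.leaf (4, 257, 2))) (.node (.leaf (3, 1134, 1)) (.leaf (5, 62, 9)))) (.node (.node (.leaf (3, 576, 1)) (.leaf (4, 1003, 2))) (.node (.leaf (3, 1782, 1)) (.leaf (4, 1955, 2))))) (.node (.node (.node (.node (.leaf (3, 315, 1)) (.leaf (6, 219, 11))) (.leaf (4, 615, 2))) (.node (.leaf (3, 1429, 1)) (.leaf (5, 104, 9)))) (.node (.node (.leaf (3, 843, 1)) (.leaf (4, 1525, 2))) (.node (.leaf (3, 2203, 1)) (.leaf (7, 193, 18)))))) (.node (.node (.node (.node (.node (.leaf (3, 194, 1)) (.leaf (4, 1910, 1))) (.leaf (4, 432, 2))) (.node (.leaf (3, 1263, 1)) (.leaf (6, 113, 15)))) (.node (.node (.leaf (3, 702, 1)) (.leaf (4, 1256, 2))) (.node (.leaf (3, 1964, 1)) (.leaf (5, 190, 8))))) (.node (.node (.node (.node (.leaf (3, 444, 1)) (.leaf (7, 1908, 18))) (.leaf (4, 791, 2))) (.node (.leaf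 (3, 1614, 1)) (.leaf (8, 382, 8)))) (.node (.node (.leaf (3, 988, 1)) (.leaf (4, 1829, 2))) (.node (.leaf (4, 98, 2)) (.leaf (8, 182, 9)))))))) (.node (.node (.node (.node (.node (.node (.node (.leaf (3, 48, 1)) (.leaf (8, 664, 32))) (.leaf (4, 218, 2))) (.node (.leaf (3, 1109, 1)) (.leaf (5, 15, 9)))) (.node (.node (.leaf (3, 535, 1)) (.leaf (4, 950, 2))) (.node (.leaf (3, 1743, 1)) (.leaf (7, 284, 25))))) (.node (.node (.node (.node (.leaf (3, 286, 1)) (.leaf (5, 1289, 6))) (.leaf (4, 568, 2))) (.node (.leaf (3, 1391, 1)) (.leaf (6, 225, 21)))) (.node (.node (.leaf (3, 802, 1)) (.leaf (4, 1438, 2))) (.node (.leaf (3, 2134, 1)) (.leaf (6, 1181, 23)))))) (.node (.node (.node (.node (.node (.leaf (3, 162, 1)) (.leaf (4, 1194, 1))) (.leaf (4, 388, 2))) (.node (.leaf (3, 1238, 1)) (.leaf (6, 12, 11)))) (.node (.node (.leaf (3, 674, 1)) (.leaf (4, 1193, 2))) (.node (.leaf (3, 1921, 1)) (.leaf (8, 2170, 38))))) (.node (.node (.node (.node (.leaf (3, 412, 1)) (.leaf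 (7, 1309, 27))) (.leaf (4, 748, 2))) (.node (.leaf (3, 1556, 1)) (.leaf (4, 2163, 1)))) (.node (.node (.leaf (3, 953, 1)) (.leaf (4, 1750, 2))) (.node (.leaf (4, 59, 2)) (.leaf (8, 86, 10))))))) (.node (.node (.node (.node (.node (.node (.leaf (3, 104, 1)) (.leaf (8, 1294, 30))) (.leaf (4, 296, 2))) (.node (.leaf (3, 1161, 1)) (.leaf (5, 128, 9)))) (.node (.node (.leaf (3, 610, 1)) (.leaf (4, 1059, 2))) (.node (.leaf (3, 1825, 1)) (.leaf (7, 147, 18))))) (.node (.node (.node (.node (.leaf (3, 344, 1)) (.leaf (6, 1112, 6))) (.leaf (4, 657, 2))) (.node (.leaf (3, 1478, 1)) (.leaf (6, 513, 11)))) (.node (.node (.leaf (3, 875, 1)) (.leaf (4, 1590, 2))) (.node (.leaf (3, 2280, 1)) (.leaf (7, 616, 5)))))) (.node (.node (.node (.node (.node (.leaf (3, 225, 1)) (.leaf (4, 2251, 0))) (.leaf (4, 485, 2))) (.node (.leaf (3, 1313, 1)) (.leaf (7, 0, 16)))) (.node (.node (.leaf (3, 742, 1)) (.leaf (4, 1320, 2))) (.node (.leaf (3, 2001, 1)) (.leaf (5, 1246, 7))))) (.node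 (.node (.node (.node (.leaf (3, 474, 1)) (.leaf (8, 1041, 15))) (.leaf (4, 852, 2))) (.node (.leaf (3, 1654, 1)) (.leaf (4, 542, 2)))) (.node (.node (.leaf (3, 1022, 1)) (.leaf (4, 1926, 2))) (.node (.leaf (4, 135, 2)) (.leaf (8, 337, 5))))))))

/-- data -/
def cert0p15 : Trie (ℕ × ℕ × ℕ) := .node (.node (.node (.node (.node (.node (.node (.node (.leaf (3, 21, 1)) (.leaf (8, 545, 48))) (.leaf (4, 178, 2))) (.node (.leaf (3, 1076, 1)) (.leaf (4, 2176, 2)))) (.node (.node (.leaf (3, 511, 1)) (.leaf (4, 914, 2))) (.node (.leaf (3, 1704, 1)) (.leaf (6, 110, 14))))) (.node (.node (.node (.node (.leaf (3, 259, 1)) (.leaf (5, 689, 6))) (.leaf (4, 532, 2))) (.node (.leaf (3, 1366, 1)) (.leaf (7, 50, 13)))) (.node (.node (.leaf (3, 776, 1)) (.leaf (4, 1385, 2))) (.node (.leaf (3, 2057, 1)) (.leaf (6, 328, 12)))))) (.node (.node (.node (.node (.node (.leaf (3, 134, 1)) (.leaf (8, 1840, 41))) (.leaf (4, 343, 2))) (.node (.leaf (3, 1205, 1)) (.leaf (5, 275, 9)))) (.node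 (.node (.leaf (3, 641, 1)) (.leaf (4, 1120, 2))) (.node (.leaf (3, 1875, 1)) (.leaf (8, 127, 34))))) (.node (.node (.node (.node (.leaf (3, 385, 1)) (.leaf (7, 664, 19))) (.leaf (4, 716, 2))) (.node (.leaf (3, 1527, 1)) (.leaf (5, 293, 8)))) (.node (.node (.leaf (3, 913, 1)) (.leaf (4, 1673, 2))) (.node (.leaf (4, 24, 2)) (.leaf (7, 1323, 5))))))) (.node (.node (.node (.node (.node (.node (.leaf (3, 77, 1)) (.leaf (8, 960, 46))) (.leaf (4, 262, 2))) (.node (.leaf (3, 1135, 1)) (.leaf (5, 68, 9)))) (.node (.node (.leaf (3, 578, 1)) (.leaf (4, 1008, 2))) (.node (.leaf (3, 1784, 1)) (.leaf (4, 2107, 2))))) (.node (.node (.node (.node (.leaf (3, 316, 1)) (.leaf (6, 244, 12))) (.leaf (4, 616, 2))) (.node (.leaf (3, 1430, 1)) (.leaf (5, 108, 8)))) (.node (.node (.leaf (3, 846, 1)) (.leaf (4, 1526, 2))) (.node (.leaf (3, 2208, 1)) (.leaf (7, 226, 20)))))) (.node (.node (.node (.node (.node (.leaf (3, 195, 1)) (.leaf (4, 1919, 1))) (.leaf (4, 436, 2))) (.node (.leaf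 (3, 1264, 1)) (.leaf (6, 115, 11)))) (.node (.node (.leaf (3, 703, 1)) (.leaf (4, 1265, 2))) (.node (.leaf (3, 1968, 1)) (.leaf (5, 252, 14))))) (.node (.node (.node (.node (.leaf (3, 446, 1)) (.leaf (7, 1925, 25))) (.leaf (4, 796, 2))) (.node (.leaf (3, 1615, 1)) (.leaf (5, 34, 14)))) (.node (.node (.leaf (3, 989, 1)) (.leaf (4, 1838, 2))) (.node (.leaf (4, 99, 2)) (.leaf (8, 192, 17)))))))) (.node (.node (.node (.node (.node (.node (.node (.leaf (3, 49, 1)) (.leaf (8, 696, 26))) (.leaf (4, 220, 2))) (.node (.leaf (3, 1110, 1)) (.leaf (5, 17, 9)))) (.node (.node (.leaf (3, 537, 1)) (.leaf (4, 955, 2))) (.node (.leaf (3, 1746, 1)) (.leaf (7, 358, 16))))) (.node (.node (.node (.node (.leaf (3, 287, 1)) (.leaf (5, 1293, 14))) (.leaf (4, 571, 2))) (.node (.leaf (3, 1393, 1)) (.leaf (6, 245, 11)))) (.node (.node (.leaf (3, 805, 1)) (.leaf (4, 1440, 2))) (.node (.leaf (3, 2142, 1)) (.leaf (7, 12, 16)))))) (.node (.node (.node (.node (.node (.leaf (3, 165, 1)) (.leaf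 (4, 1280, 2))) (.leaf (4, 391, 2))) (.node (.leaf (3, 1239, 1)) (.leaf (6, 14, 15)))) (.node (.node (.leaf (3, 676, 1)) (.leaf (4, 1197, 2))) (.node (.leaf (3, 1923, 1)) (.leaf (3, 1516, 0))))) (.node (.node (.node (.node (.leaf (3, 413, 1)) (.leaf (7, 1312, 26))) (.leaf (4, 750, 2))) (.node (.leaf (3, 1558, 1)) (.leaf (5, 18, 11)))) (.node (.node (.leaf (3, 954, 1)) (.leaf (4, 1752, 2))) (.node (.leaf (4, 63, 2)) (.leaf (8, 87, 32))))))) (.node (.node (.node (.node (.node (.node (.leaf (3, 106, 1)) (.leaf (8, 1306, 36))) (.leaf (4, 299, 2))) (.node (.leaf (3, 1165, 1)) (.leaf (5, 134, 9)))) (.node (.node (.leaf (3, 612, 1)) (.leaf (4, 1062, 2))) (.node (.leaf (3, 1826, 1)) (.leaf (7, 199, 19))))) (.node (.node (.node (.node (.leaf (3, 346, 1)) (.leaf (6, 1122, 8))) (.leaf (4, 659, 2))) (.node (.leaf (3, 1482, 1)) (.leaf (6, 725, 13)))) (.node (.node (.leaf (3, 876, 1)) (.leaf (4, 1594, 2))) (.node (.leaf (3, 2283, 1)) (.leaf (7, 785, 12)))))) (.node (.node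 (.node (.node (.node (.leaf (3, 227, 1)) (.leaf (4, 2270, 2))) (.leaf (4, 491, 2))) (.node (.leaf (3, 1314, 1)) (.leaf (7, 1, 16)))) (.node (.node (.leaf (3, 744, 1)) (.leaf (4, 1322, 2))) (.node (.leaf (3, 2003, 1)) (.leaf (5, 1275, 1))))) (.node (.node (.node (.node (.leaf (3, 475, 1)) (.leaf (8, 1345, 37))) (.leaf (4, 859, 2))) (.node (.leaf (3, 1657, 1)) (.leaf (4, 840, 0)))) (.node (.node (.leaf (3, 1024, 1)) (.leaf (4, 1933, 2))) (.node (.leaf (4, 136, 2)) (.leaf (8, 370, 27))))))))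

/-- data -/
def cert0 : Trie (ℕ × ℕ × ℕ) := .node (.node (.node (.node (cert0p0) (cert0p8)) (.node (cert0p4) (cert0p12))) (.node (.node (cert0p2) (cert0p10)) (.node (cert0p6) (cert0p14)))) (.node (.node (.node (cert0p1) (cert0p9)) (.node (cert0p5) (cert0p13))) (.node (.node (cert0p3) (cert0p11)) (.node (cert0p7) (cert0p15))))

/-- data -/
def pot0p0 : Trie (ℕ) := .node (.node (.node (.node (.node (.node (.node (.node (.leaf 0x100) (.leaf 0x8120602)) (.leaf 0x2d20502)) (.node (.leaf 0x28c0502) (.leaf 0x3520502))) (.node (.node (.leaf 0x20c0502) (.leaf 0x3500502)) (.node (.leaf 0x2ce0502) (.leaf 0x3940502)))) (.node (.node (.node (.node (.leaf 0xca0402) (.leaf 0x3d60502)) (.leaf 0x3100502)) (.node (.leaf 0x2cc0502) (.leaf 0x3540502))) (.node (.node (.leaf 0x24c0502) (.leaf 0x3520502)) (.node (.leaf 0x2d00502) (.leaf 0x3d20502))))) (.node (.node (.node (.node (.node (.leaf 0xa80402) (.leaf 0x3d60502)) (.leaf 0x2d20502)) (.node (.leaf 0x28e0502) (.leaf 0x3540502)))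 (.node (.node (.leaf 0x24a0502) (.leaf 0x3500502)) (.node (.leaf 0x30e0502) (.leaf 0x3940502)))) (.node (.node (.node (.node (.leaf 0x2080502) (.leaf 0x8160602)) (.leaf 0x3120502)) (.node (.leaf 0x2ce0502) (.leaf 0x3540502))) (.node (.node (.leaf 0x24e0502) (.leaf 0x3140502)) (.node (.leaf 0x2d00502) (.leaf 0x3d40502)))))) (.node (.node (.node (.node (.node (.node (.leaf 0x860402) (.leaf 0x8120602)) (.leaf 0x3100502)) (.node (.leaf 0x2500502) (.leaf 0x3900502))) (.node (.node (.leaf 0x20c0502) (.leaf 0x3500502)) (.node (.leaf 0x30c0502) (.leaf 0x3940502)))) (.node (.node (.node (.node (.leaf 0xea0402) (.leaf 0x8920602)) (.leaf 0x3120502)) (.node (.leaf 0x2520502) (.leaf 0x3920502))) (.node (.node (.leaf 0x28a0502) (.leaf 0x3140502)) (.node (.leaf 0x2d00502) (.leaf 0x3940502))))) (.node (.node (.node (.node (.node (.leaf 0xc80402) (.leaf 0x8140602)) (.leaf 0x2d20502)) (.node (.leaf 0x28e0502) (.leaf 0x3920502))) (.node (.node (.leaf 0x24c0502) (.leaf 0x38e0502))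 (.node (.leaf 0x2d00502) (.leaf 0x3d20502)))) (.node (.node (.node (.node (.leaf 0x20a0502) (.leaf 0x8960602)) (.leaf 0x3120502)) (.node (.leaf 0x2900502) (.leaf 0x3d00502))) (.node (.node (.leaf 0x28c0502) (.leaf 0x3900502)) (.node (.leaf 0x2d20502) (.leaf 0x3d40502))))))) (.node (.node (.node (.node (.node (.node (.node (.leaf 0x340302) (.leaf 0x3960502)) (.leaf 0x3100502)) (.node (.leaf 0x2ca0502) (.leaf 0x3520502))) (.node (.node (.leaf 0x20c0502) (.leaf 0x3120502)) (.node (.leaf 0x30c0502) (.leaf 0x3940502)))) (.node (.node (.node (.node (.leaf 0x2060502) (.leaf 0x8920602)) (.leaf 0x3100502)) (.node (.leaf 0x2cc0502) (.leaf 0x3920502))) (.node (.node (.leaf 0x24c0502) (.leaf 0x3520502)) (.node (.leaf 0x30e0502) (.leaf 0x3940502))))) (.node (.node (.node (.node (.node (.leaf 0xaa0402) (.leaf 0x3d60502)) (.leaf 0x3100502)) (.node (.leaf 0x28e0502) (.leaf 0x3540502))) (.node (.node (.leaf 0x24c0502) (.leaf 0x3500502)) (.node (.leaf 0x2d00502) (.leaf 0x3940502))))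 (.node (.node (.node (.node (.leaf 0xec0402) (.leaf 0x8160602)) (.leaf 0x3120502)) (.node (.leaf 0x2ce0502) (.leaf 0x3540502))) (.node (.node (.leaf 0x24e0502) (.leaf 0x3900502)) (.node (.leaf 0x30e0502) (.leaf 0x3960502)))))) (.node (.node (.node (.node (.node (.node (.leaf 0xa60402) (.leaf 0x8120602)) (.leaf 0x2d20502)) (.node (.leaf 0x2500502) (.leaf 0x3ce0502))) (.node (.node (.leaf 0x24a0502) (.leaf 0x3120502)) (.node (.leaf 0x2d00502) (.leaf 0x3560502)))) (.node (.node (.node (.node (.leaf 0xea0402) (.leaf 0x8160602)) (.leaf 0x3120502)) (.node (.leaf 0x2ce0502) (.leaf 0x3d00502))) (.node (.node (.leaf 0x2100502) (.leaf 0x3520502)) (.node (.leaf 0x30e0502) (.leaf 0x3d40502))))) (.node (.node (.node (.node (.node (.leaf 0xca0402) (.leaf 0x8140602)) (.leaf 0x34e0502)) (.node (.leaf 0x28e0502) (.leaf 0x3920502))) (.node (.node (.leaf 0x24c0502) (.leaf 0x3520502)) (.node (.leaf 0x2d00502) (.leaf 0x3940502)))) (.node (.node (.node (.node (.leaf 0x20a0502) (.leaf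 0x8960602)) (.leaf 0x3120502)) (.node (.leaf 0x2ce0502) (.leaf 0x3920502))) (.node (.node (.leaf 0x28c0502) (.leaf 0x3900502)) (.node (.leaf 0x3100502) (.leaf 0x3d40502)))))))

/-- data -/
def pot0p1 : Trie (ℕ) := .node (.node (.node (.node (.node (.node (.node (.node (.leaf 0x20201) (.leaf 0x3d40502)) (.leaf 0x2d20502)) (.node (.leaf 0x28c0502) (.leaf 0x3520502))) (.node (.node (.leaf 0xee0402) (.leaf 0x3120502)) (.node (.leaf 0x2ce0502) (.leaf 0x3940502)))) (.node (.node (.node (.node (.leaf 0xe80402) (.leaf 0x3d60502)) (.leaf 0x3100502)) (.node (.leaf 0x2cc0502) (.leaf 0x3920502))) (.node (.node (.leaf 0x24c0502) (.leaf 0x3520502)) (.node (.leaf 0x30e0502) (.leaf 0x3d20502))))) (.node (.node (.node (.node (.node (.leaf 0xa80402) (.leaf 0x3d60502)) (.leaf 0x3100502)) (.node (.leaf 0x28e0502) (.leaf 0x3160502))) (.node (.node (.leaf 0x24a0502) (.leaf 0x3500502)) (.node (.leaf 0x2920502) (.leaf 0x3560502)))) (.node (.node (.node (.node (.leaf 0xce0402) (.leaf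 0x8940602)) (.leaf 0x2d40502)) (.node (.leaf 0x2900502) (.leaf 0x3920502))) (.node (.node (.leaf 0x24e0502) (.leaf 0x3520502)) (.node (.leaf 0x30e0502) (.leaf 0x3d40502)))))) (.node (.node (.node (.node (.node (.node (.leaf 0x860402) (.leaf 0x8120602)) (.leaf 0x2d20502)) (.node (.leaf 0x2500502) (.leaf 0x3900502))) (.node (.node (.leaf 0x20c0502) (.leaf 0x38e0502)) (.node (.leaf 0x30c0502) (.leaf 0x3d20502)))) (.node (.node (.node (.node (.leaf 0xea0402) (.leaf 0x3d60502)) (.leaf 0x3120502)) (.node (.leaf 0x2900502) (.leaf 0x3d00502))) (.node (.node (.leaf 0x28a0502) (.leaf 0x3520502)) (.node (.leaf 0x2d00502) (.leaf 0x3d20502))))) (.node (.node (.node (.node (.node (.leaf 0xc80402) (.leaf 0x3d60502)) (.leaf 0x3100502)) (.node (.leaf 0x28e0502) (.leaf 0x3920502))) (.node (.node (.leaf 0x20e0502) (.leaf 0x38e0502)) (.node (.leaf 0x2d00502) (.leaf 0x3d20502)))) (.node (.node (.node (.node (.leaf 0x20a0502) (.leaf 0x8180602)) (.leaf 0x3120502)) (.node (.leaf 0x2ce0502)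 (.leaf 0x3920502))) (.node (.node (.leaf 0x24e0502) (.leaf 0x3900502)) (.node (.leaf 0x2d20502) (.leaf 0x3d40502))))))) (.node (.node (.node (.node (.node (.node (.node (.leaf 0x340302) (.leaf 0x3960502)) (.leaf 0x3100502)) (.node (.leaf 0x2ca0502) (.leaf 0x3900502))) (.node (.node (.leaf 0x20c0502) (.leaf 0x3500502)) (.node (.leaf 0x2900502) (.leaf 0x3940502)))) (.node (.node (.node (.node (.leaf 0xcc0402) (.leaf 0x3d60502)) (.leaf 0x34e0502)) (.node (.leaf 0x2520502) (.leaf 0x3920502))) (.node (.node (.leaf 0x24c0502) (.leaf 0x3900502)) (.node (.leaf 0x30e0502) (.leaf 0x3d20502))))) (.node (.node (.node (.node (.node (.leaf 0xaa0402) (.leaf 0x3d60502)) (.leaf 0x3100502)) (.node (.leaf 0x28e0502) (.leaf 0x3920502))) (.node (.node (.leaf 0x24c0502) (.leaf 0x38e0502)) (.node (.leaf 0x2920502) (.leaf 0x3940502)))) (.node (.node (.node (.node (.leaf 0xec0402) (.leaf 0x8940602)) (.leaf 0x3120502)) (.node (.leaf 0x2ce0502) (.leaf 0x3920502))) (.node (.node (.leaf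 0x24e0502) (.leaf 0x3520502)) (.node (.leaf 0x30e0502) (.leaf 0x3960502)))))) (.node (.node (.node (.node (.node (.node (.leaf 0xa60402) (.leaf 0x8120602)) (.leaf 0x3100502)) (.node (.leaf 0x2500502) (.leaf 0x3160502))) (.node (.node (.leaf 0x24a0502) (.leaf 0x3500502)) (.node (.leaf 0x2d00502) (.leaf 0x3940502)))) (.node (.node (.node (.node (.leaf 0x2080502) (.leaf 0x3d80502)) (.leaf 0x3500502)) (.node (.leaf 0x2ce0502) (.leaf 0x3d00502))) (.node (.node (.leaf 0x24e0502) (.leaf 0x3900502)) (.node (.leaf 0x30e0502) (.leaf 0x3580502))))) (.node (.node (.node (.node (.node (.leaf 0xca0402) (.leaf 0x8140602)) (.leaf 0x34e0502)) (.node (.leaf 0x28e0502) (.leaf 0x3540502))) (.node (.node (.leaf 0x20e0502) (.leaf 0x3520502)) (.node (.leaf 0x2d00502) (.leaf 0x3d20502)))) (.node (.node (.node (.node (.leaf 0x20a0502) (.leaf 0x8180602)) (.leaf 0x3120502)) (.node (.leaf 0x2ce0502) (.leaf 0x3920502))) (.node (.node (.leaf 0x28c0502) (.leaf 0x3900502)) (.node (.leaf 0x2d20502)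 (.leaf 0x3960502)))))))

/-- data -/
def pot0p2 : Trie (ℕ) := .node (.node (.node (.node (.node (.node (.node (.node (.leaf 0x80202) (.leaf 0x3960502)) (.leaf 0x2d20502)) (.node (.leaf 0x28c0502) (.leaf 0x3520502))) (.node (.node (.leaf 0x20c0502) (.leaf 0x3120502)) (.node (.leaf 0x2900502) (.leaf 0x3560502)))) (.node (.node (.node (.node (.leaf 0xe80402) (.leaf 0x3d60502)) (.leaf 0x34e0502)) (.node (.leaf 0x2cc0502) (.leaf 0x3540502))) (.node (.node (.leaf 0x24c0502) (.leaf 0x3900502)) (.node (.leaf 0x30e0502) (.leaf 0x3d20502))))) (.node (.node (.node (.node (.node (.leaf 0xa80402) (.leaf 0x3d60502)) (.leaf 0x3100502)) (.node (.leaf 0x2cc0502) (.leaf 0x3540502))) (.node (.node (.leaf 0x24a0502) (.leaf 0x3500502)) (.node (.leaf 0x2d00502) (.leaf 0x3940502)))) (.node (.node (.node (.node (.leaf 0xec0402) (.leaf 0x8160602)) (.leaf 0x3120502)) (.node (.leaf 0x2900502) (.leaf 0x3920502))) (.node (.node (.leaf 0x24e0502) (.leaf 0x3520502)) (.node (.leaf 0x2d00502)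 (.leaf 0x3d40502)))))) (.node (.node (.node (.node (.node (.node (.leaf 0x860402) (.leaf 0x3960502)) (.leaf 0x3100502)) (.node (.leaf 0x28e0502) (.leaf 0x3ce0502))) (.node (.node (.leaf 0x20c0502) (.leaf 0x3120502)) (.node (.leaf 0x30c0502) (.leaf 0x3d20502)))) (.node (.node (.node (.node (.leaf 0xea0402) (.leaf 0x3d60502)) (.leaf 0x3120502)) (.node (.leaf 0x2900502) (.leaf 0x3920502))) (.node (.node (.leaf 0x28a0502) (.leaf 0x3140502)) (.node (.leaf 0x2d00502) (.leaf 0x3d20502))))) (.node (.node (.node (.node (.node (.leaf 0xc80402) (.leaf 0x3980502)) (.leaf 0x2d20502)) (.node (.leaf 0x2cc0502) (.leaf 0x3920502))) (.node (.node (.leaf 0x24c0502) (.leaf 0x3140502)) (.node (.leaf 0x2d00502) (.leaf 0x3d20502)))) (.node (.node (.node (.node (.leaf 0xec0402) (.leaf 0x8180602)) (.leaf 0x3120502)) (.node (.leaf 0x2ce0502) (.leaf 0x3d00502))) (.node (.node (.leaf 0x28c0502) (.leaf 0x3520502)) (.node (.leaf 0x3100502) (.leaf 0x3d40502))))))) (.node (.node (.node (.node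 (.node (.node (.node (.leaf 0x340302) (.leaf 0x3d40502)) (.leaf 0x34e0502)) (.node (.leaf 0x2500502) (.leaf 0x3520502))) (.node (.node (.leaf 0x20c0502) (.leaf 0x3500502)) (.node (.leaf 0x2ce0502) (.leaf 0x3940502)))) (.node (.node (.node (.node (.leaf 0xcc0402) (.leaf 0x8140602)) (.leaf 0x34e0502)) (.node (.leaf 0x2900502) (.leaf 0x3920502))) (.node (.node (.leaf 0x24c0502) (.leaf 0x3140502)) (.node (.leaf 0x30e0502) (.leaf 0x3d20502))))) (.node (.node (.node (.node (.node (.leaf 0xaa0402) (.leaf 0x3d60502)) (.leaf 0x3100502)) (.node (.leaf 0x2cc0502) (.leaf 0x3920502))) (.node (.node (.leaf 0x20e0502) (.leaf 0x3500502)) (.node (.leaf 0x2d00502) (.leaf 0x3940502)))) (.node (.node (.node (.node (.leaf 0x20a0502) (.leaf 0x8160602)) (.leaf 0x3500502)) (.node (.leaf 0x2900502) (.leaf 0x3920502))) (.node (.node (.leaf 0x24e0502) (.leaf 0x3900502)) (.node (.leaf 0x34c0502) (.leaf 0x3960502)))))) (.node (.node (.node (.node (.node (.node (.leaf 0x880402) (.leaf 0x3d40502))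 (.leaf 0x2d20502)) (.node (.leaf 0x2500502) (.leaf 0x3160502))) (.node (.node (.leaf 0x24a0502) (.leaf 0x3120502)) (.node (.leaf 0x2d00502) (.leaf 0x3940502)))) (.node (.node (.node (.node (.leaf 0xea0402) (.leaf 0x3d80502)) (.leaf 0x3500502)) (.node (.leaf 0x2ce0502) (.leaf 0x3d00502))) (.node (.node (.leaf 0x24e0502) (.leaf 0x3900502)) (.node (.leaf 0x30e0502) (.leaf 0x3960502))))) (.node (.node (.node (.node (.node (.leaf 0xca0402) (.leaf 0x3d60502)) (.leaf 0x3100502)) (.node (.leaf 0x28e0502) (.leaf 0x3920502))) (.node (.node (.leaf 0x24c0502) (.leaf 0x3520502)) (.node (.leaf 0x30e0502) (.leaf 0x3d20502)))) (.node (.node (.node (.node (.leaf 0x20a0502) (.leaf 0x8960602)) (.leaf 0x3120502)) (.node (.leaf 0x2ce0502) (.leaf 0x3d00502))) (.node (.node (.leaf 0x28c0502) (.leaf 0x3520502)) (.node (.leaf 0x2d20502) (.leaf 0x3d40502)))))))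

/-- data -/
def pot0p3 : Trie (ℕ) := .node (.node (.node (.node (.node (.node (.node (.node (.leaf 0xa0202) (.leaf 0x3d40502)) (.leaf 0x2d20502)) (.node (.leaf 0x28c0502) (.leaf 0x3520502))) (.node (.node (.leaf 0x20c0502) (.leaf 0x3500502)) (.node (.leaf 0x2ce0502) (.leaf 0x3560502)))) (.node (.node (.node (.node (.leaf 0xca0402) (.leaf 0x8140602)) (.leaf 0x34e0502)) (.node (.leaf 0x28e0502) (.leaf 0x3920502))) (.node (.node (.leaf 0x24c0502) (.leaf 0x3140502)) (.node (.leaf 0x2d00502) (.leaf 0x3940502))))) (.node (.node (.node (.node (.node (.leaf 0xc60402) (.leaf 0x3d60502)) (.leaf 0x2d20502)) (.node (.leaf 0x28e0502) (.leaf 0x3540502))) (.node (.node (.leaf 0x24a0502) (.leaf 0x3500502)) (.node (.leaf 0x2d00502) (.leaf 0x3d20502)))) (.node (.node (.node (.node (.leaf 0xec0402) (.leaf 0x3d80502)) (.leaf 0x3120502)) (.node (.leaf 0x2ce0502) (.leaf 0x3920502))) (.node (.node (.leaf 0x28c0502) (.leaf 0x3900502)) (.node (.leaf 0x30e0502) (.leaf 0x3d40502))))))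 (.node (.node (.node (.node (.node (.node (.leaf 0x860402) (.leaf 0x3d40502)) (.leaf 0x2d20502)) (.node (.leaf 0x2500502) (.leaf 0x3520502))) (.node (.node (.leaf 0x20c0502) (.leaf 0x3120502)) (.node (.leaf 0x2920502) (.leaf 0x3940502)))) (.node (.node (.node (.node (.leaf 0xea0402) (.leaf 0x8140602)) (.leaf 0x3500502)) (.node (.leaf 0x2900502) (.leaf 0x3920502))) (.node (.node (.leaf 0x2100502) (.leaf 0x3520502)) (.node (.leaf 0x2d00502) (.leaf 0x3580502))))) (.node (.node (.node (.node (.node (.leaf 0xc80402) (.leaf 0x3d60502)) (.leaf 0x3100502)) (.node (.leaf 0x28e0502) (.leaf 0x3540502))) (.node (.node (.leaf 0x24c0502) (.leaf 0x2d60502)) (.node (.leaf 0x2d00502) (.leaf 0x3940502)))) (.node (.node (.node (.node (.leaf 0x20a0502) (.leaf 0x8180602)) (.leaf 0x3120502)) (.node (.leaf 0x2900502) (.leaf 0x3540502))) (.node (.node (.leaf 0x28c0502) (.leaf 0x3520502)) (.node (.leaf 0x3100502) (.leaf 0x3d40502))))))) (.node (.node (.node (.node (.node (.node (.node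 (.leaf 0x340302) (.leaf 0x3d40502)) (.leaf 0x2d20502)) (.node (.leaf 0x2500502) (.leaf 0x3520502))) (.node (.node (.leaf 0x20c0502) (.leaf 0x3120502)) (.node (.leaf 0x2ce0502) (.leaf 0x3940502)))) (.node (.node (.node (.node (.leaf 0xcc0402) (.leaf 0x8140602)) (.leaf 0x34e0502)) (.node (.leaf 0x2520502) (.leaf 0x3540502))) (.node (.node (.leaf 0x28a0502) (.leaf 0x3140502)) (.node (.leaf 0x2d00502) (.leaf 0x3d20502))))) (.node (.node (.node (.node (.node (.leaf 0xc80402) (.leaf 0x3d60502)) (.leaf 0x3100502)) (.node (.leaf 0x2500502) (.leaf 0x3920502))) (.node (.node (.leaf 0x20e0502) (.leaf 0x3500502)) (.node (.leaf 0x2d00502) (.leaf 0x3d20502)))) (.node (.node (.node (.node (.leaf 0xec0402) (.leaf 0x8940602)) (.leaf 0x3120502)) (.node (.leaf 0x2ce0502) (.leaf 0x3d00502))) (.node (.node (.leaf 0x24e0502) (.leaf 0x3900502)) (.node (.leaf 0x30e0502) (.leaf 0x3d40502)))))) (.node (.node (.node (.node (.node (.node (.leaf 0xa60402) (.leaf 0x8120602)) (.leaf 0x3100502))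 (.node (.leaf 0x2500502) (.leaf 0x3160502))) (.node (.node (.leaf 0x24a0502) (.leaf 0x3500502)) (.node (.leaf 0x2d00502) (.leaf 0x3940502)))) (.node (.node (.node (.node (.leaf 0x2080502) (.leaf 0x8160602)) (.leaf 0x2d40502)) (.node (.leaf 0x2900502) (.leaf 0x3920502))) (.node (.node (.leaf 0x24e0502) (.leaf 0x3520502)) (.node (.leaf 0x2d00502) (.leaf 0x3960502))))) (.node (.node (.node (.node (.node (.leaf 0xca0402) (.leaf 0x3d60502)) (.leaf 0x3100502)) (.node (.leaf 0x28e0502) (.leaf 0x3540502))) (.node (.node (.leaf 0x24c0502) (.leaf 0x3140502)) (.node (.leaf 0x2d00502) (.leaf 0x8100602)))) (.node (.node (.node (.node (.leaf 0x20a0502) (.leaf 0x8980602)) (.leaf 0x3120502)) (.node (.leaf 0x2ce0502) (.leaf 0x3560502))) (.node (.node (.leaf 0x2ca0502) (.leaf 0x3900502)) (.node (.leaf 0x2d20502) (.leaf 0x3960502)))))))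

/-- data -/
def pot0p4 : Trie (ℕ) := .node (.node (.node (.node (.node (.node (.node (.node (.leaf 0xa0202) (.leaf 0x3d40502)) (.leaf 0x3100502)) (.node (.leaf 0x2ca0502) (.leaf 0x3520502))) (.node (.node (.leaf 0x20c0502) (.leaf 0x3120502)) (.node (.leaf 0x2ce0502) (.leaf 0x3940502)))) (.node (.node (.node (.node (.leaf 0xe80402) (.leaf 0x3d60502)) (.leaf 0x3100502)) (.node (.leaf 0x28e0502) (.leaf 0x3540502))) (.node (.node (.leaf 0x24c0502) (.leaf 0x3140502)) (.node (.leaf 0x2d00502) (.leaf 0x3940502))))) (.node (.node (.node (.node (.node (.leaf 0xa80402) (.leaf 0x3d60502)) (.leaf 0x3100502)) (.node (.leaf 0x2500502) (.leaf 0x3540502))) (.node (.node (.leaf 0x24a0502) (.leaf 0x3500502)) (.node (.leaf 0x2d00502) (.leaf 0x3940502)))) (.node (.node (.node (.node (.leaf 0xec0402) (.leaf 0x3d80502)) (.leaf 0x2d40502)) (.node (.leaf 0x2900502) (.leaf 0x3920502))) (.node (.node (.leaf 0x24e0502) (.leaf 0x3140502)) (.node (.leaf 0x30e0502) (.leaf 0x3d40502))))))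 (.node (.node (.node (.node (.node (.node (.leaf 0x860402) (.leaf 0x3d40502)) (.leaf 0x3100502)) (.node (.leaf 0x28e0502) (.leaf 0x3520502))) (.node (.node (.leaf 0x24a0502) (.leaf 0x3120502)) (.node (.leaf 0x2920502) (.leaf 0x3d20502)))) (.node (.node (.node (.node (.leaf 0xea0402) (.leaf 0x8140602)) (.leaf 0x2d40502)) (.node (.leaf 0x2900502) (.leaf 0x3920502))) (.node (.node (.leaf 0x2100502) (.leaf 0x3520502)) (.node (.leaf 0x2d00502) (.leaf 0x3960502))))) (.node (.node (.node (.node (.node (.leaf 0xe60402) (.leaf 0x3980502)) (.leaf 0x3100502)) (.node (.leaf 0x2cc0502) (.leaf 0x3540502))) (.node (.node (.leaf 0x24c0502) (.leaf 0x3140502)) (.node (.leaf 0x2d00502) (.leaf 0x3940502)))) (.node (.node (.node (.node (.leaf 0x20a0502) (.leaf 0x8180602)) (.leaf 0x3120502)) (.node (.leaf 0x2ce0502) (.leaf 0x3920502))) (.node (.node (.leaf 0x24e0502) (.leaf 0x3520502)) (.node (.leaf 0x3100502) (.leaf 0x3d40502))))))) (.node (.node (.node (.node (.node (.node (.node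 (.leaf 0x340302) (.leaf 0x3d40502)) (.leaf 0x2d20502)) (.node (.leaf 0x2500502) (.leaf 0x3900502))) (.node (.node (.leaf 0x20c0502) (.leaf 0x3500502)) (.node (.leaf 0x2ce0502) (.leaf 0x3d20502)))) (.node (.node (.node (.node (.leaf 0xea0402) (.leaf 0x8920602)) (.leaf 0x34e0502)) (.node (.leaf 0x2900502) (.leaf 0x3920502))) (.node (.node (.leaf 0x24c0502) (.leaf 0x3140502)) (.node (.leaf 0x2d00502) (.leaf 0x8100602))))) (.node (.node (.node (.node (.node (.leaf 0xaa0402) (.leaf 0x3d60502)) (.leaf 0x3100502)) (.node (.leaf 0x28e0502) (.leaf 0x3540502))) (.node (.node (.leaf 0x20e0502) (.leaf 0x3500502)) (.node (.leaf 0x2d00502) (.leaf 0x3940502)))) (.node (.node (.node (.node (.leaf 0x20a0502) (.leaf 0x8160602)) (.leaf 0x3500502)) (.node (.leaf 0x2ce0502) (.leaf 0x3920502))) (.node (.node (.leaf 0x24e0502) (.leaf 0x3520502)) (.node (.leaf 0x34c0502) (.leaf 0x3d40502)))))) (.node (.node (.node (.node (.node (.node (.leaf 0xa60402) (.leaf 0x3d40502)) (.leaf 0x3100502))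 (.node (.leaf 0x28e0502) (.leaf 0x3160502))) (.node (.node (.leaf 0x20c0502) (.leaf 0x3500502)) (.node (.leaf 0x2920502) (.leaf 0x3940502)))) (.node (.node (.node (.node (.leaf 0x2080502) (.leaf 0x8160602)) (.leaf 0x3120502)) (.node (.leaf 0x2900502) (.leaf 0x3920502))) (.node (.node (.leaf 0x24e0502) (.leaf 0x3900502)) (.node (.leaf 0x2d00502) (.leaf 0x3960502))))) (.node (.node (.node (.node (.node (.leaf 0xe80402) (.leaf 0x8140602)) (.leaf 0x3100502)) (.node (.leaf 0x2cc0502) (.leaf 0x3920502))) (.node (.node (.leaf 0x20e0502) (.leaf 0x3520502)) (.node (.leaf 0x30e0502) (.leaf 0x3940502)))) (.node (.node (.node (.node (.leaf 0x20a0502) (.leaf 0x8980602)) (.leaf 0x3120502)) (.node (.leaf 0x30c0502) (.leaf 0x3560502))) (.node (.node (.leaf 0x24e0502) (.leaf 0x3900502)) (.node (.leaf 0x3100502) (.leaf 0x3d40502)))))))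

/-- data -/
def pot0p5 : Trie (ℕ) := .node (.node (.node (.node (.node (.node (.node (.node (.leaf 0x200302) (.leaf 0x3d40502)) (.leaf 0x3100502)) (.node (.leaf 0x24e0502) (.leaf 0x3520502))) (.node (.node (.leaf 0x20c0502) (.leaf 0x3120502)) (.node (.leaf 0x2ce0502) (.leaf 0x3560502)))) (.node (.node (.node (.node (.leaf 0xe80402) (.leaf 0x8140602)) (.leaf 0x34e0502)) (.node (.leaf 0x28e0502) (.leaf 0x3540502))) (.node (.node (.leaf 0x28a0502) (.leaf 0x3140502)) (.node (.leaf 0x30e0502) (.leaf 0x3d20502))))) (.node (.node (.node (.node (.node (.leaf 0xa80402) (.leaf 0x3980502)) (.leaf 0x3100502)) (.node (.leaf 0x2500502) (.leaf 0x3540502))) (.node (.node (.leaf 0x2880502) (.leaf 0x3500502)) (.node (.leaf 0x2d00502) (.leaf 0x3940502)))) (.node (.node (.node (.node (.leaf 0xec0402) (.leaf 0x3d80502)) (.leaf 0x2d40502)) (.node (.leaf 0x2ce0502) (.leaf 0x3d00502))) (.node (.node (.leaf 0x24e0502) (.leaf 0x3140502)) (.node (.leaf 0x30e0502) (.leaf 0x3960502))))))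 (.node (.node (.node (.node (.node (.node (.leaf 0x860402) (.leaf 0x3960502)) (.leaf 0x3100502)) (.node (.leaf 0x28e0502) (.leaf 0x3520502))) (.node (.node (.leaf 0x20c0502) (.leaf 0x3120502)) (.node (.leaf 0x2920502) (.leaf 0x3560502)))) (.node (.node (.node (.node (.leaf 0x2080502) (.leaf 0x8140602)) (.leaf 0x2d40502)) (.node (.leaf 0x2900502) (.leaf 0x3d00502))) (.node (.node (.leaf 0x24e0502) (.leaf 0x3520502)) (.node (.leaf 0x2d00502) (.leaf 0x3580502))))) (.node (.node (.node (.node (.node (.leaf 0xc80402) (.leaf 0x3d60502)) (.leaf 0x3100502)) (.node (.leaf 0x2cc0502) (.leaf 0x3160502))) (.node (.node (.leaf 0x20e0502) (.leaf 0x3140502)) (.node (.leaf 0x30e0502) (.leaf 0x3940502)))) (.node (.node (.node (.node (.leaf 0x20a0502) (.leaf 0x8180602)) (.leaf 0x3120502)) (.node (.leaf 0x2900502) (.leaf 0x3d00502))) (.node (.node (.leaf 0x24e0502) (.leaf 0x3520502)) (.node (.leaf 0x2d20502) (.leaf 0x8120602))))))) (.node (.node (.node (.node (.node (.node (.node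 (.leaf 0x820402) (.leaf 0x8120602)) (.leaf 0x3100502)) (.node (.leaf 0x2500502) (.leaf 0x3900502))) (.node (.node (.leaf 0x24a0502) (.leaf 0x3500502)) (.node (.leaf 0x2ce0502) (.leaf 0x3d20502)))) (.node (.node (.node (.node (.leaf 0xcc0402) (.leaf 0x8920602)) (.leaf 0x2d40502)) (.node (.leaf 0x2900502) (.leaf 0x3920502))) (.node (.node (.leaf 0x24c0502) (.leaf 0x3520502)) (.node (.leaf 0x30e0502) (.leaf 0x3d20502))))) (.node (.node (.node (.node (.node (.leaf 0xc80402) (.leaf 0x3d60502)) (.leaf 0x34e0502)) (.node (.leaf 0x28e0502) (.leaf 0x3540502))) (.node (.node (.leaf 0x24c0502) (.leaf 0x38e0502)) (.node (.leaf 0x2d00502) (.leaf 0x3940502)))) (.node (.node (.node (.node (.leaf 0x20a0502) (.leaf 0x8940602)) (.leaf 0x3500502)) (.node (.leaf 0x2ce0502) (.leaf 0x3d00502))) (.node (.node (.leaf 0x28c0502) (.leaf 0x3520502)) (.node (.leaf 0x2d20502) (.leaf 0x3d40502)))))) (.node (.node (.node (.node (.node (.node (.leaf 0xa60402) (.leaf 0x8120602)) (.leaf 0x3100502))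 (.node (.leaf 0x28e0502) (.leaf 0x3540502))) (.node (.node (.leaf 0x20c0502) (.leaf 0x3500502)) (.node (.leaf 0x2920502) (.leaf 0x3940502)))) (.node (.node (.node (.node (.leaf 0xea0402) (.leaf 0x8160602)) (.leaf 0x3120502)) (.node (.leaf 0x2900502) (.leaf 0x3920502))) (.node (.node (.leaf 0x24e0502) (.leaf 0x3140502)) (.node (.leaf 0x30e0502) (.leaf 0x3960502))))) (.node (.node (.node (.node (.node (.leaf 0xca0402) (.leaf 0x8140602)) (.leaf 0x3100502)) (.node (.leaf 0x28e0502) (.leaf 0x3920502))) (.node (.node (.leaf 0x24c0502) (.leaf 0x3140502)) (.node (.leaf 0x30e0502) (.leaf 0x3d20502)))) (.node (.node (.node (.node (.leaf 0x20a0502) (.leaf 0x81a0602)) (.leaf 0x3500502)) (.node (.leaf 0x2ce0502) (.leaf 0x3560502))) (.node (.node (.leaf 0x24e0502) (.leaf 0x3900502)) (.node (.leaf 0x3100502) (.leaf 0x3d40502)))))))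

/-- data -/
def pot0p6 : Trie (ℕ) := .node (.node (.node (.node (.node (.node (.node (.node (.leaf 0x140302) (.leaf 0x3d40502)) (.leaf 0x2d20502)) (.node (.leaf 0x28c0502) (.leaf 0x3900502))) (.node (.node (.leaf 0x20c0502) (.leaf 0x3120502)) (.node (.leaf 0x2ce0502) (.leaf 0x3940502)))) (.node (.node (.node (.node (.leaf 0xe80402) (.leaf 0x8140602)) (.leaf 0x34e0502)) (.node (.leaf 0x2cc0502) (.leaf 0x3920502))) (.node (.node (.leaf 0x24c0502) (.leaf 0x3520502)) (.node (.leaf 0x2d00502) (.leaf 0x3d20502))))) (.node (.node (.node (.node (.node (.leaf 0xa80402) (.leaf 0x3d60502)) (.leaf 0x3100502)) (.node (.leaf 0x28e0502) (.leaf 0x3920502))) (.node (.node (.leaf 0x1d00502) (.leaf 0x38e0502)) (.node (.leaf 0x30e0502) (.leaf 0x3940502)))) (.node (.node (.node (.node (.leaf 0xec0402) (.leaf 0x8160602)) (.leaf 0x3120502)) (.node (.leaf 0x2ce0502) (.leaf 0x3540502))) (.node (.node (.leaf 0x28c0502) (.leaf 0x3520502)) (.node (.leaf 0x30e0502) (.leaf 0x3960502))))))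 (.node (.node (.node (.node (.node (.node (.leaf 0x860402) (.leaf 0x3d40502)) (.leaf 0x2d20502)) (.node (.leaf 0x28e0502) (.leaf 0x3900502))) (.node (.node (.leaf 0x20c0502) (.leaf 0x3500502)) (.node (.leaf 0x2920502) (.leaf 0x3940502)))) (.node (.node (.node (.node (.leaf 0xcc0402) (.leaf 0x8140602)) (.leaf 0x3120502)) (.node (.leaf 0x2900502) (.leaf 0x3540502))) (.node (.node (.leaf 0x2100502) (.leaf 0x3520502)) (.node (.leaf 0x30e0502) (.leaf 0x3580502))))) (.node (.node (.node (.node (.node (.leaf 0xc80402) (.leaf 0x3d60502)) (.leaf 0x3100502)) (.node (.leaf 0x28e0502) (.leaf 0x3540502))) (.node (.node (.leaf 0x24c0502) (.leaf 0x3140502)) (.node (.leaf 0x30e0502) (.leaf 0x3940502)))) (.node (.node (.node (.node (.leaf 0x20a0502) (.leaf 0x8960602)) (.leaf 0x3500502)) (.node (.leaf 0x2ce0502) (.leaf 0x3d00502))) (.node (.node (.leaf 0x28c0502) (.leaf 0x3520502)) (.node (.leaf 0x2d20502) (.leaf 0x3960502))))))) (.node (.node (.node (.node (.node (.node (.node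 (.leaf 0x360302) (.leaf 0x3d40502)) (.leaf 0x3100502)) (.node (.leaf 0x2500502) (.leaf 0x3900502))) (.node (.node (.leaf 0x20c0502) (.leaf 0x3500502)) (.node (.leaf 0x30c0502) (.leaf 0x3560502)))) (.node (.node (.node (.node (.leaf 0xea0402) (.leaf 0x8140602)) (.leaf 0x2d40502)) (.node (.leaf 0x2520502) (.leaf 0x3540502))) (.node (.node (.leaf 0x24c0502) (.leaf 0x3140502)) (.node (.leaf 0x2d00502) (.leaf 0x3d20502))))) (.node (.node (.node (.node (.node (.leaf 0xc80402) (.leaf 0x8140602)) (.leaf 0x34e0502)) (.node (.leaf 0x28e0502) (.leaf 0x3540502))) (.node (.node (.leaf 0x24c0502) (.leaf 0x38e0502)) (.node (.leaf 0x30e0502) (.leaf 0x3940502)))) (.node (.node (.node (.node (.leaf 0xec0402) (.leaf 0x8160602)) (.leaf 0x3500502)) (.node (.leaf 0x2ce0502) (.leaf 0x3540502))) (.node (.node (.leaf 0x24e0502) (.leaf 0x3520502)) (.node (.leaf 0x2940502) (.leaf 0x3960502)))))) (.node (.node (.node (.node (.node (.node (.leaf 0xa60402) (.leaf 0x8900602)) (.leaf 0x3100502))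 (.node (.leaf 0x28e0502) (.leaf 0x3160502))) (.node (.node (.leaf 0x24a0502) (.leaf 0x3120502)) (.node (.leaf 0x2920502) (.leaf 0x3d20502)))) (.node (.node (.node (.node (.leaf 0xea0402) (.leaf 0x8160602)) (.leaf 0x3120502)) (.node (.leaf 0x2900502) (.leaf 0x3d00502))) (.node (.node (.leaf 0x28c0502) (.leaf 0x3140502)) (.node (.leaf 0x2d00502) (.leaf 0x3d40502))))) (.node (.node (.node (.node (.node (.leaf 0xca0402) (.leaf 0x8140602)) (.leaf 0x3100502)) (.node (.leaf 0x28e0502) (.leaf 0x3920502))) (.node (.node (.leaf 0x24c0502) (.leaf 0x3520502)) (.node (.leaf 0x2d00502) (.leaf 0x3560502)))) (.node (.node (.node (.node (.leaf 0x2480502) (.leaf 0x8980602)) (.leaf 0x3120502)) (.node (.leaf 0x2ce0502) (.leaf 0x3560502))) (.node (.node (.leaf 0x24e0502) (.leaf 0x3140502)) (.node (.leaf 0x3100502) (.leaf 0x3960502)))))))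

/-- data -/
def pot0p7 : Trie (ℕ) := .node (.node (.node (.node (.node (.node (.node (.node (.leaf 0x220302) (.leaf 0x8120602)) (.leaf 0x3100502)) (.node (.leaf 0x28c0502) (.leaf 0x3900502))) (.node (.node (.leaf 0xee0402) (.leaf 0x3500502)) (.node (.leaf 0x2ce0502) (.leaf 0x3940502)))) (.node (.node (.node (.node (.leaf 0xe80402) (.leaf 0x8140602)) (.leaf 0x34e0502)) (.node (.leaf 0x2cc0502) (.leaf 0x3920502))) (.node (.node (.leaf 0x24c0502) (.leaf 0x3520502)) (.node (.leaf 0x2d00502) (.leaf 0x3d20502))))) (.node (.node (.node (.node (.node (.leaf 0xc60402) (.leaf 0x3d60502)) (.leaf 0x3100502)) (.node (.leaf 0x2500502) (.leaf 0x3160502))) (.node (.node (.leaf 0x20e0502) (.leaf 0x3500502)) (.node (.leaf 0x2d00502) (.leaf 0x3d20502)))) (.node (.node (.node (.node (.leaf 0xec0402) (.leaf 0x3d80502)) (.leaf 0x3120502)) (.node (.leaf 0x2ce0502) (.leaf 0x3540502))) (.node (.node (.leaf 0x28c0502) (.leaf 0x3140502)) (.node (.leaf 0x30e0502) (.leaf 0x3960502))))))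 (.node (.node (.node (.node (.node (.node (.leaf 0xa40402) (.leaf 0x3d40502)) (.leaf 0x3100502)) (.node (.leaf 0x28e0502) (.leaf 0x3520502))) (.node (.node (.leaf 0x24a0502) (.leaf 0x3120502)) (.node (.leaf 0x2920502) (.leaf 0x3560502)))) (.node (.node (.node (.node (.leaf 0xea0402) (.leaf 0x8140602)) (.leaf 0x3120502)) (.node (.leaf 0x2ce0502) (.leaf 0x3540502))) (.node (.node (.leaf 0x24e0502) (.leaf 0x3520502)) (.node (.leaf 0x2d00502) (.leaf 0x3960502))))) (.node (.node (.node (.node (.node (.leaf 0xc80402) (.leaf 0x8140602)) (.leaf 0x3100502)) (.node (.leaf 0x28e0502) (.leaf 0x3540502))) (.node (.node (.leaf 0x24c0502) (.leaf 0x3140502)) (.node (.leaf 0x2d00502) (.leaf 0x3d20502)))) (.node (.node (.node (.node (.leaf 0xec0402) (.leaf 0x8960602)) (.leaf 0x3120502)) (.node (.leaf 0x2ce0502) (.leaf 0x3d00502))) (.node (.node (.leaf 0x24e0502) (.leaf 0x3900502)) (.node (.leaf 0x2d20502) (.leaf 0x3960502))))))) (.node (.node (.node (.node (.node (.node (.node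 (.leaf 0x360302) (.leaf 0x3d40502)) (.leaf 0x3100502)) (.node (.leaf 0x2500502) (.leaf 0x3900502))) (.node (.node (.leaf 0x20c0502) (.leaf 0x3500502)) (.node (.leaf 0x2ce0502) (.leaf 0x3560502)))) (.node (.node (.node (.node (.leaf 0xea0402) (.leaf 0x8140602)) (.leaf 0x2d40502)) (.node (.leaf 0x2900502) (.leaf 0x3920502))) (.node (.node (.leaf 0x28a0502) (.leaf 0x3140502)) (.node (.leaf 0x30e0502) (.leaf 0x3940502))))) (.node (.node (.node (.node (.node (.leaf 0xaa0402) (.leaf 0x3980502)) (.leaf 0x34e0502)) (.node (.leaf 0x28e0502) (.leaf 0x3540502))) (.node (.node (.leaf 0x20e0502) (.leaf 0x3120502)) (.node (.leaf 0x2920502) (.leaf 0x3940502)))) (.node (.node (.node (.node (.leaf 0x20a0502) (.leaf 0x8160602)) (.leaf 0x3120502)) (.node (.leaf 0x2900502) (.leaf 0x3920502))) (.node (.node (.leaf 0x24e0502) (.leaf 0x3140502)) (.node (.leaf 0x2d20502) (.leaf 0x3960502)))))) (.node (.node (.node (.node (.node (.node (.leaf 0xa60402) (.leaf 0x3d40502)) (.leaf 0x3100502))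 (.node (.leaf 0x28e0502) (.leaf 0x3540502))) (.node (.node (.leaf 0x20c0502) (.leaf 0x3500502)) (.node (.leaf 0x2d00502) (.leaf 0x3940502)))) (.node (.node (.node (.node (.leaf 0xea0402) (.leaf 0x8160602)) (.leaf 0x3120502)) (.node (.leaf 0x2900502) (.leaf 0x3920502))) (.node (.node (.leaf 0x24e0502) (.leaf 0x3520502)) (.node (.leaf 0x30e0502) (.leaf 0x3d40502))))) (.node (.node (.node (.node (.node (.leaf 0xca0402) (.leaf 0x3d60502)) (.leaf 0x3100502)) (.node (.leaf 0x2cc0502) (.leaf 0x3540502))) (.node (.node (.leaf 0x24c0502) (.leaf 0x3520502)) (.node (.leaf 0x30e0502) (.leaf 0x3940502)))) (.node (.node (.node (.node (.leaf 0x20a0502) (.leaf 0x9160602)) (.leaf 0x3500502)) (.node (.leaf 0x30c0502) (.leaf 0x3560502))) (.node (.node (.leaf 0x28c0502) (.leaf 0x3520502)) (.node (.leaf 0x3100502) (.leaf 0x3d40502)))))))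

/-- data -/
def pot0p8 : Trie (ℕ) := .node (.node (.node (.node (.node (.node (.node (.node (.leaf 0x220302) (.leaf 0x8120602)) (.leaf 0x3100502)) (.node (.leaf 0x28c0502) (.leaf 0x3520502))) (.node (.node (.leaf 0x20c0502) (.leaf 0x3500502)) (.node (.leaf 0x30c0502) (.leaf 0x3940502)))) (.node (.node (.node (.node (.leaf 0xca0402) (.leaf 0x3d60502)) (.leaf 0x34e0502)) (.node (.leaf 0x2cc0502) (.leaf 0x3540502))) (.node (.node (.leaf 0x28a0502) (.leaf 0x3520502)) (.node (.leaf 0x2d00502) (.leaf 0x3940502))))) (.node (.node (.node (.node (.node (.leaf 0xa80402) (.leaf 0x3980502)) (.leaf 0x34e0502)) (.node (.leaf 0x28e0502) (.leaf 0x3540502))) (.node (.node (.leaf 0x20e0502) (.leaf 0x38e0502)) (.node (.leaf 0x2d00502) (.leaf 0x3560502)))) (.node (.node (.node (.node (.leaf 0x20a0502) (.leaf 0x3d80502)) (.leaf 0x3120502)) (.node (.leaf 0x2900502) (.leaf 0x3920502))) (.node (.node (.leaf 0x24e0502) (.leaf 0x3520502)) (.node (.leaf 0x30e0502) (.leaf 0x3d40502))))))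 (.node (.node (.node (.node (.node (.node (.leaf 0x860402) (.leaf 0x3d40502)) (.leaf 0x3100502)) (.node (.leaf 0x2500502) (.leaf 0x3900502))) (.node (.node (.leaf 0x20c0502) (.leaf 0x3120502)) (.node (.leaf 0x2d00502) (.leaf 0x3560502)))) (.node (.node (.node (.node (.leaf 0xea0402) (.leaf 0x8920602)) (.leaf 0x3120502)) (.node (.leaf 0x2ce0502) (.leaf 0x3920502))) (.node (.node (.leaf 0x2100502) (.leaf 0x3520502)) (.node (.leaf 0x30e0502) (.leaf 0x3580502))))) (.node (.node (.node (.node (.node (.leaf 0xe60402) (.leaf 0x8140602)) (.leaf 0x34e0502)) (.node (.leaf 0x28e0502) (.leaf 0x3540502))) (.node (.node (.leaf 0x24c0502) (.leaf 0x3140502)) (.node (.leaf 0x30e0502) (.leaf 0x3d20502)))) (.node (.node (.node (.node (.leaf 0x20a0502) (.leaf 0x8960602)) (.leaf 0x3120502)) (.node (.leaf 0x2ce0502) (.leaf 0x3920502))) (.node (.node (.leaf 0x28c0502) (.leaf 0x3520502)) (.node (.leaf 0x2d20502) (.leaf 0x3d40502))))))) (.node (.node (.node (.node (.node (.node (.node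 (.leaf 0x360302) (.leaf 0x3d40502)) (.leaf 0x3100502)) (.node (.leaf 0x2500502) (.leaf 0x3520502))) (.node (.node (.leaf 0x24a0502) (.leaf 0x3500502)) (.node (.leaf 0x30c0502) (.leaf 0x3560502)))) (.node (.node (.node (.node (.leaf 0xcc0402) (.leaf 0x8140602)) (.leaf 0x2d40502)) (.node (.leaf 0x2520502) (.leaf 0x3540502))) (.node (.node (.leaf 0x28a0502) (.leaf 0x3140502)) (.node (.leaf 0x30e0502) (.leaf 0x3d20502))))) (.node (.node (.node (.node (.node (.leaf 0xc80402) (.leaf 0x3d60502)) (.leaf 0x3100502)) (.node (.leaf 0x28e0502) (.leaf 0x3920502))) (.node (.node (.leaf 0x24c0502) (.leaf 0x3500502)) (.node (.leaf 0x2d00502) (.leaf 0x3940502)))) (.node (.node (.node (.node (.leaf 0x20a0502) (.leaf 0x8940602)) (.leaf 0x3120502)) (.node (.leaf 0x2900502) (.leaf 0x3540502))) (.node (.node (.leaf 0x28c0502) (.leaf 0x3520502)) (.node (.leaf 0x2d20502) (.leaf 0x3d40502)))))) (.node (.node (.node (.node (.node (.node (.leaf 0xa60402) (.leaf 0x3d40502)) (.leaf 0x3100502))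 (.node (.leaf 0x2500502) (.leaf 0x3540502))) (.node (.node (.leaf 0x24a0502) (.leaf 0x3500502)) (.node (.leaf 0x2d00502) (.leaf 0x3d20502)))) (.node (.node (.node (.node (.leaf 0x2080502) (.leaf 0x3d80502)) (.leaf 0x3120502)) (.node (.leaf 0x2ce0502) (.leaf 0x3920502))) (.node (.node (.leaf 0x24e0502) (.leaf 0x3520502)) (.node (.leaf 0x30e0502) (.leaf 0x3580502))))) (.node (.node (.node (.node (.node (.leaf 0xe80402) (.leaf 0x3980502)) (.leaf 0x3100502)) (.node (.leaf 0x28e0502) (.leaf 0x3920502))) (.node (.node (.leaf 0x24c0502) (.leaf 0x3140502)) (.node (.leaf 0x2920502) (.leaf 0x3940502)))) (.node (.node (.node (.node (.leaf 0x20a0502) (.leaf 0x8980602)) (.leaf 0x3500502)) (.node (.leaf 0x2ce0502) (.leaf 0x3560502))) (.node (.node (.leaf 0x28c0502) (.leaf 0x3520502)) (.node (.leaf 0x2d20502) (.leaf 0x3960502)))))))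

/-- data -/
def pot0p9 : Trie (ℕ) := .node (.node (.node (.node (.node (.node (.node (.node (.leaf 0x220302) (.leaf 0x8120602)) (.leaf 0x2d20502)) (.node (.leaf 0x28c0502) (.leaf 0x3520502))) (.node (.node (.leaf 0x20c0502) (.leaf 0x3500502)) (.node (.leaf 0x2ce0502) (.leaf 0x3560502)))) (.node (.node (.node (.node (.leaf 0xe80402) (.leaf 0x3d60502)) (.leaf 0x3100502)) (.node (.leaf 0x2cc0502) (.leaf 0x3920502))) (.node (.node (.leaf 0x24c0502) (.leaf 0x3520502)) (.node (.leaf 0x2d00502) (.leaf 0x3940502))))) (.node (.node (.node (.node (.node (.leaf 0xc60402) (.leaf 0x3d60502)) (.leaf 0x3100502)) (.node (.leaf 0x28e0502) (.leaf 0x3540502))) (.node (.node (.leaf 0x20e0502) (.leaf 0x3120502)) (.node (.leaf 0x30e0502) (.leaf 0x3940502)))) (.node (.node (.node (.node (.leaf 0xec0402) (.leaf 0x8160602)) (.leaf 0x3120502)) (.node (.leaf 0x2900502) (.leaf 0x3540502))) (.node (.node (.leaf 0x24e0502) (.leaf 0x3140502)) (.node (.leaf 0x34c0502) (.leaf 0x3d40502))))))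 (.node (.node (.node (.node (.node (.node (.leaf 0xa40402) (.leaf 0x8120602)) (.leaf 0x2d20502)) (.node (.leaf 0x28e0502) (.leaf 0x3900502))) (.node (.node (.leaf 0x24a0502) (.leaf 0x3120502)) (.node (.leaf 0x2920502) (.leaf 0x3940502)))) (.node (.node (.node (.node (.leaf 0xea0402) (.leaf 0x8920602)) (.leaf 0x3120502)) (.node (.leaf 0x2ce0502) (.leaf 0x3540502))) (.node (.node (.leaf 0x24e0502) (.leaf 0x3900502)) (.node (.leaf 0x30e0502) (.leaf 0x3960502))))) (.node (.node (.node (.node (.node (.leaf 0xc80402) (.leaf 0x3980502)) (.leaf 0x2d20502)) (.node (.leaf 0x2cc0502) (.leaf 0x3540502))) (.node (.node (.leaf 0x24c0502) (.leaf 0x3140502)) (.node (.leaf 0x2920502) (.leaf 0x3940502)))) (.node (.node (.node (.node (.leaf 0x20a0502) (.leaf 0x8180602)) (.leaf 0x3500502)) (.node (.leaf 0x2ce0502) (.leaf 0x3d00502))) (.node (.node (.leaf 0x28c0502) (.leaf 0x3900502)) (.node (.leaf 0x3100502) (.leaf 0x3960502))))))) (.node (.node (.node (.node (.node (.node (.node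 (.leaf 0x840402) (.leaf 0x3d40502)) (.leaf 0x3100502)) (.node (.leaf 0x28e0502) (.leaf 0x3520502))) (.node (.node (.leaf 0x20c0502) (.leaf 0x38e0502)) (.node (.leaf 0x30c0502) (.leaf 0x3940502)))) (.node (.node (.node (.node (.leaf 0xea0402) (.leaf 0x3d60502)) (.leaf 0x2d40502)) (.node (.leaf 0x2900502) (.leaf 0x3920502))) (.node (.node (.leaf 0x24c0502) (.leaf 0x3140502)) (.node (.leaf 0x30e0502) (.leaf 0x3d20502))))) (.node (.node (.node (.node (.node (.leaf 0xc80402) (.leaf 0x3d60502)) (.leaf 0x34e0502)) (.node (.leaf 0x2cc0502) (.leaf 0x3540502))) (.node (.node (.leaf 0x24c0502) (.leaf 0x3500502)) (.node (.leaf 0x2d00502) (.leaf 0x3d20502)))) (.node (.node (.node (.node (.leaf 0x20a0502) (.leaf 0x8160602)) (.leaf 0x3500502)) (.node (.leaf 0x2900502) (.leaf 0x3920502))) (.node (.node (.leaf 0x24e0502) (.leaf 0x3520502)) (.node (.leaf 0x2940502) (.leaf 0x3960502)))))) (.node (.node (.node (.node (.node (.node (.leaf 0xa60402) (.leaf 0x8120602)) (.leaf 0x3100502))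 (.node (.leaf 0x28e0502) (.leaf 0x3540502))) (.node (.node (.leaf 0x24a0502) (.leaf 0x3500502)) (.node (.leaf 0x2920502) (.leaf 0x3940502)))) (.node (.node (.node (.node (.leaf 0xea0402) (.leaf 0x3d80502)) (.leaf 0x3500502)) (.node (.leaf 0x2900502) (.leaf 0x3920502))) (.node (.node (.leaf 0x28c0502) (.leaf 0x3140502)) (.node (.leaf 0x30e0502) (.leaf 0x3960502))))) (.node (.node (.node (.node (.node (.leaf 0xca0402) (.leaf 0x3d60502)) (.leaf 0x34e0502)) (.node (.leaf 0x2cc0502) (.leaf 0x3920502))) (.node (.node (.leaf 0x20e0502) (.leaf 0x3140502)) (.node (.leaf 0x2d00502) (.leaf 0x3940502)))) (.node (.node (.node (.node (.leaf 0x2480502) (.leaf 0x8980602)) (.leaf 0x3120502)) (.node (.leaf 0x30c0502) (.leaf 0x3560502))) (.node (.node (.leaf 0x24e0502) (.leaf 0x3520502)) (.node (.leaf 0x3100502) (.leaf 0x3d40502)))))))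

/-- data -/
def pot0p10 : Trie (ℕ) := .node (.node (.node (.node (.node (.node (.node (.node (.leaf 0x240302) (.leaf 0x3d40502)) (.leaf 0x2d20502)) (.node (.leaf 0x28c0502) (.leaf 0x3900502))) (.node (.node (.leaf 0x20c0502) (.leaf 0x3500502)) (.node (.leaf 0x2ce0502) (.leaf 0x3560502)))) (.node (.node (.node (.node (.leaf 0xe80402) (.leaf 0x3d60502)) (.leaf 0x3100502)) (.node (.leaf 0x28e0502) (.leaf 0x3540502))) (.node (.node (.leaf 0x28a0502) (.leaf 0x3520502)) (.node (.leaf 0x30e0502) (.leaf 0x3940502))))) (.node (.node (.node (.node (.node (.leaf 0xc60402) (.leaf 0x3d60502)) (.leaf 0x3100502)) (.node (.leaf 0x28e0502) (.leaf 0x3540502))) (.node (.node (.leaf 0x20e0502) (.leaf 0x3120502)) (.node (.leaf 0x2d00502) (.leaf 0x3560502)))) (.node (.node (.node (.node (.leaf 0xec0402) (.leaf 0x8160602)) (.leaf 0x3120502)) (.node (.leaf 0x2900502) (.leaf 0x3920502))) (.node (.node (.leaf 0x24e0502) (.leaf 0x3520502)) (.node (.leaf 0x2d00502) (.leaf 0x3d40502))))))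 (.node (.node (.node (.node (.node (.node (.leaf 0xa40402) (.leaf 0x3d40502)) (.leaf 0x3100502)) (.node (.leaf 0x28e0502) (.leaf 0x3900502))) (.node (.node (.leaf 0x20c0502) (.leaf 0x3120502)) (.node (.leaf 0x2d00502) (.leaf 0x3940502)))) (.node (.node (.node (.node (.leaf 0xea0402) (.leaf 0x8140602)) (.leaf 0x2d40502)) (.node (.leaf 0x2900502) (.leaf 0x3920502))) (.node (.node (.leaf 0x24e0502) (.leaf 0x3140502)) (.node (.leaf 0x2d00502) (.leaf 0x3960502))))) (.node (.node (.node (.node (.node (.leaf 0xe60402) (.leaf 0x3d60502)) (.leaf 0x3100502)) (.node (.leaf 0x2cc0502) (.leaf 0x3920502))) (.node (.node (.leaf 0x24c0502) (.leaf 0x3520502)) (.node (.leaf 0x2d00502) (.leaf 0x3d20502)))) (.node (.node (.node (.node (.leaf 0x20a0502) (.leaf 0x8180602)) (.leaf 0x3120502)) (.node (.leaf 0x2ce0502) (.leaf 0x3920502))) (.node (.node (.leaf 0x28c0502) (.leaf 0x3900502)) (.node (.leaf 0x2d20502) (.leaf 0x3d40502))))))) (.node (.node (.node (.node (.node (.node (.node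 (.leaf 0x360302) (.leaf 0x8120602)) (.leaf 0x34e0502)) (.node (.leaf 0x2500502) (.leaf 0x3520502))) (.node (.node (.leaf 0x24a0502) (.leaf 0x3120502)) (.node (.leaf 0x2ce0502) (.leaf 0x3940502)))) (.node (.node (.node (.node (.leaf 0xea0402) (.leaf 0x8140602)) (.leaf 0x2d40502)) (.node (.leaf 0x2900502) (.leaf 0x3920502))) (.node (.node (.leaf 0x24c0502) (.leaf 0x3520502)) (.node (.leaf 0x30e0502) (.leaf 0x8100602))))) (.node (.node (.node (.node (.node (.leaf 0xc80402) (.leaf 0x3d60502)) (.leaf 0x34e0502)) (.node (.leaf 0x28e0502) (.leaf 0x3920502))) (.node (.node (.leaf 0x24c0502) (.leaf 0x3500502)) (.node (.leaf 0x2d00502) (.leaf 0x3940502)))) (.node (.node (.node (.node (.leaf 0x20a0502) (.leaf 0x8940602)) (.leaf 0x3500502)) (.node (.leaf 0x2ce0502) (.leaf 0x3920502))) (.node (.node (.leaf 0x28c0502) (.leaf 0x3520502)) (.node (.leaf 0x2d20502) (.leaf 0x3d40502)))))) (.node (.node (.node (.node (.node (.node (.leaf 0xc40402) (.leaf 0x3d40502)) (.leaf 0x3100502))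 (.node (.leaf 0x28e0502) (.leaf 0x3540502))) (.node (.node (.leaf 0x20c0502) (.leaf 0x38e0502)) (.node (.leaf 0x2d00502) (.leaf 0x3940502)))) (.node (.node (.node (.node (.leaf 0x2080502) (.leaf 0x8160602)) (.leaf 0x3120502)) (.node (.leaf 0x2ce0502) (.leaf 0x3d00502))) (.node (.node (.leaf 0x24e0502) (.leaf 0x3140502)) (.node (.leaf 0x30e0502) (.leaf 0x3960502))))) (.node (.node (.node (.node (.node (.leaf 0xe80402) (.leaf 0x8140602)) (.leaf 0x3100502)) (.node (.leaf 0x2cc0502) (.leaf 0x3920502))) (.node (.node (.leaf 0x24c0502) (.leaf 0x3140502)) (.node (.leaf 0x2d00502) (.leaf 0x3d20502)))) (.node (.node (.node (.node (.leaf 0x20a0502) (.leaf 0x8980602)) (.leaf 0x3500502)) (.node (.leaf 0x2900502) (.leaf 0x3940502))) (.node (.node (.leaf 0x28c0502) (.leaf 0x3140502)) (.node (.leaf 0x3100502) (.leaf 0x3d40502)))))))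

/-- data -/
def pot0p11 : Trie (ℕ) := .node (.node (.node (.node (.node (.node (.node (.node (.leaf 0x240302) (.leaf 0x3d40502)) (.leaf 0x2d20502)) (.node (.leaf 0x2ca0502) (.leaf 0x3900502))) (.node (.node (.leaf 0x20c0502) (.leaf 0x3500502)) (.node (.leaf 0x2ce0502) (.leaf 0x3560502)))) (.node (.node (.node (.node (.leaf 0xe80402) (.leaf 0x8140602)) (.leaf 0x3100502)) (.node (.leaf 0x2cc0502) (.leaf 0x3540502))) (.node (.node (.leaf 0x28a0502) (.leaf 0x3140502)) (.node (.leaf 0x2d00502) (.leaf 0x3940502))))) (.node (.node (.node (.node (.node (.leaf 0xa80402) (.leaf 0x3d60502)) (.leaf 0x34e0502)) (.node (.leaf 0x28e0502) (.leaf 0x3540502))) (.node (.node (.leaf 0x20e0502) (.leaf 0x3500502)) (.node (.leaf 0x30e0502) (.leaf 0x3940502)))) (.node (.node (.node (.node (.leaf 0x20a0502) (.leaf 0x8160602)) (.leaf 0x3500502)) (.node (.leaf 0x2900502) (.leaf 0x3920502))) (.node (.node (.leaf 0x28c0502) (.leaf 0x3520502)) (.node (.leaf 0x30e0502) (.leaf 0x3d40502))))))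 (.node (.node (.node (.node (.node (.node (.leaf 0x880402) (.leaf 0x3d40502)) (.leaf 0x3100502)) (.node (.leaf 0x28e0502) (.leaf 0x3ce0502))) (.node (.node (.leaf 0x20c0502) (.leaf 0x3500502)) (.node (.leaf 0x2920502) (.leaf 0x3940502)))) (.node (.node (.node (.node (.leaf 0xea0402) (.leaf 0x3d80502)) (.leaf 0x3120502)) (.node (.leaf 0x2900502) (.leaf 0x3920502))) (.node (.node (.leaf 0x24e0502) (.leaf 0x3520502)) (.node (.leaf 0x2d00502) (.leaf 0x3960502))))) (.node (.node (.node (.node (.node (.leaf 0xe60402) (.leaf 0x3d60502)) (.leaf 0x3100502)) (.node (.leaf 0x28e0502) (.leaf 0x3540502))) (.node (.node (.leaf 0x24c0502) (.leaf 0x3140502)) (.node (.leaf 0x2d00502) (.leaf 0x3d20502)))) (.node (.node (.node (.node (.leaf 0x20a0502) (.leaf 0x8960602)) (.leaf 0x3120502)) (.node (.leaf 0x2ce0502) (.leaf 0x3920502))) (.node (.node (.leaf 0x28c0502) (.leaf 0x3900502)) (.node (.leaf 0x2d20502) (.leaf 0x8120602))))))) (.node (.node (.node (.node (.node (.node (.node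 (.leaf 0x840402) (.leaf 0x8120602)) (.leaf 0x3100502)) (.node (.leaf 0x28e0502) (.leaf 0x3900502))) (.node (.node (.leaf 0x24a0502) (.leaf 0x3500502)) (.node (.leaf 0x2ce0502) (.leaf 0x3940502)))) (.node (.node (.node (.node (.leaf 0xea0402) (.leaf 0x8140602)) (.leaf 0x2d40502)) (.node (.leaf 0x2900502) (.leaf 0x3540502))) (.node (.node (.leaf 0x24c0502) (.leaf 0x3140502)) (.node (.leaf 0x2d00502) (.leaf 0x3d20502))))) (.node (.node (.node (.node (.node (.leaf 0xc80402) (.leaf 0x3d60502)) (.leaf 0x3100502)) (.node (.leaf 0x28e0502) (.leaf 0x3920502))) (.node (.node (.leaf 0x24c0502) (.leaf 0x3500502)) (.node (.leaf 0x2d00502) (.leaf 0x3940502)))) (.node (.node (.node (.node (.leaf 0xec0402) (.leaf 0x8940602)) (.leaf 0x3500502)) (.node (.leaf 0x2900502) (.leaf 0x3920502))) (.node (.node (.leaf 0x28c0502) (.leaf 0x3520502)) (.node (.leaf 0x2d20502) (.leaf 0x3d40502)))))) (.node (.node (.node (.node (.node (.node (.leaf 0x8a0402) (.leaf 0x3980502)) (.leaf 0x34e0502))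 (.node (.leaf 0x28e0502) (.leaf 0x3540502))) (.node (.node (.leaf 0x24a0502) (.leaf 0x3120502)) (.node (.leaf 0x2d00502) (.leaf 0x3d20502)))) (.node (.node (.node (.node (.leaf 0x2080502) (.leaf 0x8160602)) (.leaf 0x3120502)) (.node (.leaf 0x2900502) (.leaf 0x3540502))) (.node (.node (.leaf 0x28c0502) (.leaf 0x3520502)) (.node (.leaf 0x30e0502) (.leaf 0x3960502))))) (.node (.node (.node (.node (.node (.leaf 0xe80402) (.leaf 0x3980502)) (.leaf 0x34e0502)) (.node (.leaf 0x28e0502) (.leaf 0x3920502))) (.node (.node (.leaf 0x24c0502) (.leaf 0x3520502)) (.node (.leaf 0x2d00502) (.leaf 0x3d20502)))) (.node (.node (.node (.node (.leaf 0x2480502) (.leaf 0x8980602)) (.leaf 0x3500502)) (.node (.leaf 0x2900502) (.leaf 0x3940502))) (.node (.node (.leaf 0x28c0502) (.leaf 0x3520502)) (.node (.leaf 0x3100502) (.leaf 0x3d40502)))))))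

/-- data -/
def pot0p12 : Trie (ℕ) := .node (.node (.node (.node (.node (.node (.node (.node (.leaf 0x240302) (.leaf 0x8120602)) (.leaf 0x2d20502)) (.node (.leaf 0x28c0502) (.leaf 0x3520502))) (.node (.node (.leaf 0x20c0502) (.leaf 0x3500502)) (.node (.leaf 0x2ce0502) (.leaf 0x3940502)))) (.node (.node (.node (.node (.leaf 0xe80402) (.leaf 0x8140602)) (.leaf 0x3100502)) (.node (.leaf 0x2cc0502) (.leaf 0x3540502))) (.node (.node (.leaf 0x20e0502) (.leaf 0x3520502)) (.node (.leaf 0x30e0502) (.leaf 0x3d20502))))) (.node (.node (.node (.node (.node (.leaf 0xc60402) (.leaf 0x3d60502)) (.leaf 0x3100502)) (.node (.leaf 0x28e0502) (.leaf 0x3920502))) (.node (.node (.leaf 0x20e0502) (.leaf 0x3500502)) (.node (.leaf 0x2920502) (.leaf 0x3560502)))) (.node (.node (.node (.node (.leaf 0xec0402) (.leaf 0x8940602)) (.leaf 0x3120502)) (.node (.leaf 0x2900502) (.leaf 0x3920502))) (.node (.node (.leaf 0x28c0502) (.leaf 0x3520502)) (.node (.leaf 0x30e0502) (.leaf 0x3d40502))))))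 (.node (.node (.node (.node (.node (.node (.leaf 0x880402) (.leaf 0x3d40502)) (.leaf 0x3100502)) (.node (.leaf 0x28e0502) (.leaf 0x3520502))) (.node (.node (.leaf 0x20c0502) (.leaf 0x3500502)) (.node (.leaf 0x2920502) (.leaf 0x3940502)))) (.node (.node (.node (.node (.leaf 0xea0402) (.leaf 0x39a0502)) (.leaf 0x3120502)) (.node (.leaf 0x2900502) (.leaf 0x3920502))) (.node (.node (.leaf 0x24e0502) (.leaf 0x3520502)) (.node (.leaf 0x2d00502) (.leaf 0x3d40502))))) (.node (.node (.node (.node (.node (.leaf 0xac0402) (.leaf 0x3d60502)) (.leaf 0x3100502)) (.node (.leaf 0x2cc0502) (.leaf 0x3920502))) (.node (.node (.leaf 0x28a0502) (.leaf 0x3520502)) (.node (.leaf 0x2d00502) (.leaf 0x3d20502)))) (.node (.node (.node (.node (.leaf 0x20a0502) (.leaf 0x8960602)) (.leaf 0x3500502)) (.node (.leaf 0x2ce0502) (.leaf 0x3920502))) (.node (.node (.leaf 0x24e0502) (.leaf 0x3900502)) (.node (.leaf 0x3100502) (.leaf 0x3960502))))))) (.node (.node (.node (.node (.node (.node (.node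 (.leaf 0x840402) (.leaf 0x3960502)) (.leaf 0x3100502)) (.node (.leaf 0x28e0502) (.leaf 0x3900502))) (.node (.node (.leaf 0xee0402) (.leaf 0x3500502)) (.node (.leaf 0x2ce0502) (.leaf 0x3940502)))) (.node (.node (.node (.node (.leaf 0xea0402) (.leaf 0x8920602)) (.leaf 0x3120502)) (.node (.leaf 0x2900502) (.leaf 0x3540502))) (.node (.node (.leaf 0x28a0502) (.leaf 0x3520502)) (.node (.leaf 0x30e0502) (.leaf 0x3d20502))))) (.node (.node (.node (.node (.node (.leaf 0xaa0402) (.leaf 0x8140602)) (.leaf 0x34e0502)) (.node (.leaf 0x2cc0502) (.leaf 0x3540502))) (.node (.node (.leaf 0x20e0502) (.leaf 0x38e0502)) (.node (.leaf 0x2d00502) (.leaf 0x3940502)))) (.node (.node (.node (.node (.leaf 0xec0402) (.leaf 0x8940602)) (.leaf 0x3500502)) (.node (.leaf 0x2ce0502) (.leaf 0x3920502))) (.node (.node (.leaf 0x24e0502) (.leaf 0x3520502)) (.node (.leaf 0x2d20502) (.leaf 0x3960502)))))) (.node (.node (.node (.node (.node (.node (.leaf 0xa80402) (.leaf 0x3980502)) (.leaf 0x2d20502))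 (.node (.leaf 0x2cc0502) (.leaf 0x3540502))) (.node (.node (.leaf 0x24a0502) (.leaf 0x3500502)) (.node (.leaf 0x2d00502) (.leaf 0x3d20502)))) (.node (.node (.node (.node (.leaf 0xea0402) (.leaf 0x8160602)) (.leaf 0x3500502)) (.node (.leaf 0x2900502) (.leaf 0x3540502))) (.node (.node (.leaf 0x28c0502) (.leaf 0x3520502)) (.node (.leaf 0x30e0502) (.leaf 0x3960502))))) (.node (.node (.node (.node (.node (.leaf 0xca0402) (.leaf 0x3980502)) (.leaf 0x34e0502)) (.node (.leaf 0x28e0502) (.leaf 0x3920502))) (.node (.node (.leaf 0x24c0502) (.leaf 0x3520502)) (.node (.leaf 0x2d00502) (.leaf 0x3d20502)))) (.node (.node (.node (.node (.leaf 0x2480502) (.leaf 0x89a0602)) (.leaf 0x3500502)) (.node (.leaf 0x2ce0502) (.leaf 0x3940502))) (.node (.node (.leaf 0x28c0502) (.leaf 0x3520502)) (.node (.leaf 0x3100502) (.leaf 0x3d40502)))))))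

/-- data -/
def pot0p13 : Trie (ℕ) := .node (.node (.node (.node (.node (.node (.node (.node (.leaf 0x320302) (.leaf 0x8120602)) (.leaf 0x3100502)) (.node (.leaf 0x28c0502) (.leaf 0x3520502))) (.node (.node (.leaf 0x20c0502) (.leaf 0x38e0502)) (.node (.leaf 0x2ce0502) (.leaf 0x3940502)))) (.node (.node (.node (.node (.leaf 0xe80402) (.leaf 0x8140602)) (.leaf 0x34e0502)) (.node (.leaf 0x2cc0502) (.leaf 0x3540502))) (.node (.node (.leaf 0x24c0502) (.leaf 0x3520502)) (.node (.leaf 0x30e0502) (.leaf 0x3940502))))) (.node (.node (.node (.node (.node (.leaf 0xc60402) (.leaf 0x8140602)) (.leaf 0x34e0502)) (.node (.leaf 0x2500502) (.leaf 0x3540502))) (.node (.node (.leaf 0x24c0502) (.leaf 0x3120502)) (.node (.leaf 0x2920502) (.leaf 0x3940502)))) (.node (.node (.node (.node (.leaf 0x20a0502) (.leaf 0x3d80502)) (.leaf 0x2d40502)) (.node (.leaf 0x2900502) (.leaf 0x3920502))) (.node (.node (.leaf 0x28c0502) (.leaf 0x3520502)) (.node (.leaf 0x30e0502) (.leaf 0x8120602))))))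 (.node (.node (.node (.node (.node (.node (.leaf 0x880402) (.leaf 0x8120602)) (.leaf 0x34e0502)) (.node (.leaf 0x28e0502) (.leaf 0x3900502))) (.node (.node (.leaf 0x24a0502) (.leaf 0x3500502)) (.node (.leaf 0x2d00502) (.leaf 0x3940502)))) (.node (.node (.node (.node (.leaf 0xea0402) (.leaf 0x3d80502)) (.leaf 0x3120502)) (.node (.leaf 0x2ce0502) (.leaf 0x3920502))) (.node (.node (.leaf 0x24e0502) (.leaf 0x3520502)) (.node (.leaf 0x30e0502) (.leaf 0x3960502))))) (.node (.node (.node (.node (.node (.leaf 0xca0402) (.leaf 0x8140602)) (.leaf 0x3100502)) (.node (.leaf 0x2cc0502) (.leaf 0x3920502))) (.node (.node (.leaf 0x20e0502) (.leaf 0x3140502)) (.node (.leaf 0x2d00502) (.leaf 0x3940502)))) (.node (.node (.node (.node (.leaf 0x20a0502) (.leaf 0x8960602)) (.leaf 0x3500502)) (.node (.leaf 0x30c0502) (.leaf 0x3d00502))) (.node (.node (.leaf 0x28c0502) (.leaf 0x3900502)) (.node (.leaf 0x3100502) (.leaf 0x3960502))))))) (.node (.node (.node (.node (.node (.node (.node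 (.leaf 0x840402) (.leaf 0x3d40502)) (.leaf 0x2d20502)) (.node (.leaf 0x28e0502) (.leaf 0x3900502))) (.node (.node (.leaf 0x20c0502) (.leaf 0x3500502)) (.node (.leaf 0x30c0502) (.leaf 0x3d20502)))) (.node (.node (.node (.node (.leaf 0xcc0402) (.leaf 0x3d60502)) (.leaf 0x3120502)) (.node (.leaf 0x2ce0502) (.leaf 0x3920502))) (.node (.node (.leaf 0x28a0502) (.leaf 0x3520502)) (.node (.leaf 0x30e0502) (.leaf 0x3940502))))) (.node (.node (.node (.node (.node (.leaf 0xc80402) (.leaf 0x3d60502)) (.leaf 0x34e0502)) (.node (.leaf 0x28e0502) (.leaf 0x3540502))) (.node (.node (.leaf 0x20e0502) (.leaf 0x38e0502)) (.node (.leaf 0x30e0502) (.leaf 0x3940502)))) (.node (.node (.node (.node (.leaf 0xec0402) (.leaf 0x8160602)) (.leaf 0x3500502)) (.node (.leaf 0x2ce0502) (.leaf 0x3920502))) (.node (.node (.leaf 0x24e0502) (.leaf 0x3900502)) (.node (.leaf 0x2d20502) (.leaf 0x3d40502)))))) (.node (.node (.node (.node (.node (.node (.leaf 0xa80402) (.leaf 0x3980502)) (.leaf 0x3100502))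 (.node (.leaf 0x2500502) (.leaf 0x3540502))) (.node (.node (.leaf 0x24a0502) (.leaf 0x3120502)) (.node (.leaf 0x2d00502) (.leaf 0x3940502)))) (.node (.node (.node (.node (.leaf 0x2080502) (.leaf 0x3d80502)) (.leaf 0x3500502)) (.node (.leaf 0x2900502) (.leaf 0x3540502))) (.node (.node (.leaf 0x2100502) (.leaf 0x3520502)) (.node (.leaf 0x34c0502) (.leaf 0x3960502))))) (.node (.node (.node (.node (.node (.leaf 0xca0402) (.leaf 0x3d60502)) (.leaf 0x34e0502)) (.node (.leaf 0x28e0502) (.leaf 0x3920502))) (.node (.node (.leaf 0x24c0502) (.leaf 0x3520502)) (.node (.leaf 0x2d00502) (.leaf 0x3940502)))) (.node (.node (.node (.node (.leaf 0xee0402) (.leaf 0x9180602)) (.leaf 0x3120502)) (.node (.leaf 0x2900502) (.leaf 0x3940502))) (.node (.node (.leaf 0x28c0502) (.leaf 0x3520502)) (.node (.leaf 0x2d20502) (.leaf 0x8120602)))))))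

/-- data -/
def pot0p14 : Trie (ℕ) := .node (.node (.node (.node (.node (.node (.node (.node (.leaf 0x320302) (.leaf 0x8120602)) (.leaf 0x3100502)) (.node (.leaf 0x2ca0502) (.leaf 0x3520502))) (.node (.node (.leaf 0x24a0502) (.leaf 0x3120502)) (.node (.leaf 0x2ce0502) (.leaf 0x3940502)))) (.node (.node (.node (.node (.leaf 0xe80402) (.leaf 0x8920602)) (.leaf 0x34e0502)) (.node (.leaf 0x2cc0502) (.leaf 0x3920502))) (.node (.node (.leaf 0x24c0502) (.leaf 0x3520502)) (.node (.leaf 0x2d00502) (.leaf 0x3d20502))))) (.node (.node (.node (.node (.node (.leaf 0xc60402) (.leaf 0x3980502)) (.leaf 0x34e0502)) (.node (.leaf 0x28e0502) (.leaf 0x3920502))) (.node (.node (.leaf 0x24c0502) (.leaf 0x3500502)) (.node (.leaf 0x2d00502) (.leaf 0x3940502)))) (.node (.node (.node (.node (.leaf 0x20a0502) (.leaf 0x8160602)) (.leaf 0x3120502)) (.node (.leaf 0x2ce0502) (.leaf 0x3920502))) (.node (.node (.leaf 0x28c0502) (.leaf 0x3520502)) (.node (.leaf 0x30e0502) (.leaf 0x3d40502))))))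 (.node (.node (.node (.node (.node (.node (.leaf 0xa60402) (.leaf 0x8120602)) (.leaf 0x2d20502)) (.node (.leaf 0x28e0502) (.leaf 0x3900502))) (.node (.node (.leaf 0x24a0502) (.leaf 0x3120502)) (.node (.leaf 0x2d00502) (.leaf 0x3940502)))) (.node (.node (.node (.node (.leaf 0x2080502) (.leaf 0x8160602)) (.leaf 0x3120502)) (.node (.leaf 0x2ce0502) (.leaf 0x3920502))) (.node (.node (.leaf 0x24e0502) (.leaf 0x3520502)) (.node (.leaf 0x30e0502) (.leaf 0x3960502))))) (.node (.node (.node (.node (.node (.leaf 0xca0402) (.leaf 0x3d60502)) (.leaf 0x34e0502)) (.node (.leaf 0x2cc0502) (.leaf 0x3540502))) (.node (.node (.leaf 0x20e0502) (.leaf 0x3140502)) (.node (.leaf 0x2d00502) (.leaf 0x3d20502)))) (.node (.node (.node (.node (.leaf 0x2480502) (.leaf 0x8960602)) (.leaf 0x3120502)) (.node (.leaf 0x2900502) (.leaf 0x3d00502))) (.node (.node (.leaf 0x28c0502) (.leaf 0x3520502)) (.node (.leaf 0x3100502) (.leaf 0x3d40502))))))) (.node (.node (.node (.node (.node (.node (.node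 (.leaf 0x840402) (.leaf 0x3d40502)) (.leaf 0x2d20502)) (.node (.leaf 0x28e0502) (.leaf 0x3900502))) (.node (.node (.leaf 0x20c0502) (.leaf 0x38e0502)) (.node (.leaf 0x30c0502) (.leaf 0x3940502)))) (.node (.node (.node (.node (.leaf 0xea0402) (.leaf 0x3d60502)) (.leaf 0x3120502)) (.node (.leaf 0x2900502) (.leaf 0x3540502))) (.node (.node (.leaf 0x24c0502) (.leaf 0x3520502)) (.node (.leaf 0x30e0502) (.leaf 0x8100602))))) (.node (.node (.node (.node (.node (.leaf 0xc80402) (.leaf 0x8140602)) (.leaf 0x2d20502)) (.node (.leaf 0x28e0502) (.leaf 0x3540502))) (.node (.node (.leaf 0x20e0502) (.leaf 0x3500502)) (.node (.leaf 0x30e0502) (.leaf 0x3940502)))) (.node (.node (.node (.node (.leaf 0x20a0502) (.leaf 0x8160602)) (.leaf 0x3500502)) (.node (.leaf 0x2ce0502) (.leaf 0x3920502))) (.node (.node (.leaf 0x24e0502) (.leaf 0x3900502)) (.node (.leaf 0x2d20502) (.leaf 0x3d40502)))))) (.node (.node (.node (.node (.node (.node (.leaf 0xa80402) (.leaf 0x3d60502)) (.leaf 0x3100502))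 (.node (.leaf 0x28e0502) (.leaf 0x3540502))) (.node (.node (.leaf 0x20c0502) (.leaf 0x3500502)) (.node (.leaf 0x2d00502) (.leaf 0x3d20502)))) (.node (.node (.node (.node (.leaf 0x2080502) (.leaf 0x8160602)) (.leaf 0x3500502)) (.node (.leaf 0x2ce0502) (.leaf 0x3920502))) (.node (.node (.leaf 0x24e0502) (.leaf 0x3520502)) (.node (.leaf 0x2d00502) (.leaf 0x3d40502))))) (.node (.node (.node (.node (.node (.leaf 0xca0402) (.leaf 0x3d60502)) (.leaf 0x3100502)) (.node (.leaf 0x2cc0502) (.leaf 0x3540502))) (.node (.node (.leaf 0x24c0502) (.leaf 0x3520502)) (.node (.leaf 0x2d00502) (.leaf 0x3d20502)))) (.node (.node (.node (.node (.leaf 0xee0402) (.leaf 0x9180602)) (.leaf 0x3120502)) (.node (.leaf 0x2ce0502) (.leaf 0x3940502))) (.node (.node (.leaf 0x24e0502) (.leaf 0x3520502)) (.node (.leaf 0x2d20502) (.leaf 0x3d40502)))))))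

/-- data -/
def pot0p15 : Trie (ℕ) := .node (.node (.node (.node (.node (.node (.node (.node (.leaf 0x260302) (.leaf 0x3d40502)) (.leaf 0x3100502)) (.node (.leaf 0x28c0502) (.leaf 0x3900502))) (.node (.node (.leaf 0xee0402) (.leaf 0x3120502)) (.node (.leaf 0x30c0502) (.leaf 0x3940502)))) (.node (.node (.node (.node (.leaf 0xe80402) (.leaf 0x8140602)) (.leaf 0x34e0502)) (.node (.leaf 0x2cc0502) (.leaf 0x3540502))) (.node (.node (.leaf 0x24c0502) (.leaf 0x3900502)) (.node (.leaf 0x30e0502) (.leaf 0x3d20502))))) (.node (.node (.node (.node (.node (.leaf 0xc60402) (.leaf 0x3980502)) (.leaf 0x2d20502)) (.node (.leaf 0x28e0502) (.leaf 0x3920502))) (.node (.node (.leaf 0x20e0502) (.leaf 0x3500502)) (.node (.leaf 0x2920502) (.leaf 0x3940502)))) (.node (.node (.node (.node (.leaf 0xec0402) (.leaf 0x8160602)) (.leaf 0x3120502)) (.node (.leaf 0x2900502) (.leaf 0x3d00502))) (.node (.node (.leaf 0x24e0502) (.leaf 0x3520502)) (.node (.leaf 0x34c0502) (.leaf 0x3960502))))))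 (.node (.node (.node (.node (.node (.node (.leaf 0x880402) (.leaf 0x3d40502)) (.leaf 0x2d20502)) (.node (.leaf 0x2cc0502) (.leaf 0x3900502))) (.node (.node (.leaf 0x20c0502) (.leaf 0x3120502)) (.node (.leaf 0x2920502) (.leaf 0x3d20502)))) (.node (.node (.node (.node (.leaf 0xea0402) (.leaf 0x8160602)) (.leaf 0x3500502)) (.node (.leaf 0x2900502) (.leaf 0x3920502))) (.node (.node (.leaf 0x28c0502) (.leaf 0x3900502)) (.node (.leaf 0x2d00502) (.leaf 0x3960502))))) (.node (.node (.node (.node (.node (.leaf 0xca0402) (.leaf 0x8140602)) (.leaf 0x3100502)) (.node (.leaf 0x28e0502) (.leaf 0x3540502))) (.node (.node (.leaf 0x20e0502) (.leaf 0x3520502)) (.node (.leaf 0x2d00502) (.leaf 0x3d20502)))) (.node (.node (.node (.node (.leaf 0xec0402) (.leaf 0x8180602)) (.leaf 0x3120502)) (.node (.leaf 0x2ce0502) (.leaf 0x3920502))) (.node (.node (.leaf 0x28c0502) (.leaf 0x3520502)) (.node (.leaf 0x3100502) (.leaf 0x3960502))))))) (.node (.node (.node (.node (.node (.node (.node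 (.leaf 0x680402) (.leaf 0x3d40502)) (.leaf 0x2d20502)) (.node (.leaf 0x2500502) (.leaf 0x3900502))) (.node (.node (.leaf 0x20c0502) (.leaf 0x3500502)) (.node (.leaf 0x2ce0502) (.leaf 0x3940502)))) (.node (.node (.node (.node (.leaf 0xea0402) (.leaf 0x8140602)) (.leaf 0x3120502)) (.node (.leaf 0x2ce0502) (.leaf 0x3920502))) (.node (.node (.leaf 0x28a0502) (.leaf 0x3140502)) (.node (.leaf 0x30e0502) (.leaf 0x8100602))))) (.node (.node (.node (.node (.node (.leaf 0xc80402) (.leaf 0x8140602)) (.leaf 0x3100502)) (.node (.leaf 0x28e0502) (.leaf 0x3920502))) (.node (.node (.leaf 0x24c0502) (.leaf 0x3500502)) (.node (.leaf 0x2920502) (.leaf 0x3d20502)))) (.node (.node (.node (.node (.leaf 0xec0402) (.leaf 0x8940602)) (.leaf 0x3120502)) (.node (.leaf 0x2ce0502) (.leaf 0x3920502))) (.node (.node (.leaf 0x28c0502) (.leaf 0x3520502)) (.node (.leaf 0x2d20502) (.leaf 0x3d40502)))))) (.node (.node (.node (.node (.node (.node (.leaf 0xa80402) (.leaf 0x3d60502)) (.leaf 0x34e0502))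 (.node (.leaf 0x28e0502) (.leaf 0x3540502))) (.node (.node (.leaf 0x24a0502) (.leaf 0x3120502)) (.node (.leaf 0x2d00502) (.leaf 0x3940502)))) (.node (.node (.node (.node (.leaf 0x2080502) (.leaf 0x8940602)) (.leaf 0x2d40502)) (.node (.leaf 0x2ce0502) (.leaf 0x3540502))) (.node (.node (.leaf 0x24e0502) (.leaf 0x3520502)) (.node (.leaf 0x2d00502) (.leaf 0x3960502))))) (.node (.node (.node (.node (.node (.leaf 0xe80402) (.leaf 0x3d60502)) (.leaf 0x3100502)) (.node (.leaf 0x28e0502) (.leaf 0x3540502))) (.node (.node (.leaf 0x20e0502) (.leaf 0x3520502)) (.node (.leaf 0x30e0502) (.leaf 0x3940502)))) (.node (.node (.node (.node (.leaf 0xee0402) (.leaf 0x91a0602)) (.leaf 0x3500502)) (.node (.leaf 0x2ce0502) (.leaf 0x3560502))) (.node (.node (.leaf 0x28c0502) (.leaf 0x3900502)) (.node (.leaf 0x2d20502) (.leaf 0x8120602)))))))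

/-- data -/
def pot0 : Trie (ℕ) := .node (.node (.node (.node (pot0p0) (pot0p8)) (.node (pot0p4) (pot0p12))) (.node (.node (pot0p2) (pot0p10)) (.node (pot0p6) (pot0p14)))) (.node (.node (.node (pot0p1) (pot0p9)) (.node (pot0p5) (pot0p13))) (.node (.node (pot0p3) (pot0p11)) (.node (pot0p7) (pot0p15))))

/-- table 0 -/
def table0 : Table where
  size := 2304
  ngen := 2
  next g x := next0.get (2 * g + x)
  prev g x := prev0.get (2 * g + x)
  lab g x := unWord (lab0.get (2 * g + x))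
  val g x := unVec (val0.get (2 * g + x))
  rank g x := rank0.get (2 * g + x)
  tree g := tree0.get g
  cert j := cert0.get j
  nded := 2305
  rels := [⟨unWord 0x120824120822cb2cb65b2d901f, unWord 0x1001, unVec 0x100⟩,
    ⟨unWord 0x1041048241041b2d96596cb2cb022, unWord 0x3001, unVec 0x100⟩,
    ⟨unWord 0x1209041041048b65965b2cb2cb022, unWord 0x5001, unVec 0x100⟩,
    ⟨unWord 0x9002, unWord 0x0, unVec 0x2000000000211⟩,
    ⟨unWord 0xdb003, unWord 0x0, unVec 0x8000000000212⟩,
    ⟨unWord 0x8308308328b28b014, unWord 0x0, unVec 0x20000000000213⟩,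
    ⟨unWord 0x30c30c30c32cb2cb2cb01a, unWord 0x0, unVec 0x80000000000214⟩,
    ⟨unWord 0x610418610418651459651459020, unWord 0x0, unVec 0x200000000000215⟩,
    ⟨unWord 0x41061041041841041061041145945145165145145945103c, unWord 0x0, unVec 0x800000000000216⟩]
  pot g := unVec (pot0.get g)
  innerSize := 7800
  innerGen := 3

/-- level 0 -/
def level0 : ChainLevel where
  table := table0
  gexp := [[1], [0, 1]]
  perm := []
  pinv := []
  defs := [unWord 0x120824120822cb2cb65b2d901f, unWord 0x1041048241041b2d96596cb2cb022, unWord 0x1209041041048b65965b2cb2cb022]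
  eqs := [(3, 460, unVec 0x300000000000215), (4, 1164, unVec 0x90202), (3, 133, unVec 0x33000000000213), (5, 724, unVec 0x8080100000000001000000415), (4, 2183, unVec 0x1064a302088030e), (8, 755, unVec 0x402c0c050000000000020000000000000616), (8, 24, unVec 0x24084a138c1751042154c0b9cb20516), (5, 123, unVec 0x2031824d824a447b56d2a18098537916a5479c0716), (5, 2189, unVec 0xc090b06472094a92cc68e440b0a81d0b58c4c1b0e80c180f0916), (7, 867, unVec 0x309090612002280ae750936480c75af4e66454121a00816), (6, 1547, unVec 0x50a13103402542b130f0b9d06782ff46c15655a74c50816), (8, 324, unVec 0x50008064712192578249963767c936f666e934649090816), (6, 2172, unVec 0x20c010182a0822980d63d6c956c63f12c60121a2d1d09a190916)]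
  pts := []

end CfsgLib.Sporadic.RuMult.TitsChain
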