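import Cfsg.Agent.Lib.Sporadic.RuMult.TitsCode

/-!
# Coset table 1 of the Tits subgroup of the Rudvalis group
-/

set_option autoImplicit false
set_option maxRecDepth 100000
set_option maxHeartbeats 0
set_option Elab.async false

namespace CfsgLib.Sporadic.RuMult.TitsChain

open CfsgLib.Schur.Cert CfsgLib.Sporadic

/-- data -/
def next1p0 : Trie (ℕ) := .node (.node (.node (.node (.node (.node (.node (.node (.leaf 1) (.leaf 753)) (.leaf 284)) (.node (.node (.leaf 219) (.leaf 702)) (.leaf 188))) (.node (.node (.node (.leaf 234) (.leaf 432)) (.leaf 745)) (.node (.node (.leaf 545) (.leaf 156)) (.leaf 550)))) (.node (.node (.node (.node (.leaf 98) (.leaf 123)) (.leaf 738)) (.node (.node (.leaf 528) (.leaf 391)) (.leaf 765))) (.node (.node (.node (.leaf 344) (.leaf 930)) (.leaf 394)) (.node (.leaf 666) (.leaf 930))))) (.node (.node (.node (.node (.node (.leaf 60) (.leaf 850)) (.leaf 750)) (.node (.node (.leaf 90) (.leaf 44)) (.leaf 188))) (.node (.node (.node (.leaf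 287) (.leaf 957)) (.leaf 73)) (.node (.node (.leaf 631) (.leaf 809)) (.leaf 659)))) (.node (.node (.node (.node (.leaf 178) (.leaf 205)) (.leaf 793)) (.node (.node (.leaf 568) (.leaf 65)) (.leaf 193))) (.node (.node (.node (.leaf 390) (.leaf 63)) (.leaf 408)) (.node (.leaf 699) (.leaf 4)))))) (.node (.node (.node (.node (.node (.node (.leaf 31) (.leaf 860)) (.leaf 81)) (.node (.node (.leaf 45) (.leaf 686)) (.leaf 583))) (.node (.node (.node (.leaf 261) (.leaf 767)) (.leaf 404)) (.node (.node (.leaf 5) (.leaf 948)) (.leaf 626)))) (.node (.node (.node (.node (.leaf 150) (.leaf 201)) (.leaf 217)) (.node (.node (.leaf 327) (.leaf 811)) (.leaf 682))) (.node (.node (.node (.leaf 371) (.leaf 155)) (.leaf 619)) (.node (.leaf 683) (.leaf 936))))) (.node (.node (.node (.node (.node (.leaf 92) (.leaf 414)) (.leaf 750)) (.node (.node (.leaf 506) (.leaf 484)) (.leaf 257))) (.node (.node (.node (.leaf 315) (.leaf 784)) (.leaf 717)) (.node (.node (.leaf 162) (.leaf 455)) (.leaf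 317)))) (.node (.node (.node (.node (.leaf 207) (.leaf 463)) (.leaf 653)) (.node (.node (.leaf 91) (.leaf 879)) (.leaf 155))) (.node (.node (.node (.leaf 419) (.leaf 848)) (.leaf 311)) (.node (.leaf 711) (.leaf 310))))))) (.node (.node (.node (.node (.node (.node (.node (.leaf 17) (.leaf 931)) (.leaf 730)) (.node (.node (.leaf 455) (.leaf 964)) (.leaf 663))) (.node (.node (.node (.leaf 248) (.leaf 883)) (.leaf 814)) (.node (.node (.leaf 600) (.leaf 640)) (.leaf 915)))) (.node (.node (.node (.node (.leaf 136) (.leaf 528)) (.leaf 6)) (.node (.node (.leaf 258) (.leaf 212)) (.leaf 901))) (.node (.node (.node (.leaf 358) (.leaf 972)) (.leaf 764)) (.node (.leaf 488) (.leaf 487))))) (.node (.node (.node (.node (.node (.leaf 76) (.leaf 448)) (.leaf 755)) (.node (.node (.leaf 494) (.leaf 123)) (.leaf 521))) (.node (.node (.node (.leaf 301) (.leaf 940)) (.leaf 830)) (.node (.node (.leaf 610) (.leaf 665)) (.leaf 271)))) (.node (.node (.node (.node (.leaf 193) (.leaf 791))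 (.leaf 81)) (.node (.node (.leaf 578) (.leaf 59)) (.leaf 478))) (.node (.node (.node (.leaf 403) (.leaf 821)) (.leaf 309)) (.node (.leaf 296) (.leaf 326)))))) (.node (.node (.node (.node (.node (.node (.leaf 46) (.leaf 573)) (.leaf 248)) (.node (.node (.leaf 385) (.leaf 357)) (.leaf 741))) (.node (.node (.node (.leaf 275) (.leaf 883)) (.leaf 564)) (.node (.node (.leaf 621) (.leaf 289)) (.leaf 920)))) (.node (.node (.node (.node (.leaf 165) (.leaf 493)) (.leaf 312)) (.node (.node (.leaf 559) (.leaf 487)) (.leaf 593))) (.node (.node (.node (.leaf 378) (.leaf 960)) (.leaf 366)) (.node (.leaf 425) (.leaf 753))))) (.node (.node (.node (.node (.node (.leaf 107) (.leaf 827)) (.leaf 766)) (.node (.node (.leaf 517) (.leaf 252)) (.leaf 778))) (.node (.node (.node (.leaf 330) (.leaf 825)) (.leaf 674)) (.node (.leaf 657) (.leaf 631)))) (.node (.node (.node (.node (.leaf 222) (.leaf 887)) (.leaf 368)) (.node (.node (.leaf 468) (.leaf 12)) (.leaf 911))) (.node (.node (.node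 (.leaf 434) (.leaf 594)) (.leaf 115)) (.node (.leaf 715) (.leaf 22)))))))

/-- data -/
def next1p1 : Trie (ℕ) := .node (.node (.node (.node (.node (.node (.node (.node (.leaf 2) (.leaf 313)) (.leaf 62)) (.node (.node (.leaf 444) (.leaf 501)) (.leaf 186))) (.node (.node (.node (.leaf 235) (.leaf 335)) (.leaf 811)) (.node (.node (.leaf 595) (.leaf 881)) (.leaf 904)))) (.node (.node (.node (.node (.leaf 121) (.leaf 512)) (.leaf 147)) (.node (.node (.leaf 150) (.leaf 290)) (.leaf 900))) (.node (.node (.node (.leaf 345) (.leaf 58)) (.leaf 763)) (.node (.leaf 667) (.leaf 636))))) (.node (.node (.node (.node (.node (.leaf 61) (.leaf 818)) (.leaf 620)) (.node (.node (.leaf 460) (.leaf 889)) (.leaf 798))) (.node (.node (.node (.leaf 288) (.leaf 720)) (.leaf 242)) (.node (.node (.leaf 392) (.leaf 805)) (.leaf 923)))) (.node (.node (.node (.node (.leaf 179) (.leaf 579)) (.leaf 321)) (.node (.node (.leaf 244) (.leaf 334)) (.leaf 268))) (.node (.node (.node (.leaf 391) (.leaf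 554)) (.leaf 599)) (.node (.leaf 700) (.leaf 374)))))) (.node (.node (.node (.node (.node (.node (.leaf 32) (.leaf 381)) (.leaf 738)) (.node (.node (.leaf 463) (.leaf 784)) (.leaf 885))) (.node (.node (.node (.leaf 262) (.leaf 472)) (.leaf 819)) (.node (.node (.leaf 612) (.leaf 867)) (.leaf 142)))) (.node (.node (.node (.node (.leaf 151) (.leaf 653)) (.leaf 780)) (.node (.node (.leaf 549) (.leaf 860)) (.leaf 193))) (.node (.node (.node (.leaf 372) (.leaf 922)) (.leaf 786)) (.node (.leaf 459) (.leaf 248))))) (.node (.node (.node (.node (.node (.leaf 93) (.leaf 895)) (.leaf 761)) (.node (.node (.leaf 507) (.leaf 700)) (.leaf 303))) (.node (.node (.node (.leaf 316) (.leaf 446)) (.leaf 757)) (.node (.node (.leaf 648) (.leaf 813)) (.leaf 516)))) (.node (.node (.node (.node (.leaf 208) (.leaf 566)) (.leaf 803)) (.node (.node (.leaf 246) (.leaf 955)) (.leaf 165))) (.node (.node (.node (.leaf 420) (.leaf 436)) (.leaf 192)) (.node (.leaf 712) (.leaf 360))))))) (.node (.node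 (.node (.node (.node (.node (.node (.leaf 18) (.leaf 176)) (.leaf 393)) (.node (.node (.leaf 456) (.leaf 279)) (.leaf 881))) (.node (.node (.node (.leaf 91) (.leaf 891)) (.leaf 288)) (.node (.node (.leaf 601) (.leaf 866)) (.leaf 478)))) (.node (.node (.node (.node (.leaf 137) (.leaf 326)) (.leaf 117)) (.node (.node (.leaf 540) (.leaf 576)) (.leaf 126))) (.node (.node (.node (.leaf 359) (.leaf 103)) (.leaf 735)) (.node (.leaf 675) (.leaf 318))))) (.node (.node (.node (.node (.node (.leaf 77) (.leaf 199)) (.leaf 589)) (.node (.node (.leaf 495) (.leaf 333)) (.leaf 733))) (.node (.node (.node (.leaf 302) (.leaf 688)) (.leaf 831)) (.node (.node (.leaf 625) (.leaf 277)) (.leaf 780)))) (.node (.node (.node (.node (.leaf 194) (.leaf 580)) (.leaf 799)) (.node (.node (.leaf 579) (.leaf 837)) (.leaf 885))) (.node (.node (.node (.leaf 404) (.leaf 402)) (.leaf 865)) (.node (.leaf 131) (.leaf 289)))))) (.node (.node (.node (.node (.node (.node (.leaf 47) (.leaf 42)) (.leaf 367))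 (.node (.node (.leaf 281) (.leaf 959)) (.leaf 202))) (.node (.node (.node (.leaf 276) (.leaf 913)) (.leaf 499)) (.node (.node (.leaf 622) (.leaf 636)) (.leaf 130)))) (.node (.node (.node (.node (.leaf 2) (.leaf 68)) (.leaf 226)) (.node (.node (.leaf 2) (.leaf 736)) (.leaf 30))) (.node (.node (.node (.leaf 379) (.leaf 209)) (.leaf 860)) (.node (.leaf 690) (.leaf 92))))) (.node (.node (.node (.node (.node (.leaf 108) (.leaf 846)) (.leaf 727)) (.node (.node (.leaf 320) (.leaf 670)) (.leaf 344))) (.node (.node (.node (.leaf 207) (.leaf 282)) (.leaf 330)) (.node (.leaf 658) (.leaf 650)))) (.node (.node (.node (.node (.leaf 108) (.leaf 853)) (.leaf 807)) (.node (.node (.leaf 147) (.leaf 267)) (.leaf 742))) (.node (.node (.node (.leaf 1) (.leaf 490)) (.leaf 563)) (.node (.leaf 231) (.leaf 607)))))))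

/-- data -/
def next1p2 : Trie (ℕ) := .node (.node (.node (.node (.node (.node (.node (.node (.leaf 3) (.leaf 304)) (.leaf 439)) (.node (.node (.leaf 445) (.leaf 701)) (.leaf 541))) (.node (.node (.node (.leaf 236) (.leaf 227)) (.leaf 395)) (.node (.node (.leaf 272) (.leaf 712)) (.leaf 660)))) (.node (.node (.node (.node (.leaf 122) (.leaf 166)) (.leaf 769)) (.node (.node (.leaf 529) (.leaf 466)) (.leaf 346))) (.node (.node (.node (.leaf 346) (.leaf 264)) (.leaf 844)) (.node (.leaf 668) (.leaf 696))))) (.node (.node (.node (.node (.node (.leaf 62) (.leaf 793)) (.leaf 696)) (.node (.node (.leaf 484) (.leaf 160)) (.leaf 263))) (.node (.node (.node (.leaf 289) (.leaf 842)) (.leaf 99)) (.node (.node (.leaf 632) (.leaf 333)) (.leaf 594)))) (.node (.node (.node (.node (.leaf 180) (.leaf 144)) (.leaf 453)) (.node (.node (.leaf 569) (.leaf 816)) (.leaf 435))) (.node (.node (.node (.leaf 392) (.leaf 578)) (.leaf 792)) (.node (.leaf 460) (.leaf 85)))))) (.node (.node (.node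 (.node (.node (.node (.leaf 33) (.leaf 772)) (.leaf 728)) (.node (.node (.leaf 464) (.leaf 656)) (.leaf 886))) (.node (.node (.node (.leaf 263) (.leaf 82)) (.leaf 343)) (.node (.node (.leaf 613) (.leaf 475)) (.leaf 609)))) (.node (.node (.node (.node (.leaf 152) (.leaf 903)) (.leaf 465)) (.node (.node (.leaf 535) (.leaf 924)) (.leaf 492))) (.node (.node (.node (.leaf 199) (.leaf 819)) (.leaf 857)) (.node (.leaf 353) (.leaf 937))))) (.node (.node (.node (.node (.node (.leaf 94) (.leaf 476)) (.leaf 762)) (.node (.node (.leaf 508) (.leaf 194)) (.leaf 96))) (.node (.node (.node (.leaf 317) (.leaf 815)) (.leaf 835)) (.node (.node (.leaf 639) (.leaf 221)) (.leaf 120)))) (.node (.node (.node (.node (.leaf 148) (.leaf 462)) (.leaf 483)) (.node (.node (.leaf 69) (.leaf 650)) (.leaf 300))) (.node (.node (.node (.leaf 421) (.leaf 869)) (.leaf 732)) (.node (.leaf 287) (.leaf 901))))))) (.node (.node (.node (.node (.node (.node (.node (.leaf 19) (.leaf 190)) (.leaf 365)) (.node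 (.node (.leaf 438) (.leaf 100)) (.leaf 294))) (.node (.node (.node (.leaf 135) (.leaf 669)) (.leaf 422)) (.node (.node (.leaf 602) (.leaf 216)) (.leaf 401)))) (.node (.node (.node (.node (.leaf 138) (.leaf 871)) (.leaf 776)) (.node (.node (.leaf 541) (.leaf 950)) (.leaf 77))) (.node (.node (.node (.leaf 360) (.leaf 547)) (.leaf 850)) (.node (.leaf 676) (.leaf 858))))) (.node (.node (.node (.node (.node (.leaf 78) (.leaf 268)) (.leaf 671)) (.node (.node (.leaf 18) (.leaf 111)) (.leaf 643))) (.node (.node (.node (.leaf 303) (.leaf 932)) (.leaf 730)) (.node (.node (.leaf 640) (.leaf 342)) (.leaf 816)))) (.node (.node (.node (.node (.leaf 195) (.leaf 383)) (.leaf 800)) (.node (.node (.leaf 580) (.leaf 553)) (.leaf 132))) (.node (.node (.node (.leaf 405) (.leaf 265)) (.leaf 866)) (.node (.leaf 458) (.leaf 908)))))) (.node (.node (.node (.node (.node (.node (.leaf 48) (.leaf 634)) (.leaf 714)) (.node (.node (.leaf 475) (.leaf 601)) (.leaf 680))) (.node (.node (.node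 (.leaf 277) (.leaf 968)) (.leaf 118)) (.node (.node (.leaf 63) (.leaf 380)) (.leaf 921)))) (.node (.node (.node (.node (.leaf 166) (.leaf 962)) (.leaf 740)) (.node (.node (.leaf 560) (.leaf 500)) (.leaf 254))) (.node (.node (.node (.leaf 166) (.leaf 209)) (.leaf 861)) (.node (.leaf 661) (.leaf 939))))) (.node (.node (.node (.node (.node (.leaf 39) (.leaf 948)) (.leaf 452)) (.node (.node (.leaf 50) (.leaf 97)) (.leaf 654))) (.node (.node (.node (.leaf 331) (.leaf 318)) (.leaf 74)) (.node (.leaf 659) (.leaf 927)))) (.node (.node (.node (.node (.leaf 223) (.leaf 94)) (.leaf 438)) (.node (.node (.leaf 80) (.leaf 228)) (.leaf 912))) (.node (.node (.node (.leaf 435) (.leaf 954)) (.leaf 733)) (.node (.leaf 716) (.leaf 855)))))))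

/-- data -/
def next1p3 : Trie (ℕ) := .node (.node (.node (.node (.node (.node (.node (.node (.leaf 4) (.leaf 66)) (.leaf 451)) (.node (.node (.leaf 446) (.leaf 943)) (.leaf 750))) (.node (.node (.node (.leaf 237) (.leaf 576)) (.leaf 436)) (.node (.node (.leaf 596) (.leaf 195)) (.leaf 760)))) (.node (.node (.node (.node (.leaf 123) (.leaf 377)) (.leaf 770)) (.node (.node (.leaf 530) (.leaf 387)) (.leaf 888))) (.node (.node (.node (.leaf 347) (.leaf 961)) (.leaf 845)) (.node (.leaf 35) (.leaf 183))))) (.node (.node (.node (.node (.node (.leaf 63) (.leaf 214)) (.leaf 654)) (.node (.node (.leaf 474) (.leaf 850)) (.leaf 313))) (.node (.node (.node (.leaf 290) (.leaf 941)) (.leaf 150)) (.node (.node (.leaf 403) (.leaf 795)) (.leaf 826)))) (.node (.node (.node (.node (.leaf 181) (.leaf 305)) (.leaf 293)) (.node (.node (.leaf 570) (.leaf 485)) (.leaf 496))) (.node (.node (.node (.leaf 393) (.leaf 758)) (.leaf 119)) (.node (.leaf 322) (.leaf 659)))))) (.node (.node (.node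 (.node (.node (.node (.leaf 34) (.leaf 723)) (.leaf 739)) (.node (.node (.leaf 119) (.leaf 862)) (.leaf 474))) (.node (.node (.node (.leaf 264) (.leaf 713)) (.leaf 106)) (.node (.node (.leaf 554) (.leaf 847)) (.leaf 461)))) (.node (.node (.node (.node (.leaf 153) (.leaf 567)) (.leaf 781)) (.node (.node (.leaf 550) (.leaf 597)) (.leaf 277))) (.node (.node (.node (.leaf 225) (.leaf 972)) (.leaf 618)) (.node (.leaf 684) (.leaf 842))))) (.node (.node (.node (.node (.node (.leaf 95) (.leaf 908)) (.leaf 763)) (.node (.node (.leaf 509) (.leaf 949)) (.leaf 128))) (.node (.node (.node (.leaf 318) (.leaf 761)) (.leaf 555)) (.node (.node (.leaf 649) (.leaf 329)) (.leaf 921)))) (.node (.node (.node (.node (.leaf 209) (.leaf 152)) (.leaf 418)) (.node (.node (.leaf 583) (.leaf 302)) (.leaf 10))) (.node (.node (.node (.leaf 422) (.leaf 902)) (.leaf 232)) (.node (.leaf 347) (.leaf 44))))))) (.node (.node (.node (.node (.node (.node (.node (.leaf 16) (.leaf 726)) (.leaf 684)) (.node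 (.node (.leaf 275) (.leaf 913)) (.leaf 61))) (.node (.node (.node (.leaf 249) (.leaf 388)) (.leaf 476)) (.node (.node (.leaf 7) (.leaf 841)) (.leaf 43)))) (.node (.node (.node (.node (.leaf 139) (.leaf 668)) (.leaf 325)) (.node (.node (.leaf 542) (.leaf 962)) (.leaf 513))) (.node (.node (.node (.leaf 361) (.leaf 113)) (.leaf 851)) (.node (.leaf 677) (.leaf 766))))) (.node (.node (.node (.node (.node (.leaf 79) (.leaf 958)) (.leaf 212)) (.node (.node (.leaf 496) (.leaf 541)) (.leaf 892))) (.node (.node (.node (.leaf 304) (.leaf 828)) (.leaf 307)) (.node (.node (.leaf 641) (.leaf 216)) (.leaf 924)))) (.node (.node (.node (.node (.leaf 196) (.leaf 846)) (.leaf 622)) (.node (.node (.leaf 82) (.leaf 708)) (.leaf 857))) (.node (.node (.node (.leaf 406) (.leaf 912)) (.leaf 350)) (.node (.leaf 660) (.leaf 937)))))) (.node (.node (.node (.node (.node (.node (.leaf 49) (.leaf 830)) (.leaf 48)) (.node (.node (.leaf 449) (.leaf 130)) (.leaf 775))) (.node (.node (.node (.leaf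 278) (.leaf 865)) (.leaf 825)) (.node (.node (.leaf 158) (.leaf 253)) (.leaf 464)))) (.node (.node (.node (.node (.leaf 167) (.leaf 900)) (.leaf 788)) (.node (.node (.leaf 561) (.leaf 494)) (.leaf 551))) (.node (.node (.node (.leaf 380) (.leaf 823)) (.leaf 862)) (.node (.leaf 208) (.leaf 658))))) (.node (.node (.node (.node (.node (.leaf 109) (.leaf 938)) (.leaf 540)) (.node (.node (.leaf 339) (.leaf 175)) (.leaf 758))) (.node (.node (.node (.leaf 332) (.leaf 181)) (.leaf 781)) (.node (.leaf 252) (.leaf 645)))) (.node (.node (.node (.node (.leaf 224) (.leaf 859)) (.leaf 693)) (.node (.node (.leaf 137) (.leaf 86)) (.leaf 849))) (.node (.node (.node (.leaf 436) (.leaf 963)) (.leaf 875)) (.node (.leaf 717) (.leaf 562)))))))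

/-- data -/
def next1p4 : Trie (ℕ) := .node (.node (.node (.node (.node (.node (.node (.node (.leaf 5) (.leaf 253)) (.leaf 725)) (.node (.node (.leaf 441) (.leaf 302)) (.leaf 598))) (.node (.node (.node (.leaf 238) (.leaf 891)) (.leaf 812)) (.node (.node (.leaf 495) (.leaf 110)) (.leaf 789)))) (.node (.node (.node (.node (.leaf 124) (.leaf 396)) (.leaf 771)) (.node (.node (.leaf 531) (.leaf 898)) (.leaf 638))) (.node (.node (.node (.leaf 322) (.leaf 87)) (.leaf 846)) (.node (.leaf 22) (.leaf 841))))) (.node (.node (.node (.node (.node (.leaf 64) (.leaf 110)) (.leaf 751)) (.node (.node (.leaf 0) (.leaf 315)) (.leaf 417))) (.node (.node (.node (.leaf 291) (.leaf 376)) (.leaf 718)) (.node (.node (.leaf 633) (.leaf 159)) (.leaf 896)))) (.node (.node (.node (.node (.leaf 182) (.leaf 217)) (.leaf 794)) (.node (.node (.leaf 571) (.leaf 817)) (.leaf 747))) (.node (.node (.node (.leaf 394) (.leaf 529)) (.leaf 501)) (.node (.leaf 701) (.leaf 431)))))) (.node (.node (.node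 (.node (.node (.node (.leaf 35) (.leaf 774)) (.leaf 77)) (.node (.node (.leaf 242) (.leaf 973)) (.leaf 138))) (.node (.node (.node (.leaf 265) (.leaf 631)) (.leaf 498)) (.node (.node (.leaf 167) (.leaf 971)) (.leaf 89)))) (.node (.node (.node (.node (.leaf 154) (.leaf 808)) (.leaf 782)) (.node (.node (.leaf 551) (.leaf 196)) (.leaf 630))) (.node (.node (.node (.leaf 330) (.leaf 722)) (.leaf 761)) (.node (.leaf 644) (.leaf 561))))) (.node (.node (.node (.node (.node (.leaf 96) (.leaf 384)) (.leaf 732)) (.node (.node (.leaf 510) (.leaf 805)) (.leaf 215))) (.node (.node (.node (.leaf 319) (.leaf 751)) (.leaf 680)) (.node (.node (.leaf 650) (.leaf 611)) (.leaf 743)))) (.node (.node (.node (.node (.leaf 210) (.leaf 16)) (.leaf 796)) (.node (.node (.leaf 127) (.leaf 940)) (.leaf 558))) (.node (.node (.node (.leaf 423) (.leaf 807)) (.leaf 868)) (.node (.leaf 544) (.leaf 157))))))) (.node (.node (.node (.node (.node (.node (.node (.leaf 20) (.leaf 615)) (.leaf 731)) (.node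 (.node (.leaf 138) (.leaf 915)) (.leaf 820))) (.node (.node (.node (.leaf 250) (.leaf 507)) (.leaf 815)) (.node (.node (.leaf 603) (.leaf 938)) (.leaf 420)))) (.node (.node (.node (.node (.leaf 140) (.leaf 323)) (.leaf 40)) (.node (.node (.leaf 543) (.leaf 894)) (.leaf 902))) (.node (.node (.node (.leaf 362) (.leaf 748)) (.leaf 587)) (.node (.leaf 678) (.leaf 933))))) (.node (.node (.node (.node (.node (.leaf 80) (.leaf 855)) (.leaf 187)) (.node (.node (.leaf 497) (.leaf 610)) (.leaf 866))) (.node (.node (.node (.leaf 305) (.leaf 231)) (.leaf 386)) (.node (.node (.leaf 607) (.leaf 707)) (.leaf 547)))) (.node (.node (.node (.node (.leaf 27) (.leaf 699)) (.leaf 75)) (.node (.node (.leaf 486) (.leaf 260)) (.leaf 505))) (.node (.node (.node (.leaf 407) (.leaf 331)) (.leaf 867)) (.node (.leaf 664) (.leaf 267)))))) (.node (.node (.node (.node (.node (.node (.leaf 50) (.leaf 910)) (.leaf 443)) (.node (.node (.leaf 247) (.leaf 918)) (.leaf 257))) (.node (.node (.node (.leaf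 279) (.leaf 788)) (.leaf 175)) (.node (.node (.leaf 578) (.leaf 370)) (.leaf 372)))) (.node (.node (.node (.node (.leaf 168) (.leaf 947)) (.leaf 308)) (.node (.node (.leaf 357) (.leaf 509)) (.leaf 878))) (.node (.node (.node (.leaf 381) (.leaf 345)) (.leaf 54)) (.node (.leaf 691) (.leaf 703))))) (.node (.node (.node (.node (.node (.leaf 110) (.leaf 374)) (.leaf 644)) (.node (.node (.leaf 518) (.leaf 533)) (.leaf 838))) (.node (.node (.node (.leaf 333) (.leaf 379)) (.leaf 506)) (.node (.leaf 660) (.leaf 319)))) (.node (.node (.node (.node (.leaf 225) (.leaf 954)) (.leaf 808)) (.node (.node (.leaf 589) (.leaf 233)) (.leaf 861))) (.node (.node (.node (.leaf 315) (.leaf 481)) (.leaf 639)) (.node (.leaf 497) (.leaf 365)))))))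

/-- data -/
def next1p5 : Trie (ℕ) := .node (.node (.node (.node (.node (.node (.node (.node (.leaf 6) (.leaf 85)) (.leaf 161)) (.node (.node (.leaf 447) (.leaf 555)) (.leaf 589))) (.node (.node (.node (.leaf 239) (.leaf 897)) (.leaf 711)) (.node (.node (.leaf 337) (.leaf 764)) (.leaf 635)))) (.node (.node (.node (.node (.leaf 125) (.leaf 928)) (.leaf 772)) (.node (.node (.leaf 532) (.leaf 482)) (.leaf 571))) (.node (.node (.node (.leaf 348) (.leaf 227)) (.leaf 331)) (.node (.leaf 669) (.leaf 378))))) (.node (.node (.node (.node (.node (.leaf 65) (.leaf 635)) (.leaf 617)) (.node (.node (.leaf 485) (.leaf 966)) (.leaf 890))) (.node (.node (.node (.leaf 292) (.leaf 941)) (.leaf 239)) (.node (.node (.leaf 634) (.leaf 522)) (.leaf 744)))) (.node (.node (.node (.node (.leaf 183) (.leaf 341)) (.leaf 362)) (.node (.node (.leaf 523) (.leaf 737)) (.leaf 177))) (.node (.node (.node (.leaf 395) (.leaf 775)) (.leaf 597)) (.node (.leaf 539) (.leaf 940)))))) (.node (.node (.node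 (.node (.node (.node (.leaf 36) (.leaf 664)) (.leaf 395)) (.node (.node (.leaf 465) (.leaf 214)) (.leaf 88))) (.node (.node (.node (.leaf 266) (.leaf 727)) (.leaf 820)) (.node (.node (.leaf 614) (.leaf 876)) (.leaf 917)))) (.node (.node (.node (.node (.leaf 155) (.leaf 427)) (.leaf 570)) (.node (.node (.leaf 399) (.leaf 623)) (.leaf 613))) (.node (.node (.node (.leaf 132) (.leaf 135)) (.leaf 858)) (.node (.leaf 70) (.leaf 619))))) (.node (.node (.node (.node (.node (.leaf 97) (.leaf 947)) (.leaf 764)) (.node (.node (.leaf 468) (.leaf 937)) (.leaf 896))) (.node (.node (.node (.leaf 320) (.leaf 19)) (.leaf 836)) (.node (.node (.leaf 651) (.leaf 540)) (.leaf 151)))) (.node (.node (.node (.node (.leaf 211) (.leaf 843)) (.leaf 560)) (.node (.node (.leaf 206) (.leaf 293)) (.leaf 145))) (.node (.node (.node (.leaf 200) (.leaf 710)) (.leaf 869)) (.node (.leaf 250) (.leaf 189))))))) (.node (.node (.node (.node (.node (.node (.node (.leaf 21) (.leaf 390)) (.leaf 732)) (.node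 (.node (.leaf 187) (.leaf 671)) (.leaf 356))) (.node (.node (.node (.leaf 251) (.leaf 705)) (.leaf 176)) (.node (.node (.leaf 254) (.leaf 278)) (.leaf 666)))) (.node (.node (.node (.node (.leaf 141) (.leaf 946)) (.leaf 363)) (.node (.node (.leaf 544) (.leaf 570)) (.leaf 174))) (.node (.node (.node (.leaf 170) (.leaf 472)) (.leaf 364)) (.node (.leaf 679) (.leaf 934))))) (.node (.node (.node (.node (.node (.leaf 81) (.leaf 848)) (.leaf 244)) (.node (.node (.leaf 498) (.leaf 699)) (.leaf 421))) (.node (.node (.node (.leaf 30) (.leaf 552)) (.leaf 832)) (.node (.node (.leaf 642) (.leaf 742)) (.leaf 588)))) (.node (.node (.node (.node (.leaf 197) (.leaf 41)) (.leaf 74)) (.node (.node (.leaf 581) (.leaf 715)) (.leaf 463))) (.node (.node (.node (.leaf 408) (.leaf 833)) (.leaf 759)) (.node (.leaf 352) (.leaf 601)))))) (.node (.node (.node (.node (.node (.node (.leaf 51) (.leaf 956)) (.leaf 744)) (.node (.node (.leaf 359) (.leaf 446)) (.leaf 299))) (.node (.node (.node (.leaf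 280) (.leaf 469)) (.leaf 826)) (.node (.node (.leaf 623) (.leaf 416)) (.leaf 872)))) (.node (.node (.node (.node (.leaf 169) (.leaf 47)) (.leaf 424)) (.node (.node (.leaf 562) (.leaf 785)) (.leaf 904))) (.node (.node (.node (.leaf 382) (.leaf 608)) (.leaf 863)) (.node (.leaf 692) (.leaf 234))))) (.node (.node (.node (.node (.node (.leaf 111) (.leaf 405)) (.leaf 563)) (.node (.node (.leaf 256) (.leaf 298)) (.leaf 154))) (.node (.node (.node (.leaf 334) (.leaf 423)) (.leaf 841)) (.node (.leaf 661) (.leaf 442)))) (.node (.node (.node (.node (.leaf 226) (.leaf 931)) (.leaf 470)) (.node (.node (.leaf 590) (.leaf 808)) (.leaf 29))) (.node (.node (.node (.leaf 437) (.leaf 870)) (.leaf 876)) (.node (.leaf 718) (.leaf 887)))))))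

/-- data -/
def next1p6 : Trie (ℕ) := .node (.node (.node (.node (.node (.node (.node (.node (.leaf 7) (.leaf 550)) (.leaf 556)) (.node (.node (.leaf 448) (.leaf 62)) (.leaf 434))) (.node (.node (.node (.leaf 240) (.leaf 251)) (.leaf 78)) (.node (.node (.leaf 303) (.leaf 586)) (.leaf 54)))) (.node (.node (.node (.node (.leaf 126) (.leaf 686)) (.leaf 140)) (.node (.node (.leaf 533) (.leaf 946)) (.leaf 677))) (.node (.node (.node (.leaf 5) (.leaf 919)) (.leaf 207)) (.node (.leaf 670) (.leaf 870))))) (.node (.node (.node (.node (.node (.leaf 66) (.leaf 875)) (.leaf 404)) (.node (.node (.leaf 486) (.leaf 757)) (.leaf 458))) (.node (.node (.node (.leaf 0) (.leaf 568)) (.leaf 371)) (.node (.node (.leaf 635) (.leaf 894)) (.leaf 803)))) (.node (.node (.node (.node (.leaf 184) (.leaf 604)) (.leaf 111)) (.node (.node (.leaf 572) (.leaf 685)) (.leaf 574))) (.node (.node (.node (.leaf 396) (.leaf 338)) (.leaf 479)) (.node (.leaf 702) (.leaf 20)))))) (.node (.node (.node (.node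 (.node (.node (.leaf 37) (.leaf 319)) (.leaf 740)) (.node (.node (.leaf 466) (.leaf 79)) (.leaf 320))) (.node (.node (.node (.leaf 131) (.leaf 955)) (.leaf 581)) (.node (.node (.leaf 559) (.leaf 730)) (.leaf 50)))) (.node (.node (.node (.node (.leaf 156) (.leaf 826)) (.leaf 783)) (.node (.node (.leaf 552) (.leaf 911)) (.leaf 410))) (.node (.node (.node (.leaf 373) (.leaf 336)) (.leaf 259)) (.node (.leaf 455) (.leaf 640))))) (.node (.node (.node (.node (.node (.leaf 98) (.leaf 230)) (.leaf 213)) (.node (.node (.leaf 511) (.leaf 767)) (.leaf 278))) (.node (.node (.node (.leaf 321) (.leaf 666)) (.leaf 837)) (.node (.node (.leaf 614) (.leaf 862)) (.leaf 698)))) (.node (.node (.node (.node (.leaf 212) (.leaf 762)) (.leaf 218)) (.node (.node (.leaf 218) (.leaf 675)) (.leaf 871))) (.node (.node (.node (.leaf 424) (.leaf 612)) (.leaf 870)) (.node (.leaf 262) (.leaf 629))))))) (.node (.node (.node (.node (.node (.node (.node (.leaf 3) (.leaf 951)) (.leaf 4)) (.node (.node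 (.leaf 457) (.leaf 647)) (.leaf 34))) (.node (.node (.node (.leaf 105) (.leaf 774)) (.leaf 485)) (.node (.node (.leaf 604) (.leaf 916)) (.leaf 65)))) (.node (.node (.node (.node (.leaf 142) (.leaf 163)) (.leaf 415)) (.node (.node (.leaf 545) (.leaf 621)) (.leaf 425))) (.node (.node (.node (.leaf 363) (.leaf 759)) (.leaf 852)) (.node (.leaf 14) (.leaf 911))))) (.node (.node (.node (.node (.node (.leaf 82) (.leaf 916)) (.leaf 451)) (.node (.node (.leaf 79) (.leaf 656)) (.leaf 814))) (.node (.node (.node (.leaf 306) (.leaf 662)) (.leaf 25)) (.node (.node (.leaf 618) (.leaf 970)) (.leaf 763)))) (.node (.node (.node (.node (.leaf 198) (.leaf 651)) (.leaf 801)) (.node (.node (.leaf 349) (.leaf 967)) (.leaf 695))) (.node (.node (.node (.leaf 409) (.leaf 895)) (.leaf 37)) (.node (.leaf 707) (.leaf 941)))))) (.node (.node (.node (.node (.node (.node (.leaf 52) (.leaf 87)) (.leaf 745)) (.node (.node (.leaf 476) (.leaf 928)) (.leaf 831))) (.node (.node (.node (.leaf 235)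 (.leaf 321)) (.leaf 562)) (.node (.node (.leaf 12) (.leaf 561)) (.leaf 881)))) (.node (.node (.node (.node (.leaf 170) (.leaf 332)) (.leaf 789)) (.node (.node (.leaf 348) (.leaf 942)) (.leaf 444))) (.node (.node (.node (.leaf 105) (.leaf 924)) (.leaf 328)) (.node (.leaf 693) (.leaf 622))))) (.node (.node (.node (.node (.node (.leaf 112) (.leaf 960)) (.leaf 236)) (.node (.node (.leaf 295) (.leaf 721)) (.leaf 899))) (.node (.node (.node (.leaf 335) (.leaf 564)) (.leaf 411)) (.node (.leaf 662) (.leaf 339)))) (.node (.node (.node (.node (.leaf 227) (.leaf 606)) (.leaf 517)) (.node (.node (.leaf 591) (.leaf 773)) (.leaf 728))) (.node (.node (.node (.leaf 438) (.leaf 971)) (.leaf 818)) (.node (.leaf 190) (.leaf 191)))))))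

/-- data -/
def next1p7 : Trie (ℕ) := .node (.node (.node (.node (.node (.node (.node (.node (.leaf 8) (.leaf 949)) (.leaf 89)) (.node (.node (.leaf 449) (.leaf 950)) (.leaf 354))) (.node (.node (.node (.leaf 241) (.leaf 543)) (.leaf 53)) (.node (.node (.leaf 204) (.leaf 366)) (.leaf 153)))) (.node (.node (.node (.node (.leaf 127) (.leaf 692)) (.leaf 32)) (.node (.node (.leaf 534) (.leaf 101)) (.leaf 647))) (.node (.node (.node (.leaf 349) (.leaf 704)) (.leaf 847)) (.node (.leaf 671) (.leaf 435))))) (.node (.node (.node (.node (.node (.leaf 67) (.leaf 28)) (.leaf 565)) (.node (.node (.leaf 471) (.leaf 549)) (.leaf 702))) (.node (.node (.node (.leaf 293) (.leaf 269)) (.leaf 724)) (.node (.node (.leaf 636) (.leaf 462)) (.leaf 568)))) (.node (.node (.node (.node (.leaf 185) (.leaf 156)) (.leaf 795)) (.node (.node (.leaf 516) (.leaf 627)) (.leaf 801))) (.node (.node (.node (.leaf 397) (.leaf 43)) (.leaf 25)) (.node (.leaf 344) (.leaf 770)))))) (.node (.node (.node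 (.node (.node (.node (.leaf 0) (.leaf 434)) (.leaf 201)) (.node (.node (.leaf 467) (.leaf 273)) (.leaf 551))) (.node (.node (.node (.leaf 267) (.leaf 641)) (.leaf 821)) (.node (.node (.leaf 615) (.leaf 72)) (.leaf 832)))) (.node (.node (.node (.node (.leaf 157) (.leaf 880)) (.leaf 316)) (.node (.node (.leaf 260) (.leaf 262)) (.leaf 247))) (.node (.node (.node (.leaf 374) (.leaf 963)) (.leaf 853)) (.node (.leaf 685) (.leaf 783))))) (.node (.node (.node (.node (.node (.leaf 99) (.leaf 709)) (.leaf 445)) (.node (.node (.leaf 9) (.leaf 873)) (.leaf 785))) (.node (.node (.node (.leaf 322) (.leaf 971)) (.leaf 838)) (.node (.node (.leaf 652) (.leaf 706)) (.leaf 928)))) (.node (.node (.node (.node (.leaf 213) (.leaf 546)) (.leaf 229)) (.node (.node (.leaf 475) (.leaf 173)) (.leaf 766))) (.node (.node (.node (.leaf 425) (.leaf 584)) (.leaf 800)) (.node (.leaf 673) (.leaf 837))))))) (.node (.node (.node (.node (.node (.node (.node (.leaf 22) (.leaf 952)) (.leaf 718)) (.node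 (.node (.leaf 224) (.leaf 886)) (.leaf 102))) (.node (.node (.node (.leaf 252) (.leaf 953)) (.leaf 816)) (.node (.node (.leaf 605) (.leaf 823)) (.leaf 912)))) (.node (.node (.node (.node (.leaf 143) (.leaf 164)) (.leaf 777)) (.node (.node (.leaf 546) (.leaf 613)) (.leaf 504))) (.node (.node (.node (.leaf 364) (.leaf 19)) (.leaf 593)) (.node (.leaf 680) (.leaf 565))))) (.node (.node (.node (.node (.node (.leaf 83) (.leaf 494)) (.leaf 677)) (.node (.node (.leaf 499) (.leaf 627)) (.leaf 893))) (.node (.node (.node (.leaf 18) (.leaf 94)) (.leaf 518)) (.node (.node (.leaf 643) (.leaf 407)) (.leaf 925)))) (.node (.node (.node (.node (.leaf 49) (.leaf 276)) (.leaf 633)) (.node (.node (.leaf 76) (.leaf 466)) (.leaf 906))) (.node (.node (.node (.leaf 410) (.leaf 304)) (.leaf 353)) (.node (.leaf 317) (.leaf 897)))))) (.node (.node (.node (.node (.node (.node (.leaf 53) (.leaf 573)) (.leaf 109)) (.node (.node (.leaf 143) (.leaf 621)) (.leaf 526))) (.node (.node (.node (.leaf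 281) (.leaf 470)) (.leaf 668)) (.node (.node (.leaf 350) (.leaf 340)) (.leaf 473)))) (.node (.node (.node (.node (.leaf 171) (.leaf 876)) (.leaf 769)) (.node (.node (.leaf 563) (.leaf 756)) (.leaf 623))) (.node (.node (.node (.leaf 383) (.leaf 66)) (.leaf 80)) (.node (.leaf 238) (.leaf 782))))) (.node (.node (.node (.node (.node (.leaf 113) (.leaf 609)) (.leaf 767)) (.node (.node (.leaf 519) (.leaf 939)) (.leaf 726))) (.node (.node (.node (.leaf 336) (.leaf 416)) (.leaf 612)) (.node (.leaf 232) (.leaf 67)))) (.node (.node (.node (.node (.leaf 228) (.leaf 840)) (.leaf 799)) (.node (.node (.leaf 592) (.leaf 611)) (.leaf 787))) (.node (.node (.node (.leaf 439) (.leaf 419)) (.leaf 122)) (.node (.leaf 511) (.leaf 946)))))))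

/-- data -/
def next1p8 : Trie (ℕ) := .node (.node (.node (.node (.node (.node (.node (.node (.leaf 9) (.leaf 929)) (.leaf 256)) (.node (.node (.leaf 450) (.leaf 892)) (.leaf 552))) (.node (.node (.node (.leaf 242) (.leaf 966)) (.leaf 813)) (.node (.node (.leaf 345) (.leaf 64)) (.leaf 800)))) (.node (.node (.node (.node (.leaf 128) (.leaf 711)) (.leaf 773)) (.node (.node (.leaf 535) (.leaf 274)) (.leaf 418))) (.node (.node (.node (.leaf 350) (.leaf 316)) (.leaf 824)) (.node (.leaf 391) (.leaf 931))))) (.node (.node (.node (.node (.node (.leaf 68) (.leaf 648)) (.leaf 422)) (.node (.node (.leaf 487) (.leaf 922)) (.leaf 891))) (.node (.node (.node (.leaf 294) (.leaf 55)) (.leaf 124)) (.node (.node (.leaf 581) (.leaf 970)) (.leaf 829)))) (.node (.node (.node (.node (.leaf 186) (.leaf 770)) (.leaf 616)) (.node (.node (.leaf 573) (.leaf 270)) (.leaf 652))) (.node (.node (.node (.leaf 6) (.leaf 972)) (.leaf 49)) (.node (.leaf 294) (.leaf 821)))))) (.node (.node (.node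 (.node (.node (.node (.leaf 38) (.leaf 904)) (.leaf 210)) (.node (.node (.leaf 468) (.leaf 749)) (.leaf 887))) (.node (.node (.node (.leaf 268) (.leaf 858)) (.leaf 569)) (.node (.node (.leaf 255) (.leaf 223)) (.leaf 905)))) (.node (.node (.node (.node (.leaf 144) (.leaf 328)) (.leaf 658)) (.node (.node (.leaf 553) (.leaf 974)) (.leaf 100))) (.node (.node (.node (.leaf 183) (.leaf 868)) (.leaf 146)) (.node (.leaf 459) (.leaf 180))))) (.node (.node (.node (.node (.node (.leaf 100) (.leaf 839)) (.leaf 377)) (.node (.node (.leaf 241) (.leaf 803)) (.leaf 447))) (.node (.node (.node (.leaf 102) (.leaf 952)) (.leaf 838)) (.node (.node (.leaf 653) (.leaf 168)) (.leaf 221)))) (.node (.node (.node (.node (.leaf 214) (.leaf 403)) (.leaf 804)) (.node (.node (.leaf 367) (.leaf 735)) (.leaf 822))) (.node (.node (.node (.leaf 426) (.leaf 68)) (.leaf 871)) (.node (.leaf 46) (.leaf 311))))))) (.node (.node (.node (.node (.node (.node (.node (.leaf 23) (.leaf 291)) (.leaf 95)) (.node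 (.node (.leaf 458) (.leaf 343)) (.leaf 847))) (.node (.node (.node (.leaf 253) (.leaf 390)) (.leaf 121)) (.node (.node (.leaf 606) (.leaf 360)) (.leaf 58)))) (.node (.node (.node (.node (.leaf 144) (.leaf 844)) (.leaf 173)) (.node (.node (.leaf 56) (.leaf 806)) (.leaf 380))) (.node (.node (.node (.leaf 365) (.leaf 398)) (.leaf 502)) (.node (.leaf 678) (.leaf 509))))) (.node (.node (.node (.node (.node (.leaf 84) (.leaf 185)) (.leaf 756)) (.node (.node (.leaf 500) (.leaf 724)) (.leaf 795))) (.node (.node (.node (.leaf 307) (.leaf 258)) (.leaf 642)) (.node (.node (.leaf 644) (.leaf 898)) (.leaf 614)))) (.node (.node (.node (.node (.leaf 199) (.leaf 949)) (.leaf 606)) (.node (.node (.leaf 503) (.leaf 271)) (.leaf 454))) (.node (.node (.node (.leaf 411) (.leaf 756)) (.leaf 440)) (.node (.leaf 648) (.leaf 942)))))) (.node (.node (.node (.node (.node (.node (.leaf 33) (.leaf 917)) (.leaf 746)) (.node (.node (.leaf 477) (.leaf 99)) (.leaf 835))) (.node (.node (.node (.leaf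 282) (.leaf 797)) (.leaf 719)) (.node (.node (.leaf 624) (.leaf 98)) (.leaf 802)))) (.node (.node (.node (.node (.leaf 172) (.leaf 211)) (.leaf 524)) (.node (.node (.leaf 564) (.leaf 530)) (.leaf 537))) (.node (.node (.node (.leaf 384) (.leaf 717)) (.leaf 817)) (.node (.leaf 694) (.leaf 643))))) (.node (.node (.node (.node (.node (.leaf 114) (.leaf 83)) (.leaf 743)) (.node (.node (.leaf 520) (.leaf 968)) (.leaf 662))) (.node (.node (.node (.leaf 337) (.leaf 528)) (.leaf 527)) (.node (.leaf 663) (.leaf 574)))) (.node (.node (.node (.node (.leaf 229) (.leaf 129)) (.leaf 107)) (.node (.node (.leaf 384) (.leaf 394)) (.leaf 893))) (.node (.node (.node (.leaf 440) (.leaf 694)) (.leaf 877)) (.node (.leaf 719) (.leaf 947)))))))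

/-- data -/
def next1p9 : Trie (ℕ) := .node (.node (.node (.node (.node (.node (.node (.node (.leaf 10) (.leaf 112)) (.leaf 726)) (.node (.node (.leaf 451) (.leaf 713)) (.leaf 880))) (.node (.node (.node (.leaf 141) (.leaf 695)) (.leaf 661)) (.node (.node (.leaf 597) (.leaf 228)) (.leaf 385)))) (.node (.node (.node (.node (.leaf 129) (.leaf 806)) (.leaf 774)) (.node (.node (.leaf 73) (.leaf 765)) (.leaf 537))) (.node (.node (.node (.leaf 351) (.leaf 265)) (.leaf 848)) (.node (.leaf 672) (.leaf 932))))) (.node (.node (.node (.node (.node (.leaf 69) (.leaf 825)) (.leaf 642)) (.node (.node (.leaf 116) (.leaf 791)) (.leaf 427))) (.node (.node (.node (.leaf 295) (.leaf 591)) (.leaf 708)) (.node (.node (.leaf 26) (.leaf 477)) (.leaf 488)))) (.node (.node (.node (.node (.leaf 187) (.leaf 935)) (.leaf 243)) (.node (.node (.leaf 574) (.leaf 789)) (.leaf 693))) (.node (.node (.node (.leaf 398) (.leaf 856)) (.leaf 203)) (.node (.leaf 703) (.leaf 531)))))) (.node (.node (.node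 (.node (.node (.node (.leaf 39) (.leaf 772)) (.leaf 520)) (.node (.node (.leaf 469) (.leaf 793)) (.leaf 196))) (.node (.node (.node (.leaf 269) (.leaf 325)) (.leaf 616)) (.node (.node (.leaf 616) (.leaf 812)) (.leaf 918)))) (.node (.node (.node (.node (.leaf 158) (.leaf 672)) (.leaf 784)) (.node (.node (.leaf 554) (.leaf 942)) (.leaf 35))) (.node (.node (.node (.leaf 375) (.leaf 104)) (.leaf 859)) (.node (.leaf 21) (.leaf 910))))) (.node (.node (.node (.node (.node (.leaf 101) (.leaf 533)) (.leaf 1)) (.node (.node (.leaf 224) (.leaf 740)) (.leaf 794))) (.node (.node (.node (.leaf 323) (.leaf 830)) (.leaf 691)) (.node (.node (.leaf 530) (.leaf 739)) (.leaf 52)))) (.node (.node (.node (.node (.leaf 215) (.leaf 412)) (.leaf 805)) (.node (.node (.leaf 585) (.leaf 961)) (.leaf 792))) (.node (.node (.node (.leaf 427) (.leaf 410)) (.leaf 776)) (.node (.leaf 270) (.leaf 944))))))) (.node (.node (.node (.node (.node (.node (.node (.leaf 24) (.leaf 953)) (.leaf 733)) (.node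 (.node (.leaf 230) (.leaf 880)) (.leaf 882))) (.node (.node (.node (.leaf 254) (.leaf 113)) (.leaf 689)) (.node (.node (.leaf 607) (.leaf 180)) (.leaf 916)))) (.node (.node (.node (.node (.leaf 145) (.leaf 755)) (.leaf 116)) (.node (.node (.leaf 24) (.leaf 223)) (.leaf 233))) (.node (.node (.node (.leaf 249) (.leaf 172)) (.leaf 853)) (.node (.leaf 36) (.leaf 935))))) (.node (.node (.node (.node (.node (.leaf 85) (.leaf 959)) (.leaf 186)) (.node (.node (.leaf 501) (.leaf 600)) (.leaf 179))) (.node (.node (.node (.leaf 308) (.leaf 508)) (.leaf 633)) (.node (.node (.leaf 142) (.leaf 197)) (.leaf 604)))) (.node (.node (.node (.node (.leaf 200) (.leaf 624)) (.leaf 703)) (.node (.node (.leaf 426) (.leaf 754)) (.leaf 340))) (.node (.node (.node (.leaf 412) (.leaf 794)) (.leaf 405)) (.node (.leaf 708) (.leaf 84)))))) (.node (.node (.node (.node (.node (.node (.leaf 54) (.leaf 309)) (.leaf 246)) (.node (.node (.leaf 478) (.leaf 454)) (.leaf 888))) (.node (.node (.node (.leaf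 283) (.leaf 542)) (.leaf 71)) (.node (.node (.leaf 421) (.leaf 663)) (.leaf 424)))) (.node (.node (.node (.node (.leaf 173) (.leaf 963)) (.leaf 790)) (.node (.node (.leaf 565) (.leaf 969)) (.leaf 134))) (.node (.node (.node (.leaf 385) (.leaf 956)) (.leaf 9)) (.node (.leaf 695) (.leaf 719))))) (.node (.node (.node (.node (.node (.leaf 115) (.leaf 388)) (.leaf 389)) (.node (.node (.leaf 521) (.leaf 387)) (.leaf 729))) (.node (.node (.node (.leaf 338) (.leaf 291)) (.leaf 447)) (.node (.leaf 632) (.leaf 222)))) (.node (.node (.node (.node (.leaf 3) (.leaf 646)) (.leaf 440)) (.node (.node (.leaf 423) (.leaf 372)) (.leaf 913))) (.node (.node (.node (.leaf 71) (.leaf 355)) (.leaf 779)) (.node (.leaf 720) (.leaf 572)))))))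

/-- data -/
def next1p10 : Trie (ℕ) := .node (.node (.node (.node (.node (.node (.node (.node (.leaf 11) (.leaf 346)) (.leaf 727)) (.node (.node (.leaf 300) (.leaf 525)) (.leaf 174))) (.node (.node (.node (.leaf 13) (.leaf 399)) (.leaf 539)) (.node (.node (.leaf 503) (.leaf 523)) (.leaf 56)))) (.node (.node (.node (.node (.leaf 130) (.leaf 863)) (.leaf 670)) (.node (.node (.leaf 536) (.leaf 706)) (.leaf 109))) (.node (.node (.node (.leaf 352) (.leaf 965)) (.leaf 849)) (.node (.leaf 508) (.leaf 31))))) (.node (.node (.node (.node (.node (.leaf 70) (.leaf 546)) (.leaf 752)) (.node (.node (.leaf 488) (.leaf 603)) (.leaf 453))) (.node (.node (.node (.leaf 296) (.leaf 637)) (.leaf 828)) (.node (.node (.leaf 585) (.leaf 626)) (.leaf 905)))) (.node (.node (.node (.node (.leaf 178) (.leaf 652)) (.leaf 796)) (.node (.node (.leaf 575) (.leaf 283)) (.leaf 905))) (.node (.node (.node (.leaf 122) (.leaf 790)) (.leaf 745)) (.node (.leaf 704) (.leaf 729)))))) (.node (.node (.node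 (.node (.node (.node (.leaf 40) (.leaf 832)) (.leaf 741)) (.node (.node (.leaf 470) (.leaf 15)) (.leaf 534))) (.node (.node (.node (.leaf 270) (.leaf 237)) (.leaf 433)) (.node (.node (.leaf 617) (.leaf 370)) (.leaf 720)))) (.node (.node (.node (.node (.leaf 159) (.leaf 681)) (.leaf 785)) (.node (.node (.leaf 555) (.leaf 467)) (.leaf 148))) (.node (.node (.node (.leaf 266) (.leaf 877)) (.leaf 811)) (.node (.leaf 686) (.leaf 106))))) (.node (.node (.node (.node (.node (.leaf 102) (.leaf 88)) (.leaf 323)) (.node (.node (.leaf 512) (.leaf 701)) (.leaf 897))) (.node (.node (.node (.leaf 324) (.leaf 208)) (.leaf 839)) (.node (.node (.leaf 654) (.leaf 974)) (.leaf 101)))) (.node (.node (.node (.node (.leaf 216) (.leaf 275)) (.leaf 538)) (.node (.node (.leaf 36) (.leaf 919)) (.leaf 836))) (.node (.node (.node (.leaf 428) (.leaf 882)) (.leaf 872)) (.node (.leaf 525) (.leaf 40))))))) (.node (.node (.node (.node (.node (.node (.node (.leaf 25) (.leaf 261)) (.leaf 734)) (.node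 (.node (.leaf 459) (.leaf 398)) (.leaf 883))) (.node (.node (.node (.leaf 255) (.leaf 125)) (.leaf 817)) (.node (.node (.leaf 608) (.leaf 378)) (.leaf 324)))) (.node (.node (.node (.node (.leaf 146) (.leaf 917)) (.leaf 480)) (.node (.node (.leaf 126) (.leaf 280)) (.leaf 731))) (.node (.node (.node (.leaf 366) (.leaf 651)) (.leaf 572)) (.node (.leaf 279) (.leaf 548))))) (.node (.node (.node (.node (.node (.leaf 86) (.leaf 649)) (.leaf 757)) (.node (.node (.leaf 502) (.leaf 432)) (.leaf 153))) (.node (.node (.node (.leaf 309) (.leaf 970)) (.leaf 486)) (.node (.node (.leaf 645) (.leaf 53)) (.leaf 29)))) (.node (.node (.node (.node (.leaf 201) (.leaf 219)) (.leaf 504)) (.node (.node (.leaf 582) (.leaf 559)) (.leaf 38))) (.node (.node (.node (.leaf 413) (.leaf 813)) (.leaf 807)) (.node (.leaf 709) (.leaf 933)))))) (.node (.node (.node (.node (.node (.node (.leaf 42) (.leaf 786)) (.leaf 747)) (.node (.node (.leaf 479) (.leaf 951)) (.leaf 324))) (.node (.node (.node (.leaf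 26) (.leaf 896)) (.leaf 414)) (.node (.node (.leaf 625) (.leaf 679)) (.leaf 824)))) (.node (.node (.node (.node (.leaf 174) (.leaf 567)) (.leaf 791)) (.node (.node (.leaf 133) (.leaf 840)) (.leaf 137))) (.node (.node (.node (.leaf 386) (.leaf 531)) (.leaf 625)) (.node (.leaf 696) (.leaf 397))))) (.node (.node (.node (.node (.node (.leaf 116) (.leaf 945)) (.leaf 401)) (.node (.node (.leaf 522) (.leaf 967)) (.leaf 437))) (.node (.node (.node (.leaf 28) (.leaf 899)) (.leaf 407)) (.node (.leaf 543) (.leaf 215)))) (.node (.node (.node (.node (.leaf 230) (.leaf 93)) (.leaf 809)) (.node (.node (.leaf 526) (.leaf 634)) (.leaf 721))) (.node (.node (.node (.leaf 197) (.leaf 433)) (.leaf 723)) (.node (.leaf 482) (.leaf 128)))))))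

/-- data -/
def next1p11 : Trie (ℕ) := .node (.node (.node (.node (.node (.node (.node (.node (.leaf 12) (.leaf 950)) (.leaf 692)) (.node (.node (.leaf 59) (.leaf 804)) (.leaf 667))) (.node (.node (.node (.leaf 243) (.leaf 889)) (.leaf 809)) (.node (.node (.leaf 598) (.leaf 637)) (.leaf 456)))) (.node (.node (.node (.node (.leaf 131) (.leaf 864)) (.leaf 93)) (.node (.node (.leaf 537) (.leaf 164)) (.leaf 507))) (.node (.node (.node (.leaf 353) (.leaf 863)) (.leaf 450)) (.node (.leaf 39) (.leaf 638))))) (.node (.node (.node (.node (.node (.leaf 71) (.leaf 957)) (.leaf 753)) (.node (.node (.leaf 489) (.leaf 124)) (.leaf 361))) (.node (.node (.node (.leaf 297) (.leaf 857)) (.leaf 510)) (.node (.node (.leaf 637) (.leaf 590)) (.leaf 437)))) (.node (.node (.node (.node (.leaf 188) (.leaf 514)) (.leaf 797)) (.node (.node (.leaf 512) (.leaf 959)) (.leaf 705))) (.node (.node (.node (.leaf 399) (.leaf 958)) (.leaf 542)) (.node (.leaf 419) (.leaf 103)))))) (.node (.node (.node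 (.node (.node (.node (.leaf 41) (.leaf 177)) (.leaf 251)) (.node (.node (.leaf 471) (.leaf 788)) (.leaf 498))) (.node (.node (.node (.leaf 271) (.leaf 295)) (.leaf 822)) (.node (.node (.leaf 618) (.leaf 397)) (.leaf 496)))) (.node (.node (.node (.node (.leaf 160) (.leaf 882)) (.leaf 492)) (.node (.node (.leaf 556) (.leaf 70)) (.leaf 60))) (.node (.node (.node (.leaf 127) (.leaf 877)) (.leaf 160)) (.node (.leaf 687) (.leaf 885))))) (.node (.node (.node (.node (.node (.leaf 103) (.leaf 274)) (.leaf 169)) (.node (.node (.leaf 513) (.leaf 973)) (.leaf 898))) (.node (.node (.node (.leaf 325) (.leaf 352)) (.leaf 83)) (.node (.node (.leaf 284) (.leaf 953)) (.leaf 273)))) (.node (.node (.node (.node (.leaf 217) (.leaf 810)) (.leaf 687)) (.node (.node (.leaf 376) (.leaf 306)) (.leaf 13))) (.node (.node (.node (.leaf 429) (.leaf 281)) (.leaf 873)) (.node (.leaf 444) (.leaf 140))))))) (.node (.node (.node (.node (.node (.node (.node (.leaf 26) (.leaf 812)) (.leaf 735)) (.node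 (.node (.leaf 342) (.leaf 676)) (.leaf 359))) (.node (.node (.node (.leaf 256) (.leaf 382)) (.leaf 301)) (.node (.node (.leaf 609) (.leaf 46)) (.leaf 888)))) (.node (.node (.node (.node (.leaf 147) (.leaf 515)) (.leaf 778)) (.node (.node (.leaf 133) (.leaf 657)) (.leaf 822))) (.node (.node (.node (.leaf 240) (.leaf 206)) (.leaf 592)) (.node (.leaf 17) (.leaf 299))))) (.node (.node (.node (.node (.node (.leaf 87) (.leaf 335)) (.leaf 758)) (.node (.node (.leaf 503) (.leaf 697)) (.leaf 894))) (.node (.node (.node (.leaf 310) (.leaf 934)) (.leaf 815)) (.node (.node (.leaf 362) (.leaf 907)) (.leaf 461)))) (.node (.node (.node (.node (.leaf 202) (.leaf 628)) (.leaf 802)) (.node (.node (.leaf 351) (.leaf 914)) (.leaf 386))) (.node (.node (.node (.leaf 414) (.leaf 305)) (.leaf 738)) (.node (.leaf 141) (.leaf 280)))))) (.node (.node (.node (.node (.node (.node (.leaf 55) (.leaf 560)) (.leaf 748)) (.node (.node (.leaf 480) (.leaf 852)) (.leaf 261))) (.node (.node (.node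 (.leaf 284) (.leaf 776)) (.leaf 596)) (.node (.node (.leaf 626) (.leaf 558)) (.leaf 922)))) (.node (.node (.node (.node (.leaf 175) (.leaf 595)) (.leaf 456)) (.node (.node (.leaf 203) (.leaf 945)) (.leaf 587))) (.node (.node (.node (.leaf 114) (.leaf 479)) (.leaf 514)) (.node (.leaf 697) (.leaf 690))))) (.node (.node (.node (.node (.node (.leaf 41) (.leaf 874)) (.leaf 768)) (.node (.node (.leaf 523) (.leaf 893)) (.leaf 725))) (.node (.node (.node (.leaf 339) (.leaf 773)) (.leaf 748)) (.node (.leaf 443) (.leaf 266)))) (.node (.node (.node (.node (.leaf 231) (.leaf 752)) (.leaf 796)) (.node (.node (.leaf 593) (.leaf 958)) (.leaf 914))) (.node (.node (.node (.leaf 249) (.leaf 744)) (.leaf 878)) (.node (.leaf 519) (.leaf 948)))))))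

/-- data -/
def next1p12 : Trie (ℕ) := .node (.node (.node (.node (.node (.node (.node (.node (.leaf 13) (.leaf 538)) (.leaf 728)) (.node (.node (.leaf 452) (.leaf 55)) (.leaf 396))) (.node (.node (.node (.leaf 244) (.leaf 685)) (.leaf 92)) (.node (.node (.leaf 283) (.leaf 184)) (.leaf 467)))) (.node (.node (.node (.node (.leaf 132) (.leaf 961)) (.leaf 204)) (.node (.node (.leaf 195) (.leaf 678)) (.leaf 731))) (.node (.node (.node (.leaf 354) (.leaf 420)) (.leaf 499)) (.node (.leaf 673) (.leaf 51))))) (.node (.node (.node (.node (.node (.leaf 72) (.leaf 956)) (.leaf 584)) (.node (.node (.leaf 490) (.leaf 57)) (.leaf 798))) (.node (.node (.node (.leaf 136) (.leaf 674)) (.leaf 628)) (.node (.node (.leaf 638) (.leaf 134)) (.leaf 890)))) (.node (.node (.node (.node (.leaf 189) (.leaf 698)) (.leaf 739)) (.node (.node (.leaf 457) (.leaf 557)) (.leaf 828))) (.node (.node (.node (.leaf 400) (.leaf 936)) (.leaf 152)) (.node (.leaf 97) (.leaf 936)))))) (.node (.node (.node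 (.node (.node (.node (.leaf 42) (.leaf 954)) (.leaf 519)) (.node (.node (.leaf 472) (.leaf 779)) (.leaf 104))) (.node (.node (.node (.leaf 272) (.leaf 704)) (.leaf 641)) (.node (.node (.leaf 619) (.leaf 667)) (.leaf 445)))) (.node (.node (.node (.node (.leaf 161) (.leaf 582)) (.leaf 786)) (.node (.node (.leaf 557) (.leaf 185)) (.leaf 165))) (.node (.node (.node (.leaf 286) (.leaf 926)) (.leaf 448)) (.node (.leaf 688) (.leaf 938))))) (.node (.node (.node (.node (.node (.leaf 104) (.leaf 32)) (.leaf 765)) (.node (.node (.leaf 514) (.leaf 849)) (.leaf 747))) (.node (.node (.node (.leaf 326) (.leaf 867)) (.leaf 7)) (.node (.node (.leaf 655) (.leaf 782)) (.leaf 534)))) (.node (.node (.node (.node (.leaf 218) (.leaf 649)) (.leaf 276)) (.node (.node (.leaf 586) (.leaf 383)) (.leaf 655))) (.node (.node (.node (.leaf 430) (.leaf 909)) (.leaf 873)) (.node (.leaf 264) (.leaf 598))))))) (.node (.node (.node (.node (.node (.node (.node (.leaf 27) (.leaf 580)) (.leaf 736)) (.node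 (.node (.leaf 460) (.leaf 869)) (.leaf 746))) (.node (.node (.node (.leaf 257) (.leaf 67)) (.leaf 818)) (.node (.node (.leaf 154) (.leaf 115)) (.leaf 211)))) (.node (.node (.node (.node (.leaf 148) (.leaf 161)) (.leaf 351)) (.node (.node (.leaf 513) (.leaf 10)) (.leaf 522))) (.node (.node (.node (.leaf 367) (.leaf 966)) (.leaf 854)) (.node (.leaf 681) (.leaf 532))))) (.node (.node (.node (.node (.node (.leaf 88) (.leaf 429)) (.leaf 17)) (.node (.node (.leaf 500) (.leaf 801)) (.leaf 895))) (.node (.node (.node (.leaf 311) (.leaf 178)) (.leaf 833)) (.node (.node (.leaf 158) (.leaf 327)) (.leaf 926)))) (.node (.node (.node (.node (.leaf 203) (.leaf 899)) (.leaf 450)) (.node (.node (.leaf 583) (.leaf 974)) (.leaf 799))) (.node (.node (.node (.leaf 415) (.leaf 263)) (.leaf 415)) (.node (.leaf 535) (.leaf 861)))))) (.node (.node (.node (.node (.node (.node (.leaf 56) (.leaf 746)) (.leaf 389)) (.node (.node (.leaf 481) (.leaf 375)) (.leaf 556))) (.node (.node (.node (.leaf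 285) (.leaf 777)) (.leaf 712)) (.node (.node (.leaf 627) (.leaf 595)) (.leaf 907)))) (.node (.node (.node (.node (.leaf 168) (.leaf 545)) (.leaf 792)) (.node (.node (.leaf 520) (.leaf 968)) (.leaf 430))) (.node (.node (.node (.leaf 198) (.leaf 969)) (.leaf 167)) (.node (.leaf 579) (.leaf 906))))) (.node (.node (.node (.node (.node (.leaf 117) (.leaf 45)) (.leaf 292)) (.node (.node (.leaf 524) (.leaf 250)) (.leaf 37))) (.node (.node (.node (.leaf 340) (.leaf 566)) (.leaf 829)) (.node (.leaf 664) (.leaf 929)))) (.node (.node (.node (.node (.leaf 232) (.leaf 920)) (.leaf 646)) (.node (.node (.leaf 594) (.leaf 192)) (.leaf 332))) (.node (.node (.node (.leaf 392) (.leaf 229)) (.leaf 21)) (.node (.leaf 721) (.leaf 409)))))))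

/-- data -/
def next1p13 : Trie (ℕ) := .node (.node (.node (.node (.node (.node (.node (.node (.leaf 14) (.leaf 495)) (.leaf 428)) (.node (.node (.leaf 61) (.leaf 965)) (.leaf 859))) (.node (.node (.node (.leaf 245) (.leaf 245)) (.leaf 292)) (.node (.node (.leaf 599) (.leaf 112)) (.leaf 865)))) (.node (.node (.node (.node (.leaf 133) (.leaf 298)) (.leaf 775)) (.node (.node (.leaf 308) (.leaf 439)) (.leaf 452))) (.node (.node (.node (.leaf 355) (.leaf 64)) (.leaf 762)) (.node (.leaf 33) (.leaf 933))))) (.node (.node (.node (.node (.node (.leaf 73) (.leaf 854)) (.leaf 754)) (.node (.node (.leaf 491) (.leaf 379)) (.leaf 839))) (.node (.node (.node (.leaf 298) (.leaf 926)) (.leaf 655)) (.node (.node (.leaf 529) (.leaf 901)) (.leaf 854)))) (.node (.node (.node (.node (.leaf 190) (.leaf 117)) (.leaf 363)) (.node (.node (.leaf 428) (.leaf 943)) (.leaf 162))) (.node (.node (.node (.leaf 401) (.leaf 819)) (.leaf 683)) (.node (.leaf 705) (.leaf 778)))))) (.node (.node (.node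 (.node (.node (.node (.leaf 43) (.leaf 354)) (.leaf 236)) (.node (.node (.leaf 107) (.leaf 755)) (.leaf 27))) (.node (.node (.node (.leaf 194) (.leaf 159)) (.leaf 464)) (.node (.node (.leaf 368) (.leaf 442)) (.leaf 524)))) (.node (.node (.node (.node (.leaf 162) (.leaf 426)) (.leaf 787)) (.node (.node (.leaf 184) (.leaf 684)) (.leaf 802))) (.node (.node (.node (.leaf 24) (.leaf 921)) (.leaf 737)) (.node (.leaf 689) (.leaf 511))))) (.node (.node (.node (.node (.node (.leaf 105) (.leaf 518)) (.leaf 145)) (.node (.node (.leaf 515) (.leaf 715)) (.leaf 306))) (.node (.node (.node (.leaf 327) (.leaf 536)) (.leaf 235)) (.node (.leaf 656) (.leaf 602)))) (.node (.node (.node (.node (.leaf 219) (.leaf 596)) (.leaf 171)) (.node (.node (.leaf 587) (.leaf 868)) (.leaf 909))) (.node (.node (.node (.leaf 431) (.leaf 851)) (.leaf 751)) (.node (.leaf 713) (.leaf 852))))))) (.node (.node (.node (.node (.node (.node (.node (.leaf 28) (.leaf 856)) (.leaf 34)) (.node (.node (.leaf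 461) (.leaf 605)) (.leaf 884))) (.node (.node (.node (.leaf 258) (.leaf 369)) (.leaf 734)) (.node (.node (.leaf 181) (.leaf 356)) (.leaf 146)))) (.node (.node (.node (.node (.leaf 149) (.leaf 902)) (.leaf 95)) (.node (.node (.leaf 547) (.leaf 886)) (.leaf 892))) (.node (.node (.node (.leaf 368) (.leaf 605)) (.leaf 834)) (.node (.leaf 151) (.leaf 900))))) (.node (.node (.node (.node (.node (.leaf 89) (.leaf 493)) (.leaf 759)) (.node (.node (.leaf 504) (.leaf 382)) (.leaf 220))) (.node (.node (.node (.leaf 312) (.leaf 925)) (.leaf 400)) (.node (.node (.leaf 646) (.leaf 517)) (.leaf 121)))) (.node (.node (.node (.node (.leaf 204) (.leaf 960)) (.leaf 469)) (.node (.node (.leaf 584) (.leaf 287)) (.leaf 907))) (.node (.node (.node (.leaf 416) (.leaf 592)) (.leaf 373)) (.node (.leaf 710) (.leaf 943)))))) (.node (.node (.node (.node (.node (.node (.leaf 57) (.leaf 502)) (.leaf 297)) (.node (.node (.leaf 482) (.leaf 615)) (.leaf 889))) (.node (.node (.node (.leaf 237) (.leaf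 969)) (.leaf 700)) (.node (.node (.leaf 628) (.leaf 290)) (.leaf 752)))) (.node (.node (.node (.node (.leaf 176) (.leaf 878)) (.leaf 282)) (.node (.node (.leaf 515) (.leaf 951)) (.leaf 118))) (.node (.node (.node (.leaf 387) (.leaf 108)) (.leaf 864)) (.node (.leaf 698) (.leaf 754))))) (.node (.node (.node (.node (.node (.leaf 118) (.leaf 602)) (.leaf 285)) (.node (.node (.leaf 525) (.leaf 125)) (.leaf 845))) (.node (.node (.node (.leaf 341) (.leaf 599)) (.leaf 842)) (.node (.leaf 665) (.leaf 929)))) (.node (.node (.node (.node (.leaf 233) (.leaf 506)) (.leaf 810)) (.node (.node (.leaf 409) (.leaf 934)) (.leaf 673))) (.node (.node (.node (.leaf 441) (.leaf 205)) (.leaf 431)) (.node (.leaf 722) (.leaf 844)))))))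

/-- data -/
def next1p14 : Trie (ℕ) := .node (.node (.node (.node (.node (.node (.node (.node (.leaf 15) (.leaf 413)) (.leaf 729)) (.node (.node (.leaf 453) (.leaf 927)) (.leaf 632))) (.node (.node (.node (.leaf 246) (.leaf 683)) (.leaf 527)) (.node (.node (.leaf 296) (.leaf 645)) (.leaf 591)))) (.node (.node (.node (.node (.leaf 134) (.leaf 845)) (.leaf 657)) (.node (.node (.leaf 538) (.leaf 171)) (.leaf 630))) (.node (.node (.node (.leaf 356) (.leaf 749)) (.leaf 769)) (.node (.leaf 139) (.leaf 202))))) (.node (.node (.node (.node (.node (.leaf 74) (.leaf 582)) (.leaf 222)) (.node (.node (.leaf 492) (.leaf 783)) (.leaf 417))) (.node (.node (.node (.leaf 299) (.leaf 952)) (.leaf 829)) (.node (.node (.leaf 307) (.leaf 688)) (.leaf 909)))) (.node (.node (.node (.node (.leaf 191) (.leaf 944)) (.leaf 798)) (.node (.node (.leaf 576) (.leaf 920)) (.leaf 681))) (.node (.node (.node (.leaf 334) (.leaf 973)) (.leaf 714)) (.node (.leaf 706) (.leaf 408)))))) (.node (.node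 (.node (.node (.node (.node (.leaf 44) (.leaf 955)) (.leaf 742)) (.node (.node (.leaf 473) (.leaf 734)) (.leaf 820))) (.node (.node (.node (.leaf 273) (.leaf 967)) (.leaf 823)) (.node (.node (.leaf 620) (.leaf 373)) (.leaf 240)))) (.node (.node (.node (.node (.leaf 163) (.leaf 86)) (.leaf 691)) (.node (.node (.leaf 558) (.leaf 725)) (.leaf 903))) (.node (.node (.node (.leaf 376) (.leaf 716)) (.leaf 477)) (.node (.leaf 364) (.leaf 577))))) (.node (.node (.node (.node (.node (.leaf 106) (.leaf 875)) (.leaf 20)) (.node (.node (.leaf 516) (.leaf 78)) (.leaf 120))) (.node (.node (.node (.leaf 328) (.leaf 600)) (.leaf 51)) (.node (.leaf 143) (.leaf 483)))) (.node (.node (.node (.node (.leaf 220) (.leaf 329)) (.leaf 806)) (.node (.node (.leaf 11) (.leaf 549)) (.leaf 910))) (.node (.node (.node (.leaf 432) (.leaf 624)) (.leaf 874)) (.node (.leaf 521) (.leaf 557))))))) (.node (.node (.node (.node (.node (.node (.node (.leaf 29) (.leaf 932)) (.leaf 114)) (.node (.node (.leaf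 462) (.leaf 314)) (.leaf 84))) (.node (.node (.node (.leaf 259) (.leaf 129)) (.leaf 243)) (.node (.node (.leaf 610) (.leaf 259)) (.leaf 679)))) (.node (.node (.node (.node (.leaf 47) (.leaf 575)) (.leaf 590)) (.node (.node (.leaf 548) (.leaf 676)) (.leaf 833))) (.node (.node (.node (.leaf 369) (.leaf 962)) (.leaf 855)) (.node (.leaf 213) (.leaf 491))))) (.node (.node (.node (.node (.node (.leaf 90) (.leaf 286)) (.leaf 760)) (.node (.node (.leaf 484) (.leaf 312)) (.leaf 851))) (.node (.node (.node (.leaf 313) (.leaf 843)) (.leaf 348)) (.node (.node (.leaf 647) (.leaf 157)) (.leaf 927)))) (.node (.node (.node (.node (.leaf 205) (.leaf 569)) (.leaf 716)) (.node (.node (.leaf 149) (.leaf 872)) (.leaf 908))) (.node (.node (.node (.leaf 417) (.leaf 760)) (.leaf 465)) (.node (.leaf 585) (.leaf 347)))))) (.node (.node (.node (.node (.node (.node (.leaf 58) (.leaf 831)) (.leaf 749)) (.node (.node (.leaf 483) (.leaf 381)) (.leaf 172))) (.node (.node (.node (.leaf 225) (.leaf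 925)) (.leaf 827)) (.node (.node (.leaf 629) (.leaf 915)) (.leaf 481)))) (.node (.node (.node (.node (.leaf 177) (.leaf 964)) (.leaf 52)) (.node (.node (.leaf 566) (.leaf 544)) (.leaf 449))) (.node (.node (.node (.leaf 388) (.leaf 906)) (.leaf 586)) (.node (.leaf 672) (.leaf 491))))) (.node (.node (.node (.node (.node (.leaf 119) (.leaf 836)) (.leaf 371)) (.node (.node (.leaf 526) (.leaf 903)) (.leaf 241))) (.node (.node (.node (.leaf 342) (.leaf 884)) (.leaf 843)) (.node (.leaf 38) (.leaf 272)))) (.node (.node (.node (.node (.leaf 139) (.leaf 964)) (.leaf 31)) (.node (.node (.leaf 238) (.leaf 957)) (.leaf 675))) (.node (.node (.node (.leaf 442) (.leaf 23)) (.leaf 879)) (.node (.leaf 723) (.leaf 577)))))))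

/-- data -/
def next1p15 : Trie (ℕ) := .node (.node (.node (.node (.node (.node (.node (.node (.leaf 16) (.leaf 790)) (.leaf 690)) (.node (.node (.leaf 454) (.leaf 810)) (.leaf 412))) (.node (.node (.node (.leaf 247) (.leaf 722)) (.leaf 490)) (.node (.node (.leaf 429) (.leaf 358)) (.leaf 874)))) (.node (.node (.node (.node (.leaf 135) (.leaf 163)) (.leaf 406)) (.node (.node (.leaf 539) (.leaf 179)) (.leaf 14))) (.node (.node (.node (.leaf 357) (.leaf 182)) (.leaf 269)) (.node (.leaf 674) (.leaf 358))))) (.node (.node (.node (.node (.node (.leaf 75) (.leaf 245)) (.leaf 336)) (.node (.node (.leaf 493) (.leaf 413)) (.leaf 369))) (.node (.node (.node (.leaf 300) (.leaf 939)) (.leaf 149)) (.node (.node (.leaf 639) (.leaf 768)) (.leaf 11)))) (.node (.node (.node (.node (.leaf 192) (.leaf 923)) (.leaf 310)) (.node (.node (.leaf 577) (.leaf 864)) (.leaf 665))) (.node (.node (.node (.leaf 402) (.leaf 480)) (.leaf 341)) (.node (.leaf 15) (.leaf 441)))))) (.node (.node (.node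 (.node (.node (.node (.leaf 45) (.leaf 430)) (.leaf 743)) (.node (.node (.leaf 474) (.leaf 736)) (.leaf 220))) (.node (.node (.node (.leaf 274) (.leaf 571)) (.leaf 824)) (.node (.node (.leaf 532) (.leaf 170)) (.leaf 919)))) (.node (.node (.node (.node (.leaf 164) (.leaf 935)) (.leaf 669)) (.node (.node (.leaf 505) (.leaf 771)) (.leaf 603))) (.node (.node (.node (.leaf 377) (.leaf 510)) (.leaf 489)) (.node (.leaf 136) (.leaf 827))))) (.node (.node (.node (.node (.node (.leaf 72) (.leaf 787)) (.leaf 301)) (.node (.node (.leaf 169) (.leaf 797)) (.leaf 707))) (.node (.node (.node (.leaf 329) (.leaf 57)) (.leaf 840)) (.node (.leaf 588) (.leaf 918)))) (.node (.node (.node (.node (.leaf 221) (.leaf 965)) (.leaf 697)) (.node (.node (.leaf 588) (.leaf 536)) (.leaf 411))) (.node (.node (.node (.leaf 433) (.leaf 617)) (.leaf 804)) (.node (.leaf 714) (.leaf 945))))))) (.node (.node (.node (.node (.node (.node (.node (.leaf 30) (.leaf 548)) (.leaf 737)) (.node (.node (.leaf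 8) (.leaf 620)) (.leaf 709))) (.node (.node (.node (.leaf 260) (.leaf 777)) (.leaf 710)) (.node (.node (.leaf 611) (.leaf 694)) (.leaf 768)))) (.node (.node (.node (.node (.leaf 96) (.leaf 314)) (.leaf 779)) (.node (.node (.leaf 69) (.leaf 406)) (.leaf 48))) (.node (.node (.node (.leaf 370) (.leaf 771)) (.leaf 856)) (.node (.leaf 682) (.leaf 923))))) (.node (.node (.node (.node (.node (.leaf 91) (.leaf 457)) (.leaf 375)) (.node (.node (.leaf 505) (.leaf 914)) (.leaf 393))) (.node (.node (.node (.leaf 314) (.leaf 780)) (.leaf 834)) (.node (.node (.leaf 90) (.leaf 338)) (.leaf 182)))) (.node (.node (.node (.node (.leaf 206) (.leaf 400)) (.leaf 285)) (.node (.node (.leaf 337) (.leaf 349)) (.leaf 814))) (.node (.node (.node (.leaf 418) (.leaf 890)) (.leaf 234)) (.node (.leaf 239) (.leaf 355)))))) (.node (.node (.node (.node (.node (.node (.leaf 59) (.leaf 288)) (.leaf 489)) (.node (.node (.leaf 255) (.leaf 930)) (.leaf 835))) (.node (.node (.node (.leaf 286) (.leaf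 553)) (.leaf 198)) (.node (.node (.leaf 630) (.leaf 834)) (.leaf 210)))) (.node (.node (.node (.node (.leaf 75) (.leaf 884)) (.leaf 297)) (.node (.node (.leaf 567) (.leaf 497)) (.leaf 741))) (.node (.node (.node (.leaf 389) (.leaf 944)) (.leaf 23)) (.node (.leaf 682) (.leaf 76))))) (.node (.node (.node (.node (.node (.leaf 120) (.leaf 402)) (.leaf 471)) (.node (.node (.leaf 527) (.leaf 60)) (.leaf 689))) (.node (.node (.node (.leaf 343) (.leaf 781)) (.leaf 200)) (.node (.leaf 473) (.leaf 879)))) (.node (.node (.node (.node (.leaf 226) (.leaf 361)) (.leaf 687)) (.node (.node (.leaf 575) (.leaf 629)) (.leaf 191))) (.node (.node (.node (.leaf 443) (.leaf 608)) (.leaf 8)) (.node (.leaf 724) (.leaf 189)))))))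

/-- data -/
def next1 : Trie (ℕ) := .node (.node (.node (.node (next1p0) (next1p8)) (.node (next1p4) (next1p12))) (.node (.node (next1p2) (next1p10)) (.node (next1p6) (next1p14)))) (.node (.node (.node (next1p1) (next1p9)) (.node (next1p5) (next1p13))) (.node (.node (next1p3) (next1p11)) (.node (next1p7) (next1p15))))

/-- data -/
def prev1p0 : Trie (ℕ) := .node (.node (.node (.node (.node (.node (.node (.node (.leaf 13) (.leaf 319)) (.leaf 748)) (.node (.node (.leaf 60) (.leaf 482)) (.leaf 206))) (.node (.node (.node (.leaf 684) (.leaf 965)) (.leaf 162)) (.node (.node (.leaf 344) (.leaf 654)) (.leaf 492)))) (.node (.node (.node (.node (.leaf 14) (.leaf 911)) (.leaf 716)) (.node (.node (.leaf 375) (.leaf 620)) (.leaf 267))) (.node (.node (.node (.leaf 545) (.leaf 425)) (.leaf 184)) (.node (.leaf 729) (.leaf 944))))) (.node (.node (.node (.node (.node (.leaf 312) (.leaf 813)) (.leaf 134)) (.node (.node (.leaf 69) (.leaf 723)) (.leaf 215))) (.node (.node (.node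 (.leaf 36) (.leaf 920)) (.leaf 484)) (.node (.node (.leaf 566) (.leaf 722)) (.leaf 284)))) (.node (.node (.node (.node (.leaf 815) (.leaf 702)) (.leaf 155)) (.node (.node (.leaf 657) (.leaf 701)) (.leaf 769))) (.node (.node (.node (.leaf 52) (.leaf 455)) (.leaf 431)) (.node (.leaf 119) (.leaf 315)))))) (.node (.node (.node (.node (.node (.node (.leaf 587) (.leaf 422)) (.leaf 327)) (.node (.node (.leaf 806) (.leaf 729)) (.leaf 961))) (.node (.node (.node (.leaf 53) (.leaf 665)) (.leaf 622)) (.node (.node (.leaf 97) (.leaf 886)) (.leaf 853)))) (.node (.node (.node (.node (.leaf 18) (.leaf 869)) (.leaf 150)) (.node (.node (.leaf 81) (.leaf 583)) (.leaf 232))) (.node (.node (.node (.leaf 48) (.leaf 837)) (.leaf 837)) (.node (.leaf 115) (.leaf 928))))) (.node (.node (.node (.node (.node (.leaf 11) (.leaf 335)) (.leaf 500)) (.node (.node (.leaf 644) (.leaf 654)) (.leaf 332))) (.node (.node (.node (.leaf 41) (.leaf 600)) (.leaf 178)) (.node (.node (.leaf 107) (.leaf 962))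 (.leaf 938)))) (.node (.node (.node (.node (.leaf 464) (.leaf 371)) (.leaf 159)) (.node (.node (.leaf 772) (.leaf 727)) (.leaf 940))) (.node (.node (.node (.leaf 57) (.leaf 651)) (.leaf 200)) (.node (.leaf 122) (.leaf 739))))))) (.node (.node (.node (.node (.node (.node (.node (.leaf 1) (.leaf 795)) (.leaf 128)) (.node (.node (.leaf 63) (.leaf 481)) (.leaf 423))) (.node (.node (.node (.leaf 287) (.leaf 935)) (.leaf 768)) (.node (.node (.leaf 691) (.leaf 675)) (.leaf 633)))) (.node (.node (.node (.node (.leaf 565) (.leaf 346)) (.leaf 361)) (.node (.node (.leaf 78) (.leaf 964)) (.leaf 230))) (.node (.node (.node (.leaf 222) (.leaf 918)) (.leaf 523)) (.node (.leaf 113) (.leaf 943))))) (.node (.node (.node (.node (.node (.leaf 104) (.leaf 522)) (.leaf 271)) (.node (.node (.leaf 968) (.leaf 515)) (.leaf 686))) (.node (.node (.node (.leaf 943) (.leaf 406)) (.leaf 175)) (.node (.node (.leaf 805) (.leaf 762)) (.leaf 755)))) (.node (.node (.node (.node (.leaf 24) (.leaf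 366)) (.leaf 845)) (.node (.node (.leaf 137) (.leaf 821)) (.leaf 439))) (.node (.node (.node (.leaf 54) (.leaf 674)) (.leaf 577)) (.node (.leaf 390) (.leaf 298)))))) (.node (.node (.node (.node (.node (.node (.leaf 5) (.leaf 750)) (.leaf 869)) (.node (.node (.leaf 66) (.leaf 843)) (.leaf 808))) (.node (.node (.node (.leaf 898) (.leaf 800)) (.leaf 953)) (.node (.node (.leaf 100) (.leaf 848)) (.leaf 267)))) (.node (.node (.node (.node (.leaf 20) (.leaf 355)) (.leaf 757)) (.node (.node (.leaf 418) (.leaf 605)) (.leaf 235))) (.node (.node (.node (.leaf 56) (.leaf 619)) (.leaf 918)) (.node (.leaf 735) (.leaf 882))))) (.node (.node (.node (.node (.node (.leaf 553) (.leaf 339)) (.leaf 641)) (.node (.node (.leaf 75) (.leaf 622)) (.leaf 224))) (.node (.node (.node (.leaf 152) (.leaf 960)) (.leaf 182)) (.node (.leaf 406) (.leaf 936)))) (.node (.node (.node (.node (.leaf 28) (.leaf 473)) (.leaf 540)) (.node (.node (.leaf 894) (.leaf 644)) (.leaf 253))) (.node (.node (.node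 (.leaf 569) (.leaf 711)) (.leaf 202)) (.node (.leaf 125) (.leaf 370)))))))

/-- data -/
def prev1p1 : Trie (ℕ) := .node (.node (.node (.node (.node (.node (.node (.node (.leaf 193) (.leaf 495)) (.leaf 495)) (.node (.node (.leaf 61) (.leaf 477)) (.leaf 238))) (.node (.node (.node (.leaf 29) (.leaf 382)) (.leaf 163)) (.node (.node (.leaf 94) (.leaf 893)) (.leaf 907)))) (.node (.node (.node (.node (.leaf 15) (.leaf 342)) (.leaf 253)) (.node (.node (.leaf 308) (.leaf 787)) (.leaf 855))) (.node (.node (.node (.leaf 45) (.leaf 427)) (.leaf 785)) (.node (.leaf 649) (.leaf 283))))) (.node (.node (.node (.node (.node (.leaf 510) (.leaf 323)) (.leaf 391)) (.node (.node (.leaf 937) (.leaf 706)) (.leaf 717))) (.node (.node (.node (.leaf 424) (.leaf 598)) (.leaf 709)) (.node (.node (.leaf 965) (.leaf 756)) (.leaf 480)))) (.node (.node (.node (.node (.leaf 941) (.leaf 548)) (.leaf 721)) (.node (.node (.leaf 463) (.leaf 609)) (.leaf 239))) (.node (.node (.node (.leaf 244) (.leaf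 610)) (.leaf 650)) (.node (.leaf 208) (.leaf 429)))))) (.node (.node (.node (.node (.node (.node (.leaf 250) (.leaf 316)) (.leaf 131)) (.node (.node (.leaf 265) (.leaf 922)) (.leaf 942))) (.node (.node (.node (.leaf 33) (.leaf 868)) (.leaf 552)) (.node (.node (.leaf 668) (.leaf 754)) (.leaf 828)))) (.node (.node (.node (.node (.leaf 968) (.leaf 912)) (.leaf 151)) (.node (.node (.leaf 178) (.leaf 969)) (.leaf 647))) (.node (.node (.node (.leaf 49) (.leaf 439)) (.leaf 190)) (.node (.leaf 701) (.leaf 754))))) (.node (.node (.node (.node (.node (.leaf 386) (.leaf 336)) (.leaf 140)) (.node (.node (.leaf 233) (.leaf 581)) (.leaf 220))) (.node (.node (.node (.leaf 389) (.leaf 411)) (.leaf 312)) (.node (.node (.leaf 432) (.leaf 850)) (.leaf 276)))) (.node (.node (.node (.node (.leaf 412) (.leaf 876)) (.leaf 956)) (.node (.node (.leaf 89) (.leaf 871)) (.leaf 476))) (.node (.node (.node (.leaf 875) (.leaf 759)) (.leaf 853)) (.node (.leaf 471) (.leaf 319))))))) (.node (.node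 (.node (.node (.node (.node (.node (.leaf 266) (.leaf 313)) (.leaf 129)) (.node (.node (.leaf 688) (.leaf 483)) (.leaf 969))) (.node (.node (.node (.leaf 91) (.leaf 386)) (.leaf 883)) (.node (.node (.leaf 531) (.leaf 751)) (.leaf 878)))) (.node (.node (.node (.node (.leaf 358) (.leaf 348)) (.leaf 381)) (.node (.node (.leaf 79) (.leaf 672)) (.leaf 702))) (.node (.node (.node (.leaf 232) (.leaf 434)) (.leaf 950)) (.node (.leaf 683) (.leaf 635))))) (.node (.node (.node (.node (.node (.leaf 527) (.leaf 328)) (.leaf 421)) (.node (.node (.leaf 168) (.leaf 738)) (.leaf 430))) (.node (.node (.node (.leaf 39) (.leaf 961)) (.leaf 536)) (.node (.node (.leaf 260) (.leaf 857)) (.leaf 847)))) (.node (.node (.node (.node (.leaf 223) (.leaf 766)) (.leaf 466)) (.node (.node (.leaf 87) (.leaf 619)) (.leaf 241))) (.node (.node (.node (.leaf 55) (.leaf 460)) (.leaf 198)) (.node (.leaf 781) (.leaf 299)))))) (.node (.node (.node (.node (.node (.node (.leaf 6) (.leaf 320)) (.leaf 230))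 (.node (.node (.leaf 67) (.leaf 862)) (.leaf 213))) (.node (.node (.node (.leaf 632) (.leaf 864)) (.leaf 297)) (.node (.node (.leaf 639) (.leaf 698)) (.leaf 903)))) (.node (.node (.node (.node (.leaf 21) (.leaf 575)) (.leaf 153)) (.node (.node (.leaf 82) (.leaf 838)) (.leaf 236))) (.node (.node (.node (.leaf 747) (.leaf 720)) (.leaf 193)) (.node (.leaf 876) (.leaf 292))))) (.node (.node (.node (.node (.node (.leaf 12) (.leaf 611)) (.leaf 879)) (.node (.node (.leaf 803) (.leaf 536)) (.leaf 932))) (.node (.node (.node (.leaf 880) (.leaf 886)) (.leaf 614)) (.node (.leaf 929) (.leaf 599)))) (.node (.node (.node (.node (.leaf 251) (.leaf 626)) (.leaf 160)) (.node (.node (.leaf 770) (.leaf 646)) (.leaf 478))) (.node (.node (.node (.leaf 58) (.leaf 472)) (.leaf 203)) (.node (.leaf 823) (.leaf 556)))))))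

/-- data -/
def prev1p2 : Trie (ℕ) := .node (.node (.node (.node (.node (.node (.node (.node (.leaf 108) (.leaf 309)) (.leaf 966)) (.node (.node (.leaf 420) (.leaf 623)) (.leaf 725))) (.node (.node (.node (.leaf 30) (.leaf 607)) (.leaf 536)) (.node (.node (.leaf 209) (.leaf 794)) (.leaf 676)))) (.node (.node (.node (.node (.leaf 834) (.leaf 689)) (.leaf 146)) (.node (.node (.leaf 705) (.leaf 545)) (.leaf 227))) (.node (.node (.node (.leaf 680) (.leaf 483)) (.leaf 423)) (.node (.leaf 111) (.leaf 652))))) (.node (.node (.node (.node (.node (.leaf 300) (.leaf 782)) (.leaf 135)) (.node (.node (.leaf 501) (.leaf 719)) (.leaf 526))) (.node (.node (.node (.leaf 37) (.leaf 403)) (.leaf 172)) (.node (.node (.leaf 546) (.leaf 826)) (.leaf 652)))) (.node (.node (.node (.node (.leaf 22) (.leaf 577)) (.leaf 389)) (.node (.node (.leaf 103) (.leaf 611)) (.leaf 901))) (.node (.node (.node (.leaf 449) (.leaf 696)) (.leaf 196)) (.node (.leaf 524) (.leaf 552)))))) (.node (.node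 (.node (.node (.node (.node (.leaf 3) (.leaf 949)) (.leaf 803)) (.node (.node (.leaf 629) (.leaf 489)) (.leaf 236))) (.node (.node (.node (.leaf 544) (.leaf 394)) (.leaf 422)) (.node (.node (.leaf 98) (.leaf 902)) (.leaf 264)))) (.node (.node (.node (.node (.leaf 19) (.leaf 350)) (.leaf 427)) (.node (.node (.leaf 205) (.leaf 617)) (.leaf 234))) (.node (.node (.node (.leaf 303) (.leaf 441)) (.leaf 392)) (.node (.leaf 672) (.leaf 819))))) (.node (.node (.node (.node (.node (.leaf 718) (.leaf 924)) (.leaf 141)) (.node (.node (.leaf 73) (.leaf 861)) (.leaf 916))) (.node (.node (.node (.leaf 575) (.leaf 503)) (.leaf 179)) (.node (.node (.leaf 703) (.leaf 802)) (.leaf 277)))) (.node (.node (.node (.node (.leaf 26) (.leaf 833)) (.leaf 807)) (.node (.node (.leaf 90) (.leaf 631)) (.leaf 574))) (.node (.node (.node (.leaf 483) (.leaf 799)) (.leaf 703)) (.node (.leaf 123) (.leaf 301))))))) (.node (.node (.node (.node (.node (.node (.node (.leaf 152) (.leaf 964)) (.leaf 671))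 (.node (.node (.leaf 433) (.leaf 516)) (.leaf 719))) (.node (.node (.node (.leaf 245) (.leaf 387)) (.leaf 164)) (.node (.node (.leaf 909) (.leaf 831)) (.leaf 570)))) (.node (.node (.node (.node (.leaf 16) (.leaf 563)) (.leaf 776)) (.node (.node (.leaf 755) (.leaf 735)) (.leaf 417))) (.node (.node (.node (.leaf 964) (.leaf 624)) (.leaf 187)) (.node (.leaf 839) (.leaf 287))))) (.node (.node (.node (.node (.node (.leaf 9) (.leaf 437)) (.leaf 137)) (.node (.node (.leaf 148) (.leaf 861)) (.leaf 218))) (.node (.node (.node (.leaf 685) (.leaf 541)) (.leaf 584)) (.node (.node (.leaf 104) (.leaf 820)) (.leaf 274)))) (.node (.node (.node (.node (.leaf 311) (.leaf 617)) (.leaf 157)) (.node (.node (.leaf 612) (.leaf 650)) (.leaf 740))) (.node (.node (.node (.leaf 821) (.leaf 461)) (.leaf 611)) (.node (.leaf 731) (.leaf 953)))))) (.node (.node (.node (.node (.node (.node (.leaf 758) (.leaf 753)) (.leaf 645)) (.node (.node (.leaf 369) (.leaf 642)) (.leaf 730))) (.node (.node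 (.node (.leaf 120) (.leaf 397)) (.leaf 170)) (.node (.node (.leaf 256) (.leaf 928)) (.leaf 290)))) (.node (.node (.node (.node (.leaf 174) (.leaf 967)) (.leaf 457)) (.node (.node (.leaf 179) (.leaf 592)) (.leaf 556))) (.node (.node (.node (.leaf 50) (.leaf 447)) (.leaf 194)) (.node (.leaf 117) (.leaf 864))))) (.node (.node (.node (.node (.node (.leaf 298) (.leaf 789)) (.leaf 144)) (.node (.node (.leaf 315) (.leaf 769)) (.leaf 225))) (.node (.node (.node (.leaf 725) (.leaf 904)) (.leaf 441)) (.node (.leaf 518) (.leaf 279)))) (.node (.node (.node (.node (.leaf 487) (.leaf 374)) (.leaf 161)) (.node (.node (.leaf 92) (.leaf 647)) (.leaf 841))) (.node (.node (.node (.leaf 726) (.leaf 842)) (.leaf 558)) (.node (.leaf 367) (.leaf 900)))))))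

/-- data -/
def prev1p3 : Trie (ℕ) := .node (.node (.node (.node (.node (.node (.node (.node (.leaf 0) (.leaf 772)) (.leaf 127)) (.node (.node (.leaf 900) (.leaf 708)) (.leaf 561))) (.node (.node (.node (.leaf 934) (.leaf 474)) (.leaf 737)) (.node (.node (.leaf 544) (.leaf 656)) (.leaf 513)))) (.node (.node (.node (.node (.leaf 603) (.leaf 344)) (.leaf 147)) (.node (.node (.leaf 77) (.leaf 669)) (.leaf 459))) (.node (.node (.node (.leaf 778) (.leaf 906)) (.leaf 786)) (.node (.leaf 529) (.leaf 781))))) (.node (.node (.node (.node (.node (.leaf 677) (.leaf 775)) (.leaf 409)) (.node (.node (.leaf 576) (.leaf 507)) (.leaf 633))) (.node (.node (.node (.leaf 185) (.leaf 835)) (.leaf 173)) (.node (.node (.leaf 102) (.leaf 931)) (.leaf 270)))) (.node (.node (.node (.node (.leaf 23) (.leaf 360)) (.leaf 906)) (.node (.node (.leaf 85) (.leaf 634)) (.leaf 682))) (.node (.node (.node (.leaf 53) (.leaf 839)) (.leaf 660)) (.node (.leaf 786) (.leaf 295)))))) (.node (.node (.node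 (.node (.node (.node (.leaf 623) (.leaf 317)) (.leaf 310)) (.node (.node (.leaf 65) (.leaf 785)) (.leaf 211))) (.node (.node (.node (.leaf 324) (.leaf 509)) (.leaf 167)) (.node (.node (.leaf 933) (.leaf 686)) (.leaf 265)))) (.node (.node (.node (.node (.leaf 599) (.leaf 919)) (.leaf 353)) (.node (.node (.leaf 106) (.leaf 585)) (.leaf 809))) (.node (.node (.node (.leaf 84) (.leaf 589)) (.leaf 618)) (.node (.leaf 410) (.leaf 289))))) (.node (.node (.node (.node (.node (.leaf 303) (.leaf 889)) (.leaf 721)) (.node (.node (.leaf 493) (.leaf 523)) (.leaf 256))) (.node (.node (.node (.leaf 443) (.leaf 884)) (.leaf 309)) (.node (.node (.leaf 667) (.leaf 950)) (.leaf 559)))) (.node (.node (.node (.node (.leaf 63) (.leaf 550)) (.leaf 538)) (.node (.node (.leaf 360) (.leaf 639)) (.leaf 249))) (.node (.node (.node (.leaf 343) (.leaf 468)) (.leaf 477)) (.node (.leaf 838) (.leaf 333))))))) (.node (.node (.node (.node (.node (.node (.node (.leaf 389) (.leaf 435)) (.leaf 331))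 (.node (.node (.leaf 697) (.leaf 763)) (.leaf 209))) (.node (.node (.node (.leaf 31) (.leaf 775)) (.leaf 165)) (.node (.node (.leaf 96) (.leaf 677)) (.leaf 262)))) (.node (.node (.node (.node (.leaf 17) (.leaf 558)) (.leaf 149)) (.node (.node (.leaf 170) (.leaf 561)) (.leaf 652))) (.node (.node (.node (.leaf 47) (.leaf 488)) (.leaf 247)) (.node (.leaf 841) (.leaf 425))))) (.node (.node (.node (.node (.node (.leaf 70) (.leaf 844)) (.leaf 138)) (.node (.node (.leaf 71) (.leaf 939)) (.leaf 321))) (.node (.node (.node (.leaf 817) (.leaf 407)) (.leaf 872)) (.node (.node (.leaf 920) (.leaf 876)) (.leaf 283)))) (.node (.node (.node (.node (.leaf 910) (.leaf 656)) (.leaf 591)) (.node (.node (.leaf 554) (.leaf 751)) (.leaf 243))) (.node (.node (.node (.leaf 586) (.leaf 461)) (.leaf 917)) (.node (.leaf 121) (.leaf 515)))))) (.node (.node (.node (.node (.node (.node (.leaf 372) (.leaf 881)) (.leaf 133)) (.node (.node (.leaf 177) (.leaf 503)) (.leaf 214))) (.node (.node (.node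 (.leaf 35) (.leaf 398)) (.leaf 358)) (.node (.node (.leaf 633) (.leaf 780)) (.leaf 268)))) (.node (.node (.node (.node (.leaf 922) (.leaf 592)) (.leaf 382)) (.node (.node (.leaf 83) (.leaf 595)) (.leaf 783))) (.node (.node (.node (.leaf 51) (.leaf 655)) (.leaf 241)) (.node (.leaf 166) (.leaf 905))))) (.node (.node (.node (.node (.node (.leaf 13) (.leaf 340)) (.leaf 806)) (.node (.node (.leaf 827) (.leaf 773)) (.leaf 597))) (.node (.node (.node (.leaf 43) (.leaf 728)) (.leaf 183)) (.node (.leaf 109) (.leaf 705)))) (.node (.node (.node (.node (.leaf 352) (.leaf 469)) (.leaf 365)) (.node (.node (.leaf 355) (.leaf 798)) (.leaf 477))) (.node (.node (.node (.leaf 59) (.leaf 593)) (.leaf 774)) (.node (.leaf 245) (.leaf 305)))))))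

/-- data -/
def prev1p4 : Trie (ℕ) := .node (.node (.node (.node (.node (.node (.node (.node (.leaf 376) (.leaf 911)) (.leaf 179)) (.node (.node (.leaf 819) (.leaf 478)) (.leaf 206))) (.node (.node (.node (.leaf 740) (.leaf 402)) (.leaf 239)) (.node (.node (.leaf 529) (.leaf 663)) (.leaf 259)))) (.node (.node (.node (.node (.leaf 673) (.leaf 551)) (.leaf 600)) (.node (.node (.leaf 865) (.leaf 547)) (.leaf 532))) (.node (.node (.node (.leaf 765) (.leaf 428)) (.leaf 184)) (.node (.leaf 174) (.leaf 441))))) (.node (.node (.node (.node (.node (.leaf 7) (.leaf 324)) (.leaf 314)) (.node (.node (.leaf 69) (.leaf 951)) (.leaf 215))) (.node (.node (.node (.leaf 831) (.leaf 687)) (.leaf 575)) (.node (.node (.leaf 945) (.leaf 729)) (.leaf 363)))) (.node (.node (.node (.node (.leaf 917) (.leaf 361)) (.leaf 155)) (.node (.node (.leaf 86) (.leaf 870)) (.leaf 655))) (.node (.node (.node (.leaf 213) (.leaf 457)) (.leaf 566)) (.node (.leaf 119) (.leaf 796)))))) (.node (.node (.node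 (.node (.node (.node (.leaf 274) (.leaf 850)) (.leaf 498)) (.node (.node (.leaf 815) (.leaf 496)) (.leaf 212))) (.node (.node (.node (.leaf 891) (.leaf 395)) (.leaf 176)) (.node (.node (.leaf 710) (.leaf 855)) (.leaf 722)))) (.node (.node (.node (.node (.leaf 486) (.leaf 484)) (.leaf 516)) (.node (.node (.leaf 81) (.leaf 586)) (.leaf 757))) (.node (.node (.node (.leaf 386) (.leaf 563)) (.leaf 849)) (.node (.leaf 115) (.leaf 750))))) (.node (.node (.node (.node (.node (.leaf 11) (.leaf 826)) (.leaf 661)) (.node (.node (.leaf 388) (.leaf 905)) (.leaf 745))) (.node (.node (.node (.leaf 41) (.leaf 578)) (.leaf 180)) (.node (.node (.leaf 107) (.leaf 816)) (.leaf 566)))) (.node (.node (.node (.node (.leaf 661) (.leaf 371)) (.leaf 159)) (.node (.node (.leaf 245) (.leaf 685)) (.leaf 293))) (.node (.node (.node (.leaf 57) (.leaf 470)) (.leaf 200)) (.node (.leaf 596) (.leaf 596))))))) (.node (.node (.node (.node (.node (.node (.node (.leaf 1) (.leaf 554)) (.leaf 458)) (.node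 (.node (.leaf 63) (.leaf 907)) (.leaf 455))) (.node (.node (.node (.leaf 32) (.leaf 694)) (.leaf 851)) (.node (.node (.leaf 332) (.leaf 723)) (.leaf 627)))) (.node (.node (.node (.node (.leaf 493) (.leaf 502)) (.leaf 689)) (.node (.node (.leaf 543) (.leaf 843)) (.leaf 230))) (.node (.node (.node (.leaf 573) (.leaf 435)) (.leaf 433)) (.node (.leaf 113) (.leaf 765))))) (.node (.node (.node (.node (.node (.leaf 126) (.leaf 329)) (.leaf 538)) (.node (.node (.leaf 447) (.leaf 615)) (.leaf 219))) (.node (.node (.node (.leaf 776) (.leaf 425)) (.leaf 175)) (.node (.node (.leaf 105) (.leaf 770)) (.leaf 275)))) (.node (.node (.node (.node (.leaf 24) (.leaf 366)) (.leaf 517)) (.node (.node (.leaf 205) (.leaf 625)) (.leaf 708))) (.node (.node (.node (.leaf 749) (.leaf 550)) (.leaf 337)) (.node (.leaf 666) (.leaf 445)))))) (.node (.node (.node (.node (.node (.node (.leaf 5) (.leaf 447)) (.leaf 943)) (.node (.node (.leaf 512) (.leaf 849)) (.leaf 833))) (.node (.node (.node (.leaf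 519) (.leaf 546)) (.leaf 171)) (.node (.node (.leaf 866) (.leaf 708)) (.leaf 626)))) (.node (.node (.node (.node (.leaf 569) (.leaf 356)) (.leaf 603)) (.node (.node (.leaf 716) (.leaf 784)) (.leaf 478))) (.node (.node (.node (.leaf 588) (.leaf 580)) (.leaf 456)) (.node (.leaf 397) (.leaf 293))))) (.node (.node (.node (.node (.node (.leaf 584) (.leaf 595)) (.leaf 145)) (.node (.node (.leaf 827) (.leaf 856)) (.leaf 684))) (.node (.node (.node (.leaf 44) (.leaf 420)) (.leaf 395)) (.node (.leaf 322) (.leaf 955)))) (.node (.node (.node (.node (.leaf 28) (.leaf 375)) (.leaf 432)) (.node (.node (.leaf 93) (.leaf 937)) (.leaf 254))) (.node (.node (.node (.leaf 144) (.leaf 889)) (.leaf 302)) (.node (.leaf 125) (.leaf 306)))))))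

/-- data -/
def prev1p5 : Trie (ℕ) := .node (.node (.node (.node (.node (.node (.node (.node (.leaf 165) (.leaf 310)) (.leaf 438)) (.node (.node (.leaf 61) (.leaf 678)) (.leaf 222))) (.node (.node (.node (.leaf 812) (.leaf 384)) (.leaf 163)) (.node (.node (.leaf 94) (.leaf 929)) (.leaf 491)))) (.node (.node (.node (.node (.leaf 15) (.leaf 379)) (.leaf 186)) (.node (.node (.leaf 638) (.leaf 769)) (.leaf 343))) (.node (.node (.node (.leaf 45) (.leaf 952)) (.leaf 185)) (.node (.leaf 587) (.leaf 283))))) (.node (.node (.node (.node (.node (.leaf 8) (.leaf 579)) (.leaf 476)) (.node (.node (.leaf 565) (.leaf 508)) (.leaf 216))) (.node (.node (.node (.leaf 80) (.leaf 752)) (.leaf 187)) (.node (.node (.leaf 859) (.leaf 811)) (.leaf 271)))) (.node (.node (.node (.node (.leaf 604) (.leaf 817)) (.leaf 156)) (.node (.node (.leaf 356) (.leaf 613)) (.leaf 239))) (.node (.node (.node (.leaf 631) (.leaf 564)) (.leaf 398)) (.node (.leaf 405) (.leaf 296)))))) (.node (.node (.node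 (.node (.node (.node (.leaf 933) (.leaf 771)) (.leaf 131)) (.node (.node (.leaf 641) (.leaf 601)) (.leaf 612))) (.node (.node (.node (.leaf 33) (.leaf 624)) (.leaf 342)) (.node (.node (.leaf 576) (.leaf 690)) (.leaf 608)))) (.node (.node (.node (.node (.leaf 792) (.leaf 351)) (.leaf 151)) (.node (.node (.leaf 139) (.leaf 667)) (.leaf 737))) (.node (.node (.node (.leaf 49) (.leaf 442)) (.leaf 190)) (.node (.leaf 116) (.leaf 290))))) (.node (.node (.node (.node (.node (.leaf 18) (.leaf 415)) (.leaf 373)) (.node (.node (.leaf 258) (.leaf 679)) (.leaf 220))) (.node (.node (.node (.leaf 42) (.leaf 412)) (.leaf 192)) (.node (.node (.leaf 954) (.leaf 822)) (.leaf 780)))) (.node (.node (.node (.node (.leaf 242) (.leaf 818)) (.leaf 534)) (.node (.node (.leaf 188) (.leaf 638)) (.leaf 250))) (.node (.node (.node (.leaf 734) (.leaf 733)) (.leaf 201)) (.node (.leaf 743) (.leaf 302))))))) (.node (.node (.node (.node (.node (.node (.node (.leaf 2) (.leaf 313)) (.leaf 231)) (.node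 (.node (.leaf 577) (.leaf 693)) (.leaf 356))) (.node (.node (.node (.leaf 656) (.leaf 529)) (.leaf 440)) (.node (.node (.leaf 534) (.leaf 915)) (.leaf 263)))) (.node (.node (.node (.node (.leaf 71) (.leaf 348)) (.leaf 896)) (.node (.node (.leaf 79) (.leaf 570)) (.leaf 956))) (.node (.node (.node (.leaf 823) (.leaf 918)) (.leaf 715)) (.node (.leaf 747) (.leaf 557))))) (.node (.node (.node (.node (.node (.leaf 706) (.leaf 728)) (.leaf 777)) (.node (.node (.leaf 72) (.leaf 517)) (.leaf 972))) (.node (.node (.node (.leaf 39) (.leaf 417)) (.leaf 176)) (.node (.node (.leaf 341) (.leaf 894)) (.leaf 488)))) (.node (.node (.node (.node (.leaf 25) (.leaf 682)) (.leaf 760)) (.node (.node (.leaf 87) (.leaf 907)) (.leaf 244))) (.node (.node (.node (.leaf 55) (.leaf 462)) (.leaf 198)) (.node (.leaf 224) (.leaf 299)))))) (.node (.node (.node (.node (.node (.node (.leaf 307) (.leaf 320)) (.leaf 521)) (.node (.node (.leaf 533) (.leaf 504)) (.leaf 281))) (.node (.node (.node (.leaf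 665) (.leaf 913)) (.leaf 334)) (.node (.node (.leaf 100) (.leaf 700)) (.leaf 269)))) (.node (.node (.node (.node (.leaf 21) (.leaf 357)) (.leaf 153)) (.node (.node (.leaf 796) (.leaf 859)) (.leaf 680))) (.node (.node (.node (.leaf 377) (.leaf 451)) (.leaf 912)) (.node (.leaf 813) (.leaf 388))))) (.node (.node (.node (.node (.node (.leaf 38) (.leaf 892)) (.leaf 955)) (.node (.node (.leaf 75) (.leaf 564)) (.leaf 525))) (.node (.node (.node (.leaf 878) (.leaf 844)) (.leaf 500)) (.node (.leaf 210) (.leaf 640)))) (.node (.node (.node (.node (.leaf 410) (.leaf 940)) (.leaf 807)) (.node (.node (.leaf 294) (.leaf 741)) (.leaf 570))) (.node (.node (.node (.leaf 268) (.leaf 472)) (.leaf 203)) (.node (.leaf 257) (.leaf 958)))))))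

/-- data -/
def prev1p6 : Trie (ℕ) := .node (.node (.node (.node (.node (.node (.node (.node (.leaf 59) (.leaf 347)) (.leaf 861)) (.node (.node (.leaf 532) (.leaf 479)) (.leaf 489))) (.node (.node (.node (.leaf 30) (.leaf 385)) (.leaf 345)) (.node (.node (.leaf 95) (.leaf 794)) (.leaf 260)))) (.node (.node (.node (.node (.leaf 874) (.leaf 780)) (.leaf 585)) (.node (.node (.leaf 545) (.leaf 968)) (.leaf 227))) (.node (.node (.node (.leaf 46) (.leaf 691)) (.leaf 194)) (.node (.leaf 111) (.leaf 456))))) (.node (.node (.node (.node (.node (.leaf 490) (.leaf 973)) (.leaf 135)) (.node (.node (.leaf 886) (.leaf 743)) (.leaf 329))) (.node (.node (.node (.leaf 37) (.leaf 403)) (.leaf 473)) (.node (.node (.leaf 307) (.leaf 742)) (.leaf 863)))) (.node (.node (.node (.node (.leaf 829) (.leaf 467)) (.leaf 467)) (.node (.node (.leaf 380) (.leaf 931)) (.leaf 240))) (.node (.node (.node (.leaf 308) (.leaf 479)) (.leaf 196)) (.node (.leaf 321) (.leaf 517)))))) (.node (.node (.node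 (.node (.node (.node (.leaf 3) (.leaf 583)) (.leaf 132)) (.node (.node (.leaf 141) (.leaf 540)) (.leaf 402))) (.node (.node (.node (.leaf 34) (.leaf 799)) (.leaf 900)) (.node (.node (.leaf 98) (.leaf 916)) (.leaf 266)))) (.node (.node (.node (.node (.leaf 857) (.leaf 384)) (.leaf 726)) (.node (.node (.leaf 85) (.leaf 715)) (.leaf 234))) (.node (.node (.node (.leaf 675) (.leaf 946)) (.leaf 191)) (.node (.leaf 501) (.leaf 578))))) (.node (.node (.node (.node (.node (.leaf 351) (.leaf 336)) (.leaf 873)) (.node (.node (.leaf 73) (.leaf 525)) (.leaf 221))) (.node (.node (.node (.leaf 182) (.leaf 616)) (.leaf 320)) (.node (.node (.leaf 959) (.leaf 834)) (.leaf 277)))) (.node (.node (.node (.node (.leaf 26) (.leaf 372)) (.leaf 417)) (.node (.node (.leaf 90) (.leaf 640)) (.leaf 625))) (.node (.node (.node (.leaf 288) (.leaf 681)) (.leaf 259)) (.node (.leaf 123) (.leaf 464))))))) (.node (.node (.node (.node (.node (.node (.node (.leaf 262) (.leaf 315)) (.leaf 129)) (.node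 (.node (.leaf 64) (.leaf 485)) (.leaf 210))) (.node (.node (.node (.leaf 430) (.leaf 388)) (.leaf 514)) (.node (.node (.leaf 841) (.leaf 898)) (.leaf 748)))) (.node (.node (.node (.node (.leaf 610) (.leaf 374)) (.leaf 301)) (.node (.node (.leaf 527) (.leaf 895)) (.leaf 231))) (.node (.node (.node (.leaf 91) (.leaf 436)) (.leaf 188)) (.node (.leaf 114) (.leaf 287))))) (.node (.node (.node (.node (.node (.leaf 9) (.leaf 428)) (.leaf 956)) (.node (.node (.leaf 139) (.leaf 846)) (.leaf 379))) (.node (.node (.node (.leaf 40) (.leaf 408)) (.leaf 311)) (.node (.node (.leaf 291) (.leaf 783)) (.leaf 608)))) (.node (.node (.node (.node (.leaf 168) (.leaf 367)) (.leaf 157)) (.node (.node (.leaf 88) (.leaf 828)) (.leaf 246))) (.node (.node (.node (.leaf 938) (.leaf 717)) (.leaf 199)) (.node (.leaf 969) (.leaf 731)))))) (.node (.node (.node (.node (.node (.node (.leaf 198) (.leaf 885)) (.leaf 188)) (.node (.node (.leaf 67) (.leaf 731)) (.leaf 291))) (.node (.node (.node (.leaf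 816) (.leaf 702)) (.leaf 572)) (.node (.node (.leaf 101) (.leaf 829)) (.leaf 689)))) (.node (.node (.node (.node (.leaf 895) (.leaf 381)) (.leaf 725)) (.node (.node (.leaf 336) (.leaf 885)) (.leaf 236))) (.node (.node (.node (.leaf 607) (.leaf 795)) (.leaf 645)) (.node (.leaf 117) (.leaf 657))))) (.node (.node (.node (.node (.node (.leaf 302) (.leaf 773)) (.leaf 562)) (.node (.node (.leaf 76) (.leaf 539)) (.leaf 225))) (.node (.node (.node (.leaf 450) (.leaf 499)) (.leaf 925)) (.node (.leaf 782) (.leaf 279)))) (.node (.node (.node (.node (.leaf 241) (.leaf 474)) (.leaf 161)) (.node (.node (.leaf 890) (.leaf 648)) (.leaf 848))) (.node (.node (.node (.leaf 489) (.leaf 704)) (.leaf 797)) (.node (.leaf 834) (.leaf 607)))))))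

/-- data -/
def prev1p7 : Trie (ℕ) := .node (.node (.node (.node (.node (.node (.node (.node (.leaf 0) (.leaf 772)) (.leaf 127)) (.node (.node (.leaf 392) (.leaf 710)) (.leaf 750))) (.node (.node (.node (.leaf 700) (.leaf 749)) (.leaf 261)) (.node (.node (.leaf 797) (.leaf 791)) (.leaf 809)))) (.node (.node (.node (.node (.leaf 724) (.leaf 344)) (.leaf 147)) (.node (.node (.leaf 77) (.leaf 897)) (.leaf 228))) (.node (.node (.node (.leaf 870) (.leaf 971)) (.leaf 383)) (.node (.leaf 112) (.leaf 284))))) (.node (.node (.node (.node (.node (.leaf 852) (.leaf 899)) (.leaf 136)) (.node (.node (.leaf 100) (.leaf 825)) (.leaf 224))) (.node (.node (.node (.leaf 558) (.leaf 877)) (.leaf 173)) (.node (.node (.leaf 102) (.leaf 902)) (.leaf 272)))) (.node (.node (.node (.node (.leaf 23) (.leaf 362)) (.leaf 967)) (.node (.node (.leaf 782) (.leaf 812)) (.leaf 273))) (.node (.node (.node (.leaf 53) (.leaf 458)) (.leaf 197)) (.node (.leaf 129) (.leaf 957)))))) (.node (.node (.node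 (.node (.node (.node (.leaf 4) (.leaf 317)) (.leaf 514)) (.node (.node (.leaf 65) (.leaf 944)) (.leaf 334))) (.node (.node (.node (.leaf 957) (.leaf 465)) (.leaf 167)) (.node (.node (.leaf 99) (.leaf 872)) (.leaf 881)))) (.node (.node (.node (.node (.leaf 19) (.leaf 352)) (.leaf 953)) (.node (.node (.leaf 400) (.leaf 591)) (.leaf 744))) (.node (.node (.node (.leaf 329) (.leaf 827)) (.leaf 339)) (.node (.leaf 674) (.leaf 416))))) (.node (.node (.node (.node (.node (.leaf 519) (.leaf 337)) (.leaf 141)) (.node (.node (.leaf 74) (.leaf 762)) (.leaf 707))) (.node (.node (.node (.leaf 491) (.leaf 414)) (.leaf 609)) (.node (.node (.leaf 896) (.leaf 889)) (.leaf 634)))) (.node (.node (.node (.node (.leaf 27) (.leaf 497)) (.leaf 557)) (.node (.node (.leaf 567) (.leaf 874)) (.leaf 252))) (.node (.node (.node (.leaf 580) (.leaf 730)) (.leaf 242)) (.node (.leaf 124) (.leaf 793))))))) (.node (.node (.node (.node (.node (.node (.node (.leaf 462) (.leaf 346)) (.leaf 242)) (.node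 (.node (.leaf 67) (.leaf 486)) (.leaf 339))) (.node (.node (.node (.leaf 766) (.leaf 833)) (.leaf 165)) (.node (.node (.leaf 96) (.leaf 732)) (.leaf 863)))) (.node (.node (.node (.node (.leaf 17) (.leaf 539)) (.leaf 149)) (.node (.node (.leaf 632) (.leaf 736)) (.leaf 678))) (.node (.node (.node (.leaf 47) (.leaf 704)) (.leaf 963)) (.node (.leaf 548) (.leaf 860))))) (.node (.node (.node (.node (.node (.leaf 10) (.leaf 330)) (.leaf 138)) (.node (.node (.leaf 709) (.leaf 520)) (.leaf 881))) (.node (.node (.node (.leaf 351) (.leaf 409)) (.leaf 970)) (.node (.node (.leaf 383) (.leaf 924)) (.leaf 963)))) (.node (.node (.node (.node (.leaf 445) (.leaf 660)) (.leaf 158)) (.node (.node (.leaf 448) (.leaf 799)) (.leaf 522))) (.node (.node (.node (.leaf 970) (.leaf 537)) (.leaf 526)) (.node (.leaf 121) (.leaf 774)))))) (.node (.node (.node (.node (.node (.node (.leaf 114) (.leaf 854)) (.leaf 133)) (.node (.node (.leaf 68) (.leaf 588)) (.leaf 214))) (.node (.node (.node (.leaf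 35) (.leaf 480)) (.leaf 612)) (.node (.node (.leaf 718) (.leaf 938)) (.leaf 873)))) (.node (.node (.node (.node (.leaf 175) (.leaf 630)) (.leaf 154)) (.node (.node (.leaf 83) (.leaf 926)) (.leaf 701))) (.node (.node (.node (.leaf 51) (.leaf 468)) (.leaf 194)) (.node (.leaf 118) (.leaf 397))))) (.node (.node (.node (.node (.node (.leaf 13) (.leaf 340)) (.leaf 874)) (.node (.node (.leaf 618) (.leaf 541)) (.leaf 571))) (.node (.node (.node (.leaf 895) (.leaf 421)) (.leaf 183)) (.node (.leaf 109) (.leaf 281)))) (.node (.node (.node (.node (.leaf 779) (.leaf 899)) (.leaf 253)) (.node (.node (.leaf 684) (.leaf 749)) (.leaf 619))) (.node (.node (.node (.leaf 59) (.leaf 475)) (.leaf 648)) (.node (.leaf 970) (.leaf 305)))))))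

/-- data -/
def prev1p8 : Trie (ℕ) := .node (.node (.node (.node (.node (.node (.node (.node (.leaf 229) (.leaf 919)) (.leaf 128)) (.node (.node (.leaf 930) (.leaf 835)) (.leaf 206))) (.node (.node (.node (.leaf 718) (.leaf 663)) (.leaf 713)) (.node (.node (.leaf 218) (.leaf 790)) (.leaf 883)))) (.node (.node (.node (.node (.leaf 181) (.leaf 594)) (.leaf 454)) (.node (.node (.leaf 78) (.leaf 547)) (.leaf 921))) (.node (.node (.node (.leaf 613) (.leaf 429)) (.leaf 779)) (.node (.leaf 378) (.leaf 365))))) (.node (.node (.node (.node (.node (.leaf 143) (.leaf 324)) (.leaf 347)) (.node (.node (.leaf 69) (.leaf 509)) (.leaf 933))) (.node (.node (.node (.leaf 38) (.leaf 404)) (.leaf 414)) (.node (.node (.leaf 103) (.leaf 820)) (.leaf 903)))) (.node (.node (.node (.node (.leaf 683) (.leaf 815)) (.leaf 666)) (.node (.node (.leaf 86) (.leaf 922)) (.leaf 832))) (.node (.node (.node (.leaf 54) (.leaf 959)) (.leaf 741)) (.node (.leaf 119) (.leaf 695)))))) (.node (.node (.node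 (.node (.node (.node (.leaf 590) (.leaf 318)) (.leaf 697)) (.node (.node (.leaf 66) (.leaf 496)) (.leaf 212))) (.node (.node (.node (.leaf 42) (.leaf 810)) (.leaf 168)) (.node (.node (.leaf 474) (.leaf 794)) (.leaf 282)))) (.node (.node (.node (.node (.leaf 20) (.leaf 499)) (.leaf 659)) (.node (.node (.leaf 81) (.leaf 623)) (.leaf 621))) (.node (.node (.node (.leaf 88) (.leaf 472)) (.leaf 897)) (.node (.leaf 400) (.leaf 736))))) (.node (.node (.node (.node (.node (.leaf 11) (.leaf 829)) (.leaf 249)) (.node (.node (.leaf 852) (.leaf 531)) (.leaf 759))) (.node (.node (.node (.leaf 630) (.leaf 569)) (.leaf 180)) (.node (.node (.leaf 107) (.leaf 865)) (.leaf 278)))) (.node (.node (.node (.node (.leaf 353) (.leaf 842)) (.leaf 159)) (.node (.node (.leaf 651) (.leaf 810)) (.leaf 368))) (.node (.node (.node (.leaf 57) (.leaf 470)) (.leaf 414)) (.node (.leaf 880) (.leaf 303))))))) (.node (.node (.node (.node (.node (.node (.node (.leaf 181) (.leaf 659)) (.leaf 130)) (.node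 (.node (.leaf 798) (.leaf 593)) (.leaf 355))) (.node (.node (.node (.leaf 32) (.leaf 390)) (.leaf 695)) (.node (.node (.leaf 97) (.leaf 679)) (.leaf 820)))) (.node (.node (.node (.node (.leaf 208) (.leaf 507)) (.leaf 150)) (.node (.node (.leaf 971) (.leaf 696)) (.leaf 444))) (.node (.node (.node (.leaf 48) (.leaf 508)) (.leaf 189)) (.node (.leaf 931) (.leaf 328))))) (.node (.node (.node (.node (.node (.leaf 627) (.leaf 331)) (.leaf 952)) (.node (.node (.leaf 469) (.leaf 739)) (.leaf 219))) (.node (.node (.node (.leaf 147) (.leaf 890)) (.leaf 601)) (.node (.node (.leaf 105) (.leaf 916)) (.leaf 275)))) (.node (.node (.node (.node (.leaf 37) (.leaf 925)) (.leaf 687)) (.node (.node (.leaf 182) (.leaf 626)) (.leaf 845))) (.node (.node (.node (.leaf 673) (.leaf 765)) (.leaf 438)) (.node (.leaf 122) (.leaf 300)))))) (.node (.node (.node (.node (.node (.node (.leaf 5) (.leaf 321)) (.leaf 134)) (.node (.node (.leaf 682) (.leaf 615)) (.leaf 914))) (.node (.node (.node (.leaf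 36) (.leaf 398)) (.leaf 171)) (.node (.node (.leaf 898) (.leaf 789)) (.leaf 408)))) (.node (.node (.node (.node (.leaf 518) (.leaf 359)) (.leaf 837)) (.node (.node (.leaf 84) (.leaf 595)) (.leaf 237))) (.node (.node (.node (.leaf 482) (.leaf 621)) (.leaf 304)) (.node (.leaf 629) (.leaf 293))))) (.node (.node (.node (.node (.node (.leaf 14) (.leaf 822)) (.leaf 145)) (.node (.node (.leaf 354) (.leaf 894)) (.leaf 226))) (.node (.node (.node (.leaf 44) (.leaf 935)) (.leaf 896)) (.node (.leaf 110) (.leaf 942)))) (.node (.node (.node (.node (.leaf 28) (.leaf 377)) (.leaf 162)) (.node (.node (.leaf 93) (.leaf 836)) (.leaf 254))) (.node (.node (.node (.leaf 60) (.leaf 875)) (.leaf 913)) (.node (.leaf 125) (.leaf 460)))))))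

/-- data -/
def prev1p9 : Trie (ℕ) := .node (.node (.node (.node (.node (.node (.node (.node (.leaf 83) (.leaf 311)) (.leaf 322)) (.node (.node (.leaf 61) (.leaf 692)) (.leaf 207))) (.node (.node (.node (.leaf 524) (.leaf 821)) (.leaf 163)) (.node (.node (.leaf 482) (.leaf 668)) (.leaf 261)))) (.node (.node (.node (.node (.leaf 15) (.leaf 345)) (.leaf 897)) (.node (.node (.leaf 966) (.leaf 756)) (.leaf 676))) (.node (.node (.node (.leaf 98) (.leaf 840)) (.leaf 185)) (.node (.leaf 435) (.leaf 285))))) (.node (.node (.node (.node (.node (.leaf 8) (.leaf 549)) (.leaf 678)) (.node (.node (.leaf 70) (.leaf 824)) (.leaf 804))) (.node (.node (.node (.leaf 359) (.leaf 491)) (.leaf 370)) (.node (.node (.leaf 670) (.leaf 849)) (.leaf 871)))) (.node (.node (.node (.node (.leaf 637) (.leaf 866)) (.leaf 156)) (.node (.node (.leaf 105) (.leaf 613)) (.leaf 747))) (.node (.node (.node (.leaf 758) (.leaf 533)) (.leaf 713)) (.node (.leaf 732) (.leaf 297)))))) (.node (.node (.node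 (.node (.node (.node (.leaf 88) (.leaf 363)) (.leaf 851)) (.node (.node (.leaf 228) (.leaf 804)) (.leaf 856))) (.node (.node (.node (.leaf 872) (.leaf 395)) (.leaf 424)) (.node (.node (.leaf 791) (.leaf 690)) (.leaf 972)))) (.node (.node (.node (.node (.leaf 221) (.leaf 353)) (.leaf 151)) (.node (.node (.leaf 82) (.leaf 846)) (.leaf 791))) (.node (.node (.node (.leaf 49) (.leaf 442)) (.leaf 634)) (.node (.leaf 116) (.leaf 290))))) (.node (.node (.node (.node (.node (.leaf 12) (.leaf 458)) (.leaf 143)) (.node (.node (.leaf 746) (.leaf 606)) (.leaf 223))) (.node (.node (.node (.leaf 42) (.leaf 888)) (.leaf 627)) (.node (.node (.leaf 108) (.leaf 836)) (.leaf 296)))) (.node (.node (.node (.node (.leaf 560) (.leaf 598)) (.leaf 160)) (.node (.node (.leaf 357) (.leaf 688)) (.leaf 513))) (.node (.node (.node (.leaf 58) (.leaf 553)) (.leaf 562)) (.node (.leaf 960) (.leaf 930))))))) (.node (.node (.node (.node (.node (.node (.node (.leaf 2) (.leaf 316)) (.leaf 927)) (.node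 (.node (.leaf 901) (.leaf 670)) (.leaf 233))) (.node (.node (.node (.leaf 387) (.leaf 504)) (.leaf 166)) (.node (.node (.leaf 811) (.leaf 680)) (.leaf 263)))) (.node (.node (.node (.node (.leaf 644) (.leaf 349)) (.leaf 169)) (.node (.node (.leaf 79) (.leaf 572)) (.leaf 507))) (.node (.node (.node (.leaf 314) (.leaf 822)) (.leaf 484)) (.node (.leaf 282) (.leaf 288))))) (.node (.node (.node (.node (.node (.leaf 593) (.leaf 939)) (.leaf 450)) (.node (.node (.leaf 72) (.leaf 784)) (.leaf 512))) (.node (.node (.node (.leaf 948) (.leaf 786)) (.leaf 176)) (.node (.node (.leaf 415) (.leaf 893)) (.leaf 276)))) (.node (.node (.node (.node (.leaf 25) (.leaf 368)) (.leaf 879)) (.node (.node (.leaf 89) (.leaf 788)) (.leaf 244))) (.node (.node (.node (.leaf 55) (.leaf 915)) (.leaf 443)) (.node (.leaf 487) (.leaf 399)))))) (.node (.node (.node (.node (.node (.node (.leaf 6) (.leaf 888)) (.leaf 672)) (.node (.node (.leaf 673) (.leaf 927)) (.leaf 830))) (.node (.node (.node (.leaf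 824) (.leaf 399)) (.leaf 375)) (.node (.node (.leaf 177) (.leaf 707)) (.leaf 440)))) (.node (.node (.node (.node (.leaf 21) (.leaf 620)) (.leaf 760)) (.node (.node (.leaf 502) (.leaf 860)) (.leaf 698))) (.node (.node (.node (.leaf 251) (.leaf 452)) (.leaf 195)) (.node (.leaf 327) (.leaf 294))))) (.node (.node (.node (.node (.node (.leaf 675) (.leaf 510)) (.leaf 693)) (.node (.node (.leaf 744) (.leaf 594)) (.leaf 796))) (.node (.node (.node (.leaf 776) (.leaf 737)) (.leaf 910)) (.node (.leaf 325) (.leaf 792)))) (.node (.node (.node (.node (.leaf 29) (.leaf 554)) (.leaf 616)) (.node (.node (.leaf 955) (.leaf 665)) (.leaf 745))) (.node (.node (.node (.leaf 973) (.leaf 847)) (.leaf 203)) (.node (.leaf 209) (.leaf 306)))))))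

/-- data -/
def prev1p10 : Trie (ℕ) := .node (.node (.node (.node (.node (.node (.node (.node (.leaf 7) (.leaf 864)) (.leaf 549)) (.node (.node (.leaf 62) (.leaf 479)) (.leaf 734))) (.node (.node (.node (.leaf 30) (.leaf 385)) (.leaf 164)) (.node (.node (.leaf 95) (.leaf 914)) (.leaf 804)))) (.node (.node (.node (.node (.leaf 16) (.leaf 352)) (.leaf 148)) (.node (.node (.leaf 944) (.leaf 551)) (.leaf 588))) (.node (.node (.node (.leaf 46) (.leaf 432)) (.leaf 817)) (.node (.leaf 929) (.leaf 539))))) (.node (.node (.node (.node (.node (.leaf 221) (.leaf 327)) (.leaf 941)) (.node (.node (.leaf 217) (.leaf 572)) (.leaf 216))) (.node (.node (.node (.leaf 940) (.leaf 589)) (.leaf 342)) (.node (.node (.leaf 904) (.leaf 744)) (.leaf 658)))) (.node (.node (.node (.node (.leaf 777) (.leaf 513)) (.leaf 490)) (.node (.node (.leaf 317) (.leaf 766)) (.leaf 240))) (.node (.node (.node (.leaf 494) (.leaf 459)) (.leaf 913)) (.node (.leaf 120) (.leaf 326)))))) (.node (.node (.node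 (.node (.node (.node (.leaf 306) (.leaf 640)) (.leaf 132)) (.node (.node (.leaf 942) (.leaf 497)) (.leaf 254))) (.node (.node (.node (.leaf 34) (.leaf 396)) (.leaf 498)) (.node (.node (.leaf 920) (.leaf 802)) (.leaf 266)))) (.node (.node (.node (.node (.leaf 600) (.leaf 409)) (.leaf 862)) (.node (.node (.leaf 812) (.leaf 700)) (.leaf 234))) (.node (.node (.node (.leaf 50) (.leaf 616)) (.leaf 191)) (.node (.leaf 884) (.leaf 550))))) (.node (.node (.node (.node (.node (.leaf 568) (.leaf 349)) (.leaf 790)) (.node (.node (.leaf 247) (.leaf 555)) (.leaf 625))) (.node (.node (.node (.leaf 548) (.leaf 416)) (.leaf 758)) (.node (.node (.leaf 808) (.leaf 974)) (.leaf 516)))) (.node (.node (.node (.node (.leaf 890) (.leaf 372)) (.leaf 850)) (.node (.node (.leaf 90) (.leaf 764)) (.leaf 394))) (.node (.node (.node (.leaf 730) (.leaf 753)) (.leaf 201)) (.node (.leaf 154) (.leaf 304))))))) (.node (.node (.node (.node (.node (.node (.node (.leaf 511) (.leaf 399)) (.leaf 497))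 (.node (.node (.leaf 64) (.leaf 865)) (.leaf 210))) (.node (.node (.node (.leaf 797) (.leaf 787)) (.leaf 642)) (.node (.node (.leaf 334) (.leaf 716)) (.leaf 264)))) (.node (.node (.node (.node (.leaf 463) (.leaf 350)) (.leaf 277)) (.node (.node (.leaf 80) (.leaf 597)) (.leaf 380))) (.node (.node (.node (.leaf 110) (.leaf 836)) (.leaf 603)) (.node (.leaf 454) (.leaf 706))))) (.node (.node (.node (.node (.node (.leaf 571) (.leaf 446)) (.leaf 383)) (.node (.node (.leaf 161) (.leaf 773)) (.leaf 787))) (.node (.node (.node (.leaf 40) (.leaf 410)) (.leaf 403)) (.node (.node (.leaf 714) (.leaf 784)) (.leaf 882)))) (.node (.node (.node (.node (.leaf 951) (.leaf 868)) (.leaf 446)) (.node (.node (.leaf 408) (.leaf 628)) (.leaf 366))) (.node (.node (.node (.leaf 273) (.leaf 463)) (.leaf 473)) (.node (.leaf 738) (.leaf 891)))))) (.node (.node (.node (.node (.node (.node (.leaf 818) (.leaf 322)) (.leaf 946)) (.node (.node (.leaf 338) (.leaf 504)) (.leaf 664))) (.node (.node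 (.node (.leaf 526) (.leaf 594)) (.leaf 871)) (.node (.node (.leaf 101) (.leaf 937)) (.leaf 269)))) (.node (.node (.node (.node (.leaf 22) (.leaf 851)) (.leaf 278)) (.node (.node (.leaf 295) (.leaf 959)) (.leaf 578))) (.node (.node (.node (.leaf 384) (.leaf 803)) (.leaf 621)) (.node (.leaf 806) (.leaf 662))))) (.node (.node (.node (.node (.node (.leaf 390) (.leaf 694)) (.leaf 777)) (.node (.node (.leaf 76) (.leaf 962)) (.leaf 514))) (.node (.node (.node (.leaf 222) (.leaf 422)) (.leaf 601)) (.node (.leaf 260) (.leaf 556)))) (.node (.node (.node (.node (.leaf 462) (.leaf 589)) (.leaf 401)) (.node (.node (.leaf 263) (.leaf 650)) (.leaf 256))) (.node (.node (.node (.leaf 62) (.leaf 543)) (.leaf 204)) (.node (.leaf 126) (.leaf 528)))))))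

/-- data -/
def prev1p11 : Trie (ℕ) := .node (.node (.node (.node (.node (.node (.node (.node (.leaf 0) (.leaf 727)) (.leaf 828)) (.node (.node (.leaf 515) (.leaf 793)) (.leaf 233))) (.node (.node (.node (.leaf 31) (.leaf 911)) (.leaf 698)) (.node (.node (.leaf 948) (.leaf 669)) (.leaf 870)))) (.node (.node (.node (.node (.leaf 333) (.leaf 346)) (.leaf 893)) (.node (.node (.leaf 748) (.leaf 808)) (.leaf 958))) (.node (.node (.node (.leaf 325) (.leaf 586)) (.leaf 186)) (.node (.leaf 112) (.leaf 658))))) (.node (.node (.node (.node (.node (.leaf 493) (.leaf 966)) (.leaf 485)) (.node (.node (.leaf 939) (.leaf 510)) (.leaf 217))) (.node (.node (.node (.leaf 705) (.leaf 867)) (.leaf 173)) (.node (.node (.leaf 187) (.leaf 823)) (.leaf 272)))) (.node (.node (.node (.node (.leaf 23) (.leaf 373)) (.leaf 255)) (.node (.node (.leaf 255) (.leaf 614)) (.leaf 318))) (.node (.node (.node (.leaf 542) (.leaf 530)) (.leaf 197)) (.node (.leaf 376) (.leaf 581)))))) (.node (.node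 (.node (.node (.node (.node (.leaf 4) (.leaf 421)) (.leaf 671)) (.node (.node (.leaf 712) (.leaf 949)) (.leaf 530))) (.node (.node (.node (.leaf 448) (.leaf 658)) (.leaf 172)) (.node (.node (.leaf 99) (.leaf 691)) (.leaf 935)))) (.node (.node (.node (.node (.leaf 805) (.leaf 973)) (.leaf 152)) (.node (.node (.leaf 768) (.leaf 591)) (.leaf 440))) (.node (.node (.node (.leaf 608) (.leaf 707)) (.leaf 416)) (.node (.leaf 683) (.leaf 291))))) (.node (.node (.node (.node (.node (.leaf 299) (.leaf 449)) (.leaf 376)) (.node (.node (.leaf 74) (.leaf 875)) (.leaf 816))) (.node (.node (.node (.leaf 43) (.leaf 620)) (.leaf 962)) (.node (.node (.leaf 690) (.leaf 909)) (.leaf 413)))) (.node (.node (.node (.node (.leaf 27) (.leaf 801)) (.leaf 323)) (.node (.node (.leaf 169) (.leaf 642)) (.leaf 252))) (.node (.node (.node (.leaf 732) (.leaf 720)) (.leaf 229)) (.node (.leaf 124) (.leaf 596))))))) (.node (.node (.node (.node (.node (.node (.node (.leaf 205) (.leaf 461)) (.leaf 274))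 (.node (.node (.leaf 541) (.leaf 486)) (.leaf 211))) (.node (.node (.node (.leaf 763) (.leaf 788)) (.leaf 576)) (.node (.node (.leaf 838) (.leaf 742)) (.leaf 413)))) (.node (.node (.node (.node (.leaf 17) (.leaf 436)) (.leaf 347)) (.node (.node (.leaf 367) (.leaf 622)) (.leaf 231))) (.node (.node (.node (.leaf 574) (.leaf 437)) (.leaf 581)) (.node (.leaf 114) (.leaf 289))))) (.node (.node (.node (.node (.node (.leaf 10) (.leaf 335)) (.leaf 138)) (.node (.node (.leaf 736) (.leaf 520)) (.leaf 494))) (.node (.node (.node (.leaf 506) (.leaf 537)) (.leaf 178)) (.node (.node (.leaf 106) (.leaf 915)) (.leaf 919)))) (.node (.node (.node (.node (.leaf 448) (.leaf 733)) (.leaf 158)) (.node (.node (.leaf 436) (.leaf 825)) (.leaf 330))) (.node (.node (.node (.leaf 56) (.leaf 945)) (.leaf 199)) (.node (.leaf 762) (.leaf 387)))))) (.node (.node (.node (.node (.node (.node (.leaf 801) (.leaf 853)) (.leaf 537)) (.node (.node (.leaf 68) (.leaf 505)) (.leaf 214))) (.node (.node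 (.node (.leaf 146) (.leaf 719)) (.leaf 800)) (.node (.node (.leaf 760) (.leaf 710)) (.leaf 270)))) (.node (.node (.node (.node (.leaf 855) (.leaf 494)) (.leaf 154)) (.node (.node (.leaf 563) (.leaf 602)) (.leaf 637))) (.node (.node (.node (.leaf 51) (.leaf 453)) (.leaf 485)) (.node (.leaf 118) (.leaf 618))))) (.node (.node (.node (.node (.node (.leaf 41) (.leaf 340)) (.leaf 884)) (.node (.node (.leaf 606) (.leaf 542)) (.leaf 789))) (.node (.node (.node (.leaf 560) (.leaf 960)) (.leaf 183)) (.node (.leaf 405) (.leaf 281)))) (.node (.node (.node (.node (.leaf 722) (.leaf 646)) (.leaf 562)) (.node (.node (.leaf 571) (.leaf 887)) (.leaf 958))) (.node (.node (.node (.leaf 377) (.leaf 475)) (.leaf 826)) (.node (.leaf 636) (.leaf 308)))))))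

/-- data -/
def prev1p12 : Trie (ℕ) := .node (.node (.node (.node (.node (.node (.node (.node (.leaf 1) (.leaf 312)) (.leaf 128)) (.node (.node (.leaf 561) (.leaf 582)) (.leaf 237))) (.node (.node (.node (.leaf 609) (.leaf 694)) (.leaf 574)) (.node (.node (.leaf 924) (.leaf 909)) (.leaf 668)))) (.node (.node (.node (.node (.leaf 947) (.leaf 552)) (.leaf 723)) (.node (.node (.leaf 78) (.leaf 555)) (.leaf 228))) (.node (.node (.node (.leaf 582) (.leaf 540)) (.leaf 298)) (.node (.leaf 854) (.leaf 380))))) (.node (.node (.node (.node (.node (.leaf 455) (.leaf 451)) (.leaf 136)) (.node (.node (.leaf 908) (.leaf 745)) (.leaf 573))) (.node (.node (.node (.leaf 38) (.leaf 405)) (.leaf 559)) (.node (.node (.leaf 846) (.leaf 746)) (.leaf 411)))) (.node (.node (.node (.node (.leaf 24) (.leaf 362)) (.leaf 681)) (.node (.node (.leaf 86) (.leaf 630)) (.leaf 692))) (.node (.node (.node (.leaf 54) (.leaf 590)) (.leaf 711)) (.node (.leaf 606) (.leaf 965)))))) (.node (.node (.node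 (.node (.node (.node (.leaf 559) (.leaf 318)) (.leaf 519)) (.node (.node (.leaf 66) (.leaf 824)) (.leaf 212))) (.node (.node (.node (.leaf 568) (.leaf 974)) (.leaf 666)) (.node (.node (.leaf 333) (.leaf 974)) (.leaf 267)))) (.node (.node (.node (.node (.leaf 20) (.leaf 354)) (.leaf 818)) (.node (.node (.leaf 934) (.leaf 653)) (.leaf 235))) (.node (.node (.node (.leaf 285) (.leaf 805)) (.leaf 202)) (.node (.leaf 534) (.leaf 363))))) (.node (.node (.node (.node (.node (.leaf 307) (.leaf 337)) (.leaf 726)) (.node (.node (.leaf 819) (.leaf 532)) (.leaf 693))) (.node (.node (.node (.leaf 628) (.leaf 857)) (.leaf 180)) (.node (.node (.leaf 431) (.leaf 926)) (.leaf 456)))) (.node (.node (.node (.node (.leaf 428) (.leaf 481)) (.leaf 604)) (.node (.node (.leaf 136) (.leaf 643)) (.leaf 963))) (.node (.node (.node (.leaf 733) (.leaf 470)) (.leaf 202)) (.node (.leaf 917) (.leaf 906))))))) (.node (.node (.node (.node (.node (.node (.node (.leaf 488) (.leaf 345)) (.leaf 130))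 (.node (.node (.leaf 947) (.leaf 972)) (.leaf 335))) (.node (.node (.node (.leaf 32) (.leaf 778)) (.leaf 843)) (.node (.node (.leaf 97) (.leaf 681)) (.leaf 764)))) (.node (.node (.node (.node (.leaf 18) (.leaf 868)) (.leaf 150)) (.node (.node (.leaf 637) (.leaf 579)) (.leaf 232))) (.node (.node (.node (.leaf 48) (.leaf 439)) (.leaf 189)) (.node (.leaf 115) (.leaf 761))))) (.node (.node (.node (.node (.node (.leaf 113) (.leaf 856)) (.leaf 139)) (.node (.node (.leaf 354) (.leaf 810)) (.leaf 219))) (.node (.node (.node (.leaf 195) (.leaf 533)) (.leaf 714)) (.node (.node (.leaf 142) (.leaf 788)) (.leaf 452)))) (.node (.node (.node (.node (.leaf 216) (.leaf 840)) (.leaf 714)) (.node (.node (.leaf 235) (.leaf 793)) (.leaf 248))) (.node (.node (.node (.leaf 286) (.leaf 641)) (.leaf 200)) (.node (.leaf 122) (.leaf 300)))))) (.node (.node (.node (.node (.node (.node (.leaf 378) (.leaf 535)) (.leaf 134)) (.node (.node (.leaf 688) (.leaf 505)) (.leaf 215))) (.node (.node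 (.node (.leaf 36) (.leaf 401)) (.leaf 171)) (.node (.node (.leaf 420) (.leaf 835)) (.leaf 364)))) (.node (.node (.node (.node (.leaf 341) (.leaf 359)) (.leaf 155)) (.node (.node (.leaf 84) (.leaf 946)) (.leaf 237))) (.node (.node (.node (.leaf 52) (.leaf 699)) (.leaf 362)) (.node (.leaf 645) (.leaf 598))))) (.node (.node (.node (.node (.node (.leaf 14) (.leaf 341)) (.leaf 145)) (.node (.node (.leaf 369) (.leaf 902)) (.leaf 923))) (.node (.node (.node (.leaf 44) (.leaf 430)) (.leaf 184)) (.node (.leaf 110) (.leaf 643)))) (.node (.node (.node (.node (.leaf 522) (.leaf 378)) (.leaf 162)) (.node (.node (.leaf 93) (.leaf 651)) (.leaf 257))) (.node (.node (.node (.leaf 60) (.leaf 873)) (.leaf 451)) (.node (.leaf 957) (.leaf 739)))))))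

/-- data -/
def prev1p13 : Trie (ℕ) := .node (.node (.node (.node (.node (.node (.node (.node (.leaf 661) (.leaf 313)) (.leaf 258)) (.node (.node (.leaf 444) (.leaf 480)) (.leaf 207))) (.node (.node (.node (.leaf 343) (.leaf 696)) (.leaf 511)) (.node (.node (.leaf 226) (.leaf 671)) (.leaf 261)))) (.node (.node (.node (.node (.leaf 743) (.leaf 664)) (.leaf 774)) (.node (.node (.leaf 394) (.leaf 742)) (.leaf 926))) (.node (.node (.node (.leaf 140) (.leaf 457)) (.leaf 615)) (.node (.leaf 258) (.leaf 285))))) (.node (.node (.node (.node (.node (.leaf 8) (.leaf 328)) (.leaf 248)) (.node (.node (.leaf 70) (.leaf 928)) (.leaf 557))) (.node (.node (.node (.leaf 39) (.leaf 704)) (.leaf 379)) (.node (.node (.leaf 103) (.leaf 767)) (.leaf 573)))) (.node (.node (.node (.node (.leaf 845) (.leaf 364)) (.leaf 156)) (.node (.node (.leaf 87) (.leaf 825)) (.leaf 752))) (.node (.node (.node (.leaf 599) (.leaf 460)) (.leaf 687)) (.node (.leaf 531) (.leaf 297)))))) (.node (.node (.node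 (.node (.node (.node (.leaf 325) (.leaf 883)) (.leaf 948)) (.node (.node (.leaf 910) (.leaf 932)) (.leaf 213))) (.node (.node (.node (.leaf 859) (.leaf 653)) (.leaf 169)) (.node (.node (.leaf 624) (.leaf 775)) (.leaf 466)))) (.node (.node (.node (.node (.leaf 878) (.leaf 888)) (.leaf 153)) (.node (.node (.leaf 82) (.leaf 592)) (.leaf 756))) (.node (.node (.node (.leaf 189) (.leaf 443)) (.leaf 885)) (.node (.leaf 116) (.leaf 292))))) (.node (.node (.node (.node (.node (.leaf 12) (.leaf 659)) (.leaf 143)) (.node (.node (.leaf 123) (.leaf 771)) (.leaf 223))) (.node (.node (.node (.leaf 434) (.leaf 506)) (.leaf 583)) (.node (.leaf 108) (.leaf 278)))) (.node (.node (.node (.node (.leaf 866) (.leaf 373)) (.leaf 160)) (.node (.node (.leaf 91) (.leaf 795)) (.leaf 602))) (.node (.node (.node (.leaf 58) (.leaf 520)) (.leaf 582)) (.node (.leaf 713) (.leaf 862))))))) (.node (.node (.node (.node (.node (.node (.node (.leaf 2) (.leaf 316)) (.leaf 131)) (.node (.node (.leaf 653)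 (.leaf 487)) (.leaf 538))) (.node (.node (.node (.leaf 33) (.leaf 391)) (.leaf 166)) (.node (.node (.leaf 813) (.leaf 949)) (.leaf 284)))) (.node (.node (.node (.node (.leaf 632) (.leaf 475)) (.leaf 543)) (.node (.node (.leaf 952) (.leaf 610)) (.leaf 807))) (.node (.node (.node (.leaf 251) (.leaf 527)) (.leaf 190)) (.node (.leaf 401) (.leaf 712))))) (.node (.node (.node (.node (.node (.leaf 426) (.leaf 779)) (.leaf 936)) (.node (.node (.leaf 72) (.leaf 746)) (.leaf 220))) (.node (.node (.node (.leaf 392) (.leaf 411)) (.leaf 238)) (.node (.node (.leaf 927) (.leaf 830)) (.leaf 276)))) (.node (.node (.node (.node (.leaf 25) (.leaf 914)) (.leaf 500)) (.node (.node (.leaf 89) (.leaf 858)) (.leaf 280))) (.node (.node (.node (.leaf 783) (.leaf 465)) (.leaf 201)) (.node (.leaf 971) (.leaf 301)))))) (.node (.node (.node (.node (.node (.node (.leaf 663) (.leaf 323)) (.leaf 767)) (.node (.node (.leaf 597) (.leaf 887)) (.leaf 649))) (.node (.node (.node (.leaf 92) (.leaf 785))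 (.leaf 467)) (.node (.node (.leaf 754) (.leaf 921)) (.leaf 847)))) (.node (.node (.node (.node (.leaf 832) (.leaf 426)) (.leaf 437)) (.node (.node (.leaf 934) (.leaf 711)) (.leaf 238))) (.node (.node (.node (.leaf 75) (.leaf 530)) (.leaf 195)) (.node (.leaf 636) (.leaf 326))))) (.node (.node (.node (.node (.node (.leaf 753) (.leaf 450)) (.leaf 932)) (.node (.node (.leaf 901) (.leaf 715)) (.leaf 226))) (.node (.node (.node (.leaf 45) (.leaf 424)) (.leaf 204)) (.node (.leaf 361) (.leaf 508)))) (.node (.node (.node (.node (.leaf 29) (.leaf 381)) (.leaf 314)) (.node (.node (.leaf 94) (.leaf 667)) (.leaf 446))) (.node (.node (.node (.leaf 207) (.leaf 676)) (.leaf 655)) (.node (.leaf 584) (.leaf 580)))))))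

/-- data -/
def prev1p14 : Trie (ℕ) := .node (.node (.node (.node (.node (.node (.node (.node (.leaf 348) (.leaf 426)) (.leaf 686)) (.node (.node (.leaf 62) (.leaf 646)) (.leaf 629))) (.node (.node (.node (.leaf 192) (.leaf 385)) (.leaf 164)) (.node (.node (.leaf 95) (.leaf 854)) (.leaf 262)))) (.node (.node (.node (.node (.leaf 16) (.leaf 454)) (.leaf 148)) (.node (.node (.leaf 418) (.leaf 649)) (.leaf 229))) (.node (.node (.node (.leaf 46) (.leaf 433)) (.leaf 193)) (.node (.leaf 544) (.leaf 310))))) (.node (.node (.node (.node (.node (.leaf 9) (.leaf 923)) (.leaf 137)) (.node (.node (.leaf 525) (.leaf 511)) (.leaf 218))) (.node (.node (.node (.leaf 407) (.leaf 547)) (.leaf 174)) (.node (.node (.leaf 104) (.leaf 858)) (.leaf 908)))) (.node (.node (.node (.node (.leaf 741) (.leaf 801)) (.leaf 157)) (.node (.node (.leaf 330) (.leaf 617)) (.leaf 240))) (.node (.node (.node (.leaf 551) (.leaf 724)) (.leaf 257)) (.node (.leaf 120) (.leaf 802)))))) (.node (.node (.node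 (.node (.node (.node (.leaf 867) (.leaf 319)) (.leaf 132)) (.node (.node (.leaf 371) (.leaf 502)) (.leaf 431))) (.node (.node (.node (.leaf 34) (.leaf 879)) (.leaf 170)) (.node (.node (.leaf 925) (.leaf 764)) (.leaf 844)))) (.node (.node (.node (.node (.leaf 811) (.leaf 400)) (.leaf 771)) (.node (.node (.leaf 941) (.leaf 647)) (.leaf 903))) (.node (.node (.node (.leaf 50) (.leaf 738)) (.leaf 192)) (.node (.leaf 117) (.leaf 452))))) (.node (.node (.node (.node (.node (.leaf 248) (.leaf 445)) (.leaf 144)) (.node (.node (.leaf 471) (.leaf 535)) (.leaf 648))) (.node (.node (.node (.leaf 509) (.leaf 418)) (.leaf 757)) (.node (.leaf 382) (.leaf 279)))) (.node (.node (.node (.node (.leaf 199) (.leaf 374)) (.leaf 814)) (.node (.node (.leaf 92) (.leaf 692)) (.leaf 792))) (.node (.node (.node (.leaf 899) (.leaf 950)) (.leaf 767)) (.node (.leaf 768) (.leaf 304))))))) (.node (.node (.node (.node (.node (.node (.node (.leaf 3) (.leaf 727)) (.leaf 393)) (.node (.node (.leaf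 64) (.leaf 814)) (.leaf 564))) (.node (.node (.node (.leaf 349) (.leaf 393)) (.leaf 427)) (.node (.node (.leaf 142) (.leaf 720)) (.leaf 264)))) (.node (.node (.node (.node (.leaf 404) (.leaf 350)) (.leaf 936)) (.node (.node (.leaf 904) (.leaf 660)) (.leaf 442))) (.node (.node (.node (.leaf 524) (.leaf 518)) (.leaf 830)) (.node (.leaf 217) (.leaf 635))))) (.node (.node (.node (.node (.node (.leaf 643) (.leaf 358)) (.leaf 614)) (.node (.node (.leaf 73) (.leaf 521)) (.leaf 770))) (.node (.node (.node (.leaf 40) (.leaf 585)) (.leaf 326)) (.node (.node (.leaf 331) (.leaf 798)) (.leaf 755)))) (.node (.node (.node (.node (.leaf 26) (.leaf 370)) (.leaf 391)) (.node (.node (.leaf 369) (.leaf 635)) (.leaf 490))) (.node (.node (.node (.leaf 961) (.leaf 790)) (.leaf 912)) (.node (.leaf 140) (.leaf 860)))))) (.node (.node (.node (.node (.node (.node (.leaf 6) (.leaf 657)) (.leaf 407)) (.node (.node (.leaf 679) (.leaf 506)) (.leaf 271))) (.node (.node (.node (.leaf 654) (.leaf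 867)) (.leaf 172)) (.node (.node (.leaf 101) (.leaf 712)) (.leaf 481)))) (.node (.node (.node (.node (.leaf 22) (.leaf 360)) (.leaf 364)) (.node (.node (.leaf 501) (.leaf 605)) (.leaf 735))) (.node (.node (.node (.leaf 568) (.leaf 703)) (.leaf 196)) (.node (.leaf 695) (.leaf 294))))) (.node (.node (.node (.node (.node (.leaf 699) (.leaf 882)) (.leaf 146)) (.node (.node (.leaf 76) (.leaf 839)) (.leaf 227))) (.node (.node (.node (.leaf 142) (.leaf 761)) (.leaf 250)) (.node (.leaf 111) (.leaf 282)))) (.node (.node (.node (.node (.leaf 669) (.leaf 887)) (.leaf 243)) (.node (.node (.leaf 269) (.leaf 721)) (.leaf 761))) (.node (.node (.node (.leaf 135) (.leaf 476)) (.leaf 338)) (.node (.leaf 126) (.leaf 309)))))))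

/-- data -/
def prev1p15 : Trie (ℕ) := .node (.node (.node (.node (.node (.node (.node (.node (.leaf 130) (.leaf 419)) (.leaf 555)) (.node (.node (.leaf 891) (.leaf 781)) (.leaf 208))) (.node (.node (.node (.leaf 31) (.leaf 809)) (.leaf 662)) (.node (.node (.leaf 96) (.leaf 921)) (.leaf 724)))) (.node (.node (.node (.node (.leaf 52) (.leaf 951)) (.leaf 149)) (.node (.node (.leaf 247) (.leaf 560)) (.leaf 268))) (.node (.node (.node (.leaf 47) (.leaf 800)) (.leaf 186)) (.node (.leaf 112) (.leaf 286))))) (.node (.node (.node (.node (.node (.leaf 280) (.leaf 717)) (.leaf 357)) (.node (.node (.leaf 71) (.leaf 639)) (.leaf 419))) (.node (.node (.node (.leaf 880) (.leaf 840)) (.leaf 406)) (.node (.node (.leaf 404) (.leaf 814)) (.leaf 273)))) (.node (.node (.node (.node (.leaf 246) (.leaf 505)) (.leaf 567)) (.node (.node (.leaf 449) (.leaf 877)) (.leaf 280))) (.node (.node (.node (.leaf 265) (.leaf 923)) (.leaf 197)) (.node (.leaf 121) (.leaf 604)))))) (.node (.node (.node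 (.node (.node (.node (.leaf 4) (.leaf 631)) (.leaf 133)) (.node (.node (.leaf 512) (.leaf 503)) (.leaf 466))) (.node (.node (.node (.leaf 35) (.leaf 396)) (.leaf 636)) (.node (.node (.leaf 99) (.leaf 697)) (.leaf 567)))) (.node (.node (.node (.node (.leaf 605) (.leaf 528)) (.leaf 225)) (.node (.node (.leaf 852) (.leaf 908)) (.leaf 396))) (.node (.node (.node (.leaf 292) (.leaf 444)) (.leaf 434)) (.node (.leaf 863) (.leaf 590))))) (.node (.node (.node (.node (.node (.leaf 498) (.leaf 338)) (.leaf 947)) (.node (.node (.leaf 74) (.leaf 842)) (.leaf 877))) (.node (.node (.node (.leaf 43) (.leaf 419)) (.leaf 181)) (.node (.leaf 109) (.leaf 699)))) (.node (.node (.node (.node (.leaf 27) (.leaf 759)) (.leaf 275)) (.node (.node (.leaf 332) (.leaf 670)) (.leaf 252))) (.node (.node (.node (.leaf 587) (.leaf 471)) (.leaf 465)) (.node (.leaf 124) (.leaf 305))))))) (.node (.node (.node (.node (.node (.node (.node (.leaf 905) (.leaf 579)) (.leaf 243)) (.node (.node (.leaf 65)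 (.leaf 728)) (.leaf 211))) (.node (.node (.node (.leaf 393) (.leaf 549)) (.leaf 167)) (.node (.node (.leaf 638) (.leaf 685)) (.leaf 677)))) (.node (.node (.node (.node (.leaf 429) (.leaf 930)) (.leaf 469)) (.node (.node (.leaf 80) (.leaf 831)) (.leaf 365))) (.node (.node (.node (.leaf 177) (.leaf 664)) (.leaf 492)) (.node (.leaf 496) (.leaf 289))))) (.node (.node (.node (.node (.node (.leaf 10) (.leaf 495)) (.leaf 954)) (.node (.node (.leaf 528) (.leaf 523)) (.leaf 296))) (.node (.node (.node (.leaf 751) (.leaf 423)) (.leaf 535)) (.node (.node (.leaf 106) (.leaf 967)) (.leaf 674)))) (.node (.node (.node (.node (.leaf 412) (.leaf 459)) (.leaf 158)) (.node (.node (.leaf 709) (.leaf 628)) (.leaf 249))) (.node (.node (.node (.leaf 56) (.leaf 468)) (.leaf 492)) (.node (.leaf 464) (.leaf 368)))))) (.node (.node (.node (.node (.node (.node (.leaf 7) (.leaf 413)) (.leaf 286)) (.node (.node (.leaf 68) (.leaf 602)) (.leaf 892))) (.node (.node (.node (.leaf 438) (.leaf 402))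 (.leaf 546)) (.node (.node (.leaf 102) (.leaf 869)) (.leaf 270)))) (.node (.node (.node (.node (.leaf 272) (.leaf 521)) (.leaf 499)) (.node (.node (.leaf 85) (.leaf 734)) (.leaf 255))) (.node (.node (.node (.leaf 453) (.leaf 453)) (.leaf 848)) (.node (.leaf 118) (.leaf 295))))) (.node (.node (.node (.node (.node (.leaf 19) (.leaf 553)) (.leaf 752)) (.node (.node (.leaf 77) (.leaf 542)) (.leaf 832))) (.node (.node (.node (.leaf 246) (.leaf 858)) (.leaf 415)) (.node (.leaf 892) (.leaf 288)))) (.node (.node (.node (.node (.leaf 662) (.leaf 778)) (.leaf 740)) (.node (.node (.leaf 191) (.leaf 945)) (.leaf 259))) (.node (.node (.node (.leaf 954) (.leaf 763)) (.leaf 204)) (.node (.leaf 127) (.leaf 565)))))))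

/-- data -/
def prev1 : Trie (ℕ) := .node (.node (.node (.node (prev1p0) (prev1p8)) (.node (prev1p4) (prev1p12))) (.node (.node (prev1p2) (prev1p10)) (.node (prev1p6) (prev1p14)))) (.node (.node (.node (prev1p1) (prev1p9)) (.node (prev1p5) (prev1p13))) (.node (.node (prev1p3) (prev1p11)) (.node (prev1p7) (prev1p15))))

/-- data -/
def lab1p0 : Trie (ℕ) := .node (.node (.node (.node (.node (.node (.node (.node (.leaf 0x0) (.leaf 0x19002)) (.leaf 0xd9003)) (.node (.node (.leaf 0x0) (.leaf 0x2001)) (.leaf 0x2001))) (.node (.node (.node (.leaf 0x0) (.leaf 0x1b002)) (.leaf 0x0)) (.node (.node (.leaf 0x1b002) (.leaf 0x2001)) (.leaf 0x1001)))) (.node (.node (.node (.node (.leaf 0x0) (.leaf 0xd9003)) (.leaf 0x11002)) (.node (.node (.leaf 0x0) (.leaf 0x19002)) (.leaf 0x1001))) (.node (.node (.node (.leaf 0x0) (.leaf 0x1b002)) (.leaf 0x11002)) (.node (.leaf 0x0) (.leaf 0x0))))) (.node (.node (.node (.node (.node (.leaf 0x0) (.leaf 0x1b002)) (.leaf 0x0)) (.node (.node (.leaf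 0x3001) (.leaf 0x0)) (.leaf 0x19002))) (.node (.node (.node (.leaf 0x0) (.leaf 0x11002)) (.leaf 0x0)) (.node (.node (.leaf 0x0) (.leaf 0x19002)) (.leaf 0xd9003)))) (.node (.node (.node (.node (.leaf 0x0) (.leaf 0x3001)) (.leaf 0x0)) (.node (.node (.leaf 0x0) (.leaf 0x3001)) (.leaf 0x1001))) (.node (.node (.node (.leaf 0x0) (.leaf 0x0)) (.leaf 0x19002)) (.node (.leaf 0x0) (.leaf 0x1001)))))) (.node (.node (.node (.node (.node (.node (.leaf 0x0) (.leaf 0x3001)) (.leaf 0x0)) (.node (.node (.leaf 0x1001) (.leaf 0x19002)) (.leaf 0x0))) (.node (.node (.node (.leaf 0x0) (.leaf 0x1001)) (.leaf 0x0)) (.node (.node (.leaf 0x2001) (.leaf 0x11002)) (.leaf 0x0)))) (.node (.node (.node (.node (.leaf 0x0) (.leaf 0x2001)) (.leaf 0x19002)) (.node (.node (.leaf 0x3001) (.leaf 0x0)) (.leaf 0x1b002))) (.node (.node (.node (.leaf 0x0) (.leaf 0x11002)) (.leaf 0x1001)) (.node (.leaf 0x0) (.leaf 0x0))))) (.node (.node (.node (.node (.node (.leaf 0x0) (.leaf 0x1b002)) (.leaf 0x11002))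 (.node (.node (.leaf 0x0) (.leaf 0x1001)) (.leaf 0x1b002))) (.node (.node (.node (.leaf 0x0) (.leaf 0xd9003)) (.leaf 0x2001)) (.node (.node (.leaf 0x3001) (.leaf 0x11002)) (.leaf 0x0)))) (.node (.node (.node (.node (.leaf 0x0) (.leaf 0x3001)) (.leaf 0x0)) (.node (.node (.leaf 0x19002) (.leaf 0x1b002)) (.leaf 0x0))) (.node (.node (.node (.leaf 0x0) (.leaf 0x11002)) (.leaf 0x1001)) (.node (.leaf 0x0) (.leaf 0x2001))))))) (.node (.node (.node (.node (.node (.node (.node (.leaf 0x0) (.leaf 0x11002)) (.leaf 0x0)) (.node (.node (.leaf 0x0) (.leaf 0x1b002)) (.leaf 0x19002))) (.node (.node (.node (.leaf 0x0) (.leaf 0x11002)) (.leaf 0x0)) (.node (.node (.leaf 0x0) (.leaf 0xd9003)) (.leaf 0x0)))) (.node (.node (.node (.node (.leaf 0x0) (.leaf 0x2001)) (.leaf 0x11002)) (.node (.node (.leaf 0x1001) (.leaf 0x1b002)) (.leaf 0x0))) (.node (.node (.node (.leaf 0x0) (.leaf 0x0)) (.leaf 0x0)) (.node (.leaf 0x11002) (.leaf 0x3001))))) (.node (.node (.node (.node (.node (.leaf 0x0)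 (.leaf 0x2001)) (.leaf 0x0)) (.node (.node (.leaf 0x0) (.leaf 0x11002)) (.leaf 0x2001))) (.node (.node (.node (.leaf 0x0) (.leaf 0x1b002)) (.leaf 0x0)) (.node (.node (.leaf 0xd9003) (.leaf 0x3001)) (.leaf 0x11002)))) (.node (.node (.node (.node (.leaf 0x0) (.leaf 0x0)) (.leaf 0x0)) (.node (.node (.leaf 0x0) (.leaf 0x3001)) (.leaf 0x3001))) (.node (.node (.node (.leaf 0x0) (.leaf 0xd9003)) (.leaf 0xd9003)) (.node (.leaf 0x19002) (.leaf 0x19002)))))) (.node (.node (.node (.node (.node (.node (.leaf 0x0) (.leaf 0x1001)) (.leaf 0x0)) (.node (.node (.leaf 0x1b002) (.leaf 0x1001)) (.leaf 0x2001))) (.node (.node (.node (.leaf 0x0) (.leaf 0xd9003)) (.leaf 0x11002)) (.node (.node (.leaf 0x0) (.leaf 0x2001)) (.leaf 0x0)))) (.node (.node (.node (.node (.leaf 0x0) (.leaf 0x2001)) (.leaf 0x3001)) (.node (.node (.leaf 0x0) (.leaf 0x3001)) (.leaf 0x19002))) (.node (.node (.node (.leaf 0x0) (.leaf 0x2001)) (.leaf 0x19002)) (.node (.leaf 0x0) (.leaf 0x1001))))) (.node (.node (.node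 (.node (.node (.leaf 0x0) (.leaf 0x3001)) (.leaf 0x0)) (.node (.node (.leaf 0x0) (.leaf 0x19002)) (.leaf 0x1001))) (.node (.node (.node (.leaf 0x0) (.leaf 0x0)) (.leaf 0xd9003)) (.node (.leaf 0x0) (.leaf 0x1b002)))) (.node (.node (.node (.node (.leaf 0x0) (.leaf 0xd9003)) (.leaf 0x0)) (.node (.node (.leaf 0x3001) (.leaf 0x0)) (.leaf 0x0))) (.node (.node (.node (.leaf 0x0) (.leaf 0xd9003)) (.leaf 0x1001)) (.node (.leaf 0x0) (.leaf 0x11002)))))))

/-- data -/
def lab1p1 : Trie (ℕ) := .node (.node (.node (.node (.node (.node (.node (.node (.leaf 0x0) (.leaf 0x19002)) (.leaf 0x11002)) (.node (.node (.leaf 0x0) (.leaf 0x3001)) (.leaf 0x3001))) (.node (.node (.node (.leaf 0x0) (.leaf 0x0)) (.leaf 0x0)) (.node (.node (.leaf 0x0) (.leaf 0x0)) (.leaf 0x1001)))) (.node (.node (.node (.node (.leaf 0x0) (.leaf 0x3001)) (.leaf 0x2001)) (.node (.node (.leaf 0xd9003) (.leaf 0x1b002)) (.leaf 0x0))) (.node (.node (.node (.leaf 0x0) (.leaf 0x0)) (.leaf 0x11002)) (.node (.leaf 0x0)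 (.leaf 0x1b002))))) (.node (.node (.node (.node (.node (.leaf 0x0) (.leaf 0x1b002)) (.leaf 0x11002)) (.node (.node (.leaf 0x2001) (.leaf 0x19002)) (.leaf 0x1001))) (.node (.node (.node (.leaf 0x0) (.leaf 0x11002)) (.leaf 0xd9003)) (.node (.node (.leaf 0x0) (.leaf 0x3001)) (.leaf 0x0)))) (.node (.node (.node (.node (.leaf 0x0) (.leaf 0x19002)) (.leaf 0x0)) (.node (.node (.leaf 0x1b002) (.leaf 0x11002)) (.leaf 0x19002))) (.node (.node (.node (.leaf 0x0) (.leaf 0x2001)) (.leaf 0x11002)) (.node (.leaf 0x0) (.leaf 0x2001)))))) (.node (.node (.node (.node (.node (.node (.leaf 0x0) (.leaf 0x3001)) (.leaf 0x0)) (.node (.node (.leaf 0x0) (.leaf 0x3001)) (.leaf 0x0))) (.node (.node (.node (.leaf 0x0) (.leaf 0x19002)) (.leaf 0x0)) (.node (.node (.leaf 0x0) (.leaf 0x2001)) (.leaf 0x19002)))) (.node (.node (.node (.node (.leaf 0x0) (.leaf 0x0)) (.leaf 0x0)) (.node (.node (.leaf 0x0) (.leaf 0x2001)) (.leaf 0x19002))) (.node (.node (.node (.leaf 0x0) (.leaf 0x2001)) (.leaf 0x1b002))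 (.node (.leaf 0x19002) (.leaf 0x19002))))) (.node (.node (.node (.node (.node (.leaf 0x0) (.leaf 0x1001)) (.leaf 0x0)) (.node (.node (.leaf 0x0) (.leaf 0xd9003)) (.leaf 0x1b002))) (.node (.node (.node (.leaf 0x0) (.leaf 0x3001)) (.leaf 0x1b002)) (.node (.node (.leaf 0x0) (.leaf 0xd9003)) (.leaf 0x1001)))) (.node (.node (.node (.node (.leaf 0x0) (.leaf 0x3001)) (.leaf 0x0)) (.node (.node (.leaf 0xd9003) (.leaf 0x0)) (.leaf 0x1b002))) (.node (.node (.node (.leaf 0x0) (.leaf 0x2001)) (.leaf 0x1b002)) (.node (.leaf 0x0) (.leaf 0x11002))))))) (.node (.node (.node (.node (.node (.node (.node (.leaf 0x0) (.leaf 0x0)) (.leaf 0x3001)) (.node (.node (.leaf 0x0) (.leaf 0x19002)) (.leaf 0x0))) (.node (.node (.node (.leaf 0x3001) (.leaf 0x1001)) (.leaf 0x1b002)) (.node (.node (.leaf 0x0) (.leaf 0x11002)) (.leaf 0x2001)))) (.node (.node (.node (.node (.leaf 0x0) (.leaf 0xd9003)) (.leaf 0x0)) (.node (.node (.leaf 0x0) (.leaf 0xd9003)) (.leaf 0x1001))) (.node (.node (.node (.leaf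 0x0) (.leaf 0x3001)) (.leaf 0x1001)) (.node (.leaf 0x0) (.leaf 0x0))))) (.node (.node (.node (.node (.node (.leaf 0x0) (.leaf 0x2001)) (.leaf 0x1b002)) (.node (.node (.leaf 0x0) (.leaf 0x19002)) (.leaf 0x19002))) (.node (.node (.node (.leaf 0x0) (.leaf 0x19002)) (.leaf 0x0)) (.node (.node (.leaf 0xd9003) (.leaf 0x11002)) (.leaf 0xd9003)))) (.node (.node (.node (.node (.leaf 0x0) (.leaf 0x19002)) (.leaf 0x0)) (.node (.node (.leaf 0x0) (.leaf 0xd9003)) (.leaf 0x19002))) (.node (.node (.node (.leaf 0x0) (.leaf 0x1b002)) (.leaf 0x0)) (.node (.leaf 0xd9003) (.leaf 0x3001)))))) (.node (.node (.node (.node (.node (.node (.leaf 0x0) (.leaf 0x0)) (.leaf 0x1001)) (.node (.node (.leaf 0x11002) (.leaf 0x1b002)) (.leaf 0x0))) (.node (.node (.node (.leaf 0x0) (.leaf 0x0)) (.leaf 0x1001)) (.node (.node (.leaf 0x0) (.leaf 0x2001)) (.leaf 0x2001)))) (.node (.node (.node (.node (.leaf 0x0) (.leaf 0x2001)) (.leaf 0x3001)) (.node (.node (.leaf 0x0) (.leaf 0x11002)) (.leaf 0x0))) (.node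 (.node (.node (.leaf 0x0) (.leaf 0x11002)) (.leaf 0x0)) (.node (.leaf 0x0) (.leaf 0x2001))))) (.node (.node (.node (.node (.node (.leaf 0x0) (.leaf 0x3001)) (.leaf 0xd9003)) (.node (.node (.leaf 0x19002) (.leaf 0x19002)) (.leaf 0x11002))) (.node (.node (.node (.leaf 0x11002) (.leaf 0x1001)) (.leaf 0xd9003)) (.node (.leaf 0x0) (.leaf 0x1b002)))) (.node (.node (.node (.node (.leaf 0x3001) (.leaf 0x11002)) (.leaf 0x0)) (.node (.node (.leaf 0xd9003) (.leaf 0x1001)) (.leaf 0x1001))) (.node (.node (.node (.leaf 0x0) (.leaf 0x11002)) (.leaf 0x0)) (.node (.leaf 0x1001) (.leaf 0x11002)))))))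

/-- data -/
def lab1p2 : Trie (ℕ) := .node (.node (.node (.node (.node (.node (.node (.node (.leaf 0x0) (.leaf 0x11002)) (.leaf 0x1001)) (.node (.node (.leaf 0x0) (.leaf 0x0)) (.leaf 0x3001))) (.node (.node (.node (.leaf 0x0) (.leaf 0x19002)) (.leaf 0x19002)) (.node (.node (.leaf 0x3001) (.leaf 0x0)) (.leaf 0x1b002)))) (.node (.node (.node (.node (.leaf 0x0) (.leaf 0x19002)) (.leaf 0x0)) (.node (.node (.leaf 0x0) (.leaf 0x0)) (.leaf 0x0))) (.node (.node (.node (.leaf 0x0) (.leaf 0x1b002)) (.leaf 0x0)) (.node (.leaf 0x0) (.leaf 0x2001))))) (.node (.node (.node (.node (.node (.leaf 0x0) (.leaf 0x3001)) (.leaf 0x0)) (.node (.node (.leaf 0x0) (.leaf 0x2001)) (.leaf 0x2001))) (.node (.node (.node (.leaf 0x0) (.leaf 0x11002)) (.leaf 0x0)) (.node (.node (.leaf 0x0) (.leaf 0x1001)) (.leaf 0x3001)))) (.node (.node (.node (.node (.leaf 0x0) (.leaf 0x19002)) (.leaf 0x1001)) (.node (.node (.leaf 0x0) (.leaf 0x19002)) (.leaf 0x1b002))) (.node (.node (.node (.leaf 0x0) (.leaf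 0x2001)) (.leaf 0x1001)) (.node (.leaf 0x1b002) (.leaf 0x1b002)))))) (.node (.node (.node (.node (.node (.node (.leaf 0x0) (.leaf 0xd9003)) (.leaf 0x1b002)) (.node (.node (.leaf 0x0) (.leaf 0x11002)) (.leaf 0x0))) (.node (.node (.node (.leaf 0x0) (.leaf 0x1001)) (.leaf 0x1001)) (.node (.node (.leaf 0x0) (.leaf 0x3001)) (.leaf 0x19002)))) (.node (.node (.node (.node (.leaf 0x0) (.leaf 0x0)) (.leaf 0x2001)) (.node (.node (.leaf 0x1b002) (.leaf 0xd9003)) (.leaf 0x1b002))) (.node (.node (.node (.leaf 0x3001) (.leaf 0x1b002)) (.leaf 0x0)) (.node (.leaf 0x0) (.leaf 0x0))))) (.node (.node (.node (.node (.node (.leaf 0x0) (.leaf 0x3001)) (.leaf 0x0)) (.node (.node (.leaf 0x0) (.leaf 0x3001)) (.leaf 0x19002))) (.node (.node (.node (.leaf 0x0) (.leaf 0x0)) (.leaf 0x0)) (.node (.node (.leaf 0x3001) (.leaf 0x1001)) (.leaf 0x1001)))) (.node (.node (.node (.node (.leaf 0x19002) (.leaf 0xd9003)) (.leaf 0x19002)) (.node (.node (.leaf 0x2001) (.leaf 0x3001)) (.leaf 0x19002))) (.node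 (.node (.node (.leaf 0x0) (.leaf 0xd9003)) (.leaf 0x1b002)) (.node (.leaf 0x3001) (.leaf 0x1001))))))) (.node (.node (.node (.node (.node (.node (.node (.leaf 0x0) (.leaf 0x3001)) (.leaf 0x19002)) (.node (.node (.leaf 0x11002) (.leaf 0x3001)) (.leaf 0x19002))) (.node (.node (.node (.leaf 0x2001) (.leaf 0x1b002)) (.leaf 0x2001)) (.node (.node (.leaf 0x0) (.leaf 0x0)) (.leaf 0x0)))) (.node (.node (.node (.node (.leaf 0x0) (.leaf 0x19002)) (.leaf 0x0)) (.node (.node (.leaf 0x0) (.leaf 0x0)) (.leaf 0x1001))) (.node (.node (.node (.leaf 0x0) (.leaf 0x19002)) (.leaf 0x0)) (.node (.leaf 0x0) (.leaf 0x0))))) (.node (.node (.node (.node (.node (.leaf 0x0) (.leaf 0x0)) (.leaf 0x3001)) (.node (.node (.leaf 0x11002) (.leaf 0xd9003)) (.leaf 0xd9003))) (.node (.node (.node (.leaf 0x0) (.leaf 0x3001)) (.leaf 0x11002)) (.node (.node (.leaf 0x0) (.leaf 0x1b002)) (.leaf 0x19002)))) (.node (.node (.node (.node (.leaf 0x0) (.leaf 0xd9003)) (.leaf 0x0)) (.node (.node (.leaf 0x0) (.leaf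 0x1001)) (.leaf 0x0))) (.node (.node (.node (.leaf 0x0) (.leaf 0xd9003)) (.leaf 0x0)) (.node (.leaf 0x19002) (.leaf 0x19002)))))) (.node (.node (.node (.node (.node (.node (.leaf 0x0) (.leaf 0x1b002)) (.leaf 0x11002)) (.node (.node (.leaf 0x0) (.leaf 0x1b002)) (.leaf 0x11002))) (.node (.node (.node (.leaf 0x0) (.leaf 0x0)) (.leaf 0x1001)) (.node (.node (.leaf 0x2001) (.leaf 0xd9003)) (.leaf 0x0)))) (.node (.node (.node (.node (.leaf 0x0) (.leaf 0x0)) (.leaf 0xd9003)) (.node (.node (.leaf 0x0) (.leaf 0xd9003)) (.leaf 0x2001))) (.node (.node (.node (.leaf 0x2001) (.leaf 0xd9003)) (.leaf 0x0)) (.node (.leaf 0x1001) (.leaf 0x0))))) (.node (.node (.node (.node (.node (.leaf 0xd9003) (.leaf 0x11002)) (.leaf 0xd9003)) (.node (.node (.leaf 0x0) (.leaf 0x19002)) (.leaf 0x1001))) (.node (.node (.node (.leaf 0x0) (.leaf 0x3001)) (.leaf 0xd9003)) (.node (.leaf 0x0) (.leaf 0x19002)))) (.node (.node (.node (.node (.leaf 0x0) (.leaf 0x3001)) (.leaf 0x11002)) (.node (.node (.leaf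 0x0) (.leaf 0x19002)) (.leaf 0x0))) (.node (.node (.node (.leaf 0x0) (.leaf 0xd9003)) (.leaf 0x1b002)) (.node (.leaf 0x0) (.leaf 0x0)))))))

/-- data -/
def lab1p3 : Trie (ℕ) := .node (.node (.node (.node (.node (.node (.node (.node (.leaf 0x0) (.leaf 0x1001)) (.leaf 0x1b002)) (.node (.node (.leaf 0x0) (.leaf 0x1001)) (.leaf 0x19002))) (.node (.node (.node (.leaf 0x0) (.leaf 0xd9003)) (.leaf 0x0)) (.node (.node (.leaf 0x0) (.leaf 0x11002)) (.leaf 0x0)))) (.node (.node (.node (.node (.leaf 0x0) (.leaf 0x2001)) (.leaf 0x0)) (.node (.node (.leaf 0x0) (.leaf 0x11002)) (.leaf 0x19002))) (.node (.node (.node (.leaf 0x0) (.leaf 0x0)) (.leaf 0x0)) (.node (.leaf 0x1b002) (.leaf 0x1b002))))) (.node (.node (.node (.node (.node (.leaf 0x0) (.leaf 0x1001)) (.leaf 0x3001)) (.node (.node (.leaf 0x2001) (.leaf 0xd9003)) (.leaf 0xd9003))) (.node (.node (.node (.leaf 0x0) (.leaf 0x3001)) (.leaf 0x3001)) (.node (.node (.leaf 0x19002) (.leaf 0x1b002)) (.leaf 0x2001)))) (.node (.node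 (.node (.node (.leaf 0x0) (.leaf 0x2001)) (.leaf 0x1001)) (.node (.node (.leaf 0x0) (.leaf 0x2001)) (.leaf 0x11002))) (.node (.node (.node (.leaf 0x0) (.leaf 0x19002)) (.leaf 0x1b002)) (.node (.leaf 0x1001) (.leaf 0x19002)))))) (.node (.node (.node (.node (.node (.node (.leaf 0x0) (.leaf 0x11002)) (.leaf 0x0)) (.node (.node (.leaf 0x1001) (.leaf 0x1001)) (.leaf 0x0))) (.node (.node (.node (.leaf 0x0) (.leaf 0x3001)) (.leaf 0x11002)) (.node (.node (.leaf 0x2001) (.leaf 0x19002)) (.leaf 0xd9003)))) (.node (.node (.node (.node (.leaf 0x0) (.leaf 0x1001)) (.leaf 0x0)) (.node (.node (.leaf 0x0) (.leaf 0x1001)) (.leaf 0x19002))) (.node (.node (.node (.leaf 0xd9003) (.leaf 0x0)) (.leaf 0x3001)) (.node (.leaf 0x0) (.leaf 0x1b002))))) (.node (.node (.node (.node (.node (.leaf 0x0) (.leaf 0xd9003)) (.leaf 0x0)) (.node (.node (.leaf 0x0) (.leaf 0x1b002)) (.leaf 0x3001))) (.node (.node (.node (.leaf 0x0) (.leaf 0xd9003)) (.leaf 0x0)) (.node (.node (.leaf 0x0) (.leaf 0x11002))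 (.leaf 0x2001)))) (.node (.node (.node (.node (.leaf 0x0) (.leaf 0x0)) (.leaf 0x1001)) (.node (.node (.leaf 0x19002) (.leaf 0x1b002)) (.leaf 0x0))) (.node (.node (.node (.leaf 0x0) (.leaf 0x0)) (.leaf 0x3001)) (.node (.leaf 0x3001) (.leaf 0x3001))))))) (.node (.node (.node (.node (.node (.node (.node (.leaf 0x1b002) (.leaf 0x19002)) (.leaf 0x2001)) (.node (.node (.leaf 0xd9003) (.leaf 0x0)) (.leaf 0xd9003))) (.node (.node (.node (.leaf 0x0) (.leaf 0x1b002)) (.leaf 0x19002)) (.node (.node (.leaf 0x1001) (.leaf 0x1001)) (.leaf 0x19002)))) (.node (.node (.node (.node (.leaf 0x0) (.leaf 0x1001)) (.leaf 0x1001)) (.node (.node (.leaf 0x0) (.leaf 0x1001)) (.leaf 0x2001))) (.node (.node (.node (.leaf 0x0) (.leaf 0x0)) (.leaf 0x0)) (.node (.leaf 0x0) (.leaf 0x3001))))) (.node (.node (.node (.node (.node (.leaf 0x0) (.leaf 0x0)) (.leaf 0xd9003)) (.node (.node (.leaf 0x0) (.leaf 0x11002)) (.leaf 0x0))) (.node (.node (.node (.leaf 0x0) (.leaf 0x0)) (.leaf 0x0)) (.node (.node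 (.leaf 0x0) (.leaf 0x1001)) (.leaf 0x0)))) (.node (.node (.node (.node (.leaf 0x0) (.leaf 0xd9003)) (.leaf 0x11002)) (.node (.node (.leaf 0x0) (.leaf 0x0)) (.leaf 0x11002))) (.node (.node (.node (.leaf 0x0) (.leaf 0x0)) (.leaf 0x2001)) (.node (.leaf 0x1b002) (.leaf 0x19002)))))) (.node (.node (.node (.node (.node (.node (.leaf 0x0) (.leaf 0x1001)) (.leaf 0x19002)) (.node (.node (.leaf 0x2001) (.leaf 0x1b002)) (.leaf 0x1001))) (.node (.node (.node (.leaf 0x0) (.leaf 0xd9003)) (.leaf 0x0)) (.node (.node (.leaf 0x2001) (.leaf 0x1001)) (.leaf 0x3001)))) (.node (.node (.node (.node (.leaf 0x0) (.leaf 0x0)) (.leaf 0x0)) (.node (.node (.leaf 0x0) (.leaf 0xd9003)) (.leaf 0x1b002))) (.node (.node (.node (.leaf 0x0) (.leaf 0xd9003)) (.leaf 0x0)) (.node (.leaf 0x1b002) (.leaf 0x11002))))) (.node (.node (.node (.node (.node (.leaf 0x0) (.leaf 0x0)) (.leaf 0x1001)) (.node (.node (.leaf 0xd9003) (.leaf 0x19002)) (.leaf 0x1b002))) (.node (.node (.node (.leaf 0x0) (.leaf 0xd9003))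 (.leaf 0x2001)) (.node (.leaf 0x1001) (.leaf 0x19002)))) (.node (.node (.node (.node (.leaf 0x0) (.leaf 0xd9003)) (.leaf 0xd9003)) (.node (.node (.leaf 0x1001) (.leaf 0x1001)) (.leaf 0xd9003))) (.node (.node (.node (.leaf 0x0) (.leaf 0x1b002)) (.leaf 0x0)) (.node (.leaf 0x0) (.leaf 0x11002)))))))

/-- data -/
def lab1p4 : Trie (ℕ) := .node (.node (.node (.node (.node (.node (.node (.node (.leaf 0x0) (.leaf 0x2001)) (.leaf 0x0)) (.node (.node (.leaf 0x11002) (.leaf 0x0)) (.leaf 0x2001))) (.node (.node (.node (.leaf 0x0) (.leaf 0x3001)) (.leaf 0x0)) (.node (.node (.leaf 0x0) (.leaf 0x0)) (.leaf 0x0)))) (.node (.node (.node (.node (.leaf 0x0) (.leaf 0xd9003)) (.leaf 0x0)) (.node (.node (.leaf 0x0) (.leaf 0x3001)) (.leaf 0x3001))) (.node (.node (.node (.leaf 0x11002) (.leaf 0x1001)) (.leaf 0x0)) (.node (.leaf 0x2001) (.leaf 0x2001))))) (.node (.node (.node (.node (.node (.leaf 0x0) (.leaf 0x2001)) (.leaf 0x0)) (.node (.node (.leaf 0x0) (.leaf 0x0)) (.leaf 0x1b002)))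 (.node (.node (.node (.leaf 0x0) (.leaf 0xd9003)) (.leaf 0x1b002)) (.node (.node (.leaf 0x0) (.leaf 0x19002)) (.leaf 0xd9003)))) (.node (.node (.node (.node (.leaf 0x0) (.leaf 0x19002)) (.leaf 0x0)) (.node (.node (.leaf 0x0) (.leaf 0x19002)) (.leaf 0x1001))) (.node (.node (.node (.leaf 0x0) (.leaf 0x1b002)) (.leaf 0x3001)) (.node (.leaf 0x0) (.leaf 0x2001)))))) (.node (.node (.node (.node (.node (.node (.leaf 0x0) (.leaf 0x19002)) (.leaf 0x0)) (.node (.node (.leaf 0x1001) (.leaf 0xd9003)) (.leaf 0xd9003))) (.node (.node (.node (.leaf 0x0) (.leaf 0x0)) (.leaf 0x3001)) (.node (.node (.leaf 0x11002) (.leaf 0x2001)) (.leaf 0x1001)))) (.node (.node (.node (.node (.leaf 0x0) (.leaf 0x3001)) (.leaf 0x0)) (.node (.node (.leaf 0x0) (.leaf 0xd9003)) (.leaf 0x3001))) (.node (.node (.node (.leaf 0x1001) (.leaf 0x2001)) (.leaf 0x11002)) (.node (.leaf 0x2001) (.leaf 0x11002))))) (.node (.node (.node (.node (.node (.leaf 0x0) (.leaf 0xd9003)) (.leaf 0x3001)) (.node (.node (.leaf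 0x0) (.leaf 0x11002)) (.leaf 0x3001))) (.node (.node (.node (.leaf 0x0) (.leaf 0x19002)) (.leaf 0x0)) (.node (.node (.leaf 0x0) (.leaf 0x19002)) (.leaf 0x2001)))) (.node (.node (.node (.node (.leaf 0x0) (.leaf 0x0)) (.leaf 0x1001)) (.node (.node (.leaf 0x3001) (.leaf 0x3001)) (.leaf 0x1b002))) (.node (.node (.node (.leaf 0x0) (.leaf 0x19002)) (.leaf 0x0)) (.node (.leaf 0x1001) (.leaf 0x19002))))))) (.node (.node (.node (.node (.node (.node (.node (.leaf 0x0) (.leaf 0x1b002)) (.leaf 0x0)) (.node (.node (.leaf 0x2001) (.leaf 0x19002)) (.leaf 0x11002))) (.node (.node (.node (.leaf 0x0) (.leaf 0x11002)) (.leaf 0x0)) (.node (.node (.leaf 0x0) (.leaf 0x19002)) (.leaf 0x2001)))) (.node (.node (.node (.node (.leaf 0x0) (.leaf 0x2001)) (.leaf 0x1001)) (.node (.node (.leaf 0x0) (.leaf 0x19002)) (.leaf 0x0))) (.node (.node (.node (.leaf 0x0) (.leaf 0x1b002)) (.leaf 0x11002)) (.node (.leaf 0x0) (.leaf 0x1001))))) (.node (.node (.node (.node (.node (.leaf 0x0) (.leaf 0x3001))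 (.leaf 0x1b002)) (.node (.node (.leaf 0x0) (.leaf 0x19002)) (.leaf 0x11002))) (.node (.node (.node (.leaf 0x0) (.leaf 0x1b002)) (.leaf 0x2001)) (.node (.node (.leaf 0x3001) (.leaf 0x1001)) (.leaf 0x1001)))) (.node (.node (.node (.node (.leaf 0x11002) (.leaf 0x0)) (.leaf 0x1b002)) (.node (.node (.leaf 0x1b002) (.leaf 0x1b002)) (.leaf 0x11002))) (.node (.node (.node (.leaf 0x0) (.leaf 0x2001)) (.leaf 0x0)) (.node (.leaf 0x2001) (.leaf 0xd9003)))))) (.node (.node (.node (.node (.node (.node (.leaf 0x0) (.leaf 0xd9003)) (.leaf 0x11002)) (.node (.node (.leaf 0x19002) (.leaf 0x2001)) (.leaf 0x3001))) (.node (.node (.node (.leaf 0x0) (.leaf 0x2001)) (.leaf 0x2001)) (.node (.node (.leaf 0x11002) (.leaf 0x1001)) (.leaf 0x0)))) (.node (.node (.node (.node (.leaf 0x0) (.leaf 0x1b002)) (.leaf 0x3001)) (.node (.node (.leaf 0x11002) (.leaf 0x0)) (.leaf 0x0))) (.node (.node (.node (.leaf 0x0) (.leaf 0x0)) (.leaf 0x2001)) (.node (.leaf 0x0) (.leaf 0x3001))))) (.node (.node (.node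 (.node (.node (.leaf 0x0) (.leaf 0x0)) (.leaf 0x1b002)) (.node (.node (.leaf 0x0) (.leaf 0x1b002)) (.leaf 0x1001))) (.node (.node (.node (.leaf 0x0) (.leaf 0x2001)) (.leaf 0x1b002)) (.node (.leaf 0x0) (.leaf 0x3001)))) (.node (.node (.node (.node (.leaf 0x0) (.leaf 0x2001)) (.leaf 0x0)) (.node (.node (.leaf 0x0) (.leaf 0xd9003)) (.leaf 0x1b002))) (.node (.node (.node (.leaf 0x2001) (.leaf 0x2001)) (.leaf 0x3001)) (.node (.leaf 0xd9003) (.leaf 0x19002)))))))

/-- data -/
def lab1p5 : Trie (ℕ) := .node (.node (.node (.node (.node (.node (.node (.node (.leaf 0x0) (.leaf 0x1b002)) (.leaf 0x2001)) (.node (.node (.leaf 0x0) (.leaf 0x0)) (.leaf 0x11002))) (.node (.node (.node (.leaf 0x0) (.leaf 0x3001)) (.leaf 0x3001)) (.node (.node (.leaf 0x19002) (.leaf 0x1001)) (.leaf 0x3001)))) (.node (.node (.node (.node (.leaf 0x0) (.leaf 0x3001)) (.leaf 0x0)) (.node (.node (.leaf 0x0) (.leaf 0x2001)) (.leaf 0x19002))) (.node (.node (.node (.leaf 0x0) (.leaf 0x19002)) (.leaf 0x2001))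 (.node (.leaf 0x0) (.leaf 0x2001))))) (.node (.node (.node (.node (.node (.leaf 0x0) (.leaf 0x11002)) (.leaf 0x11002)) (.node (.node (.leaf 0x0) (.leaf 0x0)) (.leaf 0x0))) (.node (.node (.node (.leaf 0x0) (.leaf 0x1b002)) (.leaf 0x0)) (.node (.node (.leaf 0x0) (.leaf 0x0)) (.leaf 0x19002)))) (.node (.node (.node (.node (.leaf 0x0) (.leaf 0x3001)) (.leaf 0x2001)) (.node (.node (.leaf 0x1001) (.leaf 0x1b002)) (.leaf 0x11002))) (.node (.node (.node (.leaf 0x0) (.leaf 0x1b002)) (.leaf 0x11002)) (.node (.leaf 0x3001) (.leaf 0x0)))))) (.node (.node (.node (.node (.node (.node (.leaf 0x0) (.leaf 0x2001)) (.leaf 0x0)) (.node (.node (.leaf 0x0) (.leaf 0x0)) (.leaf 0x1001))) (.node (.node (.node (.leaf 0x0) (.leaf 0x0)) (.leaf 0x0)) (.node (.node (.leaf 0x0) (.leaf 0x0)) (.leaf 0x0)))) (.node (.node (.node (.node (.leaf 0x0) (.leaf 0xd9003)) (.leaf 0x11002)) (.node (.node (.leaf 0x1001) (.leaf 0x2001)) (.leaf 0xd9003))) (.node (.node (.node (.leaf 0x19002) (.leaf 0x0)) (.leaf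 0x0)) (.node (.leaf 0xd9003) (.leaf 0x19002))))) (.node (.node (.node (.node (.node (.leaf 0x0) (.leaf 0x3001)) (.leaf 0x0)) (.node (.node (.leaf 0x3001) (.leaf 0x3001)) (.leaf 0x0))) (.node (.node (.node (.leaf 0x0) (.leaf 0x0)) (.leaf 0x0)) (.node (.node (.leaf 0x0) (.leaf 0x11002)) (.leaf 0x0)))) (.node (.node (.node (.node (.leaf 0x0) (.leaf 0x11002)) (.leaf 0xd9003)) (.node (.node (.leaf 0xd9003) (.leaf 0x3001)) (.leaf 0x2001))) (.node (.node (.node (.leaf 0x19002) (.leaf 0x3001)) (.leaf 0x0)) (.node (.leaf 0x2001) (.leaf 0x0))))))) (.node (.node (.node (.node (.node (.node (.node (.leaf 0x0) (.leaf 0x1001)) (.leaf 0x0)) (.node (.node (.leaf 0x1001) (.leaf 0x3001)) (.leaf 0x1b002))) (.node (.node (.node (.leaf 0x0) (.leaf 0x0)) (.leaf 0x19002)) (.node (.node (.leaf 0xd9003) (.leaf 0x11002)) (.leaf 0xd9003)))) (.node (.node (.node (.node (.leaf 0x0) (.leaf 0x1b002)) (.leaf 0xd9003)) (.node (.node (.leaf 0x0) (.leaf 0xd9003)) (.leaf 0xd9003))) (.node (.node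 (.node (.leaf 0x0) (.leaf 0x11002)) (.leaf 0x1b002)) (.node (.leaf 0x0) (.leaf 0x0))))) (.node (.node (.node (.node (.node (.leaf 0x0) (.leaf 0x3001)) (.leaf 0x1b002)) (.node (.node (.leaf 0x0) (.leaf 0x0)) (.leaf 0x0))) (.node (.node (.node (.leaf 0x3001) (.leaf 0x1001)) (.leaf 0x0)) (.node (.node (.leaf 0x0) (.leaf 0x3001)) (.leaf 0x11002)))) (.node (.node (.node (.node (.leaf 0x0) (.leaf 0x3001)) (.leaf 0x11002)) (.node (.node (.leaf 0x0) (.leaf 0x1001)) (.leaf 0x1b002))) (.node (.node (.node (.leaf 0x0) (.leaf 0x2001)) (.leaf 0x0)) (.node (.leaf 0x2001) (.leaf 0x3001)))))) (.node (.node (.node (.node (.node (.node (.leaf 0x0) (.leaf 0x0)) (.leaf 0x0)) (.node (.node (.leaf 0x0) (.leaf 0x19002)) (.leaf 0x11002))) (.node (.node (.node (.leaf 0x0) (.leaf 0x1b002)) (.leaf 0x0)) (.node (.node (.leaf 0x0) (.leaf 0x0)) (.leaf 0x11002)))) (.node (.node (.node (.node (.leaf 0x0) (.leaf 0x0)) (.leaf 0x0)) (.node (.node (.leaf 0x0) (.leaf 0x2001)) (.leaf 0x0))) (.node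 (.node (.node (.leaf 0x0) (.leaf 0x3001)) (.leaf 0x0)) (.node (.leaf 0x0) (.leaf 0x3001))))) (.node (.node (.node (.node (.node (.leaf 0x0) (.leaf 0x0)) (.leaf 0x2001)) (.node (.node (.leaf 0x2001) (.leaf 0x1b002)) (.leaf 0x1001))) (.node (.node (.node (.leaf 0x0) (.leaf 0x19002)) (.leaf 0x0)) (.node (.leaf 0x0) (.leaf 0x19002)))) (.node (.node (.node (.node (.leaf 0x0) (.leaf 0x3001)) (.leaf 0x0)) (.node (.node (.leaf 0x0) (.leaf 0xd9003)) (.leaf 0x19002))) (.node (.node (.node (.leaf 0x0) (.leaf 0x2001)) (.leaf 0x0)) (.node (.leaf 0x0) (.leaf 0x11002)))))))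

/-- data -/
def lab1p6 : Trie (ℕ) := .node (.node (.node (.node (.node (.node (.node (.node (.leaf 0x0) (.leaf 0x11002)) (.leaf 0x2001)) (.node (.node (.leaf 0x0) (.leaf 0x3001)) (.leaf 0x3001))) (.node (.node (.node (.leaf 0x0) (.leaf 0xd9003)) (.leaf 0x1b002)) (.node (.node (.leaf 0x2001) (.leaf 0x1b002)) (.leaf 0x11002)))) (.node (.node (.node (.node (.leaf 0x0) (.leaf 0x0)) (.leaf 0x1b002)) (.node (.node (.leaf 0x0) (.leaf 0x1b002)) (.leaf 0x1001))) (.node (.node (.node (.leaf 0x0) (.leaf 0xd9003)) (.leaf 0x2001)) (.node (.leaf 0x0) (.leaf 0x1b002))))) (.node (.node (.node (.node (.node (.leaf 0x0) (.leaf 0x1b002)) (.leaf 0x2001)) (.node (.node (.leaf 0x0) (.leaf 0x19002)) (.leaf 0x19002))) (.node (.node (.node (.leaf 0x0) (.leaf 0x11002)) (.leaf 0x19002)) (.node (.node (.leaf 0x0) (.leaf 0x2001)) (.leaf 0x11002)))) (.node (.node (.node (.node (.leaf 0x0) (.leaf 0x3001)) (.leaf 0x11002)) (.node (.node (.leaf 0x0) (.leaf 0x11002)) (.leaf 0x3001))) (.node (.node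 (.node (.leaf 0x0) (.leaf 0x2001)) (.leaf 0x11002)) (.node (.leaf 0x0) (.leaf 0x2001)))))) (.node (.node (.node (.node (.node (.node (.leaf 0x0) (.leaf 0x11002)) (.leaf 0x0)) (.node (.node (.leaf 0x0) (.leaf 0x11002)) (.leaf 0x1001))) (.node (.node (.node (.leaf 0x11002) (.leaf 0x11002)) (.leaf 0x3001)) (.node (.node (.leaf 0x1001) (.leaf 0x2001)) (.leaf 0x0)))) (.node (.node (.node (.node (.leaf 0x0) (.leaf 0x3001)) (.leaf 0x0)) (.node (.node (.leaf 0x0) (.leaf 0x0)) (.leaf 0x1b002))) (.node (.node (.node (.leaf 0x0) (.leaf 0xd9003)) (.leaf 0x0)) (.node (.leaf 0x11002) (.leaf 0x2001))))) (.node (.node (.node (.node (.node (.leaf 0x0) (.leaf 0x0)) (.leaf 0x2001)) (.node (.node (.leaf 0x0) (.leaf 0x0)) (.leaf 0x2001))) (.node (.node (.node (.leaf 0x0) (.leaf 0x1001)) (.leaf 0x0)) (.node (.node (.leaf 0x3001) (.leaf 0x1001)) (.leaf 0x1001)))) (.node (.node (.node (.node (.leaf 0x0) (.leaf 0x19002)) (.leaf 0x11002)) (.node (.node (.leaf 0x11002) (.leaf 0xd9003)) (.leaf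 0x1001))) (.node (.node (.node (.leaf 0x0) (.leaf 0x3001)) (.leaf 0x0)) (.node (.leaf 0x19002) (.leaf 0x3001))))))) (.node (.node (.node (.node (.node (.node (.node (.leaf 0x1001) (.leaf 0x0)) (.leaf 0x0)) (.node (.node (.leaf 0x0) (.leaf 0x0)) (.leaf 0x0))) (.node (.node (.node (.leaf 0x1b002) (.leaf 0x1001)) (.leaf 0x0)) (.node (.node (.leaf 0x0) (.leaf 0x3001)) (.leaf 0x19002)))) (.node (.node (.node (.node (.leaf 0x0) (.leaf 0x1b002)) (.leaf 0xd9003)) (.node (.node (.leaf 0x0) (.leaf 0x19002)) (.leaf 0x1001))) (.node (.node (.node (.leaf 0x0) (.leaf 0xd9003)) (.leaf 0x0)) (.node (.leaf 0x0) (.leaf 0xd9003))))) (.node (.node (.node (.node (.node (.leaf 0x0) (.leaf 0x19002)) (.leaf 0x19002)) (.node (.node (.leaf 0x1001) (.leaf 0x1b002)) (.leaf 0x1b002))) (.node (.node (.node (.leaf 0x0) (.leaf 0xd9003)) (.leaf 0x3001)) (.node (.node (.leaf 0x2001) (.leaf 0x2001)) (.leaf 0xd9003)))) (.node (.node (.node (.node (.leaf 0x0) (.leaf 0xd9003)) (.leaf 0x0)) (.node (.node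 (.leaf 0x11002) (.leaf 0x0)) (.leaf 0x2001))) (.node (.node (.node (.leaf 0x0) (.leaf 0xd9003)) (.leaf 0x19002)) (.node (.leaf 0x0) (.leaf 0x0)))))) (.node (.node (.node (.node (.node (.node (.leaf 0x0) (.leaf 0x2001)) (.leaf 0x0)) (.node (.node (.leaf 0x0) (.leaf 0x19002)) (.leaf 0x19002))) (.node (.node (.node (.leaf 0x19002) (.leaf 0x1001)) (.leaf 0xd9003)) (.node (.node (.leaf 0x0) (.leaf 0x11002)) (.leaf 0x19002)))) (.node (.node (.node (.node (.leaf 0x0) (.leaf 0xd9003)) (.leaf 0x0)) (.node (.node (.leaf 0x2001) (.leaf 0x3001)) (.leaf 0x11002))) (.node (.node (.node (.leaf 0x1001) (.leaf 0x3001)) (.leaf 0x1b002)) (.node (.leaf 0x0) (.leaf 0x0))))) (.node (.node (.node (.node (.node (.leaf 0x0) (.leaf 0x0)) (.leaf 0x11002)) (.node (.node (.leaf 0xd9003) (.leaf 0x2001)) (.leaf 0x0))) (.node (.node (.node (.leaf 0x0) (.leaf 0x19002)) (.leaf 0x19002)) (.node (.leaf 0x0) (.leaf 0x3001)))) (.node (.node (.node (.node (.leaf 0x0) (.leaf 0x2001)) (.leaf 0x1001))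 (.node (.node (.leaf 0x0) (.leaf 0x19002)) (.leaf 0x2001))) (.node (.node (.node (.leaf 0x0) (.leaf 0x2001)) (.leaf 0x3001)) (.node (.leaf 0x1001) (.leaf 0x0)))))))

/-- data -/
def lab1p7 : Trie (ℕ) := .node (.node (.node (.node (.node (.node (.node (.node (.leaf 0x0) (.leaf 0x0)) (.leaf 0x11002)) (.node (.node (.leaf 0x0) (.leaf 0x19002)) (.leaf 0x11002))) (.node (.node (.node (.leaf 0x0) (.leaf 0x3001)) (.leaf 0x1001)) (.node (.node (.leaf 0x2001) (.leaf 0x1b002)) (.leaf 0x1001)))) (.node (.node (.node (.node (.leaf 0x0) (.leaf 0x1b002)) (.leaf 0x1001)) (.node (.node (.leaf 0x0) (.leaf 0x19002)) (.leaf 0x19002))) (.node (.node (.node (.leaf 0x0) (.leaf 0x19002)) (.leaf 0x0)) (.node (.leaf 0x0) (.leaf 0x11002))))) (.node (.node (.node (.node (.node (.leaf 0x0) (.leaf 0x1001)) (.leaf 0xd9003)) (.node (.node (.leaf 0x2001) (.leaf 0x0)) (.leaf 0x3001))) (.node (.node (.node (.leaf 0x0) (.leaf 0x11002)) (.leaf 0x19002)) (.node (.node (.leaf 0x0) (.leaf 0x1001)) (.leaf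 0x0)))) (.node (.node (.node (.node (.leaf 0x0) (.leaf 0x3001)) (.leaf 0x0)) (.node (.node (.leaf 0x1b002) (.leaf 0x19002)) (.leaf 0x1b002))) (.node (.node (.node (.leaf 0x0) (.leaf 0x11002)) (.leaf 0x0)) (.node (.leaf 0x2001) (.leaf 0x1001)))))) (.node (.node (.node (.node (.node (.node (.leaf 0x0) (.leaf 0x0)) (.leaf 0x11002)) (.node (.node (.leaf 0x0) (.leaf 0x3001)) (.leaf 0x3001))) (.node (.node (.node (.leaf 0x0) (.leaf 0x2001)) (.leaf 0x0)) (.node (.node (.leaf 0x0) (.leaf 0xd9003)) (.leaf 0x11002)))) (.node (.node (.node (.node (.leaf 0x0) (.leaf 0x1b002)) (.leaf 0x2001)) (.node (.node (.leaf 0x1001) (.leaf 0x3001)) (.leaf 0xd9003))) (.node (.node (.node (.leaf 0x0) (.leaf 0x11002)) (.leaf 0xd9003)) (.node (.leaf 0x0) (.leaf 0x11002))))) (.node (.node (.node (.node (.node (.leaf 0x0) (.leaf 0x2001)) (.leaf 0x19002)) (.node (.node (.leaf 0x0) (.leaf 0x1001)) (.leaf 0x11002))) (.node (.node (.node (.leaf 0x0) (.leaf 0x0)) (.leaf 0x0)) (.node (.node (.leaf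 0x0) (.leaf 0x1b002)) (.leaf 0x0)))) (.node (.node (.node (.node (.leaf 0x0) (.leaf 0x0)) (.leaf 0x1001)) (.node (.node (.leaf 0x11002) (.leaf 0x11002)) (.leaf 0x19002))) (.node (.node (.node (.leaf 0x0) (.leaf 0x2001)) (.leaf 0xd9003)) (.node (.leaf 0x2001) (.leaf 0x2001))))))) (.node (.node (.node (.node (.node (.node (.node (.leaf 0x0) (.leaf 0x0)) (.leaf 0x19002)) (.node (.node (.leaf 0x1001) (.leaf 0x2001)) (.leaf 0x1001))) (.node (.node (.node (.leaf 0x0) (.leaf 0x2001)) (.leaf 0x0)) (.node (.node (.leaf 0x0) (.leaf 0x3001)) (.leaf 0x19002)))) (.node (.node (.node (.node (.leaf 0x0) (.leaf 0x3001)) (.leaf 0x0)) (.node (.node (.leaf 0x0) (.leaf 0x3001)) (.leaf 0x3001))) (.node (.node (.node (.leaf 0x0) (.leaf 0x1001)) (.leaf 0x2001)) (.node (.leaf 0x0) (.leaf 0x19002))))) (.node (.node (.node (.node (.node (.leaf 0x0) (.leaf 0x11002)) (.leaf 0xd9003)) (.node (.node (.leaf 0x0) (.leaf 0x3001)) (.leaf 0x0))) (.node (.node (.node (.leaf 0xd9003) (.leaf 0x2001))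 (.leaf 0x2001)) (.node (.node (.leaf 0x0) (.leaf 0x2001)) (.leaf 0x0)))) (.node (.node (.node (.node (.leaf 0x11002) (.leaf 0x0)) (.leaf 0x3001)) (.node (.node (.leaf 0x19002) (.leaf 0x1b002)) (.leaf 0x0))) (.node (.node (.node (.leaf 0x0) (.leaf 0x19002)) (.leaf 0x11002)) (.node (.leaf 0x2001) (.leaf 0x19002)))))) (.node (.node (.node (.node (.node (.node (.leaf 0x0) (.leaf 0xd9003)) (.leaf 0x1001)) (.node (.node (.leaf 0x19002) (.leaf 0x19002)) (.leaf 0x2001))) (.node (.node (.node (.leaf 0x0) (.leaf 0x11002)) (.leaf 0x1001)) (.node (.node (.leaf 0x19002) (.leaf 0x0)) (.leaf 0x1b002)))) (.node (.node (.node (.node (.leaf 0x0) (.leaf 0xd9003)) (.leaf 0xd9003)) (.node (.node (.leaf 0x0) (.leaf 0x0)) (.leaf 0x1001))) (.node (.node (.node (.leaf 0x0) (.leaf 0x19002)) (.leaf 0x1001)) (.node (.leaf 0xd9003) (.leaf 0xd9003))))) (.node (.node (.node (.node (.node (.leaf 0x0) (.leaf 0x1001)) (.leaf 0x0)) (.node (.node (.leaf 0x0) (.leaf 0x11002)) (.leaf 0x0))) (.node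 (.node (.node (.leaf 0x0) (.leaf 0x1001)) (.leaf 0x2001)) (.node (.leaf 0x1b002) (.leaf 0x11002)))) (.node (.node (.node (.node (.leaf 0x0) (.leaf 0x3001)) (.leaf 0xd9003)) (.node (.node (.leaf 0x0) (.leaf 0x3001)) (.leaf 0x2001))) (.node (.node (.node (.leaf 0x0) (.leaf 0x0)) (.leaf 0x11002)) (.node (.leaf 0x3001) (.leaf 0x0)))))))

/-- data -/
def lab1p8 : Trie (ℕ) := .node (.node (.node (.node (.node (.node (.node (.node (.leaf 0x0) (.leaf 0x2001)) (.leaf 0x3001)) (.node (.node (.leaf 0x0) (.leaf 0x1001)) (.leaf 0x0))) (.node (.node (.node (.leaf 0x0) (.leaf 0x0)) (.leaf 0x0)) (.node (.node (.leaf 0xd9003) (.leaf 0x3001)) (.leaf 0x1001)))) (.node (.node (.node (.node (.leaf 0x0) (.leaf 0x1001)) (.leaf 0x0)) (.node (.node (.leaf 0x0) (.leaf 0x0)) (.leaf 0x0))) (.node (.node (.node (.leaf 0x0) (.leaf 0x3001)) (.leaf 0xd9003)) (.node (.leaf 0x2001) (.leaf 0x0))))) (.node (.node (.node (.node (.node (.leaf 0x0) (.leaf 0x19002)) (.leaf 0xd9003)) (.node (.node (.leaf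 0x0) (.leaf 0x1b002)) (.leaf 0x0))) (.node (.node (.node (.leaf 0x0) (.leaf 0x0)) (.leaf 0x19002)) (.node (.node (.leaf 0x3001) (.leaf 0x3001)) (.leaf 0xd9003)))) (.node (.node (.node (.node (.leaf 0x0) (.leaf 0x11002)) (.leaf 0x19002)) (.node (.node (.leaf 0x0) (.leaf 0x1b002)) (.leaf 0x0))) (.node (.node (.node (.leaf 0x0) (.leaf 0xd9003)) (.leaf 0x1001)) (.node (.leaf 0x1001) (.leaf 0x1001)))))) (.node (.node (.node (.node (.node (.node (.leaf 0x0) (.leaf 0x11002)) (.leaf 0x1001)) (.node (.node (.leaf 0x0) (.leaf 0x0)) (.leaf 0x0))) (.node (.node (.node (.leaf 0x0) (.leaf 0x1b002)) (.leaf 0x2001)) (.node (.node (.leaf 0x1001) (.leaf 0x11002)) (.leaf 0x3001)))) (.node (.node (.node (.node (.leaf 0xd9003) (.leaf 0x19002)) (.leaf 0x3001)) (.node (.node (.leaf 0x0) (.leaf 0x0)) (.leaf 0x0))) (.node (.node (.node (.leaf 0x1b002) (.leaf 0xd9003)) (.leaf 0x0)) (.node (.leaf 0x0) (.leaf 0x1001))))) (.node (.node (.node (.node (.node (.leaf 0x0) (.leaf 0x19002)) (.leaf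 0x1001)) (.node (.node (.leaf 0x19002) (.leaf 0x3001)) (.leaf 0x19002))) (.node (.node (.node (.leaf 0x1001) (.leaf 0x11002)) (.leaf 0x2001)) (.node (.node (.leaf 0x0) (.leaf 0x1b002)) (.leaf 0x3001)))) (.node (.node (.node (.node (.leaf 0x0) (.leaf 0x0)) (.leaf 0x0)) (.node (.node (.leaf 0x3001) (.leaf 0x0)) (.leaf 0x19002))) (.node (.node (.node (.leaf 0x0) (.leaf 0x19002)) (.leaf 0x0)) (.node (.leaf 0x11002) (.leaf 0x11002))))))) (.node (.node (.node (.node (.node (.node (.node (.leaf 0x0) (.leaf 0x1001)) (.leaf 0x2001)) (.node (.node (.leaf 0x0) (.leaf 0x11002)) (.leaf 0x11002))) (.node (.node (.node (.leaf 0x0) (.leaf 0xd9003)) (.leaf 0x3001)) (.node (.node (.leaf 0x0) (.leaf 0x3001)) (.leaf 0x2001)))) (.node (.node (.node (.node (.leaf 0x0) (.leaf 0x19002)) (.leaf 0x2001)) (.node (.node (.leaf 0x1001) (.leaf 0xd9003)) (.leaf 0xd9003))) (.node (.node (.node (.leaf 0x0) (.leaf 0x11002)) (.leaf 0xd9003)) (.node (.leaf 0x1b002) (.leaf 0x0))))) (.node (.node (.node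 (.node (.node (.leaf 0x0) (.leaf 0x3001)) (.leaf 0x0)) (.node (.node (.leaf 0x0) (.leaf 0x1b002)) (.leaf 0x1b002))) (.node (.node (.node (.leaf 0x0) (.leaf 0x3001)) (.leaf 0x0)) (.node (.node (.leaf 0x0) (.leaf 0x19002)) (.leaf 0x3001)))) (.node (.node (.node (.node (.leaf 0x0) (.leaf 0x1b002)) (.leaf 0x11002)) (.node (.node (.leaf 0x1001) (.leaf 0x0)) (.leaf 0xd9003))) (.node (.node (.node (.leaf 0x0) (.leaf 0x1001)) (.leaf 0x11002)) (.node (.leaf 0x11002) (.leaf 0x0)))))) (.node (.node (.node (.node (.node (.node (.leaf 0x3001) (.leaf 0x11002)) (.leaf 0x0)) (.node (.node (.leaf 0x0) (.leaf 0x11002)) (.leaf 0x0))) (.node (.node (.node (.leaf 0x0) (.leaf 0x0)) (.leaf 0x19002)) (.node (.node (.leaf 0x0) (.leaf 0xd9003)) (.leaf 0x0)))) (.node (.node (.node (.node (.leaf 0x0) (.leaf 0x11002)) (.leaf 0x1001)) (.node (.node (.leaf 0x0) (.leaf 0x1b002)) (.leaf 0x11002))) (.node (.node (.node (.leaf 0x0) (.leaf 0x11002)) (.leaf 0x11002)) (.node (.leaf 0x0) (.leaf 0x11002)))))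 (.node (.node (.node (.node (.node (.leaf 0x0) (.leaf 0x3001)) (.leaf 0x1001)) (.node (.node (.leaf 0x0) (.leaf 0x11002)) (.leaf 0x11002))) (.node (.node (.node (.leaf 0x0) (.leaf 0x1b002)) (.leaf 0x11002)) (.node (.leaf 0x0) (.leaf 0x0)))) (.node (.node (.node (.node (.leaf 0x0) (.leaf 0x19002)) (.leaf 0x2001)) (.node (.node (.leaf 0x19002) (.leaf 0x19002)) (.leaf 0x0))) (.node (.node (.node (.leaf 0x0) (.leaf 0x1001)) (.leaf 0x0)) (.node (.leaf 0x0) (.leaf 0x0)))))))

/-- data -/
def lab1p9 : Trie (ℕ) := .node (.node (.node (.node (.node (.node (.node (.node (.leaf 0x0) (.leaf 0x11002)) (.leaf 0x0)) (.node (.node (.leaf 0x0) (.leaf 0x19002)) (.leaf 0x0))) (.node (.node (.node (.leaf 0x1001) (.leaf 0xd9003)) (.leaf 0x1b002)) (.node (.node (.leaf 0x0) (.leaf 0x11002)) (.leaf 0x11002)))) (.node (.node (.node (.node (.leaf 0x0) (.leaf 0x1b002)) (.leaf 0x0)) (.node (.node (.leaf 0x1001) (.leaf 0x19002)) (.leaf 0x11002))) (.node (.node (.node (.leaf 0x0) (.leaf 0x11002))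 (.leaf 0x0)) (.node (.leaf 0x0) (.leaf 0x0))))) (.node (.node (.node (.node (.node (.leaf 0x0) (.leaf 0x19002)) (.leaf 0xd9003)) (.node (.node (.leaf 0xd9003) (.leaf 0x3001)) (.leaf 0x3001))) (.node (.node (.node (.leaf 0x0) (.leaf 0x3001)) (.leaf 0x1001)) (.node (.node (.leaf 0x19002) (.leaf 0x19002)) (.leaf 0x19002)))) (.node (.node (.node (.node (.leaf 0x0) (.leaf 0x0)) (.leaf 0x11002)) (.node (.node (.leaf 0x0) (.leaf 0x3001)) (.leaf 0x2001))) (.node (.node (.node (.leaf 0x0) (.leaf 0x0)) (.leaf 0x19002)) (.node (.leaf 0x0) (.leaf 0x1001)))))) (.node (.node (.node (.node (.node (.node (.leaf 0x0) (.leaf 0x2001)) (.leaf 0x1b002)) (.node (.node (.leaf 0x0) (.leaf 0x19002)) (.leaf 0x19002))) (.node (.node (.node (.leaf 0x0) (.leaf 0xd9003)) (.leaf 0x2001)) (.node (.node (.leaf 0x0) (.leaf 0x2001)) (.leaf 0x0)))) (.node (.node (.node (.node (.leaf 0x0) (.leaf 0x3001)) (.leaf 0x0)) (.node (.node (.leaf 0x0) (.leaf 0x0)) (.leaf 0x1b002))) (.node (.node (.node (.leaf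 0x0) (.leaf 0x11002)) (.leaf 0x0)) (.node (.leaf 0x19002) (.leaf 0x0))))) (.node (.node (.node (.node (.node (.leaf 0x0) (.leaf 0xd9003)) (.leaf 0x0)) (.node (.node (.leaf 0x19002) (.leaf 0x11002)) (.leaf 0x11002))) (.node (.node (.node (.leaf 0x0) (.leaf 0xd9003)) (.leaf 0x3001)) (.node (.node (.leaf 0x3001) (.leaf 0x1b002)) (.leaf 0x19002)))) (.node (.node (.node (.node (.leaf 0x0) (.leaf 0xd9003)) (.leaf 0x0)) (.node (.node (.leaf 0x0) (.leaf 0x0)) (.leaf 0x11002))) (.node (.node (.node (.leaf 0x0) (.leaf 0x0)) (.leaf 0x11002)) (.node (.leaf 0xd9003) (.leaf 0x0))))))) (.node (.node (.node (.node (.node (.node (.node (.leaf 0x0) (.leaf 0x0)) (.leaf 0x0)) (.node (.node (.leaf 0x2001) (.leaf 0xd9003)) (.leaf 0x0))) (.node (.node (.node (.leaf 0x0) (.leaf 0x3001)) (.leaf 0x0)) (.node (.node (.leaf 0x0) (.leaf 0x0)) (.leaf 0x0)))) (.node (.node (.node (.node (.leaf 0x0) (.leaf 0x0)) (.leaf 0x3001)) (.node (.node (.leaf 0x11002) (.leaf 0x11002)) (.leaf 0x1001))) (.node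 (.node (.node (.leaf 0x2001) (.leaf 0x19002)) (.leaf 0x0)) (.node (.leaf 0x19002) (.leaf 0x0))))) (.node (.node (.node (.node (.node (.leaf 0x0) (.leaf 0x0)) (.leaf 0x2001)) (.node (.node (.leaf 0x0) (.leaf 0x1001)) (.leaf 0x11002))) (.node (.node (.node (.leaf 0x0) (.leaf 0xd9003)) (.leaf 0x11002)) (.node (.node (.leaf 0x1b002) (.leaf 0x1001)) (.leaf 0x3001)))) (.node (.node (.node (.node (.leaf 0x0) (.leaf 0x2001)) (.leaf 0x0)) (.node (.node (.leaf 0x2001) (.leaf 0x1001)) (.leaf 0x0))) (.node (.node (.node (.leaf 0x0) (.leaf 0x11002)) (.leaf 0x0)) (.node (.leaf 0x0) (.leaf 0x1001)))))) (.node (.node (.node (.node (.node (.node (.leaf 0x0) (.leaf 0xd9003)) (.leaf 0x3001)) (.node (.node (.leaf 0x0) (.leaf 0x11002)) (.leaf 0x0))) (.node (.node (.node (.leaf 0x0) (.leaf 0x3001)) (.leaf 0x1b002)) (.node (.node (.leaf 0x0) (.leaf 0x0)) (.leaf 0x1001)))) (.node (.node (.node (.node (.leaf 0x0) (.leaf 0x0)) (.leaf 0x0)) (.node (.node (.leaf 0x0) (.leaf 0x1001)) (.leaf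 0x0))) (.node (.node (.node (.leaf 0x0) (.leaf 0x3001)) (.leaf 0x1001)) (.node (.leaf 0x0) (.leaf 0x0))))) (.node (.node (.node (.node (.node (.leaf 0x0) (.leaf 0x1b002)) (.leaf 0x2001)) (.node (.node (.leaf 0x0) (.leaf 0x19002)) (.leaf 0x19002))) (.node (.node (.node (.leaf 0x0) (.leaf 0x11002)) (.leaf 0x11002)) (.node (.leaf 0xd9003) (.leaf 0x0)))) (.node (.node (.node (.node (.leaf 0x0) (.leaf 0x19002)) (.leaf 0x1b002)) (.node (.node (.leaf 0x0) (.leaf 0xd9003)) (.leaf 0x0))) (.node (.node (.node (.leaf 0x1001) (.leaf 0x0)) (.leaf 0x1001)) (.node (.leaf 0x0) (.leaf 0x3001)))))))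

/-- data -/
def lab1p10 : Trie (ℕ) := .node (.node (.node (.node (.node (.node (.node (.node (.leaf 0x0) (.leaf 0x1001)) (.leaf 0x0)) (.node (.node (.leaf 0x3001) (.leaf 0x1b002)) (.leaf 0x1b002))) (.node (.node (.node (.leaf 0x2001) (.leaf 0x19002)) (.leaf 0xd9003)) (.node (.node (.leaf 0x2001) (.leaf 0x1b002)) (.leaf 0x0)))) (.node (.node (.node (.node (.leaf 0x0) (.leaf 0x0)) (.leaf 0x2001)) (.node (.node (.leaf 0x0) (.leaf 0x1001)) (.leaf 0x0))) (.node (.node (.node (.leaf 0x0) (.leaf 0x1001)) (.leaf 0x0)) (.node (.leaf 0xd9003) (.leaf 0x3001))))) (.node (.node (.node (.node (.node (.leaf 0x0) (.leaf 0x2001)) (.leaf 0x0)) (.node (.node (.leaf 0x0) (.leaf 0x2001)) (.leaf 0x2001))) (.node (.node (.node (.leaf 0x0) (.leaf 0x1b002)) (.leaf 0x0)) (.node (.node (.leaf 0x3001) (.leaf 0x19002)) (.leaf 0x19002)))) (.node (.node (.node (.node (.leaf 0x11002) (.leaf 0x3001)) (.leaf 0x0)) (.node (.node (.leaf 0x0) (.leaf 0x0)) (.leaf 0x0))) (.node (.node (.node (.leaf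 0xd9003) (.leaf 0x1b002)) (.leaf 0xd9003)) (.node (.leaf 0x0) (.leaf 0x3001)))))) (.node (.node (.node (.node (.node (.node (.leaf 0x0) (.leaf 0x2001)) (.leaf 0x0)) (.node (.node (.leaf 0x0) (.leaf 0xd9003)) (.leaf 0x19002))) (.node (.node (.node (.leaf 0x0) (.leaf 0x1b002)) (.leaf 0x1001)) (.node (.node (.leaf 0x0) (.leaf 0x1b002)) (.leaf 0x1001)))) (.node (.node (.node (.node (.leaf 0x0) (.leaf 0x2001)) (.leaf 0x0)) (.node (.node (.leaf 0x0) (.leaf 0x11002)) (.leaf 0x0))) (.node (.node (.node (.leaf 0x0) (.leaf 0xd9003)) (.leaf 0x2001)) (.node (.leaf 0x0) (.leaf 0x19002))))) (.node (.node (.node (.node (.node (.leaf 0x0) (.leaf 0x1b002)) (.leaf 0x2001)) (.node (.node (.leaf 0x0) (.leaf 0xd9003)) (.leaf 0x0))) (.node (.node (.node (.leaf 0x0) (.leaf 0x19002)) (.leaf 0x0)) (.node (.node (.leaf 0x0) (.leaf 0x2001)) (.leaf 0x11002)))) (.node (.node (.node (.node (.leaf 0x0) (.leaf 0x2001)) (.leaf 0x19002)) (.node (.node (.leaf 0x1001) (.leaf 0x1b002)) (.leaf 0x1001)))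 (.node (.node (.node (.leaf 0x0) (.leaf 0x0)) (.leaf 0x0)) (.node (.leaf 0x0) (.leaf 0x11002))))))) (.node (.node (.node (.node (.node (.node (.node (.leaf 0x0) (.leaf 0x1001)) (.leaf 0x0)) (.node (.node (.leaf 0x0) (.leaf 0x1b002)) (.leaf 0x0))) (.node (.node (.node (.leaf 0x0) (.leaf 0xd9003)) (.leaf 0x0)) (.node (.node (.leaf 0x0) (.leaf 0xd9003)) (.leaf 0x11002)))) (.node (.node (.node (.node (.leaf 0x0) (.leaf 0xd9003)) (.leaf 0x11002)) (.node (.node (.leaf 0x0) (.leaf 0x2001)) (.leaf 0x19002))) (.node (.node (.node (.leaf 0x0) (.leaf 0x1b002)) (.leaf 0x1b002)) (.node (.leaf 0x2001) (.leaf 0x0))))) (.node (.node (.node (.node (.node (.leaf 0x0) (.leaf 0x19002)) (.leaf 0x0)) (.node (.node (.leaf 0x0) (.leaf 0x0)) (.leaf 0x2001))) (.node (.node (.node (.leaf 0x0) (.leaf 0x0)) (.leaf 0x1b002)) (.node (.node (.leaf 0x0) (.leaf 0x0)) (.leaf 0xd9003)))) (.node (.node (.node (.node (.leaf 0x0) (.leaf 0x11002)) (.leaf 0x3001)) (.node (.node (.leaf 0x0) (.leaf 0x3001))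 (.leaf 0x11002))) (.node (.node (.node (.leaf 0x0) (.leaf 0xd9003)) (.leaf 0x2001)) (.node (.leaf 0x0) (.leaf 0x1001)))))) (.node (.node (.node (.node (.node (.node (.leaf 0xd9003) (.leaf 0x0)) (.leaf 0x0)) (.node (.node (.leaf 0x0) (.leaf 0xd9003)) (.leaf 0x19002))) (.node (.node (.node (.leaf 0x3001) (.leaf 0x11002)) (.leaf 0x1001)) (.node (.node (.leaf 0x0) (.leaf 0x3001)) (.leaf 0x0)))) (.node (.node (.node (.node (.leaf 0x0) (.leaf 0x1b002)) (.leaf 0x0)) (.node (.node (.leaf 0xd9003) (.leaf 0x11002)) (.leaf 0x1001))) (.node (.node (.node (.leaf 0x0) (.leaf 0x19002)) (.leaf 0x2001)) (.node (.leaf 0x0) (.leaf 0x11002))))) (.node (.node (.node (.node (.node (.leaf 0x0) (.leaf 0xd9003)) (.leaf 0x0)) (.node (.node (.leaf 0x0) (.leaf 0x0)) (.leaf 0x3001))) (.node (.node (.node (.leaf 0x0) (.leaf 0x1001)) (.leaf 0x19002)) (.node (.leaf 0x11002) (.leaf 0x19002)))) (.node (.node (.node (.node (.leaf 0x0) (.leaf 0x19002)) (.leaf 0x0)) (.node (.node (.leaf 0x1b002) (.leaf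 0x3001)) (.leaf 0x2001))) (.node (.node (.node (.leaf 0xd9003) (.leaf 0x1001)) (.leaf 0x11002)) (.node (.leaf 0x19002) (.leaf 0x1001)))))))

/-- data -/
def lab1p11 : Trie (ℕ) := .node (.node (.node (.node (.node (.node (.node (.node (.leaf 0x0) (.leaf 0x0)) (.leaf 0xd9003)) (.node (.node (.leaf 0x2001) (.leaf 0x3001)) (.leaf 0x2001))) (.node (.node (.node (.leaf 0x0) (.leaf 0x2001)) (.leaf 0x11002)) (.node (.node (.leaf 0x0) (.leaf 0x0)) (.leaf 0x0)))) (.node (.node (.node (.node (.leaf 0x0) (.leaf 0x3001)) (.leaf 0x19002)) (.node (.node (.leaf 0x0) (.leaf 0x19002)) (.leaf 0x1b002))) (.node (.node (.node (.leaf 0x0) (.leaf 0x1b002)) (.leaf 0x1001)) (.node (.leaf 0x1b002) (.leaf 0xd9003))))) (.node (.node (.node (.node (.node (.leaf 0x0) (.leaf 0x0)) (.leaf 0x0)) (.node (.node (.leaf 0x0) (.leaf 0x19002)) (.leaf 0x19002))) (.node (.node (.node (.leaf 0x0) (.leaf 0xd9003)) (.leaf 0x19002)) (.node (.node (.leaf 0x0) (.leaf 0x1b002)) (.leaf 0x19002)))) (.node (.node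 (.node (.node (.leaf 0x0) (.leaf 0x1b002)) (.leaf 0x0)) (.node (.node (.leaf 0x1b002) (.leaf 0xd9003)) (.leaf 0x2001))) (.node (.node (.node (.leaf 0x0) (.leaf 0x0)) (.leaf 0x3001)) (.node (.leaf 0x11002) (.leaf 0x1001)))))) (.node (.node (.node (.node (.node (.node (.leaf 0x0) (.leaf 0x19002)) (.leaf 0xd9003)) (.node (.node (.leaf 0x0) (.leaf 0x2001)) (.leaf 0xd9003))) (.node (.node (.node (.leaf 0x0) (.leaf 0x11002)) (.leaf 0x0)) (.node (.node (.leaf 0x0) (.leaf 0x3001)) (.leaf 0x2001)))) (.node (.node (.node (.node (.leaf 0x0) (.leaf 0x19002)) (.leaf 0x3001)) (.node (.node (.leaf 0x0) (.leaf 0x19002)) (.leaf 0x3001))) (.node (.node (.node (.leaf 0xd9003) (.leaf 0x11002)) (.leaf 0x2001)) (.node (.leaf 0x0) (.leaf 0x0))))) (.node (.node (.node (.node (.node (.leaf 0x0) (.leaf 0x19002)) (.leaf 0x2001)) (.node (.node (.leaf 0x0) (.leaf 0x19002)) (.leaf 0x0))) (.node (.node (.node (.leaf 0x0) (.leaf 0x3001)) (.leaf 0x0)) (.node (.node (.leaf 0x19002) (.leaf 0x1001))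 (.leaf 0x0)))) (.node (.node (.node (.node (.leaf 0x0) (.leaf 0x1001)) (.leaf 0x1b002)) (.node (.node (.leaf 0x1001) (.leaf 0x3001)) (.leaf 0x1001))) (.node (.node (.node (.leaf 0x0) (.leaf 0x1001)) (.leaf 0x0)) (.node (.leaf 0x2001) (.leaf 0x2001))))))) (.node (.node (.node (.node (.node (.node (.node (.leaf 0x0) (.leaf 0x19002)) (.leaf 0x0)) (.node (.node (.leaf 0x19002) (.leaf 0x2001)) (.leaf 0x11002))) (.node (.node (.node (.leaf 0x0) (.leaf 0xd9003)) (.leaf 0x0)) (.node (.node (.leaf 0x0) (.leaf 0x1b002)) (.leaf 0x11002)))) (.node (.node (.node (.node (.leaf 0x0) (.leaf 0x11002)) (.leaf 0x0)) (.node (.node (.leaf 0x1001) (.leaf 0x1b002)) (.leaf 0x0))) (.node (.node (.node (.leaf 0x11002) (.leaf 0x2001)) (.leaf 0x2001)) (.node (.leaf 0x1001) (.leaf 0x2001))))) (.node (.node (.node (.node (.node (.leaf 0x0) (.leaf 0x11002)) (.leaf 0x0)) (.node (.node (.leaf 0x0) (.leaf 0x3001)) (.leaf 0x0))) (.node (.node (.node (.leaf 0x0) (.leaf 0x0)) (.leaf 0x19002)) (.node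 (.node (.leaf 0x19002) (.leaf 0x1b002)) (.leaf 0x11002)))) (.node (.node (.node (.node (.leaf 0x0) (.leaf 0x11002)) (.leaf 0x0)) (.node (.node (.leaf 0x0) (.leaf 0x11002)) (.leaf 0x0))) (.node (.node (.node (.leaf 0x0) (.leaf 0x1001)) (.leaf 0x1001)) (.node (.leaf 0x1001) (.leaf 0x3001)))))) (.node (.node (.node (.node (.node (.node (.leaf 0x0) (.leaf 0x1001)) (.leaf 0x0)) (.node (.node (.leaf 0x0) (.leaf 0x19002)) (.leaf 0x1b002))) (.node (.node (.node (.leaf 0x0) (.leaf 0x1b002)) (.leaf 0x0)) (.node (.node (.leaf 0x0) (.leaf 0xd9003)) (.leaf 0x0)))) (.node (.node (.node (.node (.leaf 0x0) (.leaf 0x0)) (.leaf 0x2001)) (.node (.node (.leaf 0x1001) (.leaf 0x19002)) (.leaf 0x19002))) (.node (.node (.node (.leaf 0x1001) (.leaf 0x2001)) (.leaf 0x0)) (.node (.leaf 0x0) (.leaf 0xd9003))))) (.node (.node (.node (.node (.node (.leaf 0x3001) (.leaf 0x0)) (.leaf 0x0)) (.node (.node (.leaf 0x0) (.leaf 0x1b002)) (.leaf 0x1b002))) (.node (.node (.node (.leaf 0x0) (.leaf 0x11002))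 (.leaf 0x1001)) (.node (.leaf 0x0) (.leaf 0x3001)))) (.node (.node (.node (.node (.leaf 0x0) (.leaf 0x1b002)) (.leaf 0xd9003)) (.node (.node (.leaf 0x0) (.leaf 0x11002)) (.leaf 0x0))) (.node (.node (.node (.leaf 0x3001) (.leaf 0x3001)) (.leaf 0x0)) (.node (.leaf 0x19002) (.leaf 0x0)))))))

/-- data -/
def lab1p12 : Trie (ℕ) := .node (.node (.node (.node (.node (.node (.node (.node (.leaf 0x0) (.leaf 0x3001)) (.leaf 0x0)) (.node (.node (.leaf 0x0) (.leaf 0x0)) (.leaf 0x0))) (.node (.node (.node (.leaf 0x0) (.leaf 0x11002)) (.leaf 0x1001)) (.node (.node (.leaf 0x1001) (.leaf 0x11002)) (.leaf 0x3001)))) (.node (.node (.node (.node (.leaf 0x0) (.leaf 0x0)) (.leaf 0x19002)) (.node (.node (.leaf 0x1001) (.leaf 0x0)) (.leaf 0x3001))) (.node (.node (.node (.leaf 0x0) (.leaf 0x11002)) (.leaf 0x1001)) (.node (.leaf 0x0) (.leaf 0x1b002))))) (.node (.node (.node (.node (.node (.leaf 0x0) (.leaf 0x11002)) (.leaf 0x19002)) (.node (.node (.leaf 0x0) (.leaf 0x0)) (.leaf 0x3001)))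 (.node (.node (.node (.leaf 0x1b002) (.leaf 0x0)) (.leaf 0x1b002)) (.node (.node (.leaf 0x0) (.leaf 0x0)) (.leaf 0x0)))) (.node (.node (.node (.node (.leaf 0x0) (.leaf 0x1001)) (.leaf 0xd9003)) (.node (.node (.leaf 0xd9003) (.leaf 0x1001)) (.leaf 0x11002))) (.node (.node (.node (.leaf 0x0) (.leaf 0x1b002)) (.leaf 0x2001)) (.node (.leaf 0x11002) (.leaf 0x0)))))) (.node (.node (.node (.node (.node (.node (.leaf 0x0) (.leaf 0x0)) (.leaf 0xd9003)) (.node (.node (.leaf 0x0) (.leaf 0x19002)) (.leaf 0x2001))) (.node (.node (.node (.leaf 0x0) (.leaf 0x0)) (.leaf 0x0)) (.node (.node (.leaf 0x0) (.leaf 0x19002)) (.leaf 0x1b002)))) (.node (.node (.node (.node (.leaf 0x0) (.leaf 0x0)) (.leaf 0x0)) (.node (.node (.leaf 0x0) (.leaf 0x2001)) (.leaf 0x1001))) (.node (.node (.node (.leaf 0x0) (.leaf 0x1001)) (.leaf 0x1001)) (.node (.leaf 0x0) (.leaf 0x0))))) (.node (.node (.node (.node (.node (.leaf 0x0) (.leaf 0x19002)) (.leaf 0x0)) (.node (.node (.leaf 0x0) (.leaf 0x3001)) (.leaf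 0x1001))) (.node (.node (.node (.leaf 0x0) (.leaf 0x1b002)) (.leaf 0x0)) (.node (.node (.leaf 0x0) (.leaf 0x19002)) (.leaf 0x2001)))) (.node (.node (.node (.node (.leaf 0x0) (.leaf 0x1001)) (.leaf 0x0)) (.node (.node (.leaf 0x0) (.leaf 0x19002)) (.leaf 0x1001))) (.node (.node (.node (.leaf 0x0) (.leaf 0x11002)) (.leaf 0x3001)) (.node (.leaf 0x1b002) (.leaf 0x2001))))))) (.node (.node (.node (.node (.node (.node (.node (.leaf 0x0) (.leaf 0x3001)) (.leaf 0x0)) (.node (.node (.leaf 0x0) (.leaf 0x3001)) (.leaf 0x3001))) (.node (.node (.node (.leaf 0x0) (.leaf 0x19002)) (.leaf 0x0)) (.node (.node (.leaf 0x1b002) (.leaf 0x0)) (.leaf 0x3001)))) (.node (.node (.node (.node (.leaf 0x0) (.leaf 0x11002)) (.leaf 0x19002)) (.node (.node (.leaf 0x1b002) (.leaf 0x0)) (.leaf 0xd9003))) (.node (.node (.node (.leaf 0x0) (.leaf 0xd9003)) (.leaf 0x0)) (.node (.leaf 0x0) (.leaf 0x2001))))) (.node (.node (.node (.node (.node (.leaf 0x0) (.leaf 0x0)) (.leaf 0x0)) (.node (.node (.leaf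 0x11002) (.leaf 0xd9003)) (.leaf 0x0))) (.node (.node (.node (.leaf 0x0) (.leaf 0x2001)) (.leaf 0x0)) (.node (.node (.leaf 0x19002) (.leaf 0x11002)) (.leaf 0x0)))) (.node (.node (.node (.node (.leaf 0x0) (.leaf 0x1b002)) (.leaf 0x11002)) (.node (.node (.leaf 0x0) (.leaf 0x11002)) (.leaf 0x3001))) (.node (.node (.node (.leaf 0x0) (.leaf 0x2001)) (.leaf 0xd9003)) (.node (.leaf 0x1b002) (.leaf 0x0)))))) (.node (.node (.node (.node (.node (.node (.leaf 0x0) (.leaf 0x11002)) (.leaf 0x19002)) (.node (.node (.leaf 0x0) (.leaf 0x0)) (.leaf 0x1001))) (.node (.node (.node (.leaf 0x0) (.leaf 0xd9003)) (.leaf 0xd9003)) (.node (.node (.leaf 0x0) (.leaf 0x1b002)) (.leaf 0xd9003)))) (.node (.node (.node (.node (.leaf 0x3001) (.leaf 0x1001)) (.leaf 0x0)) (.node (.node (.leaf 0x19002) (.leaf 0x1001)) (.leaf 0x11002))) (.node (.node (.node (.leaf 0x11002) (.leaf 0x1001)) (.leaf 0x11002)) (.node (.leaf 0x2001) (.leaf 0x2001))))) (.node (.node (.node (.node (.node (.leaf 0x0) (.leaf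 0x0)) (.leaf 0x0)) (.node (.node (.leaf 0x0) (.leaf 0x1001)) (.leaf 0x0))) (.node (.node (.node (.leaf 0x0) (.leaf 0x3001)) (.leaf 0x19002)) (.node (.leaf 0x0) (.leaf 0x0)))) (.node (.node (.node (.node (.leaf 0x0) (.leaf 0x3001)) (.leaf 0x2001)) (.node (.node (.leaf 0x0) (.leaf 0xd9003)) (.leaf 0xd9003))) (.node (.node (.node (.leaf 0x1001) (.leaf 0x1b002)) (.leaf 0x19002)) (.node (.leaf 0x0) (.leaf 0x0)))))))

/-- data -/
def lab1p13 : Trie (ℕ) := .node (.node (.node (.node (.node (.node (.node (.node (.leaf 0x0) (.leaf 0x0)) (.leaf 0x0)) (.node (.node (.leaf 0x3001) (.leaf 0x0)) (.leaf 0xd9003))) (.node (.node (.node (.leaf 0x0) (.leaf 0x11002)) (.leaf 0x1b002)) (.node (.node (.leaf 0x0) (.leaf 0x0)) (.leaf 0x1b002)))) (.node (.node (.node (.node (.leaf 0x0) (.leaf 0x19002)) (.leaf 0x0)) (.node (.node (.leaf 0x1b002) (.leaf 0x11002)) (.leaf 0x3001))) (.node (.node (.node (.leaf 0x0) (.leaf 0x19002)) (.leaf 0x1001)) (.node (.leaf 0x3001) (.leaf 0x0))))) (.node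 (.node (.node (.node (.node (.leaf 0x0) (.leaf 0xd9003)) (.leaf 0x0)) (.node (.node (.leaf 0x0) (.leaf 0x19002)) (.leaf 0x1001))) (.node (.node (.node (.leaf 0x0) (.leaf 0x3001)) (.leaf 0x2001)) (.node (.node (.leaf 0x19002) (.leaf 0x0)) (.leaf 0x1b002)))) (.node (.node (.node (.node (.leaf 0x0) (.leaf 0x1b002)) (.leaf 0x0)) (.node (.node (.leaf 0x1001) (.leaf 0x1b002)) (.leaf 0x11002))) (.node (.node (.node (.leaf 0x0) (.leaf 0x11002)) (.leaf 0x19002)) (.node (.leaf 0x0) (.leaf 0x19002)))))) (.node (.node (.node (.node (.node (.node (.leaf 0x0) (.leaf 0x19002)) (.leaf 0x19002)) (.node (.node (.leaf 0x3001) (.leaf 0x1001)) (.leaf 0x0))) (.node (.node (.node (.leaf 0x19002) (.leaf 0x11002)) (.leaf 0x1b002)) (.node (.node (.leaf 0x1001) (.leaf 0x3001)) (.leaf 0x2001)))) (.node (.node (.node (.node (.leaf 0x0) (.leaf 0x19002)) (.leaf 0x0)) (.node (.node (.leaf 0x2001) (.leaf 0x3001)) (.leaf 0x2001))) (.node (.node (.node (.leaf 0x19002) (.leaf 0x2001)) (.leaf 0x1b002))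 (.node (.leaf 0x0) (.leaf 0x11002))))) (.node (.node (.node (.node (.node (.leaf 0x0) (.leaf 0x19002)) (.leaf 0x2001)) (.node (.node (.leaf 0x0) (.leaf 0x1b002)) (.leaf 0xd9003))) (.node (.node (.node (.leaf 0x0) (.leaf 0x19002)) (.leaf 0x0)) (.node (.leaf 0x0) (.leaf 0x1b002)))) (.node (.node (.node (.node (.leaf 0x0) (.leaf 0x3001)) (.leaf 0x3001)) (.node (.node (.leaf 0x0) (.leaf 0x1b002)) (.leaf 0x0))) (.node (.node (.node (.leaf 0x0) (.leaf 0x19002)) (.leaf 0xd9003)) (.node (.leaf 0x0) (.leaf 0xd9003))))))) (.node (.node (.node (.node (.node (.node (.node (.leaf 0x0) (.leaf 0xd9003)) (.leaf 0x11002)) (.node (.node (.leaf 0x0) (.leaf 0xd9003)) (.leaf 0x0))) (.node (.node (.node (.leaf 0x0) (.leaf 0x1b002)) (.leaf 0x1001)) (.node (.node (.leaf 0x2001) (.leaf 0xd9003)) (.leaf 0x19002)))) (.node (.node (.node (.node (.leaf 0x0) (.leaf 0x11002)) (.leaf 0x1b002)) (.node (.node (.leaf 0x0) (.leaf 0xd9003)) (.leaf 0x19002))) (.node (.node (.node (.leaf 0x0) (.leaf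 0x2001)) (.leaf 0x19002)) (.node (.leaf 0x2001) (.leaf 0x19002))))) (.node (.node (.node (.node (.node (.leaf 0x0) (.leaf 0x0)) (.leaf 0x0)) (.node (.node (.leaf 0x0) (.leaf 0x2001)) (.leaf 0x19002))) (.node (.node (.node (.leaf 0x0) (.leaf 0x11002)) (.leaf 0xd9003)) (.node (.node (.leaf 0x0) (.leaf 0x0)) (.leaf 0x1001)))) (.node (.node (.node (.node (.leaf 0x0) (.leaf 0x0)) (.leaf 0x2001)) (.node (.node (.leaf 0x0) (.leaf 0x0)) (.leaf 0x0))) (.node (.node (.node (.leaf 0x0) (.leaf 0x11002)) (.leaf 0x1b002)) (.node (.leaf 0x0) (.leaf 0x0)))))) (.node (.node (.node (.node (.node (.node (.leaf 0x0) (.leaf 0x2001)) (.leaf 0x3001)) (.node (.node (.leaf 0x0) (.leaf 0x1001)) (.leaf 0x0))) (.node (.node (.node (.leaf 0x3001) (.leaf 0x0)) (.leaf 0xd9003)) (.node (.node (.leaf 0x0) (.leaf 0x19002)) (.leaf 0x0)))) (.node (.node (.node (.node (.leaf 0x0) (.leaf 0x0)) (.leaf 0x19002)) (.node (.node (.leaf 0x3001) (.leaf 0x2001)) (.leaf 0xd9003))) (.node (.node (.node (.leaf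 0x0) (.leaf 0x1001)) (.leaf 0x0)) (.node (.leaf 0x0) (.leaf 0xd9003))))) (.node (.node (.node (.node (.node (.leaf 0x0) (.leaf 0x0)) (.leaf 0x19002)) (.node (.node (.leaf 0x0) (.leaf 0x1001)) (.leaf 0x0))) (.node (.node (.node (.leaf 0x0) (.leaf 0x1001)) (.leaf 0x0)) (.node (.leaf 0x0) (.leaf 0x19002)))) (.node (.node (.node (.node (.leaf 0x0) (.leaf 0x1001)) (.leaf 0x0)) (.node (.node (.leaf 0x3001) (.leaf 0x3001)) (.leaf 0xd9003))) (.node (.node (.node (.leaf 0x0) (.leaf 0x0)) (.leaf 0x19002)) (.node (.leaf 0x0) (.leaf 0x11002)))))))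

/-- data -/
def lab1p14 : Trie (ℕ) := .node (.node (.node (.node (.node (.node (.node (.node (.leaf 0x0) (.leaf 0x1001)) (.leaf 0x0)) (.node (.node (.leaf 0x0) (.leaf 0x0)) (.leaf 0x2001))) (.node (.node (.node (.leaf 0x0) (.leaf 0xd9003)) (.leaf 0x11002)) (.node (.node (.leaf 0x19002) (.leaf 0x2001)) (.leaf 0x2001)))) (.node (.node (.node (.node (.leaf 0x0) (.leaf 0x0)) (.leaf 0x2001)) (.node (.node (.leaf 0x0) (.leaf 0xd9003)) (.leaf 0x3001))) (.node (.node (.node (.leaf 0x0) (.leaf 0x11002)) (.leaf 0x2001)) (.node (.leaf 0x19002) (.leaf 0x11002))))) (.node (.node (.node (.node (.node (.leaf 0x0) (.leaf 0x11002)) (.leaf 0x2001)) (.node (.node (.leaf 0x0) (.leaf 0x0)) (.leaf 0x3001))) (.node (.node (.node (.leaf 0x0) (.leaf 0x0)) (.leaf 0x0)) (.node (.node (.leaf 0x19002) (.leaf 0x3001)) (.leaf 0x11002)))) (.node (.node (.node (.node (.leaf 0x0) (.leaf 0x1001)) (.leaf 0x0)) (.node (.node (.leaf 0x0) (.leaf 0x1b002)) (.leaf 0x1001))) (.node (.node (.node (.leaf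 0x11002) (.leaf 0x0)) (.leaf 0x3001)) (.node (.leaf 0x0) (.leaf 0x3001)))))) (.node (.node (.node (.node (.node (.node (.leaf 0x0) (.leaf 0x0)) (.leaf 0x0)) (.node (.node (.leaf 0x0) (.leaf 0x1b002)) (.leaf 0x19002))) (.node (.node (.node (.leaf 0x0) (.leaf 0x0)) (.leaf 0x0)) (.node (.node (.leaf 0x0) (.leaf 0x0)) (.leaf 0x0)))) (.node (.node (.node (.node (.leaf 0x0) (.leaf 0xd9003)) (.leaf 0xd9003)) (.node (.node (.leaf 0x0) (.leaf 0x3001)) (.leaf 0x0))) (.node (.node (.node (.leaf 0x0) (.leaf 0x1b002)) (.leaf 0x3001)) (.node (.leaf 0x1b002) (.leaf 0x1001))))) (.node (.node (.node (.node (.node (.leaf 0x0) (.leaf 0x19002)) (.leaf 0xd9003)) (.node (.node (.leaf 0x0) (.leaf 0x0)) (.leaf 0x19002))) (.node (.node (.node (.leaf 0x0) (.leaf 0x0)) (.leaf 0x1b002)) (.node (.leaf 0x3001) (.leaf 0x19002)))) (.node (.node (.node (.node (.leaf 0x0) (.leaf 0x1001)) (.leaf 0x0)) (.node (.node (.leaf 0x0) (.leaf 0x3001)) (.leaf 0x0))) (.node (.node (.node (.leaf 0x0) (.leaf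 0x3001)) (.leaf 0x0)) (.node (.leaf 0x0) (.leaf 0x1001))))))) (.node (.node (.node (.node (.node (.node (.node (.leaf 0x0) (.leaf 0x1001)) (.leaf 0x3001)) (.node (.node (.leaf 0x0) (.leaf 0x2001)) (.leaf 0xd9003))) (.node (.node (.node (.leaf 0x0) (.leaf 0x2001)) (.leaf 0xd9003)) (.node (.node (.leaf 0x0) (.leaf 0x0)) (.leaf 0x2001)))) (.node (.node (.node (.node (.leaf 0x11002) (.leaf 0x1001)) (.leaf 0x3001)) (.node (.node (.leaf 0x0) (.leaf 0x0)) (.leaf 0x19002))) (.node (.node (.node (.leaf 0x0) (.leaf 0x1b002)) (.leaf 0x0)) (.node (.leaf 0x2001) (.leaf 0xd9003))))) (.node (.node (.node (.node (.node (.leaf 0x0) (.leaf 0x19002)) (.leaf 0x0)) (.node (.node (.leaf 0x1001) (.leaf 0x0)) (.leaf 0x19002))) (.node (.node (.node (.leaf 0x0) (.leaf 0x3001)) (.leaf 0x3001)) (.node (.node (.leaf 0x0) (.leaf 0x0)) (.leaf 0x0)))) (.node (.node (.node (.node (.leaf 0x0) (.leaf 0xd9003)) (.leaf 0x1001)) (.node (.node (.leaf 0x0) (.leaf 0x3001)) (.leaf 0x0))) (.node (.node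 (.node (.leaf 0x0) (.leaf 0x11002)) (.leaf 0x3001)) (.node (.leaf 0xd9003) (.leaf 0x11002)))))) (.node (.node (.node (.node (.node (.node (.leaf 0x0) (.leaf 0x0)) (.leaf 0x0)) (.node (.node (.leaf 0x0) (.leaf 0x1001)) (.leaf 0x11002))) (.node (.node (.node (.leaf 0x2001) (.leaf 0x1001)) (.leaf 0x0)) (.node (.node (.leaf 0x0) (.leaf 0x11002)) (.leaf 0x1001)))) (.node (.node (.node (.node (.leaf 0x0) (.leaf 0x0)) (.leaf 0xd9003)) (.node (.node (.leaf 0x0) (.leaf 0x19002)) (.leaf 0xd9003))) (.node (.node (.node (.leaf 0x0) (.leaf 0x3001)) (.leaf 0xd9003)) (.node (.leaf 0x11002) (.leaf 0xd9003))))) (.node (.node (.node (.node (.node (.leaf 0x0) (.leaf 0x19002)) (.leaf 0x3001)) (.node (.node (.leaf 0x0) (.leaf 0x11002)) (.leaf 0x0))) (.node (.node (.node (.leaf 0x0) (.leaf 0x1001)) (.leaf 0x0)) (.node (.leaf 0xd9003) (.leaf 0x0)))) (.node (.node (.node (.node (.leaf 0x11002) (.leaf 0x1b002)) (.leaf 0x3001)) (.node (.node (.leaf 0x3001) (.leaf 0x0)) (.leaf 0x0))) (.node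 (.node (.node (.leaf 0x0) (.leaf 0x0)) (.leaf 0x0)) (.node (.leaf 0x0) (.leaf 0x3001)))))))

/-- data -/
def lab1p15 : Trie (ℕ) := .node (.node (.node (.node (.node (.node (.node (.node (.leaf 0x0) (.leaf 0x0)) (.leaf 0xd9003)) (.node (.node (.leaf 0x0) (.leaf 0x11002)) (.leaf 0x1b002))) (.node (.node (.node (.leaf 0x0) (.leaf 0x1b002)) (.leaf 0x0)) (.node (.node (.leaf 0x3001) (.leaf 0x1001)) (.leaf 0x2001)))) (.node (.node (.node (.node (.leaf 0x0) (.leaf 0xd9003)) (.leaf 0x1b002)) (.node (.node (.leaf 0x0) (.leaf 0x3001)) (.leaf 0x1001))) (.node (.node (.node (.leaf 0x0) (.leaf 0xd9003)) (.leaf 0x1001)) (.node (.leaf 0x0) (.leaf 0x1b002))))) (.node (.node (.node (.node (.node (.leaf 0x0) (.leaf 0x1b002)) (.leaf 0x2001)) (.node (.node (.leaf 0x0) (.leaf 0x11002)) (.leaf 0x11002))) (.node (.node (.node (.leaf 0x0) (.leaf 0x11002)) (.leaf 0xd9003)) (.node (.node (.leaf 0x0) (.leaf 0xd9003)) (.leaf 0x0)))) (.node (.node (.node (.node (.leaf 0x0) (.leaf 0xd9003))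 (.leaf 0x0)) (.node (.node (.leaf 0x0) (.leaf 0x3001)) (.leaf 0x19002))) (.node (.node (.node (.leaf 0x0) (.leaf 0x1b002)) (.leaf 0x1b002)) (.node (.leaf 0x0) (.leaf 0x1001)))))) (.node (.node (.node (.node (.node (.node (.leaf 0x0) (.leaf 0x11002)) (.leaf 0x0)) (.node (.node (.leaf 0x0) (.leaf 0x3001)) (.leaf 0x11002))) (.node (.node (.node (.leaf 0x0) (.leaf 0x1001)) (.leaf 0x0)) (.node (.node (.leaf 0x11002) (.leaf 0x1001)) (.leaf 0x0)))) (.node (.node (.node (.node (.leaf 0x0) (.leaf 0x11002)) (.leaf 0x2001)) (.node (.node (.leaf 0x11002) (.leaf 0x19002)) (.leaf 0x11002))) (.node (.node (.node (.leaf 0x0) (.leaf 0x1001)) (.leaf 0x2001)) (.node (.leaf 0xd9003) (.leaf 0x19002))))) (.node (.node (.node (.node (.node (.leaf 0x19002) (.leaf 0x1001)) (.leaf 0x1001)) (.node (.node (.leaf 0x1001) (.leaf 0xd9003)) (.leaf 0x1b002))) (.node (.node (.node (.leaf 0x0) (.leaf 0x0)) (.leaf 0x0)) (.node (.leaf 0x1b002) (.leaf 0x1001)))) (.node (.node (.node (.node (.leaf 0x0)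 (.leaf 0x0)) (.leaf 0x2001)) (.node (.node (.leaf 0x0) (.leaf 0x3001)) (.leaf 0x1b002))) (.node (.node (.node (.leaf 0x0) (.leaf 0xd9003)) (.leaf 0x0)) (.node (.leaf 0x0) (.leaf 0x0))))))) (.node (.node (.node (.node (.node (.node (.node (.leaf 0x0) (.leaf 0x0)) (.leaf 0x0)) (.node (.node (.leaf 0x0) (.leaf 0xd9003)) (.leaf 0x1b002))) (.node (.node (.node (.leaf 0x0) (.leaf 0x1b002)) (.leaf 0x11002)) (.node (.node (.leaf 0x0) (.leaf 0x2001)) (.leaf 0x1001)))) (.node (.node (.node (.node (.leaf 0x11002) (.leaf 0x1b002)) (.leaf 0x0)) (.node (.node (.leaf 0x1001) (.leaf 0xd9003)) (.leaf 0xd9003))) (.node (.node (.node (.leaf 0x0) (.leaf 0x3001)) (.leaf 0x0)) (.node (.leaf 0x0) (.leaf 0x1001))))) (.node (.node (.node (.node (.node (.leaf 0x0) (.leaf 0x0)) (.leaf 0x3001)) (.node (.node (.leaf 0x0) (.leaf 0x3001)) (.leaf 0x0))) (.node (.node (.node (.leaf 0x0) (.leaf 0x19002)) (.leaf 0x0)) (.node (.node (.leaf 0x1001) (.leaf 0x0)) (.leaf 0x11002)))) (.node (.node (.node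 (.node (.leaf 0x0) (.leaf 0x3001)) (.leaf 0x11002)) (.node (.node (.leaf 0x2001) (.leaf 0x11002)) (.leaf 0x1001))) (.node (.node (.node (.leaf 0x0) (.leaf 0x11002)) (.leaf 0x3001)) (.node (.leaf 0x0) (.leaf 0x3001)))))) (.node (.node (.node (.node (.node (.node (.leaf 0x0) (.leaf 0x1001)) (.leaf 0x19002)) (.node (.node (.leaf 0x11002) (.leaf 0x2001)) (.leaf 0xd9003))) (.node (.node (.node (.leaf 0x0) (.leaf 0x2001)) (.leaf 0x19002)) (.node (.node (.leaf 0x0) (.leaf 0x2001)) (.leaf 0x0)))) (.node (.node (.node (.node (.leaf 0x3001) (.leaf 0x0)) (.leaf 0x1001)) (.node (.node (.leaf 0x0) (.leaf 0x11002)) (.leaf 0x1b002))) (.node (.node (.node (.leaf 0x0) (.leaf 0x3001)) (.leaf 0x11002)) (.node (.leaf 0xd9003) (.leaf 0xd9003))))) (.node (.node (.node (.node (.node (.leaf 0x0) (.leaf 0x2001)) (.leaf 0x0)) (.node (.node (.leaf 0x0) (.leaf 0x0)) (.leaf 0x1001))) (.node (.node (.node (.leaf 0x0) (.leaf 0x2001)) (.leaf 0x19002)) (.node (.leaf 0x19002) (.leaf 0x1b002))))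 (.node (.node (.node (.node (.leaf 0x19002) (.leaf 0x0)) (.leaf 0xd9003)) (.node (.node (.leaf 0xd9003) (.leaf 0xd9003)) (.leaf 0x0))) (.node (.node (.node (.leaf 0x0) (.leaf 0x2001)) (.leaf 0x0)) (.node (.leaf 0x0) (.leaf 0x19002)))))))

/-- data -/
def lab1 : Trie (ℕ) := .node (.node (.node (.node (lab1p0) (lab1p8)) (.node (lab1p4) (lab1p12))) (.node (.node (lab1p2) (lab1p10)) (.node (lab1p6) (lab1p14)))) (.node (.node (.node (lab1p1) (lab1p9)) (.node (lab1p5) (lab1p13))) (.node (.node (lab1p3) (lab1p11)) (.node (lab1p7) (lab1p15))))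

/-- data -/
def val1p0 : Trie (ℕ) := .node (.node (.node (.node (.node (.node (.node (.node (.leaf 0x100) (.leaf 0x4818ea476bd29510f010088690850710)) (.leaf 0x223455411c65a4300410)) (.node (.node (.leaf 0x400107) (.leaf 0x74c69320874648f4c8ac54000610)) (.leaf 0x47212c41a272662a12911715a54354020810))) (.node (.node (.node (.leaf 0x100) (.leaf 0x680b8876666991c9098474791820710)) (.leaf 0x165900b66be48e08a801e30482850710)) (.node (.node (.leaf 0x1128c8c02b1341220410) (.leaf 0x7d2599baa2c42bd5c694f58c0610)) (.leaf 0x41c460200210)))) (.node (.node (.node (.node (.leaf 0x400107) (.leaf 0x3c210d5923022e32827455830610)) (.leaf 0x41c4810c880a0310)) (.node (.node (.leaf 0x100) (.leaf 0x2c302446a00826748070634800070f)) (.leaf 0x7057632a0b26ce160c620510))) (.node (.node (.node (.leaf 0x100) (.leaf 0xc1d2a6eec21bac3319230510)) (.leaf 0x11c480bd5ac30122522100490610)) (.node (.leaf 0x100) (.leaf 0x100))))) (.node (.node (.node (.node (.node (.leaf 0x100) (.leaf 0x413423106411c2520410))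 (.leaf 0x100)) (.node (.node (.leaf 0x20092900020f) (.leaf 0x40361455439200320410)) (.leaf 0xd6e818611548534d8005ce060f))) (.node (.node (.node (.leaf 0x100) (.leaf 0x4884f9c6e4081088216a0510)) (.leaf 0x21000207)) (.node (.node (.leaf 0x100) (.leaf 0x350c2c4d464e131610492f1287252c0a0810)) (.leaf 0x70209e95314501824c98e0d10610)))) (.node (.node (.node (.node (.leaf 0x100) (.leaf 0xd6d1f0a0b300d4504d958c8d09e0710)) (.leaf 0x100)) (.node (.node (.leaf 0x100) (.leaf 0x7006a6b42115800719210510)) (.leaf 0xd120281088c1d920134b3820610))) (.node (.node (.node (.leaf 0x100) (.leaf 0x100105)) (.leaf 0x316140ad784b16c1047925c80610)) (.node (.leaf 0x100) (.leaf 0x88c7b72aa413063784c60510)))))) (.node (.node (.node (.node (.node (.node (.leaf 0x100) (.leaf 0x682451204a068da88df862480610)) (.leaf 0x84cc529c335ca199d430510)) (.node (.node (.leaf 0x1004a400020f) (.leaf 0x119cb38884148e1981030510)) (.leaf 0x81352360254011210410))) (.node (.node (.node (.leaf 0x100) (.leaf 0x142cb22303150015043888e3d00f0710))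 (.leaf 0x347c4be8483603131490f385c9050710)) (.node (.node (.leaf 0x200106) (.leaf 0x38a24285174905604838c1c50610)) (.leaf 0x30664905dd6fdb4b03ce0714925479120810)))) (.node (.node (.node (.node (.leaf 0x100) (.leaf 0x29ca2e6b80044ad024080510)) (.leaf 0x2d3c941c26440310)) (.node (.node (.leaf 0x250a1815e2880310) (.leaf 0x6073dc2cd20711a0058063c10610)) (.leaf 0x326d82db902f2e36dc701a2954100710))) (.node (.node (.node (.leaf 0x100) (.leaf 0x5618b8c3a451a85c67ca10f0610)) (.leaf 0x462ca437899f262254a116e5580f0710)) (.node (.leaf 0x100) (.leaf 0x100))))) (.node (.node (.node (.node (.node (.leaf 0x100) (.leaf 0x4c052bc4294b992c483818c50e890710)) (.leaf 0xa25493031c0164050410)) (.node (.node (.leaf 0x100) (.leaf 0xa56aaf253d5c11808efc60d20610)) (.leaf 0x2205b7b01c2416030410))) (.node (.node (.node (.leaf 0x100) (.leaf 0x30024411c058181a00680510)) (.leaf 0x302d4968704a870960a09f069a810710)) (.node (.node (.leaf 0x561161725729043f0b6c0419a22a53020810) (.leaf 0x447593a229101e1041ad348a0610))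 (.leaf 0x4173c63019023c16056c35930610)))) (.node (.node (.node (.node (.leaf 0x100) (.leaf 0x217208020b)) (.leaf 0x2402e0000030c)) (.node (.node (.leaf 0x6086c6ac6316001719620510) (.leaf 0x100c587667e087553938710507890710)) (.leaf 0x342510eb2a8837f1c6d516810610))) (.node (.node (.node (.leaf 0x100) (.leaf 0x3b0d4e31867446261cb93b0c733f40180810)) (.leaf 0x1005088800a030e)) (.node (.leaf 0x100) (.leaf 0x410a300310e02210b1000800610))))))) (.node (.node (.node (.node (.node (.node (.node (.leaf 0x100) (.leaf 0x9441092cd54684ca060ca2810610)) (.leaf 0x100)) (.node (.node (.leaf 0x100) (.leaf 0x12259bd4082648030410)) (.leaf 0x6143282c520562f74c3865420610))) (.node (.node (.node (.leaf 0x100) (.leaf 0x42bda00e51bb222f9cb00d2d63020710)) (.leaf 0x100)) (.node (.node (.leaf 0x100) (.leaf 0x147285794a0a1611858cb3820610)) (.leaf 0x100)))) (.node (.node (.node (.node (.leaf 0x100) (.leaf 0x446754827202d1200410)) (.leaf 0x19c828200243ce269cc20510)) (.node (.node (.leaf 0x810440042030c)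 (.leaf 0x7c2074a9b853896c8868c487802d0710)) (.leaf 0x100))) (.node (.node (.node (.leaf 0x100) (.leaf 0x100)) (.leaf 0x961227595183363e7c10efa752260710)) (.node (.leaf 0x1a0910020b) (.leaf 0x200a7180e01d001910e60510))))) (.node (.node (.node (.node (.node (.leaf 0x100) (.leaf 0x30311925694e950088705805878d0710)) (.leaf 0x100)) (.node (.node (.leaf 0x100) (.leaf 0x60102f548d5b292506940701a4365f010810)) (.leaf 0x28812948ebea952130884d899c800710))) (.node (.node (.node (.leaf 0x100) (.leaf 0x62c09158b59890713a80e16463e2b0b0810)) (.leaf 0x100)) (.node (.node (.leaf 0xe7811db2f79832dc878a1888c850710) (.leaf 0x51ea5421abb0a6780e300510)) (.leaf 0x3169429d1a513f6281f14cd40610)))) (.node (.node (.node (.node (.leaf 0x100) (.leaf 0x350c3463031e3d1602451b2a830f0e1e0810)) (.leaf 0x2674206a0e240c010c28f5e74d040710)) (.node (.node (.leaf 0x100) (.leaf 0x1650149ab1789835808921291d900710)) (.leaf 0x28043384e0208a2988850510))) (.node (.node (.node (.leaf 0x100) (.leaf 0x2d508280260a0214013070100610))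 (.leaf 0x8330878a28a030f)) (.node (.leaf 0x4215039c0211466c18610510) (.leaf 0x6658972811e43153d4e454830610)))))) (.node (.node (.node (.node (.node (.node (.leaf 0x100) (.leaf 0x30009428ad8165f6005c740b0610)) (.leaf 0x58a9c0644f6353640410)) (.node (.node (.leaf 0x44240408d13030f) (.leaf 0x28420ac657401d829674e1150610)) (.leaf 0x1a4e2d22845de41814840510))) (.node (.node (.node (.leaf 0x100) (.leaf 0x3452046987043e12021c72860610)) (.leaf 0x19a78d1581446a9d5084734c0610)) (.node (.node (.leaf 0x100) (.leaf 0x16340e1e230d273566c34b20b117242b0810)) (.leaf 0x100)))) (.node (.node (.node (.node (.leaf 0x100) (.leaf 0xa27e0007a29562500410)) (.leaf 0x18786298e86088017878a2070f860710)) (.node (.node (.leaf 0x100) (.leaf 0x50c60280e30b822900e80510)) (.leaf 0x49dc9120a828c6a50c700510))) (.node (.node (.node (.leaf 0x100) (.leaf 0x3138201f5143830e343a270a312c0f130810)) (.leaf 0x90d2cac46527000c22220510)) (.node (.leaf 0x6a146762532108453756280dba2e651a0810) (.leaf 0x68089827a94e8d47e0f06705008f0710)))))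 (.node (.node (.node (.node (.node (.leaf 0x100) (.leaf 0x54e68f48c10812d046cc94040610)) (.leaf 0x100)) (.node (.node (.leaf 0x100) (.leaf 0x2070435cfac311215430244e0610)) (.leaf 0x5086011898a50310))) (.node (.node (.node (.leaf 0x100) (.leaf 0x78297f2a6ecfa12ba8704e4b94a30710)) (.leaf 0x1781463ca6d90b12c65cc1c00610)) (.node (.leaf 0x100) (.leaf 0x35a0d084fbcf3003481502470610)))) (.node (.node (.node (.node (.leaf 0x100) (.leaf 0x264c0887442b0c474de0b36346100710)) (.leaf 0x2867fc2c189b85388540a14b0610)) (.node (.node (.leaf 0x296482b65201a61d9834e1480610) (.leaf 0x1000109)) (.leaf 0x100))) (.node (.node (.node (.leaf 0x100) (.leaf 0x21113121184132430410)) (.leaf 0x81aa406020e)) (.node (.leaf 0x100) (.leaf 0x8082112020e)))))))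

/-- data -/
def val1p1 : Trie (ℕ) := .node (.node (.node (.node (.node (.node (.node (.node (.leaf 0x100) (.leaf 0x2061c28d774900c10810e0490610)) (.leaf 0x22003540186340120410)) (.node (.node (.leaf 0x100) (.leaf 0x45c2021020e)) (.leaf 0x34b39388e79008b1894cd4040610))) (.node (.node (.node (.leaf 0x100) (.leaf 0x70f0570454c6aae9c57854ce0610)) (.leaf 0x100)) (.node (.node (.leaf 0x100) (.leaf 0xa433030c78c46193ca5411480610)) (.leaf 0x5936540057051ce389b022410610)))) (.node (.node (.node (.node (.leaf 0x100) (.leaf 0x50183f70917355330d961c08fe46690a0810)) (.leaf 0x4002485080080310)) (.node (.node (.leaf 0x111415506411e4010410) (.leaf 0x139a0aa7a92b046939a00510)) (.leaf 0x100))) (.node (.node (.node (.leaf 0x100) (.leaf 0x100105)) (.leaf 0x69ecdb299445d2499d800510)) (.node (.leaf 0x100) (.leaf 0x8902168a99254868b4011880610))))) (.node (.node (.node (.node (.node (.leaf 0x100) (.leaf 0x58905520a2344e4784c20510)) (.leaf 0x34e1c14cbf4f38124808824a0610)) (.node (.node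 (.leaf 0x224c604786201202e470b3244f070710) (.leaf 0x25c224486220112946092644e0b0710)) (.leaf 0x3016e47dd7d7416040f8c7c80610))) (.node (.node (.node (.leaf 0x100) (.leaf 0x4113c32038823c0689a010820610)) (.leaf 0x9943e6a67053360700f145c00610)) (.node (.node (.leaf 0x80411762861824909084023828b0710) (.leaf 0x2494b7281bd69a88c21050d00610)) (.leaf 0x100)))) (.node (.node (.node (.node (.leaf 0x100) (.leaf 0x90c152a005ed42c8dc10510)) (.leaf 0x991654101c854d060b5011c10610)) (.node (.node (.leaf 0xb1876b542adfc8198080510) (.leaf 0x60d5542453072da2039062410610)) (.leaf 0x785602200210))) (.node (.node (.node (.leaf 0x100) (.leaf 0x2c031524f5cc2220003420810610)) (.leaf 0x1a7819966b6e81190008618789820710)) (.node (.leaf 0x100) (.leaf 0x28103318040a42488cc00510)))))) (.node (.node (.node (.node (.node (.node (.leaf 0x100) (.leaf 0x3030cb4082860860c3a033d20610)) (.leaf 0x100)) (.node (.node (.leaf 0x100) (.leaf 0x24143013180144230410)) (.leaf 0x100))) (.node (.node (.node (.leaf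 0x100) (.leaf 0x13296226070231040410)) (.leaf 0x100)) (.node (.node (.leaf 0x100) (.leaf 0x72128fd76914004930a70510)) (.leaf 0x26021a05c8900310)))) (.node (.node (.node (.node (.leaf 0x100) (.leaf 0x908949ce4198c2990430510)) (.leaf 0x100)) (.node (.node (.leaf 0x100) (.leaf 0x10060400020f)) (.leaf 0x120054a5603d141b212c0510))) (.node (.node (.node (.leaf 0x100) (.leaf 0x598403a56280523d910f0510)) (.leaf 0x1244a819c043460314800510)) (.node (.leaf 0x408873322356a4230410) (.leaf 0x8c03a00f44f1a7040e))))) (.node (.node (.node (.node (.node (.leaf 0x100) (.leaf 0x1c18432c6f2d7d311a8e2f07843649030810)) (.leaf 0x100)) (.node (.node (.leaf 0x100) (.leaf 0x1a88a2b4a7648c0ec83145650a940710)) (.leaf 0x40075b126144611040f))) (.node (.node (.node (.leaf 0x100) (.leaf 0xa0295c24d0d7246484f049d60610)) (.leaf 0xc12c47164870e51032471840610)) (.node (.node (.leaf 0x100) (.leaf 0x7845e685b5d921a08288c4c10610)) (.leaf 0x5094456d5703858b032463930610)))) (.node (.node (.node (.node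 (.leaf 0x100) (.leaf 0x3a0c62120101c45785470510)) (.leaf 0x100)) (.node (.node (.leaf 0x112240390691030f) (.leaf 0x227159f16994408153b131de0610)) (.leaf 0xaa451423e8c0ba0589890510))) (.node (.node (.node (.leaf 0x100) (.leaf 0x1764ccac205a1cd5d58f105060f)) (.leaf 0x32643406101c002040f)) (.node (.leaf 0x100) (.leaf 0x5d3fa8a82e39e3220410))))))) (.node (.node (.node (.node (.node (.node (.node (.leaf 0x100) (.leaf 0x4b106892a0615720714b2060610)) (.leaf 0x3c448d58e08a09f0c48474020610)) (.node (.node (.leaf 0x100) (.leaf 0x38cd9a120a20d09c9d440510)) (.leaf 0x100))) (.node (.node (.node (.leaf 0x2001c165334212c043b0c5420610) (.leaf 0xa00402020c)) (.leaf 0x10645096c5a4162a64e05364ca040710)) (.node (.node (.leaf 0x100) (.leaf 0x44d48b9969100671038d14860610)) (.leaf 0x9306d0042030c)))) (.node (.node (.node (.node (.leaf 0x100) (.leaf 0x420016b0c728903131681101c29a0710)) (.leaf 0x4c330a0003c14993c6ec350d0610)) (.node (.node (.leaf 0x100) (.leaf 0x59e3c0a538d109814139804f0610))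 (.leaf 0x280d621020cc45e8a49050f))) (.node (.node (.node (.leaf 0x100) (.leaf 0x38272843916160440410)) (.leaf 0x18323638e88d0690428873030610)) (.node (.leaf 0x100) (.leaf 0x9320d0b8b51a10d0bae0116643e37050810))))) (.node (.node (.node (.node (.node (.leaf 0x100) (.leaf 0x38124a3491c125c182a8654a0610)) (.leaf 0x50428b2c65483f62506c40410610)) (.node (.node (.leaf 0x100) (.leaf 0x6072de00290528b2c97022450610)) (.leaf 0x80e2d1190c880310))) (.node (.node (.node (.leaf 0x100) (.leaf 0x5c25a3286050117044d455010610)) (.leaf 0x100)) (.node (.node (.leaf 0x690cdf438a16c4b98e030510) (.leaf 0x264c583b8da806372d1131e6c71a0710)) (.leaf 0x4664b18e30164e4098085d00610)))) (.node (.node (.node (.node (.leaf 0x100) (.leaf 0x84a599aaa3080312c1e4f6860610)) (.leaf 0x100)) (.node (.node (.leaf 0x100) (.leaf 0x4c00ba60e1c80f108028d9020b820710)) (.leaf 0x9035de6d02610826ca80100b0610))) (.node (.node (.node (.leaf 0x100) (.leaf 0x453aa661475001210410)) (.leaf 0x100)) (.node (.leaf 0x220a1184612a883820010510)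 (.leaf 0xccd4e818cc0814800311c060b3d0710)))))) (.node (.node (.node (.node (.node (.node (.leaf 0x100) (.leaf 0x100105)) (.leaf 0x1250b99360218f02d0581744119c0710)) (.node (.node (.leaf 0x11a482bd5ac30122521100490610) (.leaf 0x50c2689e67635ae30ab00510)) (.leaf 0x4000010f))) (.node (.node (.node (.leaf 0x100) (.leaf 0x1c21870c82c011334abc12870610)) (.leaf 0x10282dd56c0e00a028070510)) (.node (.node (.leaf 0x100) (.leaf 0x598db718c819d45994880510)) (.leaf 0x42000208)))) (.node (.node (.node (.node (.leaf 0x100105) (.leaf 0x13862bb767458e0421600510)) (.leaf 0x3955ab66a3c8861b8a0050f)) (.node (.node (.leaf 0x200106) (.leaf 0x180c9afa9418ea110e2050f)) (.leaf 0x100105))) (.node (.node (.node (.leaf 0x100) (.leaf 0x6961601c80cd25424028a00b0610)) (.leaf 0x100)) (.node (.leaf 0x100) (.leaf 0x80209108000030f))))) (.node (.node (.node (.node (.node (.leaf 0x100) (.leaf 0x45a40f649c402883cc7ca1420610)) (.leaf 0x1be41b2b0a52ca19ae000510)) (.node (.node (.leaf 0x419684538d6e4c318d030510)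 (.leaf 0x290d18506439064615780510)) (.leaf 0x1f06179a5ccabcd4b091202060f))) (.node (.node (.node (.leaf 0x9219c6144911b0226c296aa250100710) (.leaf 0x187c4a0a4d36002b94b0b0e74c060710)) (.leaf 0x3a8137a66204040228e40510)) (.node (.leaf 0x100) (.leaf 0x283ca90242820012300018c184840710)))) (.node (.node (.node (.node (.leaf 0x883800020c) (.leaf 0x58d1ce50ab8024b3070090040610)) (.leaf 0x100)) (.node (.node (.leaf 0x5c4910c1c80030f) (.leaf 0x20343063928062210410)) (.leaf 0x42341103220182320410))) (.node (.node (.node (.leaf 0x200106) (.leaf 0x281b012020d)) (.leaf 0x210339140e6082960410)) (.node (.leaf 0x200064100012c1580410) (.leaf 0x1c4a129384a030e)))))))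

/-- data -/
def val1p2 : Trie (ℕ) := .node (.node (.node (.node (.node (.node (.node (.node (.leaf 0x100) (.leaf 0xd1208020a)) (.leaf 0x1052501033050c63078004d40610)) (.node (.node (.leaf 0x100) (.leaf 0x186008c92ee485252048a38806990710)) (.leaf 0x1e3c28d88a1a0408b43151a64a0a0710))) (.node (.node (.node (.leaf 0x100) (.leaf 0x3090d0898b821db0855090480610)) (.leaf 0x805933056406610040f)) (.node (.node (.leaf 0x2000a13d08210310) (.leaf 0x33218660675055220410)) (.leaf 0x4a009134c702043dacc843a3490a0710)))) (.node (.node (.node (.node (.leaf 0x100) (.leaf 0x249e4baee94c0c2a41a10510)) (.leaf 0x100)) (.node (.node (.leaf 0x100) (.leaf 0x800016000210)) (.leaf 0x40a7587d18570940428903c70610))) (.node (.node (.node (.leaf 0x100) (.leaf 0x83373315661c652040f)) (.leaf 0x100)) (.node (.leaf 0x100) (.leaf 0x11b151d20d0e35128d30d5040610))))) (.node (.node (.node (.node (.node (.leaf 0x100) (.leaf 0x463cd0d0c242960c302008e010130710)) (.leaf 0xc21875942010270c48494800610)) (.node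 (.node (.leaf 0x100) (.leaf 0x4c3868376bde873950a844850f850710)) (.leaf 0x200b8af2132864110a2050f))) (.node (.node (.node (.leaf 0x100) (.leaf 0x181b11012731121423883211051407130810)) (.leaf 0x400021000210)) (.node (.node (.leaf 0x100) (.leaf 0x3c64290482ca2ca10894518a0610)) (.leaf 0x40288b07eae49d24688965c692860710)))) (.node (.node (.node (.node (.leaf 0x100) (.leaf 0x990152a405ed42c8e030510)) (.leaf 0x92404296d477308178c12122a3219090810)) (.node (.node (.leaf 0x100) (.leaf 0x480c5101a272d62b81450510)) (.leaf 0xd108478e8881552031c72820610))) (.node (.node (.node (.leaf 0x100) (.leaf 0x2c029724f5cc2a20413420810610)) (.leaf 0x818d222c162044174285242c38a0710)) (.node (.leaf 0xdc4c8a5df2a1503818400510) (.leaf 0x285189a7abe4a728b00836478c8d0710)))))) (.node (.node (.node (.node (.node (.node (.leaf 0x100) (.leaf 0x10199d02824a454040f)) (.leaf 0x15428482491093400410)) (.node (.node (.leaf 0x100) (.leaf 0x4002003000000310)) (.leaf 0x100))) (.node (.node (.node (.leaf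 0x100) (.leaf 0x13234002052231380410)) (.leaf 0x40c4106841ef00a747487060e)) (.node (.node (.leaf 0x100) (.leaf 0xa13c4c9298628d09104f1080610)) (.leaf 0x25166a51a8800310)))) (.node (.node (.node (.node (.leaf 0x100) (.leaf 0xc410724f3442050848c41890610)) (.leaf 0x1340c92a0023c603a4c00510)) (.node (.node (.leaf 0x304c9931860e8254fa08b68046820710) (.leaf 0x45332c47a0547a4402870619a32b5c0b0810)) (.leaf 0x20865585e03d802920e40510))) (.node (.node (.node (.leaf 0x14908900020f) (.leaf 0x664baf3ee4c981dc8c112630a890710)) (.leaf 0x100)) (.node (.leaf 0x1107053a875fcc0004c10510) (.leaf 0x100))))) (.node (.node (.node (.node (.node (.leaf 0x100) (.leaf 0x6137a33993010b1d19620510)) (.leaf 0x100)) (.node (.node (.leaf 0x100) (.leaf 0x581d3cc3e7c01f307848b7030d8d0710)) (.leaf 0x40575b028122410040f))) (.node (.node (.node (.leaf 0x100) (.leaf 0x100800020b)) (.leaf 0x100)) (.node (.node (.leaf 0x9d50b43c00e401aa6850510) (.leaf 0x241260002030c)) (.leaf 0x20323061948162210410))))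 (.node (.node (.node (.node (.leaf 0x68334015380610a3091043c30610) (.leaf 0x6002639c0102840810a20510)) (.leaf 0x31e2c47cf9cd24a10a5923400610)) (.node (.node (.leaf 0x10061400020f) (.leaf 0x7419272e011d0c0b1b842201b2021d0c0810)) (.leaf 0x6c642331235075430804228a0610))) (.node (.node (.node (.leaf 0x100) (.leaf 0xf33050382504c163c1b3d2f112924050810)) (.leaf 0x4a60fe33924958159dc20510)) (.node (.leaf 0x30f262302a8504b28b3031890610) (.leaf 0x2e6cb0c74c290c2a8c7052a8c8100710))))))) (.node (.node (.node (.node (.node (.node (.node (.leaf 0x100) (.leaf 0x4d0068109061552071492820610)) (.leaf 0x60c6edb7e9048b0819e80510)) (.node (.node (.leaf 0x147c0a09020f) (.leaf 0x2107689000880310)) (.leaf 0x7884dde36b530f1870503d8215820710))) (.node (.node (.node (.leaf 0x4452077960841271c47cb5810610) (.leaf 0x8424a56985ce3c110a54540c0610)) (.leaf 0x1108119401cc26c8cc3050f)) (.node (.node (.leaf 0x100) (.leaf 0x34948b91ca8e2eb181bcf6000610)) (.leaf 0x26ac602a0aa31203144055a7cc0e0710))))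 (.node (.node (.node (.node (.leaf 0x100) (.leaf 0x8c123341821030f)) (.leaf 0x100)) (.node (.node (.leaf 0x100) (.leaf 0x4c90237a071034408b4492560610)) (.leaf 0xa71a2fa62f3b001048d30510))) (.node (.node (.node (.leaf 0x100) (.leaf 0x30024a0013032522858041c40610)) (.leaf 0x100)) (.node (.leaf 0x100) (.leaf 0x3081cb6416c72660c67065500610))))) (.node (.node (.node (.node (.node (.leaf 0x100) (.leaf 0x58000208)) (.leaf 0x38e4bb7e954922531a0050f)) (.node (.node (.leaf 0x71816414071453060410) (.leaf 0x21308caa0f0822d3c900d1820610)) (.leaf 0x11680838505c104040f))) (.node (.node (.node (.leaf 0x100) (.leaf 0x2c894e06169291704a08ccc120ed797d88350910)) (.leaf 0x24099856a6500310)) (.node (.node (.leaf 0x100) (.leaf 0x1520ea022d5463420410)) (.leaf 0x23611c12b042b234047d221f2b434c030810)))) (.node (.node (.node (.node (.leaf 0x100) (.leaf 0x430c5b207831651877515840610)) (.leaf 0x100)) (.node (.node (.leaf 0x100) (.leaf 0x8851dcd570c947418c80c6c00610)) (.leaf 0x3e6c6176c88d0e2714a0a665dd0f0710)))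 (.node (.node (.node (.leaf 0x100) (.leaf 0x30da3868251a0310)) (.leaf 0x100)) (.node (.leaf 0x14230b642c1282090b75180f110912130810) (.leaf 0x48373d80101b801b03122e2f660000230810)))))) (.node (.node (.node (.node (.node (.node (.leaf 0x100) (.leaf 0x2951380a0a185c5895440510)) (.leaf 0x3c1cc8266ade850d70086ac592860710)) (.node (.node (.leaf 0x100) (.leaf 0x54951181e50e125342e4d4820610)) (.leaf 0x184e811ca132043d08e40510))) (.node (.node (.node (.leaf 0x100) (.leaf 0x100)) (.leaf 0x30ecb84dc9ab0a197480d04a42220710)) (.node (.node (.leaf 0x301322a113034040d) (.leaf 0x20e05a05298f86d5067c05910610)) (.leaf 0x100)))) (.node (.node (.node (.node (.leaf 0x100) (.leaf 0x100)) (.leaf 0x62c4096082e0e2a54c191a3540f0710)) (.node (.node (.leaf 0x100) (.leaf 0x517c8e198bd341580410)) (.leaf 0xb0c58a467f24b3c10410))) (.node (.node (.node (.leaf 0x80240100008030f) (.leaf 0x41010900c306611040f)) (.leaf 0x100)) (.node (.leaf 0x9109c6a6c50ac84808a30510) (.leaf 0x100))))) (.node (.node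 (.node (.node (.node (.leaf 0x8220b41890008e02e4585ba5550c0710) (.leaf 0x45a48f649bc228a44e7c81c40610)) (.leaf 0x280c94ada2700a2990c50510)) (.node (.node (.leaf 0x20446722803cd00195000510) (.leaf 0x100800020b)) (.leaf 0x7013d6adb0072f6300a0e7400610))) (.node (.node (.node (.leaf 0x100) (.leaf 0x1a0984a126fa4d8a0d21d885c2081198aa150910)) (.leaf 0x9463253438c83503088463810610)) (.node (.leaf 0x100) (.leaf 0x10702827092a30c500020d060f)))) (.node (.node (.node (.node (.leaf 0x100) (.leaf 0x210097b01e2474250410)) (.leaf 0x4e510ce123845d00ea050f)) (.node (.node (.leaf 0x4000010f) (.leaf 0x5b39a404461551240410)) (.leaf 0x100))) (.node (.node (.node (.leaf 0x100) (.leaf 0x90702607569b54e0220cd8501a6f15076110910)) (.leaf 0x401453211a2064110410)) (.node (.leaf 0x100) (.leaf 0x4029302410500310)))))))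

/-- data -/
def val1p3 : Trie (ℕ) := .node (.node (.node (.node (.node (.node (.node (.node (.leaf 0x100) (.leaf 0x4055808020e)) (.leaf 0x2610b9310e4338130410)) (.node (.node (.leaf 0x100) (.leaf 0x25208a24324b3151c094430d0610)) (.leaf 0x60ed4ccd49310f7038ab358c40880710))) (.node (.node (.node (.leaf 0x100) (.leaf 0x9080110810910310)) (.leaf 0xdacf12961314d0420410)) (.node (.node (.leaf 0x100) (.leaf 0x4080b4120210)) (.leaf 0x204a85a4a313000918630510)))) (.node (.node (.node (.node (.leaf 0x100) (.leaf 0x122342d57ecf1640ca7986410610)) (.leaf 0x100)) (.node (.node (.leaf 0x100) (.leaf 0x1c8517c5f94c41c3cc9cc00f0610)) (.leaf 0x38714a8929dfa502f8084908908b0710))) (.node (.node (.node (.leaf 0x100) (.leaf 0x20ad00020b)) (.leaf 0x100)) (.node (.leaf 0x111344a52b32005920070510) (.leaf 0x18447a53447d50148dc10510))))) (.node (.node (.node (.node (.node (.leaf 0x100) (.leaf 0x2805802020d)) (.leaf 0x4861c87570430e828380c5420610)) (.node (.node (.leaf 0x10e3446cf8cd21c14060a5460610)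 (.leaf 0x1236c679068200800d0051460610)) (.leaf 0x8e0057518c52121c820c1c10610))) (.node (.node (.node (.leaf 0x100) (.leaf 0x74359d9a481036b10094f50a0610)) (.leaf 0x5848d6e9e58714a82882470883070f)) (.node (.node (.leaf 0x23cc26324227ce679c860510) (.leaf 0x4c811a6aac5fa50370102e889a840710)) (.leaf 0x50c8851a043dc4a18c400510)))) (.node (.node (.node (.node (.leaf 0x100) (.leaf 0x32044422034dd0288d010510)) (.leaf 0x8942f11da165c8008c880510)) (.node (.node (.leaf 0x100) (.leaf 0x8904c9042030c)) (.leaf 0x1037d224024410040e))) (.node (.node (.node (.leaf 0x100) (.leaf 0x3842ceadf84902e1048125400610)) (.leaf 0x2c9115ca2a121aa420b5e45009070f)) (.node (.leaf 0x722eedb5ad3c8c0d3aa00510) (.leaf 0x3a22492e9d79813510960c009846490f0810)))))) (.node (.node (.node (.node (.node (.node (.leaf 0x100) (.leaf 0x2b3ec0674a4c0310)) (.leaf 0x100)) (.node (.node (.leaf 0x1000a400020f) (.leaf 0x2113238220210040d)) (.leaf 0x78c5eeb659d761a3c481264b0610))) (.node (.node (.node (.leaf 0x100)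 (.leaf 0x410768862d02d2ee18e00510)) (.leaf 0x180c8200c03442088d470510)) (.node (.node (.leaf 0x78a1909e6e35822880820510) (.leaf 0x8e30665dc4348d1d21cc38f0610)) (.leaf 0x23266080410320610410)))) (.node (.node (.node (.node (.leaf 0x100) (.leaf 0xae692f5dd4f00715c15000b0610)) (.leaf 0x100)) (.node (.node (.leaf 0x100) (.leaf 0x4c651579804a1212c6c4b5040610)) (.leaf 0x1c3048e20404032e5c50a8c091a20710))) (.node (.node (.node (.leaf 0x18486300c044421785450510) (.leaf 0x4ef207ca05120a11c64d55060610)) (.leaf 0x5091d7479cc1c31e08c43850610)) (.node (.leaf 0x100) (.leaf 0x4e49d2f161811a8adda2eca04e0c0710))))) (.node (.node (.node (.node (.node (.leaf 0x100) (.leaf 0x501d9bc3a54b1d14f801fe8496820710)) (.leaf 0x100)) (.node (.node (.leaf 0x100) (.leaf 0x120fc0cae751ba18172349c2a2f0f1843c240910)) (.leaf 0x4041885a000030f))) (.node (.node (.node (.leaf 0x100) (.leaf 0x223a02682ab30310)) (.leaf 0x100800020b)) (.node (.node (.leaf 0x100) (.leaf 0x40e35295b85121c04458c4c00610))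 (.leaf 0x660d3218ce9312055c481827d50a0710)))) (.node (.node (.node (.node (.leaf 0x100) (.leaf 0x7489c8044f5293620410)) (.leaf 0x22800aaea303826220a10510)) (.node (.node (.leaf 0x5848d730840dc0268dc10510) (.leaf 0x910139eea1212c5a8e00510)) (.leaf 0x200106))) (.node (.node (.node (.leaf 0x100) (.leaf 0xf8946e0521088d204482192a3b88004ce440910)) (.leaf 0x715b210e4921c85400050510)) (.node (.leaf 0x4814d254d00b0de18590a3430610) (.leaf 0x124326e03523d1830410))))))) (.node (.node (.node (.node (.node (.node (.node (.leaf 0x41345301182064110410) (.leaf 0x1ebcd05b0aae1e050440d5e8d4060710)) (.leaf 0x8ca7a5a8e59a31b00dd4b6800610)) (.node (.node (.leaf 0x593720798a423e4a08630811752734160810) (.leaf 0x137926c103252040d)) (.leaf 0x32020a10b401142040f))) (.node (.node (.node (.leaf 0x100) (.leaf 0x11008c880d011601318cdc941638804c0430910)) (.leaf 0x410606506a1063684e07123c3100710)) (.node (.node (.leaf 0x100020209) (.leaf 0x2504a4e2072313400410)) (.leaf 0x500cae200210)))) (.node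 (.node (.node (.node (.leaf 0x100) (.leaf 0x3507323b80724c1a02a11d04493b282c0810)) (.leaf 0x39d415184443ce699c840510)) (.node (.node (.leaf 0x100) (.leaf 0x239602657181a2430410)) (.leaf 0x10882538205e40c98c840510))) (.node (.node (.node (.leaf 0x100) (.leaf 0x41a095090210)) (.leaf 0x100)) (.node (.leaf 0x100) (.leaf 0xc300896a5e38902c84963440c8c0710))))) (.node (.node (.node (.node (.node (.leaf 0x100) (.leaf 0x100)) (.leaf 0x284cbac5c6a30716cc70d08242880710)) (.node (.node (.leaf 0x100) (.leaf 0x98835189ef04ac078d4034830610)) (.leaf 0x100))) (.node (.node (.node (.leaf 0x100) (.leaf 0x4c841d1c304c042101dc22830610)) (.leaf 0x7247ac221932d3240410)) (.node (.node (.leaf 0x100) (.leaf 0xa02502020c)) (.leaf 0x100)))) (.node (.node (.node (.node (.leaf 0x100) (.leaf 0x32a800d6a6f5933038b8e0e683810710)) (.leaf 0x18881238c14ec08c95000510)) (.node (.node (.leaf 0x48000208) (.leaf 0x6a5d13988a8a1c0eec508d685d000710)) (.leaf 0x5a4501b7c8091a0cfc0829a5dc0b0710))) (.node (.node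 (.node (.leaf 0x100) (.leaf 0xb06223086331948b0410)) (.leaf 0x480610a920930310)) (.node (.leaf 0x3c3c0d9ab9774b2d0f52062028582f410810) (.leaf 0x34040d84381c8e290a790a236a1109100810)))))) (.node (.node (.node (.node (.node (.node (.leaf 0x100) (.leaf 0x481a19020210)) (.leaf 0x82591107a40a610040f)) (.node (.node (.leaf 0xcf282918c0a1db1834514000610) (.leaf 0x403453031a2064110410)) (.leaf 0x2928ac740a8750c090ec64742048828bc530910))) (.node (.node (.node (.leaf 0x100) (.leaf 0x35e1c7a53d4f374381c142440610)) (.leaf 0x100)) (.node (.node (.leaf 0x2bcc3d2a0c524e34a4840510) (.leaf 0xd8812fcdb2d0bd47a131680803b30710)) (.leaf 0x26ca007072212029c3073a5cf000710)))) (.node (.node (.node (.node (.leaf 0x100) (.leaf 0x982d370dd650409782490510)) (.leaf 0x100)) (.node (.node (.leaf 0x100) (.leaf 0x463435464f233137081e1304822847080810)) (.leaf 0x610f82948711c01918270510))) (.node (.node (.node (.leaf 0x100) (.leaf 0x32251014400e141494502e23e1290710)) (.leaf 0x100)) (.node (.leaf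 0x5552a7a1059a0d728040d15a0610) (.leaf 0x332362278458924217750c0285414e0a0810))))) (.node (.node (.node (.node (.node (.leaf 0x100) (.leaf 0x8135703cfa872fa48fa022510610)) (.leaf 0x10028010012040b)) (.node (.node (.leaf 0x22c03819c431423795830510) (.leaf 0x232ca402610030e)) (.leaf 0x79403123091030f))) (.node (.node (.node (.leaf 0x100) (.leaf 0x8865e69db5d70a4004b906400610)) (.leaf 0xd00116d584001218428c1c00610)) (.node (.leaf 0x1001836479430501d40022480610) (.leaf 0x160a17025131570121a00e0c9a2e29010810)))) (.node (.node (.node (.node (.leaf 0x100) (.leaf 0x6d759d68619c040182c4798f0610)) (.leaf 0x64320d0038446004425c02830610)) (.node (.node (.leaf 0x237831231421a2300410) (.leaf 0x8126e072240a0310)) (.leaf 0x4026c065b9c74aa1c5c125c00610))) (.node (.node (.node (.leaf 0x100) (.leaf 0x7a203f5e99532d43559a461cc638510a0810)) (.leaf 0x100)) (.node (.leaf 0x100) (.leaf 0x12020080040030e)))))))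

/-- data -/
def val1p4 : Trie (ℕ) := .node (.node (.node (.node (.node (.node (.node (.node (.leaf 0x100) (.leaf 0xa0d389822f48c72901640510)) (.leaf 0x100)) (.node (.node (.leaf 0x2410421471822624092822090610) (.leaf 0x6e848a081030c)) (.leaf 0x104b23642a6513610410))) (.node (.node (.node (.leaf 0x100) (.leaf 0x40342001241182320410)) (.leaf 0x100)) (.node (.node (.leaf 0x10a54a660468a3720a1050f) (.leaf 0x100105)) (.leaf 0x22414731c131d60394830510)))) (.node (.node (.node (.node (.leaf 0x100) (.leaf 0x141e4aa6e94b0c2a41610510)) (.leaf 0x100)) (.node (.node (.leaf 0x100) (.leaf 0x3ce38f3438c23083c88c41030610)) (.leaf 0x67bd216b56100310))) (.node (.node (.node (.leaf 0xb949f843a490ea099d480510) (.leaf 0x103a81309200030f)) (.leaf 0x100)) (.node (.leaf 0xce10f8dd6c219810034c1450610) (.leaf 0x151101b1cc8a2e528544f5000610))))) (.node (.node (.node (.node (.node (.leaf 0x100) (.leaf 0x4260b0575497d0b0f9e08125c322f030810)) (.leaf 0x100)) (.node (.node (.leaf 0x1000109)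 (.leaf 0x4c13180860452932c484540b0610)) (.leaf 0x140573d1645224100410))) (.node (.node (.node (.leaf 0x100) (.leaf 0x4010fa692ecf9107308034488a970710)) (.leaf 0x75c1040184310a2f0c000510)) (.node (.node (.leaf 0x100) (.leaf 0x55100a21c410040c)) (.leaf 0x319031094418c40b8a0b0510)))) (.node (.node (.node (.node (.leaf 0x100) (.leaf 0x3a6930325140b4830410)) (.leaf 0x100)) (.node (.node (.leaf 0x100) (.leaf 0x8891140004030e)) (.leaf 0xdc00c228c2042381c060510))) (.node (.node (.node (.leaf 0x100) (.leaf 0x630e35e05c8384110410)) (.leaf 0x8258100081030e)) (.node (.leaf 0x100) (.leaf 0x28419967aae6a724f81856868f850710)))))) (.node (.node (.node (.node (.node (.node (.leaf 0x100) (.leaf 0x3800165d359152216114084a092d0a062000910)) (.leaf 0x23164883111113200410)) (.node (.node (.leaf 0x728ce5ae4358642288200510) (.leaf 0x2e9d501ccbb62e19bc187ae7d90b0710)) (.leaf 0x301c4b1745024927178011076422491a0810))) (.node (.node (.node (.leaf 0x100) (.leaf 0x2961402a98228634368f000b5347560f0810))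 (.leaf 0x8258100093030e)) (.node (.node (.leaf 0x4d08681090615520514b2840610) (.leaf 0x209ee2046509481c10e00510)) (.leaf 0x700a85ac0324801911620510)))) (.node (.node (.node (.node (.leaf 0x100) (.leaf 0x67481e9cc29012ddc585baa57070710)) (.leaf 0x100)) (.node (.node (.leaf 0x100) (.leaf 0x5e85ab3a4b400e35d28c305c0610)) (.leaf 0x31505196a8609ec6096a0510))) (.node (.node (.node (.leaf 0x63543501282182300410) (.leaf 0x2444201020d)) (.leaf 0x8c0417d394519414828c1450610)) (.node (.leaf 0x70576421c915c6160ca20510) (.leaf 0x44c313755d462a624a1ca18b0610))))) (.node (.node (.node (.node (.node (.leaf 0x100) (.leaf 0x221488415720a0040410)) (.leaf 0x300e42940302883910a00510)) (.node (.node (.leaf 0x100) (.leaf 0x22a09378ebf9861df068c0e60d8c0710)) (.leaf 0x2406b33841a485094c0050f))) (.node (.node (.node (.leaf 0x100) (.leaf 0x484c5241027d448f85400510)) (.leaf 0x24014a42664093105840f9040c850710)) (.node (.node (.leaf 0x100) (.leaf 0x500a6081c16b183c08e60510)) (.leaf 0x3028b9c8a75a9b08a078c166088f0710))))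 (.node (.node (.node (.node (.leaf 0x100) (.leaf 0x200106)) (.leaf 0x296242de5d4d16e28ac169520610)) (.node (.node (.leaf 0x514568522b7450600410) (.leaf 0x7012dc9e514719a104f104c70610)) (.leaf 0x6020308570c928624688e24f0610))) (.node (.node (.node (.leaf 0x100) (.leaf 0x3ee592fc4e9c3434f4f827eb58060710)) (.leaf 0x100)) (.node (.leaf 0x3cb513d2cd902f1085b576880610) (.leaf 0x66a105030140040c))))))) (.node (.node (.node (.node (.node (.node (.node (.leaf 0x100) (.leaf 0x34c000c865dc9d468091804707150710)) (.leaf 0x100)) (.node (.node (.leaf 0x2c513201801030e) (.leaf 0x2086b78e61068a2719680510)) (.leaf 0x1053de3c754d0a0142d867d20610))) (.node (.node (.node (.leaf 0x100) (.leaf 0x9361c1b39116903233a0622c21e27300810)) (.leaf 0x100)) (.node (.node (.leaf 0x100) (.leaf 0x443099c9edd38b1178181b481b820710)) (.leaf 0x2800000020d)))) (.node (.node (.node (.node (.leaf 0x100) (.leaf 0x811450282b814465070850410610)) (.leaf 0x32478802053293060410)) (.node (.node (.leaf 0x100) (.leaf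 0x4c497b6a30e2a51930301c0a148b0710)) (.leaf 0x100))) (.node (.node (.node (.leaf 0x100) (.leaf 0x35100352c07132470410)) (.leaf 0x50634cbe184d1200865903c50610)) (.node (.leaf 0x100) (.leaf 0x10e0d17cfbc122634648c54a0610))))) (.node (.node (.node (.node (.node (.leaf 0x100) (.leaf 0x4106c622435cd40204420510)) (.leaf 0x1c0003a387290f3efcd032e2cb0b0710)) (.node (.node (.leaf 0x100) (.leaf 0xb0e4ca2c440f5e63077880890610)) (.leaf 0x4008c9042030c))) (.node (.node (.node (.leaf 0x100) (.leaf 0x312d3c319262803a0b6f0109813952030810)) (.leaf 0x1c091201808030e)) (.node (.node (.leaf 0x28902d0010030d) (.leaf 0x28c494ae24214085112a0510)) (.leaf 0x21344814f482556805c882440610)))) (.node (.node (.node (.node (.leaf 0x200300000030c) (.leaf 0x44541791651005f0007cb5800610)) (.leaf 0x2295923c041625040e)) (.node (.node (.leaf 0x3ac165044414c04d114b0510) (.leaf 0x80cacdbf290682ab19a40510)) (.leaf 0x5644f218098d1a0714204aa65d0b0710))) (.node (.node (.node (.leaf 0x100) (.leaf 0x98f07c300e66da6ea6410510))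 (.leaf 0x100)) (.node (.leaf 0x44502e44695e174715a0a344868d0710) (.leaf 0x3c0c394485753f1d13aa30075842272d0810)))))) (.node (.node (.node (.node (.node (.node (.leaf 0x100) (.leaf 0x25141b4dbdd42a40d40462ce0610)) (.leaf 0x73a0a12974d850f03901118423c251b0810)) (.node (.node (.leaf 0xe5881d524e182108079206380810710) (.leaf 0x403295113e4042310410)) (.leaf 0x8c00d8539c309604a00c1430610))) (.node (.node (.node (.leaf 0x100) (.leaf 0x7567273d47460c454aec04030610)) (.leaf 0x30066522032a4c3014420510)) (.node (.node (.leaf 0x516342a578cf1ae14078e74a0610) (.leaf 0x6539a9a021a6305080ecd48e0610)) (.leaf 0x42600020a)))) (.node (.node (.node (.node (.leaf 0x100) (.leaf 0x400a201c8014885d10600510)) (.leaf 0x418143bdd7490340818142490610)) (.node (.node (.leaf 0x20038e8df4461ce29494a3170610) (.leaf 0x262477506c3306310410)) (.leaf 0x874c037872b18270cd013664a100710))) (.node (.node (.node (.leaf 0x100) (.leaf 0x41878e6e9f39750d908a5c513920710)) (.leaf 0x45068661475255200410)) (.node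 (.leaf 0x100) (.leaf 0x245177c2278e64060d08d11a0610))))) (.node (.node (.node (.node (.node (.leaf 0x100) (.leaf 0x817304130436212040f)) (.leaf 0x70d2e4a52363921c19e20510)) (.node (.node (.leaf 0x100) (.leaf 0xd00c892a040511090c9202060f)) (.leaf 0x6056229c05038c3808600510))) (.node (.node (.node (.leaf 0x100) (.leaf 0x450666c0552013220410)) (.leaf 0x1b84f9ae202d900428210510)) (.node (.leaf 0x100) (.leaf 0x614bc694a722124a18670510)))) (.node (.node (.node (.node (.leaf 0x100) (.leaf 0x160786e146ba5572171ed80740e95180a6130910)) (.leaf 0x100)) (.node (.node (.leaf 0x100) (.leaf 0x430059b4206d1c2429a80510)) (.leaf 0x3448e9662a569520c818390691800710))) (.node (.node (.node (.leaf 0x8874abd69420218988d0510) (.leaf 0x30070011c90904530ca60510)) (.leaf 0x18c03429413ccc4215000510)) (.node (.leaf 0x40476a59e8970442577001410610) (.leaf 0x5812407d33430f2082a0a5c80610)))))))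

/-- data -/
def val1p5 : Trie (ℕ) := .node (.node (.node (.node (.node (.node (.node (.node (.leaf 0x100) (.leaf 0x41b5c0090e4b7aac4a4852c40610)) (.leaf 0x21c544b441122045106240060f)) (.node (.node (.leaf 0x100) (.leaf 0xa54393b0a11ca309d010510)) (.leaf 0x80195152360610100410))) (.node (.node (.node (.leaf 0x100) (.leaf 0x40342111441182320410)) (.leaf 0x213e1819a2810310)) (.node (.node (.leaf 0x3142cad6d3c916e585f180d50610) (.leaf 0x6e15735a518a240f04888f2751140710)) (.leaf 0x10a6d10c2487356497f8a54e0610)))) (.node (.node (.node (.node (.leaf 0x100) (.leaf 0x733936098a469e3a0fdf260d812d641f0810)) (.leaf 0x100)) (.node (.node (.leaf 0x100) (.leaf 0x1a821b9f6523126098e10510)) (.leaf 0x4b0c0120a10030f))) (.node (.node (.node (.leaf 0x100) (.leaf 0x1091866969861d90010892020610)) (.leaf 0x2d6d31cd9b420310)) (.node (.leaf 0x100) (.leaf 0xb08588447f44f3a00410))))) (.node (.node (.node (.node (.node (.leaf 0x100) (.leaf 0x2640a0f1a2418010442028a145010710)) (.leaf 0x142907467236940305631a1d122d26010810))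 (.node (.node (.leaf 0x100) (.leaf 0x495a00020c)) (.leaf 0x100))) (.node (.node (.node (.leaf 0x100) (.leaf 0x74631591e48a2d31855495020610)) (.leaf 0x1101c27d194b21a1c228c3400610)) (.node (.node (.leaf 0x100) (.leaf 0x521d62db901e200b84081ae8d80c0710)) (.leaf 0x801c02a4a8e60c6721900ac4098d0710)))) (.node (.node (.node (.node (.leaf 0x100) (.leaf 0x9183529021f40898d810510)) (.leaf 0x1d510670c80a0970854cb4870610)) (.node (.node (.leaf 0x64558d610123210874217dc000970710) (.leaf 0x4320b1d79457b050d8c000e5e3e31030810)) (.leaf 0x424ac2b4e023042809660510))) (.node (.node (.node (.leaf 0x100) (.leaf 0x2c706828aad38b13185004c886930710)) (.leaf 0x8c88709c05542179d430510)) (.node (.leaf 0x9d879d3c4d4818f4d2a464050610) (.leaf 0x100)))))) (.node (.node (.node (.node (.node (.node (.leaf 0x100) (.leaf 0x1006185a2e1a860f1bb9280a331b10060810)) (.leaf 0x400107)) (.node (.node (.leaf 0x100) (.leaf 0x200030003a0002010410)) (.leaf 0x4d4a7b0dcbc95640c908e5d40610))) (.node (.node (.node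 (.leaf 0x100) (.leaf 0x44f78d8124903992c29d35840610)) (.leaf 0x100)) (.node (.node (.leaf 0x100) (.leaf 0x5022d70450862543058863cc0610)) (.leaf 0x100)))) (.node (.node (.node (.node (.leaf 0x100) (.leaf 0xc77c35832c23c2130410)) (.leaf 0x84865014045400895030510)) (.node (.node (.leaf 0x269ca048481c1414c41834a74d060710) (.leaf 0x320090568b8e06232c208924d3030710)) (.leaf 0x2a70e200025b003f3d8023a189050710))) (.node (.node (.node (.leaf 0x1650ab2091030d) (.leaf 0x243099b7ac618211f00873e787930710)) (.leaf 0x100)) (.node (.leaf 0x306a4801b410160040f) (.leaf 0x152a154f2137890c1478020f7032150a0810))))) (.node (.node (.node (.node (.node (.leaf 0x100) (.leaf 0x4041c10011001541019842440610)) (.leaf 0x100)) (.node (.node (.leaf 0x2e2a1534837145211730381c4e3631050810) (.leaf 0x5a2007945d4d722f352c580d4e14083d0810)) (.leaf 0x100))) (.node (.node (.node (.leaf 0x100) (.leaf 0x200106)) (.leaf 0x100)) (.node (.node (.leaf 0x100) (.leaf 0x230f26056a487612298728054d2944060810))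 (.leaf 0x40144e1847854424899820430610)))) (.node (.node (.node (.node (.leaf 0x100) (.leaf 0x18d8605eb162917a39f300498e8a0710)) (.leaf 0xbbe1802a0228075e0410)) (.node (.node (.leaf 0xa98203925f6910468da23480a820710) (.leaf 0x520961060203863110a30510)) (.leaf 0x80100020a))) (.node (.node (.node (.leaf 0x47c2829020e) (.leaf 0x494252de1d4f32c34a8165c70610)) (.leaf 0x100)) (.node (.leaf 0x4840212500400310) (.leaf 0x930241050030c))))))) (.node (.node (.node (.node (.node (.node (.node (.leaf 0x100) (.leaf 0x2cd30389080e05d10344b3840610)) (.leaf 0x100)) (.node (.node (.leaf 0x1c6afd21446082d81df00510) (.leaf 0x138e6bb7eb54124531a00510)) (.leaf 0x15b44225470340100410))) (.node (.node (.node (.leaf 0x100) (.leaf 0xd25badbd28202047098d20a52c60710)) (.leaf 0x308045224058d01a04ac0510)) (.node (.node (.leaf 0x38245110281b42a481c30510) (.leaf 0x281795510a2342320410)) (.leaf 0x10e3cc00e2d3012243a021070610)))) (.node (.node (.node (.node (.leaf 0x100) (.leaf 0x2328c8c12f1093810410))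 (.leaf 0x2071443cf2c42a41c18084420610)) (.node (.node (.leaf 0x100) (.leaf 0x12ac785b8f960c440d4a1086cc010710)) (.leaf 0x21212e158e60721c17a51006773b4c0e0810))) (.node (.node (.node (.leaf 0xe360124b365871501b20d165e463b1b0810) (.leaf 0x3047a806497053830410)) (.leaf 0x2834c6c61dcb3b02c6a964c50610)) (.node (.leaf 0x100) (.leaf 0x100))))) (.node (.node (.node (.node (.node (.leaf 0x100) (.leaf 0x58daeab20d810310)) (.leaf 0x11448722812f502f95c30510)) (.node (.node (.leaf 0x100) (.leaf 0xb0434410a8855dc3075821870610)) (.leaf 0x1c96332007d881a7c414708a0610))) (.node (.node (.node (.leaf 0x82100020a) (.leaf 0x14b28189888a1211c3acd8110610)) (.leaf 0x100)) (.node (.node (.leaf 0x100) (.leaf 0x38d8c8cdef71a30b68110a0b17830710)) (.leaf 0x1c042703554b3707178e2a051e2817150810)))) (.node (.node (.node (.node (.leaf 0x100) (.leaf 0x6483801044422992c68403870610)) (.leaf 0x188c0238003d4aab8c820510)) (.node (.node (.leaf 0x100) (.leaf 0x78707c2ef365ab096011c907128f0710)) (.leaf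 0x622a73712a52a6520410))) (.node (.node (.node (.leaf 0x100) (.leaf 0x5c09d926a747991f2870ba0691890710)) (.leaf 0x80600702093030f)) (.node (.leaf 0x8acc81003c110310) (.leaf 0x1d2821d2051023b1166050f)))))) (.node (.node (.node (.node (.node (.node (.leaf 0x100) (.leaf 0x100)) (.leaf 0x100)) (.node (.node (.leaf 0x3c021b306b51290f17761c0e802c33090810) (.leaf 0x4476957947941e3104ccb4860610)) (.leaf 0x4444a139204a0591488c93080610))) (.node (.node (.node (.leaf 0x100) (.leaf 0x3690413563618706882880e500830710)) (.leaf 0x100)) (.node (.node (.leaf 0x100) (.leaf 0x1c728d1d374c4221420441440610)) (.leaf 0x37470e0da662902a148d0b23533d201c0810)))) (.node (.node (.node (.node (.leaf 0x100) (.leaf 0x100105)) (.leaf 0x400107)) (.node (.node (.leaf 0x100) (.leaf 0x3c74292502210c145c00b10340000710)) (.leaf 0x100))) (.node (.node (.node (.leaf 0x100) (.leaf 0x4156a6e33563c3020410)) (.leaf 0x100)) (.node (.leaf 0x100) (.leaf 0x204009200021040c))))) (.node (.node (.node (.node (.node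 (.leaf 0x100) (.leaf 0x817312110436212040f)) (.leaf 0x25305a48245c0310)) (.node (.node (.leaf 0x449040090a400310) (.leaf 0xe0847e061d944d209183701a1d9f098ea3e0910)) (.leaf 0x4471aa450d1013140410))) (.node (.node (.node (.leaf 0x100) (.leaf 0x52283f8a41192a452d052405262411290810)) (.leaf 0x100)) (.node (.leaf 0x100) (.leaf 0x2482264cd6cd30524c0c428f0610)))) (.node (.node (.node (.node (.leaf 0x100) (.leaf 0x81858618421a218410e240060f)) (.leaf 0x6641a254b0d197da924cc1850610)) (.node (.node (.leaf 0x100) (.leaf 0x4c3a0118254c4954d6dcb18c0610)) (.leaf 0x1040c659450706104104700a0610))) (.node (.node (.node (.leaf 0x100) (.leaf 0x166c109081c030e)) (.leaf 0x100)) (.node (.leaf 0x100) (.leaf 0xf5b1d0f90466822182d092b012f02220810)))))))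

/-- data -/
def val1p6 : Trie (ℕ) := .node (.node (.node (.node (.node (.node (.node (.node (.leaf 0x100) (.leaf 0x18105e4107071670000052030610)) (.leaf 0x48091110a604023284260510)) (.node (.node (.leaf 0x100) (.leaf 0x10875754641232000410)) (.leaf 0x255188e0ee0a1797096d1a0b0610))) (.node (.node (.node (.leaf 0x100) (.leaf 0xa324a100290030f)) (.leaf 0x605d3905a024803040f)) (.node (.node (.leaf 0x400107) (.leaf 0x8124d2cb5402320493863c80610)) (.leaf 0x1c7411c68aae0216bc2070e748000710)))) (.node (.node (.node (.node (.leaf 0x100) (.leaf 0x1400bc9e612d8241a8e10510)) (.leaf 0x621d0a5da6200310)) (.node (.node (.leaf 0x100) (.leaf 0x284898786d618905a84003a783990710)) (.leaf 0x5d0c80a0a10030f))) (.node (.node (.node (.leaf 0x100105) (.leaf 0x534aa8234218c83614020510)) (.leaf 0x58802390632d003388850510)) (.node (.leaf 0x100) (.leaf 0x6898f948480e4a4a8d440510))))) (.node (.node (.node (.node (.node (.leaf 0x100) (.leaf 0x4a01f71a6809442708b00510)) (.leaf 0x4bc32cc47bf100d7cc132c9cb060710))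 (.node (.node (.leaf 0x100) (.leaf 0x1321c8420d1483240410)) (.leaf 0x3800d10222500e2300240510))) (.node (.node (.node (.leaf 0x200106) (.leaf 0x1a0305128588ac70864b0510)) (.leaf 0x1341c8640b1283240410)) (.node (.node (.leaf 0x100) (.leaf 0xb0914114a1a5818124f08178f1f3c1f0810)) (.leaf 0x109411818c1014b0059cf6050610)))) (.node (.node (.node (.node (.leaf 0x100) (.leaf 0xa27505172626236040f)) (.leaf 0x44951599e7101610429d14880610)) (.node (.node (.leaf 0x100) (.leaf 0x633d145da6520310)) (.leaf 0x4440166c924001b2c705164c9040710))) (.node (.node (.node (.leaf 0x100) (.leaf 0x392304cef94006039200e14b0610)) (.leaf 0xa400b33861ac8519c840510)) (.node (.leaf 0x100) (.leaf 0x34954baa48051c91993cb2080610)))))) (.node (.node (.node (.node (.node (.node (.leaf 0x100) (.leaf 0x290d0ac723600ea091620510)) (.leaf 0x100)) (.node (.node (.leaf 0x100) (.leaf 0x200710000030c)) (.leaf 0x32f91798b7946918107050f))) (.node (.node (.node (.leaf 0x41c4810c880a0310) (.leaf 0x3ba5c984b93211ec74143b40c332b9b4d0240910))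 (.leaf 0xa89509020c)) (.node (.node (.leaf 0x48020208) (.leaf 0x3811cd18608424e100b8034c0610)) (.leaf 0x490340010030c)))) (.node (.node (.node (.node (.leaf 0x100) (.leaf 0x87061853cc00240101860810610)) (.leaf 0x100)) (.node (.node (.leaf 0x100) (.leaf 0x1a091569609b46ed8c8a0510)) (.leaf 0xa60949ed6075c9d0971c04d0610))) (.node (.node (.node (.leaf 0x100) (.leaf 0xa35ab322c63b807e11680510)) (.leaf 0x44461348c0cc1951c6bc93840610)) (.node (.leaf 0x805116d0044030f) (.leaf 0x93e07238163b70d2298110a3c3c2d030810))))) (.node (.node (.node (.node (.node (.leaf 0x100) (.leaf 0x1c938f81069224120114b18a0610)) (.leaf 0xe20030c0764010010410)) (.node (.node (.leaf 0x100) (.leaf 0x85a280891496b1b152e0a2e0d2e08250810)) (.leaf 0x24320f99c8880d1089a515000610))) (.node (.node (.node (.leaf 0x100) (.leaf 0x4e9d40a912110203d499ebacdc060710)) (.leaf 0x100)) (.node (.node (.leaf 0x8e14185194721a24438e3410610) (.leaf 0x44452b4900564c52084430940610)) (.leaf 0x21323061948062210410)))) (.node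 (.node (.node (.node (.leaf 0x100) (.leaf 0x79c03af5b45b2163c635601f0610)) (.leaf 0x605707070249221040f)) (.node (.node (.leaf 0x205729274169423040f) (.leaf 0x982fa5a82aad83101c00510)) (.leaf 0x2080810c18100310))) (.node (.node (.node (.leaf 0x100) (.leaf 0x4931048ca8836f28410358d0610)) (.leaf 0x100)) (.node (.leaf 0x4800202510100310) (.leaf 0x7c1c222ba0b07e2d09ae0510))))))) (.node (.node (.node (.node (.node (.node (.node (.leaf 0x100) (.leaf 0x100)) (.leaf 0x200106)) (.node (.node (.leaf 0x100) (.leaf 0x900010c)) (.leaf 0x49021770261030f))) (.node (.node (.node (.leaf 0x819633136633c4700410) (.leaf 0x15b110898488e1e2e691727ab3b2c090810)) (.leaf 0x28904c9042030d)) (.node (.node (.leaf 0x100) (.leaf 0x81a2900020e)) (.leaf 0x2306a6c0190011400410)))) (.node (.node (.node (.node (.leaf 0x100) (.leaf 0x2326e6e02d0193810410)) (.leaf 0x35422d29c8815a311c260510)) (.node (.node (.leaf 0x100) (.leaf 0x200011210059880800260510)) (.leaf 0x5465152145486029411c500a0610))) (.node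 (.node (.node (.leaf 0x100) (.leaf 0x6848566d11510a600f7964c50610)) (.leaf 0x100)) (.node (.leaf 0x100105) (.leaf 0x1860557cb9c02ec00e68c44c0610))))) (.node (.node (.node (.node (.node (.leaf 0x100) (.leaf 0x4804202610100310)) (.leaf 0x2414b7530c2176030410)) (.node (.node (.leaf 0x8284002020e) (.leaf 0x4820da0424833ce201b0620f0610)) (.leaf 0x3813c49e1645234083d925410610))) (.node (.node (.node (.leaf 0x100) (.leaf 0x1f2b3e1180548c360973030569334a090810)) (.leaf 0x145c202b020f)) (.node (.node (.leaf 0x54536302464982320410) (.leaf 0x40a8f96ceff2a5195048e98a15890710)) (.leaf 0x4102dbf6db410de30a69c7480610)))) (.node (.node (.node (.node (.leaf 0x100) (.leaf 0x323f88522c37a2380410)) (.leaf 0x100)) (.node (.node (.leaf 0x3c205f6141441c7101c474040610) (.leaf 0x5c0cbbe2a1c71b0258080840108a0710)) (.leaf 0x38821a40412dc4078dc10510))) (.node (.node (.node (.leaf 0x100) (.leaf 0x2e324136d385a52d09fc0606866051290810)) (.leaf 0x104a0041002030e)) (.node (.leaf 0x100) (.leaf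 0x100)))))) (.node (.node (.node (.node (.node (.node (.leaf 0x100) (.leaf 0x78a1909e6e44860880820510)) (.leaf 0x100)) (.node (.node (.leaf 0x100) (.leaf 0x1cb21d193a54b2e6c57025540610)) (.leaf 0x142175d16534b4000410))) (.node (.node (.node (.leaf 0x21b0e888ab8122908524b4070610) (.leaf 0x32c9062a8002c6069dc70510)) (.leaf 0x72c9841568729c508928c9e683800710)) (.node (.node (.leaf 0x100105) (.leaf 0xb413821623290382b07300d633540040810)) (.leaf 0x87b29fb805a649418905518c0610)))) (.node (.node (.node (.node (.leaf 0x100) (.leaf 0x198498000273c27300840510)) (.leaf 0x100)) (.node (.node (.leaf 0x200010a) (.leaf 0x8d0cc91e6811550c138b1880610)) (.leaf 0x3006c60e442bd81908010510))) (.node (.node (.node (.leaf 0x803455316a3182720410) (.leaf 0x35c05d551a4218e0413d40450610)) (.leaf 0x4ca48548840a48d349bc11810610)) (.node (.leaf 0x100) (.leaf 0x421cf2d409051616d418c8e3d0020710))))) (.node (.node (.node (.node (.node (.leaf 0x100) (.leaf 0x100)) (.leaf 0x18514375f6c42b400038a3430610))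 (.node (.node (.leaf 0x2a55b15b0fb5282744400a69da000710) (.leaf 0x7984c4768598f5220410)) (.leaf 0x100))) (.node (.node (.node (.leaf 0x100) (.leaf 0x9e2ae1d698f47f14a3c20c50610)) (.leaf 0x3880b39e62510a0398430510)) (.node (.leaf 0x100) (.leaf 0x514bc694a722124a18670510)))) (.node (.node (.node (.node (.leaf 0x100) (.leaf 0x4c0159e428421902a8b0f9c30b850710)) (.leaf 0xbd94b5a0c25e5171c22510980610)) (.node (.node (.leaf 0x100) (.leaf 0x300ec62a052a483504400510)) (.leaf 0x1128e8806d5125040410))) (.node (.node (.node (.leaf 0x100) (.leaf 0x26c5a3a8c244e4eb600050f)) (.leaf 0x88dc2c594416d267adc00510)) (.node (.leaf 0x66746a857225c0020410) (.leaf 0x4009302410500310)))))))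

/-- data -/
def val1p7 : Trie (ℕ) := .node (.node (.node (.node (.node (.node (.node (.node (.leaf 0x100) (.leaf 0x100)) (.leaf 0x38cb91062436825004680510)) (.node (.node (.leaf 0x100) (.leaf 0x3a44bd538800c295a5020510)) (.leaf 0x3a308bf4e3ec810c384901240a8e0710))) (.node (.node (.node (.leaf 0x100) (.leaf 0x95208000602030f)) (.leaf 0x90217a5e00b002920610510)) (.node (.node (.leaf 0x240010a) (.leaf 0x4874ec6df6cf4a6141b0e7c60610)) (.leaf 0x2478185a6e648b03183106080c830710)))) (.node (.node (.node (.node (.leaf 0x100) (.leaf 0x18d41f06c2761145cca151a65d290710)) (.leaf 0x66348a2c4e600310)) (.node (.node (.leaf 0x100) (.leaf 0x840ec859a0aa0310)) (.leaf 0x3872660c370b08110728108b0610))) (.node (.node (.node (.leaf 0x100) (.leaf 0x70422a427212e1200410)) (.leaf 0x100)) (.node (.leaf 0x100) (.leaf 0xe23922b62e700310))))) (.node (.node (.node (.node (.node (.leaf 0x100) (.leaf 0x805802020c)) (.leaf 0xa55a1432554231c51c818f060f)) (.node (.node (.leaf 0x35441f3459c80031505c60820610)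 (.leaf 0x2800000020d)) (.leaf 0x3e1d11b5450e100874403aa5d3020710))) (.node (.node (.node (.leaf 0x100) (.leaf 0x881e414d08700a2056061110610)) (.leaf 0xa2c5024858b040d0c28a123c2100710)) (.node (.node (.leaf 0x100) (.leaf 0x14a70154825091380410)) (.leaf 0x400107)))) (.node (.node (.node (.node (.leaf 0x100) (.leaf 0x45865dafe90e024a32280510)) (.leaf 0x100)) (.node (.node (.leaf 0x352018ca406023b2063050f) (.leaf 0x1f780ad99d49f71c0bae132203523f180810)) (.leaf 0x1010c80cb0c12120858060c10610))) (.node (.node (.node (.leaf 0x100) (.leaf 0x6103609db3d302210050e4450610)) (.leaf 0x100105)) (.node (.leaf 0x281510301b0a24d4001473050610) (.leaf 0x34b649aa288524b2992c92860610)))))) (.node (.node (.node (.node (.node (.node (.leaf 0x100105) (.leaf 0x48000208)) (.leaf 0x221680021515316040f)) (.node (.node (.leaf 0x100) (.leaf 0x208712081030c)) (.leaf 0x5d080eefb254c31228b1638886370710))) (.node (.node (.node (.leaf 0x100) (.leaf 0x30104a64f8c721c24c4024480610)) (.leaf 0x100))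 (.node (.node (.leaf 0x100) (.leaf 0x38024d104104350201c842ca0610)) (.leaf 0x242c5a05ca2307230c303183c3060710)))) (.node (.node (.node (.node (.leaf 0x100) (.leaf 0x28945020621a46a984420510)) (.leaf 0x5433041c7540617446dc140d0610)) (.node (.node (.leaf 0x4008104400420310) (.leaf 0x1082c2381b8014a59f9841050610)) (.leaf 0x157003d20e8c1c921119120c0610))) (.node (.node (.node (.leaf 0x100) (.leaf 0x5c07473e5f3b071d1f88160bb4324d020810)) (.leaf 0x624205138648d41184020510)) (.node (.leaf 0x100) (.leaf 0xc410001800030e))))) (.node (.node (.node (.node (.node (.leaf 0x100) (.leaf 0x39333e02aa86761e02971f01934d342c0810)) (.leaf 0x62d4480e087646469d740510)) (.node (.node (.leaf 0x100105) (.leaf 0x2252d43a00210310)) (.leaf 0x30a469a8452a0408d480d006c30c0710))) (.node (.node (.node (.leaf 0x100) (.leaf 0x100)) (.leaf 0x100)) (.node (.node (.leaf 0x100) (.leaf 0x2c688858e7e493012858c646948a0710)) (.leaf 0x100)))) (.node (.node (.node (.node (.leaf 0x100) (.leaf 0x2844f6bea420884018e80510))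 (.leaf 0x40260002030b)) (.node (.node (.leaf 0x9b4498905081800cb2490060610) (.leaf 0x21114394c12cc88190c70510)) (.leaf 0x30086081274510400410))) (.node (.node (.node (.leaf 0x100) (.leaf 0x3926048513401802504040450610)) (.leaf 0x502373d0a292f4670410)) (.node (.leaf 0x213415d04612e2740410) (.leaf 0x61006480231103200410))))))) (.node (.node (.node (.node (.node (.node (.node (.leaf 0x100) (.leaf 0x100)) (.leaf 0x39d0c1994a12552387a4570f0610)) (.node (.node (.leaf 0x7022e1e4500b4b2d80e0030280070f) (.leaf 0x284c8f0862c9a536d82961c400270710)) (.leaf 0x245808dc8ed20310))) (.node (.node (.node (.leaf 0x100) (.leaf 0x4234b042410a8644ccc8c9634b050710)) (.leaf 0x100)) (.node (.node (.leaf 0x100) (.leaf 0x2e4ca1a6ca9a02058c38664644160710)) (.leaf 0x944061662723d4a90410)))) (.node (.node (.node (.node (.leaf 0x100) (.leaf 0x2bc42b39c245ca10acb00510)) (.leaf 0x100)) (.node (.node (.leaf 0x100) (.leaf 0x1030c82903831460c590314a0610)) (.leaf 0x529f0daff151962731630510))) (.node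 (.node (.node (.leaf 0x100) (.leaf 0x7056a29c850c8c5e11220510)) (.leaf 0x4482048eee58520b80900c683930710)) (.node (.leaf 0x100) (.leaf 0x9c4a4218013ca4995470510))))) (.node (.node (.node (.node (.node (.leaf 0x100) (.leaf 0x589b783905010310)) (.leaf 0x232da444290030e)) (.node (.node (.leaf 0x100) (.leaf 0x23442cb1691dc9220f541f4245281f1e0810)) (.leaf 0x100))) (.node (.node (.node (.leaf 0x442c8050d23030f) (.leaf 0x29185485242a806e81470510)) (.leaf 0x19819ba55ac41e000c3521910610)) (.node (.node (.leaf 0x100) (.leaf 0x60d93aae2ff4b105a038ef0b20840710)) (.leaf 0x100)))) (.node (.node (.node (.node (.leaf 0xe73d0c1ccac60310) (.leaf 0x74c005d9745c505069a1f20173c2d050810)) (.leaf 0x1a011851a4501a00608c2c2060f)) (.node (.node (.leaf 0x2b516305206252810c800510) (.leaf 0x24218d44bac45165462480c10610)) (.leaf 0x100))) (.node (.node (.node (.leaf 0x100) (.leaf 0x10854764b5c906800528e3410610)) (.leaf 0x295bfc1925080310)) (.node (.leaf 0x82cc8140bc110310) (.leaf 0xc1987c18de0f40f113d003470610))))))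 (.node (.node (.node (.node (.node (.node (.leaf 0x100) (.leaf 0x91d141176568a1423791c0d3b2f32100810)) (.leaf 0x12854234253491420410)) (.node (.node (.leaf 0x4a00c1010030c) (.leaf 0x10020352010030e)) (.leaf 0x7804568979c6934cc080c9c3889b0710))) (.node (.node (.node (.leaf 0x100) (.leaf 0x34592241b4e5b0240410)) (.leaf 0x4cc19b1a23027c51825c370d0610)) (.node (.node (.leaf 0x31f1f0b1af0502500968f2820610) (.leaf 0x21000207)) (.leaf 0x59472017aa449a3c13b93a0d733d2e1c0810)))) (.node (.node (.node (.node (.leaf 0x100) (.leaf 0x150470a4421490f4298b0510)) (.leaf 0x76499332748006410410)) (.node (.node (.leaf 0x100) (.leaf 0x60d2e5134712489a0c640510)) (.leaf 0x2a00a0064b0f062b2440a8e453030710))) (.node (.node (.node (.leaf 0x100) (.leaf 0x10127188603d043b10e40510)) (.leaf 0x210402020b)) (.node (.leaf 0x480b2d4261553d1f0a8a0a06ea206f300810) (.leaf 0x2a1c65108757a14318680702864045050810))))) (.node (.node (.node (.node (.node (.leaf 0x100) (.leaf 0x25125a9188000310)) (.leaf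 0x100)) (.node (.node (.leaf 0x100) (.leaf 0x2d1d3843945a983a05910c15dd3d68190810)) (.leaf 0x358982a4a1206102488050f))) (.node (.node (.node (.leaf 0x100) (.leaf 0x20a5f41428177597031880490610)) (.leaf 0x6316a794cb58981c19200510)) (.node (.leaf 0x28c8671a8036403795850510) (.leaf 0xd9441c16b040112930d108c0610)))) (.node (.node (.node (.node (.leaf 0x100) (.leaf 0x23c00394b2602058440b5a74c0a0710)) (.leaf 0xbd93b9c9201c6231c315309c0610)) (.node (.node (.leaf 0x100) (.leaf 0x10c68418c100421804220510)) (.leaf 0x3db08af1ed8a02d1894553880610))) (.node (.node (.node (.leaf 0x100) (.leaf 0x2c763328285681e7c214700e0610)) (.leaf 0x15226680233055040410)) (.node (.leaf 0x6137a33993018b1d19620510) (.leaf 0x100)))))))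

/-- data -/
def val1p8 : Trie (ℕ) := .node (.node (.node (.node (.node (.node (.node (.node (.leaf 0x100) (.leaf 0x706d2674033271420410)) (.leaf 0x2417d7705e6016030410)) (.node (.node (.leaf 0x100) (.leaf 0x8a0857519432181c61ca0450610)) (.leaf 0x400107))) (.node (.node (.node (.leaf 0x100) (.leaf 0x100)) (.leaf 0x100)) (.node (.node (.leaf 0x506a68047311140040f) (.leaf 0x68a454be994d234080a164c90610)) (.leaf 0x40a3d09e184d1a8100b123470610)))) (.node (.node (.node (.node (.leaf 0x100) (.leaf 0x58dca6060210)) (.leaf 0x100)) (.node (.node (.leaf 0x100) (.leaf 0x6914da0836850c2183d004460610)) (.leaf 0x22801aa6a3140a6220a30510))) (.node (.node (.node (.leaf 0x100) (.leaf 0x148048adfac56284402103c70610)) (.leaf 0x80529f5e316a02e20610510)) (.node (.leaf 0x3625d320bca164010410) (.leaf 0x100))))) (.node (.node (.node (.node (.node (.leaf 0x100) (.leaf 0x8810360002030e)) (.leaf 0x14759659268212f1c8ccd5850610)) (.node (.node (.leaf 0x100) (.leaf 0x44111e65cd223522b41177c1d0130710))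 (.leaf 0x100))) (.node (.node (.node (.leaf 0x100) (.leaf 0x100105)) (.leaf 0x2880da4c33cd00324a8080c50610)) (.node (.node (.leaf 0x4462419a321886b80410) (.leaf 0x48c4527d97cf29e0c09905400610)) (.leaf 0x81412044443462a81430510)))) (.node (.node (.node (.node (.leaf 0x100) (.leaf 0x142573501222b2210410)) (.leaf 0x562184f0a320a468fe2a6ee2c38c0710)) (.node (.node (.leaf 0x100) (.leaf 0x8a3923840248f00907050f)) (.leaf 0x28411290bac0a1f4c7072a64c040710))) (.node (.node (.node (.leaf 0x100105) (.leaf 0x536815328332d2650410)) (.leaf 0x918b4216334453440410)) (.node (.leaf 0x9109c6a6c31ac84808a30510) (.leaf 0x10204c2e30464c5a88e8e2c60610)))))) (.node (.node (.node (.node (.node (.node (.leaf 0x100) (.leaf 0x12252f44202158000e02283180060d0f0810)) (.leaf 0x20634e14d14532404f7084440610)) (.node (.node (.leaf 0x100) (.leaf 0x60830a081030c)) (.leaf 0x100))) (.node (.node (.node (.leaf 0x100) (.leaf 0x2116acc3053313220410)) (.leaf 0xd508ab10c061312896d15010610)) (.node (.node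 (.leaf 0xbe7c40a851584f401210510) (.leaf 0x380d29a0a043910278087b420b820710)) (.leaf 0x2c6c2b68cb3801236c8090a64c050710)))) (.node (.node (.node (.node (.leaf 0x654504607a00c16bc6051e4cb020710) (.leaf 0x210898ada035862290600510)) (.leaf 0x520962020203863110a30510)) (.node (.node (.leaf 0x100) (.leaf 0x100)) (.leaf 0x21000207))) (.node (.node (.node (.leaf 0x734b66128311c0140cc50510) (.leaf 0xe1262c9e69459e222b240510)) (.leaf 0x24c1b2bc83bd4329d42050f)) (.node (.leaf 0x2e0512613147285040f) (.leaf 0x800002020c))))) (.node (.node (.node (.node (.node (.leaf 0x100) (.leaf 0x1844faca112b11169c09f08545060710)) (.leaf 0x24020b34f3ca0e22000481050610)) (.node (.node (.leaf 0xc421f241044140202dc11060610) (.leaf 0x4c4cde4b8a244257b5820510)) (.leaf 0x314241422b2231040410))) (.node (.node (.node (.leaf 0x10414052a37051140410) (.leaf 0x4dc288cd9ccd3162c6ad01910610)) (.leaf 0x19f289e72a1c030f)) (.node (.node (.leaf 0x100) (.leaf 0x1e3425068d39952506a82710743a4f040810)) (.leaf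 0x38625a84f5cd01414678e2c70610)))) (.node (.node (.node (.node (.leaf 0x100) (.leaf 0x271b32490b0f2f2628231f1a930716020810)) (.leaf 0x100)) (.node (.node (.leaf 0x85ced9302d090310) (.leaf 0x411e3089c3cb2c5e20850510)) (.leaf 0xc014268898210f2150012830610))) (.node (.node (.node (.leaf 0x100) (.leaf 0x1188089e2022926420630510)) (.leaf 0x100)) (.node (.leaf 0x45c48114880a0310) (.leaf 0x2048904a030a))))))) (.node (.node (.node (.node (.node (.node (.node (.leaf 0x100) (.leaf 0x5c54f8e3a84e00272900ba8311840710)) (.leaf 0x623d025c8ad20310)) (.node (.node (.leaf 0x100) (.leaf 0xcf406a20c081f5004b536010610)) (.leaf 0x2c159b0063ce1570d4ac53820610))) (.node (.node (.node (.leaf 0x100) (.leaf 0x1831d04108894e74818c35890610)) (.leaf 0x633a4200ca0a0310)) (.node (.node (.leaf 0x100) (.leaf 0x29c2339de456121910e20510)) (.leaf 0x800000020c)))) (.node (.node (.node (.node (.leaf 0x100) (.leaf 0x715bca613765b3460410)) (.leaf 0x1020404c91411e21811460450610)) (.node (.node (.leaf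 0xa0ac00020c) (.leaf 0x4413199126940591070052080610)) (.leaf 0x1b8627822b1a4243a0830510))) (.node (.node (.node (.leaf 0x100) (.leaf 0x82d744020731c03e14a40510)) (.leaf 0xa606886a6e495287098640609830710)) (.node (.leaf 0x10b00489298615b2050092820610) (.leaf 0x494352adda4f2261427144470610))))) (.node (.node (.node (.node (.node (.leaf 0x100) (.leaf 0x50daeab20d810310)) (.leaf 0x100)) (.node (.node (.leaf 0x100) (.leaf 0x51c1e41a450fc28505490510)) (.leaf 0x4c60eaaa6c60a31158386d0817800710))) (.node (.node (.node (.leaf 0x100) (.leaf 0x1956cabb0b11030f)) (.leaf 0x81525771661082310410)) (.node (.node (.leaf 0x100) (.leaf 0x274e206b651bb90a06662f284f2a11000810)) (.leaf 0x8e14185194721824438e3410610)))) (.node (.node (.node (.node (.leaf 0x100) (.leaf 0x460d21b88b101810dc5818e5cf0a0710)) (.leaf 0x835101175822034040f)) (.node (.node (.leaf 0x6a4ad6322460221304420510) (.leaf 0x2820a02470430000c66861c30610)) (.leaf 0x29041730c12d480a85c10510))) (.node (.node (.node (.leaf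 0x100) (.leaf 0x415b49b5e936061a20690510)) (.leaf 0x20382806a7da830d1868a4c510840710)) (.node (.leaf 0x3cd31399889026128354f4860610) (.leaf 0x100)))))) (.node (.node (.node (.node (.node (.node (.leaf 0x100) (.leaf 0x18c55d424648d87525880510)) (.leaf 0x100)) (.node (.node (.leaf 0x100) (.leaf 0xd3585db098e4690cc85b50e0610)) (.leaf 0x91c28ade4304ea098450510))) (.node (.node (.node (.leaf 0x100) (.leaf 0x400107)) (.leaf 0x8c20b74144525c03041c218a0610)) (.node (.node (.leaf 0x100) (.leaf 0x3322a162236321060410)) (.leaf 0x42c8f7060c0814011df80510)))) (.node (.node (.node (.node (.leaf 0x100) (.leaf 0x9a001b59d321874955a80f264a220710)) (.leaf 0x5cbf9809d41453b294fcda910610)) (.node (.node (.leaf 0x100) (.leaf 0x51d2504e3b0a37e90fa063c10610)) (.leaf 0x28009696a40e062420210510))) (.node (.node (.node (.leaf 0x100) (.leaf 0x202021057557510d018010027830330d0810)) (.leaf 0x40220928200c0310)) (.node (.leaf 0x100) (.leaf 0x39162e5748380a1a0c5d0d00872140010810))))) (.node (.node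 (.node (.node (.node (.leaf 0x100) (.leaf 0x880000020c)) (.leaf 0x40490b6daff3a30d887968cb11990710)) (.node (.node (.leaf 0x100) (.leaf 0xd94873c6e860040299ac0510)) (.leaf 0x428601fd4fb8360f342058abd70e0710))) (.node (.node (.node (.leaf 0x100) (.leaf 0x10e6471461c914c04b80e08d0610)) (.leaf 0x200380000030c)) (.node (.leaf 0x100) (.leaf 0x819637136601a0920410)))) (.node (.node (.node (.node (.leaf 0x100) (.leaf 0x2034114198a064230410)) (.leaf 0x28b8581968e19303183864478b8b0710)) (.node (.node (.leaf 0x22340043002382120410) (.leaf 0x258094360121332acc02be0952f0710)) (.leaf 0xa8c74c2401910f004d8860930610))) (.node (.node (.node (.leaf 0x100) (.leaf 0x688e017133063040d)) (.leaf 0x100)) (.node (.leaf 0x100) (.leaf 0x100)))))))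

/-- data -/
def val1p9 : Trie (ℕ) := .node (.node (.node (.node (.node (.node (.node (.node (.leaf 0x100) (.leaf 0xc5208020a)) (.leaf 0x100)) (.node (.node (.leaf 0x100) (.leaf 0x23140397190e8f22027c2d120c1429260810)) (.leaf 0x100))) (.node (.node (.node (.leaf 0x71636434293451240410) (.leaf 0x38865c50432ec4068e000510)) (.leaf 0x71896ecc4109008e31270510)) (.node (.node (.leaf 0x100) (.leaf 0x58045665d3c91a618590c3450610)) (.leaf 0x4c001000800030f)))) (.node (.node (.node (.node (.leaf 0x100) (.leaf 0x843625a1c6960e5083a4b7000610)) (.leaf 0x100)) (.node (.node (.leaf 0x148000020b) (.leaf 0xa503116675c840f3800838608800710)) (.leaf 0x24847fb7213d8080b0270510))) (.node (.node (.node (.leaf 0x100) (.leaf 0x1615b5903c20c4740410)) (.leaf 0x100)) (.node (.leaf 0x100) (.leaf 0x100))))) (.node (.node (.node (.node (.node (.leaf 0x100) (.leaf 0x56c1f04a64e1901318f9a7c80f860710)) (.leaf 0x7b0486a72561ce07a98f0510)) (.node (.node (.leaf 0x40593702c304630040f) (.leaf 0x1a4ce0e18682814525898924c7020710))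 (.leaf 0x706a26065105341040f))) (.node (.node (.node (.leaf 0x100) (.leaf 0x2492132168c40534d85c72580610)) (.leaf 0x3cd06391c88a34238d2d130c0610)) (.node (.node (.leaf 0x280cb9a464428b26b86019c50b800710) (.leaf 0xb623ad520fc763584c44b1620610)) (.leaf 0x4a589080030b)))) (.node (.node (.node (.node (.leaf 0x100) (.leaf 0x144775521242f2210410)) (.leaf 0x457295a1459011b0019d16810610)) (.node (.node (.leaf 0x100) (.leaf 0x5ac41c230c31c29684810510)) (.leaf 0x6414921c3a4591984ef452870610))) (.node (.node (.node (.leaf 0x100) (.leaf 0x686436e12b671d60c43110234d1f0710)) (.leaf 0x38a9700c6e38d4a68d800510)) (.node (.leaf 0x100) (.leaf 0xc83054cfa4238e34ac4828b0610)))))) (.node (.node (.node (.node (.node (.node (.leaf 0x100) (.leaf 0x314b3621844a14550c840510)) (.leaf 0x584d52856815820d80830510)) (.node (.node (.leaf 0x100) (.leaf 0x28007129a010d66980020510)) (.leaf 0x2658085eb3675b3d19541c203a3a03390810))) (.node (.node (.node (.leaf 0x100) (.leaf 0x376242426754b3220410))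 (.leaf 0x1b13003d88668426214f0e2f2f190c2c0810)) (.node (.node (.leaf 0x100) (.leaf 0x4092535084061c32819052d20610)) (.leaf 0x100)))) (.node (.node (.node (.node (.leaf 0x100) (.leaf 0x4544a6e56052a188e2050f)) (.leaf 0x100)) (.node (.node (.leaf 0x100) (.leaf 0x111b12156434982c37133c2508192c030810)) (.leaf 0x80d154f94239e34248c4c6060f))) (.node (.node (.node (.leaf 0x100) (.leaf 0x82735495a1f070d80410)) (.leaf 0x100)) (.node (.leaf 0x109ee10c6719501c18a00510) (.leaf 0x10c0258ba5119b08056c0510))))) (.node (.node (.node (.node (.node (.leaf 0x100) (.leaf 0x4b473294e21020574888627ce060710)) (.leaf 0x1000109)) (.node (.node (.leaf 0x681281e4d00b471590a0a30282070f) (.leaf 0x283150406c0024038f8015130610)) (.leaf 0x10310d2686589c0106a1011704390c200810))) (.node (.node (.node (.leaf 0x100) (.leaf 0x10a4d854f853000106a8c4c80610)) (.leaf 0x34b62fb1689e36b3867cf3920610)) (.node (.node (.leaf 0x231286e23625c1200410) (.leaf 0x10884b1ae8ee8f06f839600692900710)) (.leaf 0x31878ba669020e8b31230510))))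 (.node (.node (.node (.node (.leaf 0x100) (.leaf 0x203460014003a2340410)) (.leaf 0x100)) (.node (.node (.leaf 0x100) (.leaf 0x602d1ae5e8460f0f3850980493850710)) (.leaf 0x75208a017645da354f7883ca0610))) (.node (.node (.node (.leaf 0x100) (.leaf 0x2c7830e92c5f8d18b8492546878d0710)) (.leaf 0x58855cc6d7cf22c180e165490610)) (.node (.leaf 0x18044a0cf04321018d80a2410610) (.leaf 0x100))))))) (.node (.node (.node (.node (.node (.node (.node (.leaf 0x100) (.leaf 0x100)) (.leaf 0x100)) (.node (.node (.leaf 0x1797ca80b6118a0c4615a9c8c1563985281f0910) (.leaf 0xa29db559ce063408ec68eae9501e0710)) (.leaf 0x100))) (.node (.node (.node (.leaf 0x100) (.leaf 0x54761bd2e8901ef142cd558c0610)) (.leaf 0x18784827e7619310c868a3858b830710)) (.node (.node (.leaf 0x100) (.leaf 0x39d063380115d26e9cc20510)) (.leaf 0x100)))) (.node (.node (.node (.node (.leaf 0x100) (.leaf 0x400107)) (.leaf 0x10a713262a0030200410)) (.node (.node (.leaf 0x80b412020c) (.leaf 0x820655411641a2540410)) (.leaf 0x21000102020f)))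 (.node (.node (.node (.leaf 0x32438422230153220410) (.leaf 0x1224f0b3060c0e08b4688923d30d0710)) (.leaf 0x100)) (.node (.leaf 0x8056e7bc6535005d21230510) (.leaf 0x100))))) (.node (.node (.node (.node (.node (.leaf 0x100) (.leaf 0x100)) (.leaf 0x7894da30c80dc40b9dc00510)) (.node (.node (.leaf 0x100) (.leaf 0x45832c22b4c3ca605050e)) (.leaf 0xa49bc6ec3692a32023050f))) (.node (.node (.node (.leaf 0x100) (.leaf 0x228037b4e21d8c34b0050510)) (.leaf 0x598df085e610042b84840510)) (.node (.node (.leaf 0x72a56644794490c10410) (.leaf 0x33232002030231380410)) (.leaf 0x2770ac4a854fa0f0acb141f255360250810)))) (.node (.node (.node (.node (.leaf 0x100) (.leaf 0x40736465564f28414830a0910610)) (.leaf 0x32610364328031200410)) (.node (.node (.leaf 0x20b362b2ee8906f34f40d0060610) (.leaf 0xc050c863759d066ccb454519aa070f)) (.leaf 0x58885738803d482a8d800510))) (.node (.node (.node (.leaf 0x100) (.leaf 0x1944c941c1124a1624440510)) (.leaf 0x3894f2826632166988020510)) (.node (.leaf 0x100) (.leaf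 0x782c8c86ae4b0d1088600a040e8f0710)))))) (.node (.node (.node (.node (.node (.node (.leaf 0x100) (.leaf 0x24d423e2ce144e128575558e0610)) (.leaf 0xa100422015d582e8dc30510)) (.node (.node (.leaf 0x100) (.leaf 0x520c1effa0258cc220250510)) (.leaf 0x100))) (.node (.node (.node (.leaf 0x100) (.leaf 0x26242104694d511100920a078a3239030810)) (.leaf 0x5092a3228749d05200c50510)) (.node (.node (.leaf 0x2a7d715d91302017bc40152ae1040710) (.leaf 0x146ce285c19704498c68c5a7cd010710)) (.leaf 0x495b6c73cd1693028647ab10610)))) (.node (.node (.node (.node (.leaf 0x100) (.leaf 0x100)) (.leaf 0x100)) (.node (.node (.leaf 0x100) (.leaf 0x3b012a390c160316099f02285509032c0810)) (.leaf 0x29c611862234920910a20510))) (.node (.node (.node (.leaf 0x100) (.leaf 0x30384b2e9349733f038005028e403f190810)) (.leaf 0x214002020b)) (.node (.leaf 0x100) (.leaf 0x6a4034f7110b8e124c983a63c8140710))))) (.node (.node (.node (.node (.node (.leaf 0x100) (.leaf 0x909329babe78412d819a04989230710)) (.leaf 0x420e279cc39d241a20630510))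 (.node (.node (.leaf 0x100) (.leaf 0x1b87c8c593f129004e042240e07818ccc4230910)) (.leaf 0x568592fe12af301f34305aaad9100710))) (.node (.node (.node (.leaf 0x100) (.leaf 0x4852486cf2013f23817865c60610)) (.leaf 0x5ca32355594a1001882483520610)) (.node (.leaf 0x421483380b8d120a84209a25d10a0710) (.leaf 0x20d208a7e3571a4619a20510)))) (.node (.node (.node (.node (.leaf 0x100105) (.leaf 0xcd11280eb841e13854495890610)) (.leaf 0x30642926c975cb431c841d22584e431f0810)) (.node (.node (.leaf 0x792076300644d62794c40510) (.leaf 0x3c04060c0403219040ec558b0610)) (.leaf 0x100))) (.node (.node (.node (.leaf 0xe64a0b906a7120f7cf03827d3080710) (.leaf 0x16040474b5470c500a20a0850610)) (.leaf 0x50c2011898a50310)) (.node (.leaf 0x100) (.leaf 0x38ddb0992809866e8d420510)))))))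

/-- data -/
def val1p10 : Trie (ℕ) := .node (.node (.node (.node (.node (.node (.node (.node (.leaf 0x100) (.leaf 0x1dca6371f206012040f)) (.leaf 0x100)) (.node (.node (.leaf 0x2b38074131079707153e051e14201b160810) (.leaf 0xfd295bc91c163c145a51c5c79c070f)) (.leaf 0x6cd6803830909195c368350b0610))) (.node (.node (.node (.leaf 0x41600020a) (.leaf 0x64510370e9442a33521c51540610)) (.leaf 0x140079a5e03c8800394f0510)) (.node (.node (.leaf 0x400107) (.leaf 0x66113dc6c1833f4101ac0414ac4441410810)) (.leaf 0x25ac00020b)))) (.node (.node (.node (.node (.leaf 0x100) (.leaf 0x180549d221c08031821050f)) (.leaf 0x14010b9a22021d50c434f0d80610)) (.node (.node (.leaf 0x100) (.leaf 0x41a400020c)) (.leaf 0x40600020a))) (.node (.node (.node (.leaf 0x100) (.leaf 0x4d04118538ce16804801208d0610)) (.leaf 0x100)) (.node (.leaf 0xb0174197070c10db10630510) (.leaf 0x8182800020e))))) (.node (.node (.node (.node (.node (.leaf 0x100) (.leaf 0x408c201a54500310)) (.leaf 0x100)) (.node (.node (.leaf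 0x100) (.leaf 0x1aa07296a8768228e0b9410507820710)) (.leaf 0x308816020b))) (.node (.node (.node (.leaf 0x100) (.leaf 0x14243173cba40e7638f0776258190710)) (.leaf 0x100)) (.node (.node (.leaf 0x506cdb6200e309320d30b800c2810710) (.leaf 0x83214a8dde926a5014d11717e14b68180810)) (.leaf 0x501342a113212040d)))) (.node (.node (.node (.node (.leaf 0x60072b3a0e288394968602102050710) (.leaf 0xad868bb2bfa9902d009408a0b870710)) (.leaf 0x100)) (.node (.node (.leaf 0x100) (.leaf 0x600e639c63440a3811200510)) (.leaf 0x100))) (.node (.node (.node (.leaf 0x10433022120092630410) (.leaf 0x72ca91e68b0310413cd284060f)) (.leaf 0x44152b54393d24131b503009921c31010810)) (.node (.leaf 0x100) (.leaf 0x10710a3082002852c184350f0610)))))) (.node (.node (.node (.node (.node (.node (.leaf 0x100) (.leaf 0x304b37324269185514480510)) (.leaf 0x100)) (.node (.node (.leaf 0x100) (.leaf 0x8730878a28a030f)) (.leaf 0x5e44ad1a9215165e4cf192634a1a0710))) (.node (.node (.node (.leaf 0x100) (.leaf 0x21446a230017c804a4460510))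 (.leaf 0xdc80c8081f1408840834e75203070f)) (.node (.node (.leaf 0x100) (.leaf 0x400d29c12043910288285b430c800710)) (.leaf 0x3441929c42346049d81050f)))) (.node (.node (.node (.node (.leaf 0x100) (.leaf 0x60926e20b4813220cbf822470610)) (.leaf 0x100)) (.node (.node (.leaf 0x100) (.leaf 0x30d3de786d810d34131035130610)) (.leaf 0x488345a5f6c20bc040c949460610))) (.node (.node (.node (.leaf 0x248581008030c) (.leaf 0x78c6d15d11433ea489a945c60610)) (.leaf 0x17644102a152b3410410)) (.node (.leaf 0x100) (.leaf 0x6c2415b9c1083392419cd8000610))))) (.node (.node (.node (.node (.node (.leaf 0x100) (.leaf 0x2031d05948094633816453810610)) (.leaf 0x38314730848434a28188324c0610)) (.node (.node (.leaf 0x100) (.leaf 0xc3848e8b0698741106884880d8b0710)) (.leaf 0x100))) (.node (.node (.node (.leaf 0x100) (.leaf 0x960103c2c80030f)) (.leaf 0x100)) (.node (.node (.leaf 0x100) (.leaf 0xa0a0200554b3d0800800e0237240a330810)) (.leaf 0x5520049a949d90b069c2b2a074435070810)))) (.node (.node (.node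 (.node (.leaf 0x100) (.leaf 0x3c529f60c38c00f185a4b3080610)) (.leaf 0x30106e20ae0b7717025c340b0610)) (.node (.node (.leaf 0x60b9188e92100310) (.leaf 0x1c128f38c2060130448471860610)) (.leaf 0x9000707c6095cf789890510))) (.node (.node (.node (.leaf 0x100) (.leaf 0xc19b75f8ce23e0010104c4060f)) (.leaf 0x100)) (.node (.leaf 0x2349250c94508016135b1e270f270e160810) (.leaf 0x2008104a030a))))))) (.node (.node (.node (.node (.node (.node (.node (.leaf 0x100) (.leaf 0x1921575cdc4002214888e5ce0610)) (.leaf 0x100)) (.node (.node (.leaf 0x100) (.leaf 0x6bc416b56aa0816acd87468cb0e0710)) (.leaf 0x100))) (.node (.node (.node (.leaf 0x100) (.leaf 0x5c761bbaa99026f040f537840610)) (.leaf 0x100)) (.node (.node (.leaf 0x100) (.leaf 0x584c63200115c62d85410510)) (.leaf 0x104330221000b0630410)))) (.node (.node (.node (.node (.leaf 0x100) (.leaf 0x74d3006120084a74c19053020610)) (.leaf 0x10651104182031220410)) (.node (.node (.leaf 0x400107) (.leaf 0x5de5a75c9fc850e64c6c82ca0610)) (.leaf 0x112046102752b0830410)))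 (.node (.node (.node (.leaf 0x100) (.leaf 0x34444c88ceb2152f3c60f6c54a080710)) (.leaf 0x75008230651021610410)) (.node (.leaf 0x29c95b1a4a025479a5c00510) (.leaf 0x1950242900124a0995c30510))))) (.node (.node (.node (.node (.node (.leaf 0x100) (.leaf 0x31a548bd1e5525804c7184c10610)) (.leaf 0x100)) (.node (.node (.leaf 0x100) (.leaf 0x1488e81a6c73994108e847c917800710)) (.leaf 0xaa50044860c0c211c89c569cc060710))) (.node (.node (.node (.leaf 0x100) (.leaf 0x100)) (.leaf 0x101c585bc4521a0468123c0060f)) (.node (.node (.leaf 0x100) (.leaf 0x200106)) (.leaf 0x62c51598caa2345a5d703de765090710)))) (.node (.node (.node (.node (.leaf 0x100) (.leaf 0x40410938e38a2e40457c11830610)) (.leaf 0x6ce61f6244885e5204dcb6840610)) (.node (.node (.leaf 0x100) (.leaf 0x2a4809280e1245689905aa153190710)) (.leaf 0x410da082432e446000850510))) (.node (.node (.node (.leaf 0x100) (.leaf 0x2526c6c04b1193810410)) (.leaf 0x1c96b32826d881e7c214908c0610)) (.node (.leaf 0x100) (.leaf 0x20c2e5d420a0c65891530510))))))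 (.node (.node (.node (.node (.node (.node (.leaf 0x10433022302292630410) (.leaf 0x21437e7d3595af1b909103470610)) (.leaf 0x100)) (.node (.node (.leaf 0x100) (.leaf 0x89d018385a02b867d17c971f0610)) (.leaf 0x346795922214f4430410))) (.node (.node (.node (.leaf 0xf0a38a247d2491a00410) (.leaf 0x49a1c3a535cb1621015102450610)) (.leaf 0x5945d08cd7d71e40808105c60610)) (.node (.node (.leaf 0x100) (.leaf 0x6065e6451095045301a0a1c90610)) (.leaf 0x365294789c1225888d10b8110610)))) (.node (.node (.node (.node (.leaf 0x100) (.leaf 0x3664ad3489a9848c6a78b523c5080710)) (.leaf 0x100)) (.node (.node (.leaf 0x2022c04473c31e008078c3440610) (.leaf 0x388d5a39c62c4c199d080510)) (.leaf 0x208d185582100310))) (.node (.node (.node (.leaf 0x100) (.leaf 0x42752a81b141a2210410)) (.leaf 0x4f2734597e484e40076b0a09832946080810)) (.node (.leaf 0x100) (.leaf 0x54001f6123440070038473860610))))) (.node (.node (.node (.node (.node (.leaf 0x100) (.leaf 0x49408042c82030f)) (.leaf 0x1cf18499ab0a6575004cd3060610))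 (.node (.node (.leaf 0x100) (.leaf 0x40546182657906b633500360cd0b0710)) (.leaf 0x411f0094091c105218cd0510))) (.node (.node (.node (.leaf 0x21000207) (.leaf 0x18a3535d16c20ea103e105480610)) (.leaf 0x20e1c64475c90180c290a4ca0610)) (.node (.leaf 0x4c011b79e08414d043d4d4860610) (.leaf 0x81cb019d821c881911200510)))) (.node (.node (.node (.node (.leaf 0x100) (.leaf 0x40075072183422100410)) (.leaf 0x100)) (.node (.node (.leaf 0x9803fa6dd19510c282c087460610) (.leaf 0x3214c192c3100a1094205b64530b0710)) (.leaf 0x1528e8806d5025040410))) (.node (.node (.node (.leaf 0x44d285c16b0a17f405bcda090610) (.leaf 0xaa78eb51ac53016540d21110610)) (.leaf 0x12089649843016148148141060f)) (.node (.leaf 0x3c1410253f6032430410) (.leaf 0x250192986354a2aa4c4050f)))))))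

/-- data -/
def val1p11 : Trie (ℕ) := .node (.node (.node (.node (.node (.node (.node (.node (.leaf 0x100) (.leaf 0x100)) (.leaf 0xc04ad6bbc56b43411d62cf060f)) (.node (.node (.leaf 0x296344953c4d06a0c69125c40610) (.leaf 0x80380081030b)) (.leaf 0xb063f958c471e87cee80a760610))) (.node (.node (.node (.leaf 0x100) (.leaf 0x4b0827908860cf18724b2820610)) (.leaf 0x34d38589460e05f00294d5830610)) (.node (.node (.leaf 0x100) (.leaf 0x80cfa29dcde6de74844b0510)) (.leaf 0x3051600003050c20005820450610)))) (.node (.node (.node (.node (.leaf 0x100) (.leaf 0x130017040160e2320410)) (.leaf 0xc898134b672bcaa28ec20510)) (.node (.node (.leaf 0x100) (.leaf 0x2b4ccb324145461eae430510)) (.leaf 0x243115100841c4300410))) (.node (.node (.node (.leaf 0x100) (.leaf 0x44320099e3840e70c25cb28a0610)) (.leaf 0x4823507d32cb0a400340c3c10610)) (.node (.leaf 0x449513b2498e167041a515860610) (.leaf 0xd089cc243f02f1e10410))))) (.node (.node (.node (.node (.node (.leaf 0x100) (.leaf 0x100)) (.leaf 0x100))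 (.node (.node (.leaf 0x100) (.leaf 0x3121c8b55b4d1262ca5923c50610)) (.leaf 0x495a40416231c1540410))) (.node (.node (.node (.leaf 0x100) (.leaf 0x408e408505084c5808220510)) (.leaf 0x59419730a612063294c60510)) (.node (.node (.leaf 0x100) (.leaf 0x71133ca9965c304e0ea50909cf2d4a1a0810)) (.leaf 0x1828e8c2e5cb8d0ab0705944918e0710)))) (.node (.node (.node (.node (.leaf 0x100) (.leaf 0xab1813b3a759868719820510)) (.leaf 0x100)) (.node (.node (.leaf 0x10e8494ba8eb9f32a011620c819b0710) (.leaf 0x7a50f02d6864446284f00510)) (.leaf 0x200068100048820a800828020a8c0710))) (.node (.node (.node (.leaf 0x100) (.leaf 0x2a6c71f94e1e160e94089767cb100710)) (.leaf 0x2882dc9e19cf3220448904c30610)) (.node (.leaf 0x5c57ab0c9c54c18a449c52020610) (.leaf 0x7e3062d74d858208bc58b9a454060710)))))) (.node (.node (.node (.node (.node (.node (.leaf 0x100) (.leaf 0x26271b005650820b0d610217392b0c180810)) (.leaf 0xa324a180290030f)) (.node (.node (.leaf 0x100) (.leaf 0x6615d5534912a414d50a2e25491c0710))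 (.leaf 0x24426328c2c800e1c70862050610))) (.node (.node (.node (.leaf 0x100) (.leaf 0x4c3d91a20c2226914cb555080610)) (.leaf 0x100)) (.node (.node (.leaf 0x100) (.leaf 0x5842c32085805d8487e023ce0610)) (.leaf 0x8108c9042030c)))) (.node (.node (.node (.node (.leaf 0x100) (.leaf 0xa47290442900e7405280510)) (.leaf 0x1a2dd3927a4038010410)) (.node (.node (.leaf 0x100) (.leaf 0x128ae61b0731c11201070510)) (.leaf 0x116049acfbc50f22487124c20610))) (.node (.node (.node (.leaf 0x66592a96ca200310) (.leaf 0x2d27347f7036583c127b0a07953f282a0810)) (.leaf 0x2496332806d88a07c014900c0610)) (.node (.leaf 0x100) (.leaf 0x5c9ddd4706b21f151c321e4349190710))))) (.node (.node (.node (.node (.node (.leaf 0x100) (.leaf 0xf9e80c7b60956120b032a04e2a2095066070910)) (.leaf 0x80248100008030f)) (.node (.node (.leaf 0x100) (.leaf 0xe1225651ac99a6788ce93afe0610)) (.leaf 0x100))) (.node (.node (.node (.leaf 0x100) (.leaf 0xb82978402e4b40668dc60510)) (.leaf 0x2000601020d)) (.node (.node (.leaf 0x6c2397b9c1083392419cd8000610)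 (.leaf 0x120c62d745291c26853190c348100710)) (.leaf 0x48000208)))) (.node (.node (.node (.node (.leaf 0x100) (.leaf 0x5c0863528755333b0b8a100da4405f030810)) (.leaf 0x60434aadb54902e0027123490610)) (.node (.node (.leaf 0x688c9738442dc0288e010510) (.leaf 0x4890b630440b46488cc40510)) (.leaf 0xc014468898208f2130012850610))) (.node (.node (.node (.leaf 0x100) (.leaf 0x48b45220290534648ba800c00610)) (.leaf 0x100)) (.node (.leaf 0x70d6e6254242483b09620510) (.leaf 0x4c2d0011801030f))))))) (.node (.node (.node (.node (.node (.node (.node (.leaf 0x100) (.leaf 0x3a90d69e6020426d90400510)) (.leaf 0x100)) (.node (.node (.leaf 0xc33447184090e70812c92040610) (.leaf 0x48e3ca8d37d11a014290e3c30610)) (.leaf 0x264c20d5d00381100d5804e5cd040710))) (.node (.node (.node (.leaf 0x100) (.leaf 0x3742e414ab72b3600410)) (.leaf 0x8e04464f8472101c620a2410610)) (.node (.node (.leaf 0x100) (.leaf 0x380c1020600c4a6b80c10510)) (.leaf 0x30a15484f64b12624260c2c50610)))) (.node (.node (.node (.node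 (.leaf 0x100) (.leaf 0xa0781645b54440760410)) (.leaf 0x100)) (.node (.node (.leaf 0x217631231421a2300410) (.leaf 0x243004c629c995341488c18481a10710)) (.leaf 0x1008502020d))) (.node (.node (.node (.leaf 0x62110330843101320410) (.leaf 0x25c14498f2d11377c9070c757030710)) (.leaf 0x490803010412c43881070510)) (.node (.leaf 0x413877011641a4030410) (.leaf 0x34e79b35d2140ea6872c291d0610))))) (.node (.node (.node (.node (.node (.leaf 0x100) (.leaf 0x591d9ce68222198c611b72c645110710)) (.leaf 0x100)) (.node (.node (.leaf 0x100) (.leaf 0x50e84a0f6da0df60f13d1814227b1a0be070910)) (.leaf 0x100))) (.node (.node (.node (.leaf 0x100) (.leaf 0x54b495aa2690063141b515060610)) (.leaf 0x38d023082651d20b81cb0510)) (.node (.node (.leaf 0x14e318d60348a1710a2050f) (.leaf 0x6c36637ead6f4d610dbe220dfc3e630b0810)) (.leaf 0x1c511bac7630d41d087d1e312435341d0810)))) (.node (.node (.node (.node (.leaf 0x100) (.leaf 0x434052c1905314040e)) (.leaf 0x100)) (.node (.node (.leaf 0x500fc111c513ce1a10270510)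 (.leaf 0x123470f64896163e3ca01ae357110710)) (.leaf 0xa9489c2dc88030f))) (.node (.node (.node (.leaf 0x100) (.leaf 0x160393d1081224320410)) (.leaf 0x48c10135a8800310)) (.node (.leaf 0x54814602171271420410) (.leaf 0x1e00b0b300c30a50c4783be352150710)))))) (.node (.node (.node (.node (.node (.node (.leaf 0x100) (.leaf 0x249c69a5482700368cb01145c69a0710)) (.leaf 0x100)) (.node (.node (.leaf 0x100) (.leaf 0x39cc0619c00bd01e9e850510)) (.leaf 0x140555b0421224100410))) (.node (.node (.node (.leaf 0x100) (.leaf 0x4090b85cb1658d11e0083e4b98850710)) (.leaf 0x5865d695b8d1132000b103c90610)) (.node (.node (.leaf 0x100) (.leaf 0x641d0aeab449892fe960364a89a30710)) (.leaf 0x100)))) (.node (.node (.node (.node (.leaf 0x100) (.leaf 0x4c612f18864814c1008412860610)) (.leaf 0x310b46ac232c8c1e20e30510)) (.node (.node (.leaf 0x10064a230d5071a50410) (.leaf 0x58513a31081c482995460510)) (.leaf 0x8142506a24800310))) (.node (.node (.node (.leaf 0x32478802255293060410) (.leaf 0x20786865532141000410))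 (.leaf 0x244cb3c583aa06005440b044cc0b0710)) (.node (.leaf 0x100) (.leaf 0x4e38b0f2078c8308b488caa2490a0710))))) (.node (.node (.node (.node (.node (.leaf 0x34418c2c744538924284428b0610) (.leaf 0x30452366348100410410)) (.leaf 0x100)) (.node (.node (.leaf 0x100) (.leaf 0x302039409b5fa337029e0918e64669180810)) (.leaf 0x3850ce5d74c04a8340b8c5420610))) (.node (.node (.node (.leaf 0x100) (.leaf 0x204a370589497d27057201049c42590c0810)) (.leaf 0x15123552a87132250410)) (.node (.leaf 0x3d36240d73258305185835103d2c14370810) (.leaf 0x100800020b)))) (.node (.node (.node (.node (.leaf 0x100) (.leaf 0x743d6c81aa520b150871be858d950710)) (.leaf 0xc28090783719707066a1022643c430c0810)) (.node (.node (.leaf 0x100) (.leaf 0x562552520584161064786d2451030710)) (.leaf 0x100))) (.node (.node (.node (.leaf 0xc0db61120d534e3a0de80510) (.leaf 0x80c0642e32498f4f48f1ae4b958b0710)) (.leaf 0x100)) (.node (.leaf 0x55260f40c14819f1c6c453820610) (.leaf 0x100)))))))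

/-- data -/
def val1p12 : Trie (ℕ) := .node (.node (.node (.node (.node (.node (.node (.node (.leaf 0x100) (.leaf 0x306848039401161040f)) (.leaf 0x100)) (.node (.node (.leaf 0x100) (.leaf 0x18c0c05d39c73101c868a3c40610)) (.leaf 0x629d0378470c30002420586556030710))) (.node (.node (.node (.leaf 0x100) (.leaf 0x9202000004a030f)) (.leaf 0xc09179d667b146928e40510)) (.node (.node (.leaf 0x424460200210) (.leaf 0x9386058e451b089788cb0510)) (.leaf 0x6083da7d934f0e4280d0e3450610)))) (.node (.node (.node (.node (.leaf 0x100) (.leaf 0x100)) (.leaf 0x89041643671b4647014a0510)) (.node (.node (.leaf 0x108000020b) (.leaf 0x2922ac7a9028c412922050f)) (.leaf 0x434ec98a688030f))) (.node (.node (.node (.leaf 0x100) (.leaf 0x1115200b703c6a14138f20006b3132140810)) (.leaf 0x30664a007016141040f)) (.node (.leaf 0x100) (.leaf 0x6914d529445b540a86430510))))) (.node (.node (.node (.node (.node (.leaf 0x100) (.leaf 0x31a35824a31b3f72841c26170610)) (.leaf 0x60114e5d71412200409884400610)) (.node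 (.node (.leaf 0x100) (.leaf 0x326892346568820cb03901a302010710)) (.leaf 0x40045675f6cd3a0000c8e4430610))) (.node (.node (.node (.leaf 0x85cac1390d090310) (.leaf 0x408ea0854538541b08600510)) (.leaf 0x2624250c835b7317189a0f00683a430b0810)) (.node (.node (.leaf 0x100) (.leaf 0x100105)) (.leaf 0x9202a5aa49a030f)))) (.node (.node (.node (.node (.leaf 0x100) (.leaf 0x6e34a6128481a60e0820966008100710)) (.leaf 0x630a4595c589a41120450510)) (.node (.node (.leaf 0x30045424d34920c04188a1c50610) (.leaf 0x1004802020d)) (.leaf 0x4d3383a969100ef18074f8090610))) (.node (.node (.node (.leaf 0x100) (.leaf 0x4a27434c2805211344183b0dec0859340810)) (.leaf 0x516a66147306536040f)) (.node (.leaf 0x203440112001c1560410) (.leaf 0x4c7c78a340468a30a0b83bc00e980710)))))) (.node (.node (.node (.node (.node (.node (.leaf 0x100) (.leaf 0x100)) (.leaf 0x6e7017844545222040f)) (.node (.node (.leaf 0x100) (.leaf 0xb0a707a40b1e085e28a70510)) (.leaf 0x42492d320b15813238189022099e0710))) (.node (.node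 (.node (.leaf 0x100) (.leaf 0x209187a18b8a4654023110920610)) (.leaf 0xa110e78480a28908534d2800610)) (.node (.node (.leaf 0x100) (.leaf 0x2068a5f71a23068e2c6020494fdc0710)) (.leaf 0x4205813e5e08740f8e81244108c0710)))) (.node (.node (.node (.node (.leaf 0x100) (.leaf 0x301a072f713b81091a9c27142c1e4b200810)) (.leaf 0x100)) (.node (.node (.leaf 0x100) (.leaf 0xc004188e9881170911454090610)) (.leaf 0x688c9730422dc8288e010510))) (.node (.node (.node (.leaf 0x2002485810080310) (.leaf 0x405d9879c61013390c317366470c0710)) (.leaf 0x1040930920002c90c8a431040610)) (.node (.leaf 0x100) (.leaf 0x100))))) (.node (.node (.node (.node (.node (.leaf 0x100) (.leaf 0x5d059140c0460a5046cc74800610)) (.leaf 0x100)) (.node (.node (.leaf 0x100) (.leaf 0x28c1c35cd94339244640c3c10610)) (.leaf 0x114a23a5a266121d11a40510))) (.node (.node (.node (.leaf 0x100) (.leaf 0x11840966206162630410)) (.leaf 0x200106)) (.node (.node (.leaf 0x100) (.leaf 0x1668686288069d4d1d48b701479a0710)) (.leaf 0x3072600423070c60416020c50610))))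 (.node (.node (.node (.node (.leaf 0x100) (.leaf 0x552919e9656faf2c4d698609a18e0710)) (.leaf 0x821160e482259380fcb386060f)) (.node (.node (.leaf 0x100) (.leaf 0x904588627d6071c10410)) (.leaf 0x1224405707a70e12bc9153a3d0070710))) (.node (.node (.node (.leaf 0x100) (.leaf 0x145301244b4018955e9450c80610)) (.leaf 0x2172527b00210310)) (.node (.leaf 0x380008102021c43504c20510) (.leaf 0x63168fc6eb0d842929250510))))))) (.node (.node (.node (.node (.node (.node (.node (.leaf 0x100) (.leaf 0x8858e84667418f4360e01a05968e0710)) (.leaf 0x100)) (.node (.node (.leaf 0x100) (.leaf 0xe5c20188f24080acc48d4e64a080710)) (.leaf 0x56193e73ce8f863a4018f041859e0710))) (.node (.node (.node (.leaf 0x100) (.leaf 0x5f2c5e1a98829304f2d310e0610)) (.leaf 0x100)) (.node (.node (.leaf 0x45068641677231410410) (.leaf 0x100105)) (.leaf 0x470016aec6b831fd819050b8a970710)))) (.node (.node (.node (.node (.leaf 0x100) (.leaf 0x306388440b3033240410)) (.leaf 0x607831451421c4300410)) (.node (.node (.leaf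 0x2a8201aa775910e909a45490e840710) (.leaf 0x1000109)) (.leaf 0x6a4f8f844190c1a21321302460c0710))) (.node (.node (.node (.leaf 0x100) (.leaf 0x4c20f4452c40881428c84950610)) (.leaf 0x100)) (.node (.leaf 0x100) (.leaf 0x57384b16e8e09508b4d35000610))))) (.node (.node (.node (.node (.node (.leaf 0x100) (.leaf 0x3e5483f907102618341137e54c0a0710)) (.leaf 0x100105)) (.node (.node (.leaf 0x4304152010509b4c484b0d00610) (.leaf 0xd30ceed70c0b28460911b1024cba0710)) (.leaf 0x100))) (.node (.node (.node (.leaf 0x100) (.leaf 0x2e294353c788180e9c186a23d6070710)) (.leaf 0x100)) (.node (.node (.leaf 0x806b59660358e0098600510) (.leaf 0x44255d220262151280f23a8102950710)) (.leaf 0x100)))) (.node (.node (.node (.node (.leaf 0x100) (.leaf 0x282101403342200040f)) (.leaf 0x308e68aca51d0c1098630510)) (.node (.node (.leaf 0x100) (.leaf 0xcd4503281e0246281c046e24c0b0710)) (.leaf 0xb9c3311e642590518a070510))) (.node (.node (.node (.leaf 0x100) (.leaf 0x382b99e630c800318e2050f)) (.leaf 0x8265bb026800d4ab0410))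 (.node (.leaf 0x3cf39199c89026110154b5820610) (.leaf 0x141e1326816b751f1e52000c3a340b2b0810)))))) (.node (.node (.node (.node (.node (.node (.leaf 0x100) (.leaf 0x5871990db0ee9b075008ef8d1d870710)) (.leaf 0xa0593015861c610040f)) (.node (.node (.leaf 0x100) (.leaf 0xb01862d3cb9020340410)) (.leaf 0x5a9cb091e044d26685400510))) (.node (.node (.node (.leaf 0x100) (.leaf 0x74219f426772233699a2bf4507a10710)) (.leaf 0x1a64973a48224e2fae000510)) (.node (.node (.leaf 0x100) (.leaf 0x1004da4e144d08758290c2c10610)) (.leaf 0xcb5cb2c66e82428a88660510)))) (.node (.node (.node (.node (.leaf 0x38a246b55ac713c348c10a4e0610) (.leaf 0x3b16385d50400a200a6511069d2348030810)) (.leaf 0x100)) (.node (.node (.leaf 0x24601b1c54c60200831c61460610) (.leaf 0x4a0195505c4018ad0410)) (.leaf 0x18906440658929f0c12c93890610))) (.node (.node (.node (.leaf 0x19c42a2042554a06a4c40510) (.leaf 0x4a5144d3a2a88c105d0a6b20050e0710)) (.leaf 0x40020928200c0310)) (.node (.leaf 0x22b10047a4ca20a0ea902197f3d38040810)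 (.leaf 0x2264d199caaa202adcd0576852040710))))) (.node (.node (.node (.node (.node (.leaf 0x100) (.leaf 0x100105)) (.leaf 0x48000208)) (.node (.node (.leaf 0x100) (.leaf 0x42600020a)) (.leaf 0x800000020c))) (.node (.node (.node (.leaf 0x100) (.leaf 0x4a063d5c7355232b09801407b6364b050810)) (.leaf 0x81482048044c22a85430510)) (.node (.leaf 0x100) (.leaf 0x100)))) (.node (.node (.node (.node (.leaf 0x100) (.leaf 0x100)) (.leaf 0x34448942c267043235911100c60d0710)) (.node (.node (.leaf 0x100) (.leaf 0x64ccb13e6608e1bc050636402150710)) (.leaf 0x38a4da9e3a4f3a60c0d165c30610))) (.node (.node (.node (.leaf 0x530408909860db28734b3820610) (.leaf 0x2081c12c53410100c080a4460610)) (.leaf 0x2620622526020310)) (.node (.leaf 0x100) (.leaf 0x5bcc0509e6a162220c420510)))))))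

/-- data -/
def val1p13 : Trie (ℕ) := .node (.node (.node (.node (.node (.node (.node (.node (.leaf 0x100) (.leaf 0x1424c22861004b40c42050f)) (.leaf 0x100800020b)) (.node (.node (.leaf 0x504597f46a5206110410) (.leaf 0x28dc48324424ca27a5810510)) (.leaf 0x62a5131a0895300884207a665c090710))) (.node (.node (.node (.leaf 0x100) (.leaf 0xd9010c00c4030e)) (.leaf 0x2605b370582288110410)) (.node (.node (.leaf 0x100) (.leaf 0x100105)) (.leaf 0x306a6c00b010140040f)))) (.node (.node (.node (.node (.leaf 0x100) (.leaf 0x5e53b9e2019e50a54725760a0610)) (.leaf 0x100)) (.node (.node (.leaf 0x38160c464113340040f) (.leaf 0x8055d42c63d74cc190b836580610)) (.leaf 0x685450a564824a2c81870510))) (.node (.node (.node (.leaf 0x100) (.leaf 0x410e1284454a141c096c0510)) (.leaf 0x3a141512531d4f1b38844f07681c2d070810)) (.node (.leaf 0x21000207) (.leaf 0x100))))) (.node (.node (.node (.node (.node (.leaf 0x100) (.leaf 0x40a54c9578d1158206c922470610)) (.leaf 0x100)) (.node (.node (.leaf 0x100)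 (.leaf 0x654506608200c16a44051e4ca020710)) (.leaf 0xa7c20c888200a04c440b166490a0710))) (.node (.node (.node (.leaf 0x100) (.leaf 0xa85862e11fa1488d5889420f96070f)) (.leaf 0x1127896a31f800a19a4050f)) (.node (.node (.leaf 0x81cee19d821c881911200510) (.leaf 0x5d335057703c884a415550019939441a0810)) (.leaf 0x48c4d09db94f128042a144450610)))) (.node (.node (.node (.node (.leaf 0x100) (.leaf 0x298909dee5d31635a0cf0510)) (.leaf 0x30cea59c031c881510a10510)) (.node (.node (.leaf 0xc4c424d0402030f) (.leaf 0x2c5099082b5d9104d800c6078c890710)) (.leaf 0x69064e8202341d2638c25d0090820710))) (.node (.node (.node (.leaf 0x100) (.leaf 0x3c78831c30ea8c31b0a961e61b8e0710)) (.leaf 0x38145641440aca259c480510)) (.node (.leaf 0x100) (.leaf 0x2421e12498c82b61c77883ca0610)))))) (.node (.node (.node (.node (.node (.node (.leaf 0x100) (.leaf 0x71f2415704e941201b70805993b3e080810)) (.leaf 0x815257316e1142500410)) (.node (.node (.leaf 0x11040abce12c9424a0610510) (.leaf 0x685038214214c41195820510))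 (.leaf 0x100105))) (.node (.node (.node (.leaf 0x4a100080030b) (.leaf 0x13088518642030e)) (.leaf 0x10dc41088926100e944032274e040710)) (.node (.node (.leaf 0x237831231621a2300410) (.leaf 0x1c122079c90935d20160f2880610)) (.leaf 0x2b71252c2a6240aa9d020510)))) (.node (.node (.node (.node (.leaf 0x100) (.leaf 0x4108372c18511f6c29cd1560610)) (.leaf 0x100)) (.node (.node (.leaf 0x30978643326593040410) (.leaf 0x745301f12e9252f09dbcb88f0610)) (.leaf 0x2a5cf298891f20231cb027a7510e0710))) (.node (.node (.node (.leaf 0x258100080030c) (.leaf 0x2d332c39d284a4280ae301137f594a2a0810)) (.leaf 0x62b01435722206300410)) (.node (.leaf 0x100) (.leaf 0x408091120210))))) (.node (.node (.node (.node (.node (.leaf 0x100) (.leaf 0x34e1396d19cc15820614c0810610)) (.leaf 0x248508008030c)) (.node (.node (.leaf 0x100) (.leaf 0x789878e9675aa35ec8f2678490900710)) (.leaf 0x4a808bc765719246b0290510))) (.node (.node (.node (.leaf 0x100) (.leaf 0x80a5028020e)) (.leaf 0x28f3c65d58408ba74778a5c30610))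 (.node (.leaf 0x100) (.leaf 0x514bc49425220e2a18670510)))) (.node (.node (.node (.node (.leaf 0x100) (.leaf 0x34d40b8105100550829cb4020610)) (.leaf 0x68dcd2a6ac71966790c50510)) (.node (.node (.leaf 0x100) (.leaf 0x205325252049423040f)) (.leaf 0x100))) (.node (.node (.node (.leaf 0x100) (.leaf 0x42d856c16f8118811d40f0440610)) (.leaf 0x68c55a84f5d521c2c0e1084a0610)) (.node (.leaf 0x100) (.leaf 0x14518191880804b00904b10a0610))))))) (.node (.node (.node (.node (.node (.node (.node (.leaf 0x100) (.leaf 0x9301b4a45719e59994b121450610)) (.leaf 0x2232421116500310)) (.node (.node (.leaf 0x100) (.leaf 0x91140002030b)) (.leaf 0x100))) (.node (.node (.node (.leaf 0x100) (.leaf 0x2c30ab001bcc62a6404822ce0610)) (.leaf 0xa08a409020e)) (.node (.node (.leaf 0x40600020a) (.leaf 0x34d01c500b08c10b8880c5060f)) (.leaf 0x70452422352070810410)))) (.node (.node (.node (.node (.leaf 0x100) (.leaf 0x4d041b9ddf4a1ac0cc6ce20f0610)) (.leaf 0x222366803320b1220410)) (.node (.node (.leaf 0x100)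 (.leaf 0x1a88193a6974802bb81924cc0c890710)) (.leaf 0x2c5578e2e8478b271130b50485870710))) (.node (.node (.node (.leaf 0x100) (.leaf 0x2804348da051120a80870510)) (.leaf 0x6066ec7d745d494145b8a24f0610)) (.node (.leaf 0x20782415190040100410) (.leaf 0x164cb134416322142881d061cc0b0710))))) (.node (.node (.node (.node (.node (.leaf 0x100) (.leaf 0xa5a1a1ac242815884a60510)) (.leaf 0x100)) (.node (.node (.leaf 0x100) (.leaf 0x430b0f835e5e1c1e1f250419371706300810)) (.leaf 0x500c6e209231342040f))) (.node (.node (.node (.leaf 0x100) (.leaf 0x51c7d37c45513dc04130cb580610)) (.leaf 0x582d9cc7eed29b1ca8006908178d0710)) (.node (.node (.leaf 0x100) (.leaf 0x65cdca3445707200491b88046870710)) (.leaf 0x5c228f6981823672068496020610)))) (.node (.node (.node (.node (.leaf 0x100) (.leaf 0x251409a00d960a558b74b5000610)) (.leaf 0x3a525f43002b58b6acc80510)) (.node (.node (.leaf 0x100) (.leaf 0x21000207)) (.leaf 0x100))) (.node (.node (.node (.leaf 0x100) (.leaf 0x2b08f69de42c082018200510))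 (.leaf 0x44348800d13030f)) (.node (.leaf 0x100) (.leaf 0x100)))))) (.node (.node (.node (.node (.node (.node (.leaf 0x100) (.leaf 0x66888c6a667993050c864458b810710)) (.leaf 0x2d853685616a142320e80510)) (.node (.node (.leaf 0x100) (.leaf 0x1e2e01195513831f0c6e2d140c1c08130810)) (.leaf 0x100))) (.node (.node (.node (.leaf 0x182800020b) (.leaf 0x100)) (.leaf 0x324041209b5179390376030868462f270810)) (.node (.node (.leaf 0x100) (.leaf 0x2cf38b69871886238564078f0610)) (.leaf 0x445387a698d020e0902924c20610)))) (.node (.node (.node (.node (.leaf 0x100) (.leaf 0x387d090546b007169cb1d3a3c3000710)) (.leaf 0x44021f61e1882e90468c728c0610)) (.node (.node (.leaf 0x144c5825c919012a94801864ca000710) (.leaf 0x3453120820834913c0e4550d0610)) (.leaf 0x52009154931470639a432066e282d0e0810))) (.node (.node (.node (.leaf 0x100) (.leaf 0x48000208)) (.leaf 0x100)) (.node (.leaf 0x100) (.leaf 0x380d0a0427c30d26c8f078050a870710))))) (.node (.node (.node (.node (.node (.leaf 0x100) (.leaf 0x801c344b3c11220452062400610))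 (.leaf 0xa03677518e5184920410)) (.node (.node (.leaf 0x100) (.leaf 0x20030b19dd0e4e5e037418930610)) (.leaf 0x8133294e25d9c13112a0510))) (.node (.node (.node (.leaf 0x100) (.leaf 0x14c6172cb8cc0010569402000610)) (.leaf 0x100)) (.node (.leaf 0x100) (.leaf 0xf04d4490833391820410)))) (.node (.node (.node (.node (.leaf 0x100) (.leaf 0x420184c079a0030905050f)) (.leaf 0x100)) (.node (.node (.leaf 0x30d665094332407f01280510) (.leaf 0x22803afa3163883f3990a6ea87290710)) (.leaf 0x12004200271082140410))) (.node (.node (.node (.leaf 0x100) (.leaf 0xa000600020e)) (.leaf 0x506a48045115340040f)) (.node (.leaf 0x100) (.leaf 0x85e1094870318d800410510)))))))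

/-- data -/
def val1p14 : Trie (ℕ) := .node (.node (.node (.node (.node (.node (.node (.node (.leaf 0x100) (.leaf 0x1a401b3ac40b44519cc40510)) (.leaf 0x100)) (.node (.node (.leaf 0x100) (.leaf 0x2c720c6827082a71056c558f0610)) (.leaf 0x34529989060e01118774d3080610))) (.node (.node (.node (.leaf 0x100) (.leaf 0x2baa2442020f)) (.leaf 0x330c9480424a8428918b0510)) (.node (.node (.leaf 0x50106475710518c0c4d8c3c50610) (.leaf 0x4d20758e80a24f28324b3800610)) (.leaf 0xb291296d26e415a040f)))) (.node (.node (.node (.node (.leaf 0x100) (.leaf 0x34720631830c82d385680510)) (.leaf 0x1d2559068909874491581287d4ae0710)) (.node (.node (.leaf 0x100) (.leaf 0x80175e0c715104110690464a0610)) (.leaf 0x82838a2a64d810ab860490386830710))) (.node (.node (.node (.leaf 0x100) (.leaf 0x600ec49d856ba01f09ec0510)) (.leaf 0x30853004031270630410)) (.node (.leaf 0x10066a015010140040f) (.leaf 0x68955395e81d882589010510))))) (.node (.node (.node (.node (.node (.leaf 0x100) (.leaf 0x5c60ea286ad0970920183b879c8a0710))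 (.leaf 0x94c071002534a299d000510)) (.node (.node (.leaf 0x100) (.leaf 0x44c0102808810310)) (.leaf 0x1bc06f33c44340b324c40510))) (.node (.node (.node (.leaf 0x100) (.leaf 0xb221227875b7d0809900c1815320f170810)) (.leaf 0x100)) (.node (.node (.leaf 0x7898d840862cc04c95840510) (.leaf 0x581cba514625520da4c80510)) (.leaf 0x99a86acc5e6f0ca45888ac580610)))) (.node (.node (.node (.node (.leaf 0x100) (.leaf 0x43586111853060890410)) (.leaf 0x100)) (.node (.node (.leaf 0x100) (.leaf 0x4c489f630286e108a6050f)) (.leaf 0x183152628024020040f))) (.node (.node (.node (.leaf 0x340375723a4064320410) (.leaf 0x100)) (.leaf 0x8caa1b92a61a0310)) (.node (.leaf 0x100) (.leaf 0x51181ffd282b1c85baf00510)))))) (.node (.node (.node (.node (.node (.node (.leaf 0x100) (.leaf 0x100)) (.leaf 0x100)) (.node (.node (.leaf 0x100) (.leaf 0x403453030a0064110410)) (.leaf 0xb1ce48430300d201a053d6060f))) (.node (.node (.node (.leaf 0x100) (.leaf 0x100)) (.leaf 0x100)) (.node (.node (.leaf 0x100) (.leaf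 0x1e1a424708621aa0081930c064735a14a00a0910)) (.leaf 0x18a047651b434ae44218854a0610)))) (.node (.node (.node (.node (.leaf 0x100) (.leaf 0xa0469356a68813cf07860c412900710)) (.leaf 0x6302ecae0b1a1074a1930510)) (.node (.node (.leaf 0x100) (.leaf 0x2c14578b2952de8e89030510)) (.leaf 0x100))) (.node (.node (.node (.leaf 0x100) (.leaf 0x1a7098c563e19920a898318580950710)) (.leaf 0x405160050129221040f)) (.node (.leaf 0x3146fa6306cad8270c6e0510) (.leaf 0x1121417cf84921a24238c3400610))))) (.node (.node (.node (.node (.node (.leaf 0x100) (.leaf 0x4a024c45175100a50410)) (.leaf 0x14714081e8000d30cb0070880610)) (.node (.node (.leaf 0x100) (.leaf 0x100105)) (.leaf 0x218a15a52004000a21620510))) (.node (.node (.node (.leaf 0x100) (.leaf 0x1a5800020b)) (.leaf 0x403433411843a4110410)) (.node (.leaf 0xa83408020c) (.leaf 0x410ba98de9190e8d28e30510)))) (.node (.node (.node (.node (.leaf 0x100) (.leaf 0x63723501282382300410)) (.leaf 0x100)) (.node (.node (.leaf 0x100105) (.leaf 0x32303b72e3df8a05380855c4119c0710))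 (.leaf 0x100))) (.node (.node (.node (.leaf 0x100) (.leaf 0x4133e0386a0900418d6050410610)) (.leaf 0x100)) (.node (.leaf 0xa844646b5009534e0147060789070f) (.leaf 0x1a402b2ac40348719cc40510))))))) (.node (.node (.node (.node (.node (.node (.node (.leaf 0x100) (.leaf 0x143915a1ca12377208a51c890610)) (.leaf 0x528b66142132d3240410)) (.node (.node (.leaf 0x100) (.leaf 0xa0c18076ae0835ce12801a5001f0710)) (.leaf 0xc244bf1e1dd882948b830e1870b0710))) (.node (.node (.node (.leaf 0x100) (.leaf 0x2c2490286704761708ac18930610)) (.leaf 0x34222124d64a05a2843c40840610)) (.node (.node (.leaf 0x100) (.leaf 0x2888810530500310)) (.leaf 0x4255200020e)))) (.node (.node (.node (.node (.leaf 0x19c428200243ce269cc20510) (.leaf 0x1dc32254b9d57b364e6461890610)) (.leaf 0x68019cc596470581d888a5c20610)) (.node (.node (.leaf 0x100) (.leaf 0x63c3ad0029c8439013831604a0d0710)) (.leaf 0x41fc483892873e68917040430610))) (.node (.node (.node (.leaf 0x100) (.leaf 0x2842489d63310a26990f0510)) (.leaf 0x100))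 (.node (.leaf 0x42104a617b02b1020410) (.leaf 0x64ccad324dd8e23a06064e384170710))))) (.node (.node (.node (.node (.node (.leaf 0x100) (.leaf 0x54090c4468c59b18200007848c8b0710)) (.leaf 0x100)) (.node (.node (.leaf 0xc3054051000308107a840c10610) (.leaf 0x3b0419874454161a3b0118192307002a0810)) (.leaf 0x16bcc8d847940a083441312546080710))) (.node (.node (.node (.leaf 0x100) (.leaf 0x14d880bf71628f8239f340aa0b840710)) (.leaf 0xa0c7123c15a0c375590e162420a0710)) (.node (.node (.leaf 0x100) (.leaf 0x100105)) (.leaf 0x100)))) (.node (.node (.node (.node (.leaf 0x100) (.leaf 0x5002629c20440a1811640510)) (.leaf 0x13a3ab83fb60e62ca1d90510)) (.node (.node (.leaf 0x861434cd4401240c398a3c20610) (.leaf 0x8ce19d24ca409445121c61560610)) (.leaf 0x100))) (.node (.node (.node (.leaf 0x100) (.leaf 0x340d59a226dc939169b9dbc3869b0710)) (.leaf 0x624843164608d02085470510)) (.node (.leaf 0x12803042908470400410) (.leaf 0x1c000958a80804b20f2433870610)))))) (.node (.node (.node (.node (.node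 (.node (.leaf 0x100) (.leaf 0x41c41b9c881c0310)) (.leaf 0x100)) (.node (.node (.leaf 0x100) (.leaf 0x82983a001b4454940a050f)) (.leaf 0x14695976262212000410))) (.node (.node (.node (.leaf 0x218108000030c) (.leaf 0x4c09bb81a6d61d16d9427a8384950710)) (.leaf 0x100)) (.node (.node (.leaf 0x100) (.leaf 0x5046c74a813a86788e0d0510)) (.leaf 0x4f24e91898101300d08b00a0610)))) (.node (.node (.node (.node (.leaf 0x100) (.leaf 0x100)) (.leaf 0x9026221876bd81881c30510)) (.node (.node (.leaf 0x100) (.leaf 0x30686c017011140040f)) (.leaf 0x12963995257e943740630510))) (.node (.node (.node (.leaf 0x100) (.leaf 0x3155a680396131630410)) (.leaf 0x400888c6aa4b8715380857458d870710)) (.node (.leaf 0x18802127201102040e) (.leaf 0x1b3615236f31cd190a66211e363a27040810))))) (.node (.node (.node (.node (.node (.leaf 0x100) (.leaf 0x655387d90e1602549184fa8f0610)) (.leaf 0x62389a8dae100310)) (.node (.node (.leaf 0x100) (.leaf 0x124cc13742a1160785002ca657050710)) (.leaf 0x85000208))) (.node (.node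 (.node (.leaf 0x100) (.leaf 0x470572225220362006730a1cab357c2d0810)) (.leaf 0x100)) (.node (.leaf 0x841cac286fc10d04e8604c46938b0710) (.leaf 0x4000010f)))) (.node (.node (.node (.node (.leaf 0x20865381203d002910e60510) (.leaf 0x6125dafe3ed70b61cae9e4510610)) (.leaf 0x40c100df7b4223420c49434b0610)) (.node (.node (.leaf 0x329003b80d9668700f7154580610) (.leaf 0x7d45af410a4833b4509c12920610)) (.leaf 0x1423cca00d3143180410))) (.node (.node (.node (.leaf 0x100) (.leaf 0x200106)) (.leaf 0x100)) (.node (.leaf 0x100) (.leaf 0x1146a84ac50dc2329cc00510)))))))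

/-- data -/
def val1p15 : Trie (ℕ) := .node (.node (.node (.node (.node (.node (.node (.node (.leaf 0x100) (.leaf 0x2d0216046e5a56041d9b0e00372728140810)) (.leaf 0x6405872cf148101202dc24870610)) (.node (.node (.leaf 0x100) (.leaf 0x50065b48814f31330d860e0b963e5d010810)) (.leaf 0x11a6a14b054104040e))) (.node (.node (.node (.leaf 0x100) (.leaf 0x25326a50a88a0310)) (.leaf 0x197f5aab2311030f)) (.node (.node (.leaf 0x2244cb330015c0179d830510) (.leaf 0x34b40f9a0a0e15d0459d14860610)) (.leaf 0x30450324348000410410)))) (.node (.node (.node (.node (.leaf 0x100) (.leaf 0x2306a2e0034321220410)) (.leaf 0x21901a144870c1014e88ae048130710)) (.node (.node (.leaf 0x100) (.leaf 0xa4d99cac2a7dbd88f2d86ecc9a970710)) (.leaf 0xac000208))) (.node (.node (.node (.leaf 0x100) (.leaf 0x400e4211c358541b00ea0510)) (.leaf 0xcd38571298c1df1805cb5830610)) (.node (.leaf 0x100) (.leaf 0x28426808c4a29ad781260510))))) (.node (.node (.node (.node (.node (.leaf 0x100) (.leaf 0x50d34c2c714934b38ea020830610))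 (.leaf 0x1654e0750197180cb4500be4da1b0710)) (.node (.node (.leaf 0x100) (.leaf 0x4490801980000310)) (.leaf 0x1c106934ddca73a64170644c0610))) (.node (.node (.node (.leaf 0x100) (.leaf 0xa20050b8359810309a4081230381d170810)) (.leaf 0x704188021b1270600410)) (.node (.node (.leaf 0x100) (.leaf 0x9c84551c86478d87858cc4070610)) (.leaf 0x200106)))) (.node (.node (.node (.node (.leaf 0x100) (.leaf 0x6cb5998906161dd300ccb9090610)) (.leaf 0x44959399e89215f040ad14080610)) (.node (.node (.leaf 0x100) (.leaf 0x89d551adae00906388ec0510)) (.leaf 0x300e353e13072d272a14310584123b0e0810))) (.node (.node (.node (.leaf 0x100) (.leaf 0x24605897a4609106e878e2050d860710)) (.leaf 0x10cc6732000f426594c20510)) (.node (.leaf 0x100105) (.leaf 0x4a50d85f6d028c14a7d000b0610)))))) (.node (.node (.node (.node (.node (.node (.leaf 0x100) (.leaf 0x18f0de990c8522b10b4515890610)) (.leaf 0x100)) (.node (.node (.leaf 0x100) (.leaf 0x320c1de760048cc028070510)) (.leaf 0x4080b1120210))) (.node (.node (.node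 (.leaf 0x100) (.leaf 0x58d9b110ea0b02498c880510)) (.leaf 0x100)) (.node (.node (.leaf 0x435a6a85173023020410) (.leaf 0x91510017840800244dd211bb53932020810)) (.leaf 0x100)))) (.node (.node (.node (.node (.leaf 0x100) (.leaf 0x914b7b5e645060290620510)) (.leaf 0x27000b98e5f68b333841004806820710)) (.node (.node (.leaf 0xa028c00020e) (.leaf 0x445290a12b0413918994b80d0610)) (.leaf 0x11604bacfbc30f22487104c20610))) (.node (.node (.node (.leaf 0x100) (.leaf 0x3006652a032a48300c800510)) (.leaf 0x408838100210)) (.node (.leaf 0x541068e000d7054a314018408c960710) (.leaf 0xb5470d766f84807e0410))))) (.node (.node (.node (.node (.node (.leaf 0x45c2029020e) (.leaf 0x6265949647882814dc38cbe7d40c0710)) (.leaf 0x82541113241082520410)) (.node (.node (.leaf 0x404280b5021c1c3908850510) (.leaf 0x31703506502a036040f)) (.leaf 0x2c44895085908254f218764008820710))) (.node (.node (.node (.leaf 0x100) (.leaf 0x100105)) (.leaf 0x100)) (.node (.leaf 0x5c102f89818a2453097c930e0610) (.leaf 0x518fceb62b0c066f31e10510))))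 (.node (.node (.node (.node (.leaf 0x100) (.leaf 0x100)) (.leaf 0xb0805a2c5b9cd1a132fc7894167916892110910)) (.node (.node (.leaf 0x100) (.leaf 0x20343263b08064430410)) (.leaf 0xc40c4502b0410429d38440f0610))) (.node (.node (.node (.leaf 0x100) (.leaf 0x60151b42849f172648815980c3810710)) (.leaf 0x41c50b8e801a0310)) (.node (.leaf 0x100) (.leaf 0x100))))))) (.node (.node (.node (.node (.node (.node (.node (.leaf 0x100) (.leaf 0xc331379e80875f4846cb6040610)) (.leaf 0x100)) (.node (.node (.leaf 0x100105) (.leaf 0x2000911400020310)) (.leaf 0x18410cb599430b41ce28e6440610))) (.node (.node (.node (.leaf 0x100) (.leaf 0x403453030821a4110410)) (.leaf 0x8e0457cf8c521824418a2410610)) (.node (.node (.leaf 0x100) (.leaf 0x10aaa0171571a5040e)) (.leaf 0x718511540104f0a30410)))) (.node (.node (.node (.node (.leaf 0xb0200d2020e) (.leaf 0x298909dee5d39635a0cf0510)) (.leaf 0x100)) (.node (.node (.leaf 0x120000020b) (.leaf 0x64c60aace2702259468b4294a140710)) (.leaf 0x3081c184d44346e2029924440610)))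 (.node (.node (.node (.leaf 0x100) (.leaf 0x6e2571d748972a2cecb8dda35b1b0710)) (.leaf 0x100)) (.node (.leaf 0x100) (.leaf 0x84621bd181084b314b7cb7020610))))) (.node (.node (.node (.node (.node (.leaf 0x100) (.leaf 0x466d2b5c59d000f2da8c480f0610)) (.leaf 0x2172427b00210310)) (.node (.node (.leaf 0x100) (.leaf 0x4f1e4a6d050e5f280f0c0728c703260a0810)) (.leaf 0x80632ada221840a18600510))) (.node (.node (.node (.leaf 0x100) (.leaf 0x3070b88a27db9b3ad07125078c830710)) (.leaf 0x100)) (.node (.node (.leaf 0x8146e072240a0310) (.leaf 0x5cf7158166160210c4dd15040610)) (.leaf 0x1549162aba5cb21a069d101f254940100810)))) (.node (.node (.node (.node (.leaf 0x100) (.leaf 0x2c18a3a85454e132cc0050f)) (.leaf 0x24020aaea702004218a00510)) (.node (.node (.leaf 0x535ec119437a101908430510) (.leaf 0x343061b4806221040e)) (.leaf 0x688c9738822dc4288e010510))) (.node (.node (.node (.leaf 0x100) (.leaf 0x3b0d502b867446241cb93b0e733f40180810)) (.leaf 0x184c67128046403795430510)) (.node (.leaf 0x5812a16912110310)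 (.leaf 0x4d1017128882552031c93800610)))))) (.node (.node (.node (.node (.node (.node (.leaf 0x100) (.leaf 0x42a41b5c081c0310)) (.leaf 0x26232480918040040410)) (.node (.node (.leaf 0x18201a96262c8b0d88870510) (.leaf 0x510b0bbfe99422651a220510)) (.leaf 0x3c27a310425418924a8433040610))) (.node (.node (.node (.leaf 0x100) (.leaf 0x940930e8669f05604c20510)) (.leaf 0x4990194898910310)) (.node (.node (.leaf 0x100) (.leaf 0x1a9c58780c1c0a148c79726547060710)) (.leaf 0x920189a849a030f)))) (.node (.node (.node (.node (.leaf 0x960800dac81030f) (.leaf 0x701501c80a11443348313302261709150810)) (.leaf 0x187054c2635d1367adc1642287110710)) (.node (.node (.leaf 0x100) (.leaf 0x58202a2cd50700d1025841450610)) (.leaf 0x28094594994b2fa0c539c5c10610))) (.node (.node (.node (.leaf 0x100) (.leaf 0x38a44c8d7a4d2ac242c124c30610)) (.leaf 0x1200300000030d)) (.node (.leaf 0x24d423e2ce1446120575558e0610) (.leaf 0x72647c57ca94941214100002cab80710))))) (.node (.node (.node (.node (.node (.leaf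 0x100) (.leaf 0xe64214805a51000d470f264cd090710)) (.leaf 0x491d900eee40d2aa88260510)) (.node (.node (.leaf 0x100) (.leaf 0x24000207)) (.leaf 0x40c3cca577cf1240c27103470610))) (.node (.node (.node (.leaf 0x100) (.leaf 0x610f685d94523c460a95030ea74364080810)) (.leaf 0x118c589e2422926420250510)) (.node (.leaf 0x2224f1b181482006445048600e0d0710) (.leaf 0x1882959e6033860018600510)))) (.node (.node (.node (.node (.leaf 0xeac79d8899b160608319264c40e0710) (.leaf 0x18b3d40001851441019021410610)) (.leaf 0x828d499f2789841f87940c605830710)) (.node (.node (.leaf 0x2835c4289307501093b0244c0610) (.leaf 0x5e3101b94f8308195cc826e5d40c0710)) (.leaf 0x4835d444b10b156207c0a3430610))) (.node (.node (.node (.leaf 0x100) (.leaf 0x9243e660294555a00410)) (.leaf 0x200106)) (.node (.leaf 0x100) (.leaf 0x48a4d49df94f124082b143c70610)))))))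

/-- data -/
def val1 : Trie (ℕ) := .node (.node (.node (.node (val1p0) (val1p8)) (.node (val1p4) (val1p12))) (.node (.node (val1p2) (val1p10)) (.node (val1p6) (val1p14)))) (.node (.node (.node (val1p1) (val1p9)) (.node (val1p5) (val1p13))) (.node (.node (val1p3) (val1p11)) (.node (val1p7) (val1p15))))

/-- data -/
def rank1p0 : Trie (ℕ) := .node (.node (.node (.node (.node (.node (.node (.node (.leaf 0) (.leaf 806)) (.leaf 338)) (.node (.node (.leaf 45) (.leaf 1490)) (.leaf 1495))) (.node (.node (.node (.leaf 0) (.leaf 1325)) (.leaf 1355)) (.node (.node (.leaf 430) (.leaf 915)) (.leaf 211)))) (.node (.node (.node (.node (.leaf 44) (.leaf 1017)) (.leaf 404)) (.node (.node (.leaf 0) (.leaf 892)) (.leaf 754))) (.node (.node (.node (.leaf 0) (.leaf 1762)) (.leaf 707)) (.node (.leaf 0) (.leaf 0))))) (.node (.node (.node (.node (.node (.leaf 0) (.leaf 1529)) (.leaf 0)) (.node (.node (.leaf 176) (.leaf 415)) (.leaf 1239))) (.node (.node (.node (.leaf 0) (.leaf 686))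 (.leaf 53)) (.node (.node (.leaf 0) (.leaf 1827)) (.leaf 1772)))) (.node (.node (.node (.node (.leaf 0) (.leaf 1765)) (.leaf 0)) (.node (.node (.leaf 0) (.leaf 939)) (.leaf 498))) (.node (.node (.node (.leaf 0) (.leaf 24)) (.leaf 747)) (.node (.leaf 0) (.leaf 1210)))))) (.node (.node (.node (.node (.node (.node (.leaf 0) (.leaf 1406)) (.leaf 517)) (.node (.node (.leaf 182) (.leaf 578)) (.leaf 1617))) (.node (.node (.node (.leaf 0) (.leaf 1111)) (.leaf 1338)) (.node (.node (.leaf 35) (.leaf 605)) (.leaf 1900)))) (.node (.node (.node (.node (.leaf 0) (.leaf 840)) (.leaf 242)) (.node (.node (.leaf 541) (.leaf 1051)) (.leaf 1399))) (.node (.node (.node (.leaf 0) (.leaf 1397)) (.leaf 1910)) (.node (.leaf 0) (.leaf 0))))) (.node (.node (.node (.node (.node (.leaf 0) (.leaf 1526)) (.leaf 570)) (.node (.node (.leaf 0) (.leaf 1821)) (.leaf 376))) (.node (.node (.node (.leaf 0) (.leaf 645)) (.leaf 1763)) (.node (.node (.leaf 1673) (.leaf 599)) (.leaf 1405)))) (.node (.node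 (.node (.node (.leaf 0) (.leaf 400)) (.leaf 116)) (.node (.node (.leaf 662) (.leaf 1460)) (.leaf 1228))) (.node (.node (.node (.leaf 0) (.leaf 1939)) (.leaf 179)) (.node (.leaf 0) (.leaf 1088))))))) (.node (.node (.node (.node (.node (.node (.node (.leaf 0) (.leaf 1222)) (.leaf 0)) (.node (.node (.leaf 0) (.leaf 659)) (.leaf 1497))) (.node (.node (.node (.leaf 0) (.leaf 1730)) (.leaf 0)) (.node (.node (.leaf 0) (.leaf 907)) (.leaf 0)))) (.node (.node (.node (.node (.leaf 0) (.leaf 413)) (.leaf 405)) (.node (.node (.leaf 129) (.leaf 1768)) (.leaf 0))) (.node (.node (.node (.leaf 0) (.leaf 0)) (.leaf 1780)) (.node (.leaf 100) (.leaf 488))))) (.node (.node (.node (.node (.node (.leaf 0) (.leaf 1000)) (.leaf 0)) (.node (.node (.leaf 0) (.leaf 1914)) (.leaf 1843))) (.node (.node (.node (.leaf 0) (.leaf 1354)) (.leaf 0)) (.node (.node (.leaf 913) (.leaf 1361)) (.leaf 1517)))) (.node (.node (.node (.node (.leaf 0) (.leaf 1872)) (.leaf 1015)) (.node (.node (.leaf 0) (.leaf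 1667)) (.leaf 689))) (.node (.node (.node (.leaf 0) (.leaf 1291)) (.leaf 353)) (.node (.leaf 769) (.leaf 1903)))))) (.node (.node (.node (.node (.node (.node (.leaf 0) (.leaf 1540)) (.leaf 1137)) (.node (.node (.leaf 311) (.leaf 1560)) (.leaf 731))) (.node (.node (.node (.leaf 0) (.leaf 1895)) (.leaf 1842)) (.node (.node (.leaf 0) (.leaf 1923)) (.leaf 0)))) (.node (.node (.node (.node (.leaf 0) (.leaf 650)) (.leaf 902)) (.node (.node (.leaf 0) (.leaf 553)) (.leaf 1642))) (.node (.node (.node (.leaf 0) (.leaf 1751)) (.leaf 785)) (.node (.leaf 1723) (.leaf 1522))))) (.node (.node (.node (.node (.node (.leaf 0) (.leaf 1191)) (.leaf 0)) (.node (.node (.leaf 0) (.leaf 1008)) (.leaf 289))) (.node (.node (.node (.leaf 0) (.leaf 1797)) (.leaf 1740)) (.node (.leaf 0) (.leaf 1694)))) (.node (.node (.node (.node (.leaf 0) (.leaf 1611)) (.leaf 1498)) (.node (.node (.leaf 1567) (.leaf 76)) (.leaf 0))) (.node (.node (.node (.leaf 0) (.leaf 450)) (.leaf 162)) (.node (.leaf 0)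 (.leaf 150)))))))

/-- data -/
def rank1p1 : Trie (ℕ) := .node (.node (.node (.node (.node (.node (.node (.node (.leaf 0) (.leaf 895)) (.leaf 325)) (.node (.node (.leaf 0) (.leaf 165)) (.leaf 1440))) (.node (.node (.node (.leaf 0) (.leaf 1702)) (.leaf 0)) (.node (.node (.leaf 0) (.leaf 1377)) (.leaf 969)))) (.node (.node (.node (.node (.leaf 0) (.leaf 1614)) (.leaf 200)) (.node (.node (.leaf 387) (.leaf 607)) (.leaf 0))) (.node (.node (.node (.leaf 0) (.leaf 23)) (.leaf 1221)) (.node (.leaf 0) (.leaf 1006))))) (.node (.node (.node (.node (.node (.leaf 0) (.leaf 648)) (.leaf 1095)) (.node (.node (.leaf 1136) (.leaf 1196)) (.leaf 1148))) (.node (.node (.node (.leaf 0) (.leaf 1110)) (.leaf 1189)) (.node (.node (.leaf 1169) (.leaf 1850)) (.leaf 0)))) (.node (.node (.node (.node (.leaf 0) (.leaf 546)) (.leaf 1416)) (.node (.node (.leaf 954) (.leaf 1417)) (.leaf 304))) (.node (.node (.node (.leaf 0) (.leaf 876)) (.leaf 1808)) (.node (.leaf 0) (.leaf 1295)))))) (.node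 (.node (.node (.node (.node (.node (.leaf 0) (.leaf 1106)) (.leaf 0)) (.node (.node (.leaf 0) (.leaf 222)) (.leaf 0))) (.node (.node (.node (.leaf 0) (.leaf 291)) (.leaf 0)) (.node (.node (.leaf 0) (.leaf 825)) (.leaf 371)))) (.node (.node (.node (.node (.leaf 0) (.leaf 757)) (.leaf 0)) (.node (.node (.leaf 0) (.leaf 177)) (.leaf 1446))) (.node (.node (.node (.leaf 0) (.leaf 1718)) (.leaf 443)) (.node (.leaf 632) (.leaf 637))))) (.node (.node (.node (.node (.node (.leaf 0) (.leaf 1533)) (.leaf 0)) (.node (.node (.leaf 0) (.leaf 1921)) (.leaf 191))) (.node (.node (.node (.leaf 0) (.leaf 1326)) (.leaf 684)) (.node (.node (.leaf 0) (.leaf 1046)) (.leaf 1589)))) (.node (.node (.node (.node (.leaf 0) (.leaf 931)) (.leaf 0)) (.node (.node (.leaf 610) (.leaf 1743)) (.leaf 908))) (.node (.node (.node (.leaf 0) (.leaf 1598)) (.leaf 470)) (.node (.leaf 0) (.leaf 565))))))) (.node (.node (.node (.node (.node (.node (.node (.leaf 0) (.leaf 292)) (.leaf 596)) (.node (.node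 (.leaf 0) (.leaf 1085)) (.leaf 0))) (.node (.node (.node (.leaf 860) (.leaf 113)) (.leaf 987)) (.node (.node (.leaf 0) (.leaf 635)) (.leaf 190)))) (.node (.node (.node (.node (.leaf 0) (.leaf 1744)) (.leaf 851)) (.node (.node (.leaf 0) (.leaf 1713)) (.leaf 1758))) (.node (.node (.node (.leaf 0) (.leaf 1187)) (.leaf 1450)) (.node (.leaf 0) (.leaf 1790))))) (.node (.node (.node (.node (.node (.leaf 0) (.leaf 1265)) (.leaf 1465)) (.node (.node (.leaf 0) (.leaf 1811)) (.leaf 530))) (.node (.node (.node (.leaf 0) (.leaf 1181)) (.leaf 0)) (.node (.node (.leaf 941) (.leaf 1471)) (.leaf 1409)))) (.node (.node (.node (.node (.leaf 0) (.leaf 1592)) (.leaf 0)) (.node (.node (.leaf 0) (.leaf 1545)) (.leaf 1857))) (.node (.node (.node (.leaf 0) (.leaf 742)) (.leaf 0)) (.node (.leaf 259) (.leaf 1876)))))) (.node (.node (.node (.node (.node (.node (.leaf 0) (.leaf 18)) (.leaf 1618)) (.node (.node (.leaf 923) (.leaf 1236)) (.leaf 168))) (.node (.node (.node (.leaf 0) (.leaf 829))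 (.leaf 1854)) (.node (.node (.leaf 0) (.leaf 1092)) (.leaf 64)))) (.node (.node (.node (.node (.leaf 4) (.leaf 597)) (.leaf 867)) (.node (.node (.leaf 33) (.leaf 782)) (.leaf 17))) (.node (.node (.node (.leaf 0) (.leaf 1365)) (.leaf 0)) (.node (.leaf 0) (.leaf 180))))) (.node (.node (.node (.node (.node (.leaf 0) (.leaf 1252)) (.leaf 855)) (.node (.node (.leaf 1259) (.leaf 998)) (.leaf 1011))) (.node (.node (.node (.leaf 1438) (.leaf 1650)) (.leaf 798)) (.node (.leaf 0) (.leaf 1427)))) (.node (.node (.node (.node (.leaf 115) (.leaf 842)) (.leaf 0)) (.node (.node (.leaf 226) (.leaf 594)) (.leaf 406))) (.node (.node (.node (.leaf 32) (.leaf 148)) (.leaf 372)) (.node (.leaf 1238) (.leaf 248)))))))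

/-- data -/
def rank1p2 : Trie (ℕ) := .node (.node (.node (.node (.node (.node (.node (.node (.leaf 0) (.leaf 105)) (.leaf 1094)) (.node (.node (.leaf 0) (.leaf 1369)) (.leaf 1552))) (.node (.node (.node (.leaf 0) (.leaf 688)) (.leaf 282)) (.node (.node (.leaf 228) (.leaf 317)) (.leaf 1841)))) (.node (.node (.node (.node (.leaf 0) (.leaf 556)) (.leaf 0)) (.node (.node (.leaf 0) (.leaf 206)) (.leaf 485))) (.node (.node (.node (.leaf 0) (.leaf 286)) (.leaf 0)) (.node (.leaf 0) (.leaf 1890))))) (.node (.node (.node (.node (.node (.leaf 0) (.leaf 1160)) (.leaf 1832)) (.node (.node (.leaf 0) (.leaf 1530)) (.leaf 250))) (.node (.node (.node (.leaf 0) (.leaf 1899)) (.leaf 194)) (.node (.node (.leaf 0) (.leaf 1686)) (.leaf 1869)))) (.node (.node (.node (.node (.leaf 0) (.leaf 487)) (.leaf 1701)) (.node (.node (.leaf 0) (.leaf 669)) (.leaf 315))) (.node (.node (.node (.leaf 0) (.leaf 880)) (.leaf 1759)) (.node (.leaf 1616) (.leaf 1346)))))) (.node (.node (.node (.node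 (.node (.node (.leaf 0) (.leaf 580)) (.leaf 252)) (.node (.node (.leaf 0) (.leaf 205)) (.leaf 0))) (.node (.node (.node (.leaf 0) (.leaf 251)) (.leaf 1072)) (.node (.node (.leaf 0) (.leaf 850)) (.leaf 327)))) (.node (.node (.node (.node (.leaf 0) (.leaf 1020)) (.leaf 295)) (.node (.node (.leaf 1219) (.leaf 1489)) (.leaf 886))) (.node (.node (.node (.leaf 174) (.leaf 1893)) (.leaf 0)) (.node (.leaf 981) (.leaf 0))))) (.node (.node (.node (.node (.node (.leaf 0) (.leaf 1161)) (.leaf 0)) (.node (.node (.leaf 0) (.leaf 1817)) (.leaf 214))) (.node (.node (.node (.leaf 0) (.leaf 92)) (.leaf 0)) (.node (.node (.leaf 701) (.leaf 118)) (.leaf 1064)))) (.node (.node (.node (.node (.leaf 1320) (.leaf 474)) (.leaf 968)) (.node (.node (.leaf 171) (.leaf 1786)) (.leaf 1200))) (.node (.node (.node (.leaf 0) (.leaf 1725)) (.leaf 675)) (.node (.leaf 871) (.leaf 1764))))))) (.node (.node (.node (.node (.node (.node (.node (.leaf 0) (.leaf 284)) (.leaf 884)) (.node (.node (.leaf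 185) (.leaf 305)) (.leaf 1415))) (.node (.node (.node (.leaf 608) (.leaf 1947)) (.leaf 890)) (.node (.node (.leaf 0) (.leaf 780)) (.leaf 1396)))) (.node (.node (.node (.node (.leaf 0) (.leaf 239)) (.leaf 0)) (.node (.node (.leaf 0) (.leaf 1566)) (.leaf 1670))) (.node (.node (.node (.leaf 0) (.leaf 1193)) (.leaf 0)) (.node (.leaf 0) (.leaf 1086))))) (.node (.node (.node (.node (.node (.leaf 0) (.leaf 71)) (.leaf 567)) (.node (.node (.leaf 524) (.leaf 1836)) (.leaf 477))) (.node (.node (.node (.leaf 0) (.leaf 1709)) (.leaf 301)) (.node (.node (.leaf 0) (.leaf 484)) (.leaf 1596)))) (.node (.node (.node (.node (.leaf 0) (.leaf 1615)) (.leaf 0)) (.node (.node (.leaf 0) (.leaf 1260)) (.leaf 1254))) (.node (.node (.node (.leaf 0) (.leaf 577)) (.leaf 0)) (.node (.leaf 1698) (.leaf 1738)))))) (.node (.node (.node (.node (.node (.node (.leaf 0) (.leaf 950)) (.leaf 1448)) (.node (.node (.leaf 0) (.leaf 877)) (.leaf 483))) (.node (.node (.node (.leaf 0) (.leaf 0)) (.leaf 1806))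 (.node (.node (.leaf 224) (.leaf 1690)) (.leaf 0)))) (.node (.node (.node (.node (.leaf 0) (.leaf 0)) (.leaf 1606)) (.node (.node (.leaf 0) (.leaf 587)) (.leaf 868))) (.node (.node (.node (.leaf 181) (.leaf 995)) (.leaf 0)) (.node (.leaf 1381) (.leaf 0))))) (.node (.node (.node (.node (.node (.leaf 929) (.leaf 1053)) (.leaf 726)) (.node (.node (.leaf 612) (.leaf 101)) (.leaf 1065))) (.node (.node (.node (.leaf 0) (.leaf 1931)) (.leaf 1257)) (.node (.leaf 0) (.leaf 1451)))) (.node (.node (.node (.node (.leaf 0) (.leaf 469)) (.leaf 592)) (.node (.node (.leaf 167) (.leaf 896)) (.leaf 0))) (.node (.node (.node (.leaf 0) (.leaf 1852)) (.leaf 428)) (.node (.leaf 0) (.leaf 216)))))))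

/-- data -/
def rank1p3 : Trie (ℕ) := .node (.node (.node (.node (.node (.node (.node (.node (.leaf 0) (.leaf 151)) (.leaf 495)) (.node (.node (.leaf 0) (.leaf 927)) (.leaf 1671))) (.node (.node (.node (.leaf 0) (.leaf 329)) (.leaf 506)) (.node (.node (.leaf 0) (.leaf 203)) (.leaf 440)))) (.node (.node (.node (.node (.leaf 0) (.leaf 706)) (.leaf 0)) (.node (.node (.leaf 0) (.leaf 1564)) (.leaf 869))) (.node (.node (.node (.leaf 0) (.leaf 466)) (.leaf 0)) (.node (.leaf 1101) (.leaf 700))))) (.node (.node (.node (.node (.node (.leaf 0) (.leaf 145)) (.leaf 710)) (.node (.node (.leaf 575) (.leaf 1280)) (.leaf 275))) (.node (.node (.node (.leaf 0) (.leaf 1276)) (.leaf 743)) (.node (.node (.leaf 1118) (.leaf 1185)) (.leaf 1771)))) (.node (.node (.node (.node (.leaf 0) (.leaf 452)) (.leaf 1627)) (.node (.node (.leaf 0) (.leaf 139)) (.leaf 665))) (.node (.node (.node (.leaf 0) (.leaf 1557)) (.leaf 1549)) (.node (.leaf 1813) (.leaf 1781)))))) (.node (.node (.node (.node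 (.node (.node (.leaf 0) (.leaf 411)) (.leaf 0)) (.node (.node (.leaf 173) (.leaf 146)) (.leaf 1767))) (.node (.node (.node (.leaf 0) (.leaf 1749)) (.leaf 479)) (.node (.node (.leaf 756) (.leaf 1045)) (.leaf 555)))) (.node (.node (.node (.node (.leaf 0) (.leaf 1356)) (.leaf 0)) (.node (.node (.leaf 0) (.leaf 911)) (.leaf 1197))) (.node (.node (.node (.leaf 538) (.leaf 1656)) (.leaf 919)) (.node (.leaf 0) (.leaf 1941))))) (.node (.node (.node (.node (.node (.leaf 0) (.leaf 1502)) (.leaf 0)) (.node (.node (.leaf 0) (.leaf 1807)) (.leaf 184))) (.node (.node (.node (.leaf 0) (.leaf 391)) (.leaf 89)) (.node (.node (.leaf 0) (.leaf 960)) (.leaf 1518)))) (.node (.node (.node (.node (.leaf 0) (.leaf 513)) (.leaf 279)) (.node (.node (.leaf 805) (.leaf 1087)) (.leaf 38))) (.node (.node (.node (.leaf 0) (.leaf 1741)) (.leaf 1327)) (.node (.leaf 663) (.leaf 381))))))) (.node (.node (.node (.node (.node (.node (.node (.leaf 432) (.leaf 573)) (.leaf 901)) (.node (.node (.leaf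 1612) (.leaf 861)) (.leaf 1388))) (.node (.node (.node (.leaf 0) (.leaf 1950)) (.leaf 1074)) (.node (.node (.leaf 74) (.leaf 348)) (.leaf 201)))) (.node (.node (.node (.node (.leaf 0) (.leaf 1304)) (.leaf 394)) (.node (.node (.leaf 0) (.leaf 1392)) (.leaf 1503))) (.node (.node (.node (.leaf 0) (.leaf 225)) (.leaf 0)) (.node (.leaf 0) (.leaf 644))))) (.node (.node (.node (.node (.node (.leaf 0) (.leaf 0)) (.leaf 1372)) (.node (.node (.leaf 0) (.leaf 1659)) (.leaf 0))) (.node (.node (.node (.leaf 0) (.leaf 1467)) (.leaf 363)) (.node (.node (.leaf 0) (.leaf 232)) (.leaf 0)))) (.node (.node (.node (.node (.leaf 0) (.leaf 1514)) (.leaf 676)) (.node (.node (.leaf 66) (.leaf 1341)) (.leaf 1271))) (.node (.node (.node (.leaf 0) (.leaf 887)) (.leaf 197)) (.node (.leaf 1846) (.leaf 1878)))))) (.node (.node (.node (.node (.node (.node (.leaf 0) (.leaf 193)) (.leaf 1268)) (.node (.node (.leaf 1253) (.leaf 478)) (.leaf 1946))) (.node (.node (.node (.leaf 0) (.leaf 1439)) (.leaf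 0)) (.node (.node (.leaf 738) (.leaf 1668)) (.leaf 802)))) (.node (.node (.node (.node (.leaf 0) (.leaf 899)) (.leaf 0)) (.node (.node (.leaf 0) (.leaf 1632)) (.leaf 735))) (.node (.node (.node (.leaf 0) (.leaf 1823)) (.leaf 0)) (.node (.leaf 1003) (.leaf 1847))))) (.node (.node (.node (.node (.node (.leaf 0) (.leaf 1093)) (.leaf 138)) (.node (.node (.leaf 1034) (.leaf 241)) (.leaf 673))) (.node (.node (.node (.leaf 0) (.leaf 1378)) (.leaf 691)) (.node (.leaf 1382) (.leaf 1525)))) (.node (.node (.node (.node (.leaf 0) (.leaf 996)) (.leaf 1128)) (.node (.node (.leaf 439) (.leaf 788)) (.leaf 1510))) (.node (.node (.node (.leaf 0) (.leaf 1911)) (.leaf 0)) (.node (.leaf 0) (.leaf 159)))))))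

/-- data -/
def rank1p4 : Trie (ℕ) := .node (.node (.node (.node (.node (.node (.node (.node (.leaf 0) (.leaf 837)) (.leaf 0)) (.node (.node (.leaf 1208) (.leaf 186)) (.leaf 1391))) (.node (.node (.node (.leaf 0) (.leaf 253)) (.leaf 0)) (.node (.node (.leaf 773) (.leaf 26)) (.leaf 763)))) (.node (.node (.node (.node (.leaf 0) (.leaf 550)) (.leaf 0)) (.node (.node (.leaf 0) (.leaf 1374)) (.leaf 504))) (.node (.node (.node (.leaf 1601) (.leaf 296)) (.leaf 0)) (.node (.leaf 1172) (.leaf 534))))) (.node (.node (.node (.node (.node (.leaf 0) (.leaf 1457)) (.leaf 0)) (.node (.node (.leaf 72) (.leaf 846)) (.leaf 244))) (.node (.node (.node (.leaf 0) (.leaf 1013)) (.leaf 1184)) (.node (.node (.leaf 0) (.leaf 357)) (.leaf 745)))) (.node (.node (.node (.node (.leaf 0) (.leaf 576)) (.leaf 0)) (.node (.node (.leaf 0) (.leaf 219)) (.leaf 532))) (.node (.node (.node (.leaf 0) (.leaf 1486)) (.leaf 158)) (.node (.leaf 0) (.leaf 1035)))))) (.node (.node (.node (.node (.node (.node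 (.leaf 0) (.leaf 1951)) (.leaf 377)) (.node (.node (.leaf 1116) (.leaf 1657)) (.leaf 1605))) (.node (.node (.node (.leaf 0) (.leaf 1833)) (.leaf 166)) (.node (.node (.leaf 309) (.leaf 983)) (.leaf 514)))) (.node (.node (.node (.node (.leaf 0) (.leaf 1216)) (.leaf 0)) (.node (.node (.leaf 0) (.leaf 1572)) (.leaf 1587))) (.node (.node (.node (.leaf 373) (.leaf 147)) (.leaf 336)) (.node (.leaf 583) (.leaf 1422))))) (.node (.node (.node (.node (.node (.leaf 0) (.leaf 1360)) (.leaf 730)) (.node (.node (.leaf 0) (.leaf 1796)) (.leaf 262))) (.node (.node (.node (.leaf 0) (.leaf 543)) (.leaf 1635)) (.node (.node (.leaf 0) (.leaf 1098)) (.leaf 1603)))) (.node (.node (.node (.node (.leaf 0) (.leaf 40)) (.leaf 762)) (.node (.node (.leaf 559) (.leaf 940)) (.leaf 1067))) (.node (.node (.node (.leaf 0) (.leaf 1712)) (.leaf 0)) (.node (.leaf 705) (.leaf 189))))))) (.node (.node (.node (.node (.node (.node (.node (.leaf 0) (.leaf 1684)) (.leaf 0)) (.node (.node (.leaf 280) (.leaf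 1032)) (.leaf 1364))) (.node (.node (.node (.leaf 0) (.leaf 1949)) (.leaf 0)) (.node (.node (.leaf 0) (.leaf 1306)) (.leaf 144)))) (.node (.node (.node (.node (.leaf 0) (.leaf 928)) (.leaf 392)) (.node (.node (.leaf 0) (.leaf 1511)) (.leaf 0))) (.node (.node (.node (.leaf 0) (.leaf 528)) (.leaf 994)) (.node (.leaf 0) (.leaf 625))))) (.node (.node (.node (.node (.node (.leaf 0) (.leaf 768)) (.leaf 1313)) (.node (.node (.leaf 0) (.leaf 1819)) (.leaf 135))) (.node (.node (.node (.leaf 0) (.leaf 934)) (.leaf 237)) (.node (.node (.leaf 339) (.leaf 672)) (.leaf 1318)))) (.node (.node (.node (.node (.leaf 128) (.leaf 1048)) (.leaf 629)) (.node (.node (.leaf 804) (.leaf 1083)) (.leaf 1129))) (.node (.node (.node (.leaf 0) (.leaf 1005)) (.leaf 0)) (.node (.leaf 1599) (.leaf 1347)))))) (.node (.node (.node (.node (.node (.node (.leaf 0) (.leaf 1527)) (.leaf 1800)) (.node (.node (.leaf 1412) (.leaf 521)) (.leaf 425))) (.node (.node (.node (.leaf 0) (.leaf 1499)) (.leaf 1056))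 (.node (.node (.leaf 657) (.leaf 1580)) (.leaf 78)))) (.node (.node (.node (.node (.leaf 0) (.leaf 758)) (.leaf 1029)) (.node (.node (.leaf 1591) (.leaf 879)) (.leaf 1506))) (.node (.node (.node (.leaf 0) (.leaf 1213)) (.leaf 621)) (.node (.leaf 0) (.leaf 1452))))) (.node (.node (.node (.node (.node (.leaf 0) (.leaf 653)) (.leaf 571)) (.node (.node (.leaf 0) (.leaf 266)) (.leaf 881))) (.node (.node (.node (.leaf 0) (.leaf 1336)) (.leaf 308)) (.node (.leaf 0) (.leaf 979)))) (.node (.node (.node (.node (.leaf 0) (.leaf 1922)) (.leaf 0)) (.node (.node (.leaf 0) (.leaf 1286)) (.leaf 1402))) (.node (.node (.node (.leaf 875) (.leaf 951)) (.leaf 646)) (.node (.leaf 1041) (.leaf 1036)))))))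

/-- data -/
def rank1p5 : Trie (ℕ) := .node (.node (.node (.node (.node (.node (.node (.node (.leaf 0) (.leaf 1214)) (.leaf 402)) (.node (.node (.leaf 0) (.leaf 900)) (.leaf 1335))) (.node (.node (.node (.leaf 0) (.leaf 729)) (.leaf 288)) (.node (.node (.leaf 1042) (.leaf 1576)) (.leaf 1455)))) (.node (.node (.node (.node (.leaf 0) (.leaf 1887)) (.leaf 0)) (.node (.node (.leaf 0) (.leaf 766)) (.leaf 531))) (.node (.node (.node (.leaf 0) (.leaf 602)) (.leaf 297)) (.node (.leaf 0) (.leaf 454))))) (.node (.node (.node (.node (.node (.leaf 0) (.leaf 1357)) (.leaf 1778)) (.node (.node (.leaf 0) (.leaf 236)) (.leaf 0))) (.node (.node (.node (.leaf 0) (.leaf 1544)) (.leaf 741)) (.node (.node (.leaf 0) (.leaf 1693)) (.leaf 1839)))) (.node (.node (.node (.node (.leaf 0) (.leaf 520)) (.leaf 544)) (.node (.node (.leaf 1789) (.leaf 1292)) (.leaf 759))) (.node (.node (.node (.leaf 0) (.leaf 1613)) (.leaf 693)) (.node (.leaf 1477) (.leaf 0)))))) (.node (.node (.node (.node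 (.node (.node (.leaf 0) (.leaf 1885)) (.leaf 47)) (.node (.node (.leaf 0) (.leaf 256)) (.leaf 1515))) (.node (.node (.node (.leaf 0) (.leaf 874)) (.leaf 0)) (.node (.node (.leaf 0) (.leaf 1090)) (.leaf 0)))) (.node (.node (.node (.node (.leaf 0) (.leaf 468)) (.leaf 775)) (.node (.node (.leaf 1345) (.leaf 1431)) (.leaf 1504))) (.node (.node (.node (.leaf 395) (.leaf 1904)) (.leaf 0)) (.node (.leaf 238) (.leaf 1871))))) (.node (.node (.node (.node (.node (.leaf 0) (.leaf 1534)) (.leaf 0)) (.node (.node (.leaf 1750) (.leaf 1916)) (.leaf 0))) (.node (.node (.node (.leaf 0) (.leaf 41)) (.leaf 0)) (.node (.node (.leaf 0) (.leaf 1553)) (.leaf 1519)))) (.node (.node (.node (.node (.leaf 0) (.leaf 1859)) (.leaf 1704)) (.node (.node (.leaf 1475) (.leaf 1157)) (.leaf 82))) (.node (.node (.node (.leaf 161) (.leaf 1488)) (.leaf 0)) (.node (.leaf 212) (.leaf 187))))))) (.node (.node (.node (.node (.node (.node (.node (.leaf 0) (.leaf 409)) (.leaf 0)) (.node (.node (.leaf 1126)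 (.leaf 511)) (.leaf 1132))) (.node (.node (.node (.leaf 0) (.leaf 1897)) (.leaf 499)) (.node (.node (.leaf 1501) (.leaf 358)) (.leaf 1838)))) (.node (.node (.node (.node (.leaf 0) (.leaf 318)) (.leaf 893)) (.node (.node (.leaf 0) (.leaf 1232)) (.leaf 1594))) (.node (.node (.node (.leaf 1919) (.leaf 588)) (.leaf 1479)) (.node (.leaf 0) (.leaf 0))))) (.node (.node (.node (.node (.node (.leaf 0) (.leaf 274)) (.leaf 727)) (.node (.node (.leaf 0) (.leaf 1281)) (.leaf 1004))) (.node (.node (.node (.leaf 79) (.leaf 1476)) (.leaf 0)) (.node (.node (.leaf 0) (.leaf 1010)) (.leaf 1334)))) (.node (.node (.node (.node (.leaf 0) (.leaf 1102)) (.leaf 905)) (.node (.node (.leaf 0) (.leaf 1367)) (.leaf 828))) (.node (.node (.node (.leaf 0) (.leaf 1720)) (.leaf 183)) (.node (.leaf 320) (.leaf 1358)))))) (.node (.node (.node (.node (.node (.node (.leaf 0) (.leaf 0)) (.leaf 0)) (.node (.node (.leaf 1258) (.leaf 1278)) (.leaf 857))) (.node (.node (.node (.leaf 0) (.leaf 1308)) (.leaf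 0)) (.node (.node (.leaf 0) (.leaf 1401)) (.leaf 1867)))) (.node (.node (.node (.node (.leaf 0) (.leaf 20)) (.leaf 48)) (.node (.node (.leaf 0) (.leaf 1420)) (.leaf 0))) (.node (.node (.node (.leaf 0) (.leaf 655)) (.leaf 0)) (.node (.leaf 0) (.leaf 263))))) (.node (.node (.node (.node (.node (.leaf 0) (.leaf 737)) (.leaf 249)) (.node (.node (.leaf 582) (.leaf 1810)) (.leaf 955))) (.node (.node (.node (.leaf 0) (.leaf 1822)) (.leaf 0)) (.node (.leaf 0) (.leaf 1394)))) (.node (.node (.node (.node (.leaf 0) (.leaf 1470)) (.leaf 1851)) (.node (.node (.leaf 0) (.leaf 1205)) (.leaf 1243))) (.node (.node (.node (.leaf 0) (.leaf 500)) (.leaf 0)) (.node (.leaf 0) (.leaf 1845)))))))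

/-- data -/
def rank1p6 : Trie (ℕ) := .node (.node (.node (.node (.node (.node (.node (.node (.leaf 0) (.leaf 918)) (.leaf 595)) (.node (.node (.leaf 0) (.leaf 270)) (.leaf 1505))) (.node (.node (.node (.leaf 0) (.leaf 221)) (.leaf 268)) (.node (.node (.leaf 58) (.leaf 966)) (.leaf 1272)))) (.node (.node (.node (.node (.leaf 0) (.leaf 465)) (.leaf 367)) (.node (.node (.leaf 0) (.leaf 1461)) (.leaf 496))) (.node (.node (.node (.leaf 6) (.leaf 949)) (.leaf 1182)) (.node (.leaf 0) (.leaf 501))))) (.node (.node (.node (.node (.node (.leaf 0) (.leaf 1207)) (.leaf 1171)) (.node (.node (.leaf 0) (.leaf 535)) (.leaf 1379))) (.node (.node (.node (.leaf 31) (.leaf 1383)) (.leaf 540)) (.node (.node (.leaf 0) (.leaf 1864)) (.leaf 1225)))) (.node (.node (.node (.node (.leaf 0) (.leaf 774)) (.leaf 789)) (.node (.node (.leaf 0) (.leaf 733)) (.leaf 1204))) (.node (.node (.node (.leaf 0) (.leaf 1558)) (.leaf 300)) (.node (.leaf 0) (.leaf 815)))))) (.node (.node (.node (.node (.node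 (.node (.leaf 0) (.leaf 1050)) (.leaf 0)) (.node (.node (.leaf 0) (.leaf 134)) (.leaf 1683))) (.node (.node (.node (.leaf 258) (.leaf 1779)) (.leaf 223)) (.node (.node (.leaf 61) (.leaf 921)) (.leaf 127)))) (.node (.node (.node (.node (.leaf 0) (.leaf 1634)) (.leaf 0)) (.node (.node (.leaf 0) (.leaf 1332)) (.leaf 1393))) (.node (.node (.node (.leaf 0) (.leaf 1812)) (.leaf 574)) (.node (.leaf 178) (.leaf 1449))))) (.node (.node (.node (.node (.node (.leaf 0) (.leaf 1266)) (.leaf 442)) (.node (.node (.leaf 0) (.leaf 1731)) (.leaf 958))) (.node (.node (.node (.leaf 0) (.leaf 1901)) (.leaf 0)) (.node (.node (.leaf 695) (.leaf 1229)) (.leaf 885)))) (.node (.node (.node (.node (.leaf 0) (.leaf 1468)) (.leaf 397)) (.node (.node (.leaf 436) (.leaf 872)) (.leaf 210))) (.node (.node (.node (.leaf 0) (.leaf 1316)) (.leaf 0)) (.node (.leaf 204) (.leaf 1577))))))) (.node (.node (.node (.node (.node (.node (.node (.leaf 1) (.leaf 0)) (.leaf 34)) (.node (.node (.leaf 0) (.leaf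 109)) (.leaf 617))) (.node (.node (.node (.leaf 431) (.leaf 1948)) (.leaf 143)) (.node (.node (.leaf 0) (.leaf 240)) (.leaf 243)))) (.node (.node (.node (.node (.leaf 0) (.leaf 306)) (.leaf 728)) (.node (.node (.leaf 0) (.leaf 807)) (.leaf 1829))) (.node (.node (.node (.leaf 0) (.leaf 1146)) (.leaf 0)) (.node (.leaf 12) (.leaf 679))))) (.node (.node (.node (.node (.node (.leaf 0) (.leaf 209)) (.leaf 812)) (.node (.node (.leaf 154) (.leaf 1049)) (.leaf 1024))) (.node (.node (.node (.leaf 0) (.leaf 971)) (.leaf 170)) (.node (.node (.leaf 724) (.leaf 749)) (.leaf 1535)))) (.node (.node (.node (.node (.leaf 0) (.leaf 1081)) (.leaf 0)) (.node (.node (.leaf 1117) (.leaf 1330)) (.leaf 677))) (.node (.node (.node (.leaf 0) (.leaf 1732)) (.leaf 164)) (.node (.leaf 0) (.leaf 0)))))) (.node (.node (.node (.node (.node (.node (.leaf 0) (.leaf 1130)) (.leaf 0)) (.node (.node (.leaf 0) (.leaf 1815)) (.leaf 826))) (.node (.node (.node (.leaf 1033) (.leaf 1436)) (.leaf 1565))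 (.node (.node (.leaf 11) (.leaf 1682)) (.leaf 1646)))) (.node (.node (.node (.node (.leaf 0) (.leaf 1463)) (.leaf 0)) (.node (.node (.leaf 85) (.leaf 1454)) (.leaf 1212))) (.node (.node (.node (.leaf 390) (.leaf 1177)) (.leaf 1331)) (.node (.leaf 0) (.leaf 1681))))) (.node (.node (.node (.node (.node (.leaf 0) (.leaf 0)) (.leaf 1002)) (.node (.node (.leaf 1441) (.leaf 770)) (.leaf 0))) (.node (.node (.node (.leaf 0) (.leaf 1492)) (.leaf 720)) (.node (.leaf 0) (.leaf 783)))) (.node (.node (.node (.node (.leaf 0) (.leaf 1742)) (.leaf 1433)) (.node (.node (.leaf 0) (.leaf 366)) (.leaf 435))) (.node (.node (.node (.leaf 0) (.leaf 1559)) (.leaf 601)) (.node (.leaf 627) (.leaf 202)))))))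

/-- data -/
def rank1p7 : Trie (ℕ) := .node (.node (.node (.node (.node (.node (.node (.node (.leaf 0) (.leaf 0)) (.leaf 702)) (.node (.node (.leaf 0) (.leaf 1019)) (.leaf 1777))) (.node (.node (.node (.leaf 0) (.leaf 247)) (.leaf 345)) (.node (.node (.leaf 84) (.leaf 1366)) (.leaf 1624)))) (.node (.node (.node (.node (.leaf 0) (.leaf 1705)) (.leaf 375)) (.node (.node (.leaf 0) (.leaf 935)) (.leaf 942))) (.node (.node (.node (.leaf 0) (.leaf 715)) (.leaf 0)) (.node (.leaf 0) (.leaf 434))))) (.node (.node (.node (.node (.node (.leaf 0) (.leaf 108)) (.leaf 1493)) (.node (.node (.leaf 878) (.leaf 271)) (.leaf 1542))) (.node (.node (.node (.leaf 0) (.leaf 1643)) (.leaf 959)) (.node (.node (.leaf 0) (.leaf 957)) (.leaf 59)))) (.node (.node (.node (.node (.leaf 0) (.leaf 572)) (.leaf 0)) (.node (.node (.leaf 1444) (.leaf 1637)) (.leaf 503))) (.node (.node (.node (.leaf 0) (.leaf 1385)) (.leaf 15)) (.node (.leaf 1631) (.leaf 854)))))) (.node (.node (.node (.node (.node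 (.node (.leaf 3) (.leaf 63)) (.leaf 429)) (.node (.node (.leaf 0) (.leaf 136)) (.leaf 1678))) (.node (.node (.node (.leaf 0) (.leaf 633)) (.leaf 0)) (.node (.node (.leaf 0) (.leaf 1324)) (.leaf 912)))) (.node (.node (.node (.node (.leaf 0) (.leaf 1861)) (.leaf 978)) (.node (.node (.leaf 198) (.leaf 1174)) (.leaf 1183))) (.node (.node (.node (.leaf 0) (.leaf 1927)) (.leaf 792)) (.node (.leaf 0) (.leaf 255))))) (.node (.node (.node (.node (.node (.leaf 0) (.leaf 1933)) (.leaf 1305)) (.node (.node (.leaf 9) (.leaf 359)) (.leaf 1410))) (.node (.node (.node (.leaf 0) (.leaf 0)) (.leaf 0)) (.node (.node (.leaf 0) (.leaf 1380)) (.leaf 0)))) (.node (.node (.node (.node (.leaf 0) (.leaf 779)) (.leaf 91)) (.node (.node (.leaf 859) (.leaf 1149)) (.leaf 1062))) (.node (.node (.node (.leaf 0) (.leaf 1173)) (.leaf 623)) (.node (.leaf 356) (.leaf 1025))))))) (.node (.node (.node (.node (.node (.node (.node (.leaf 0) (.leaf 0)) (.leaf 1623)) (.node (.node (.leaf 1302) (.leaf 1883))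 (.leaf 852))) (.node (.node (.node (.leaf 0) (.leaf 1168)) (.leaf 0)) (.node (.node (.leaf 0) (.leaf 1853)) (.leaf 579)))) (.node (.node (.node (.node (.leaf 0) (.leaf 891)) (.leaf 0)) (.node (.node (.leaf 0) (.leaf 1107)) (.leaf 611))) (.node (.node (.node (.leaf 0) (.leaf 616)) (.leaf 1619)) (.node (.leaf 0) (.leaf 1373))))) (.node (.node (.node (.node (.node (.leaf 0) (.leaf 507)) (.leaf 267)) (.node (.node (.leaf 0) (.leaf 1729)) (.leaf 0))) (.node (.node (.node (.leaf 342) (.leaf 904)) (.leaf 1362)) (.node (.node (.leaf 0) (.leaf 820)) (.leaf 0)))) (.node (.node (.node (.node (.leaf 467) (.leaf 1464)) (.leaf 639)) (.node (.node (.leaf 1425) (.leaf 1828)) (.leaf 0))) (.node (.node (.node (.leaf 0) (.leaf 1284)) (.leaf 433)) (.node (.leaf 324) (.leaf 1523)))))) (.node (.node (.node (.node (.node (.node (.leaf 0) (.leaf 1350)) (.leaf 591)) (.node (.node (.leaf 122) (.leaf 160)) (.leaf 1669))) (.node (.node (.node (.leaf 0) (.leaf 821)) (.leaf 1312)) (.node (.node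 (.leaf 1133) (.leaf 56)) (.leaf 1785)))) (.node (.node (.node (.node (.leaf 0) (.leaf 1484)) (.leaf 654)) (.node (.node (.leaf 0) (.leaf 1039)) (.leaf 1866))) (.node (.node (.node (.leaf 0) (.leaf 838)) (.leaf 94)) (.node (.leaf 1735) (.leaf 1706))))) (.node (.node (.node (.node (.node (.leaf 0) (.leaf 328)) (.leaf 0)) (.node (.node (.leaf 0) (.leaf 1711)) (.leaf 593))) (.node (.node (.node (.leaf 0) (.leaf 1150)) (.leaf 671)) (.node (.leaf 997) (.leaf 1059)))) (.node (.node (.node (.node (.leaf 0) (.leaf 1099)) (.leaf 1926)) (.node (.node (.leaf 0) (.leaf 365)) (.leaf 1707))) (.node (.node (.node (.leaf 0) (.leaf 1289)) (.leaf 302)) (.node (.leaf 962) (.leaf 0)))))))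

/-- data -/
def rank1p8 : Trie (ℕ) := .node (.node (.node (.node (.node (.node (.node (.node (.leaf 0) (.leaf 1293)) (.leaf 447)) (.node (.node (.leaf 0) (.leaf 1708)) (.leaf 49))) (.node (.node (.node (.leaf 0) (.leaf 0)) (.leaf 0)) (.node (.node (.leaf 261) (.leaf 1007)) (.leaf 668)))) (.node (.node (.node (.node (.leaf 0) (.leaf 218)) (.leaf 0)) (.node (.node (.leaf 0) (.leaf 1520)) (.leaf 290))) (.node (.node (.node (.leaf 0) (.leaf 1270)) (.leaf 1344)) (.node (.leaf 643) (.leaf 0))))) (.node (.node (.node (.node (.node (.leaf 0) (.leaf 152)) (.leaf 1138)) (.node (.node (.leaf 0) (.leaf 1727)) (.leaf 0))) (.node (.node (.node (.leaf 0) (.leaf 21)) (.leaf 1203)) (.node (.node (.leaf 1154) (.leaf 704)) (.leaf 613)))) (.node (.node (.node (.node (.leaf 0) (.leaf 418)) (.leaf 1737)) (.node (.node (.leaf 0) (.leaf 660)) (.leaf 1315))) (.node (.node (.node (.leaf 7) (.leaf 1179)) (.leaf 590)) (.node (.leaf 1246) (.leaf 1809)))))) (.node (.node (.node (.node (.node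 (.node (.leaf 0) (.leaf 1886)) (.leaf 836)) (.node (.node (.leaf 0) (.leaf 412)) (.leaf 0))) (.node (.node (.node (.leaf 0) (.leaf 510)) (.leaf 1055)) (.node (.node (.leaf 1426) (.leaf 1166)) (.leaf 1043)))) (.node (.node (.node (.node (.leaf 696) (.leaf 1220)) (.leaf 1752)) (.node (.node (.leaf 0) (.leaf 0)) (.leaf 54))) (.node (.node (.node (.leaf 523) (.leaf 1554)) (.leaf 711)) (.node (.leaf 888) (.leaf 112))))) (.node (.node (.node (.node (.node (.leaf 0) (.leaf 1459)) (.leaf 813)) (.node (.node (.leaf 1400) (.leaf 1153)) (.leaf 732))) (.node (.node (.node (.leaf 795) (.leaf 964)) (.leaf 819)) (.node (.node (.leaf 0) (.leaf 1584)) (.leaf 603)))) (.node (.node (.node (.node (.leaf 0) (.leaf 1666)) (.leaf 0)) (.node (.node (.leaf 661) (.leaf 1031)) (.leaf 1447))) (.node (.node (.node (.leaf 0) (.leaf 1390)) (.leaf 0)) (.node (.leaf 272) (.leaf 106))))))) (.node (.node (.node (.node (.node (.node (.node (.leaf 0) (.leaf 1156)) (.leaf 403)) (.node (.node (.leaf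 0) (.leaf 1348)) (.leaf 1206))) (.node (.node (.node (.leaf 0) (.leaf 909)) (.leaf 299)) (.node (.node (.leaf 0) (.leaf 444)) (.leaf 111)))) (.node (.node (.node (.node (.leaf 0) (.leaf 694)) (.leaf 712)) (.node (.node (.leaf 107) (.leaf 1568)) (.leaf 604))) (.node (.node (.node (.leaf 0) (.leaf 630)) (.leaf 866)) (.node (.leaf 564) (.leaf 933))))) (.node (.node (.node (.node (.node (.leaf 0) (.leaf 293)) (.leaf 0)) (.node (.node (.leaf 0) (.leaf 972)) (.leaf 1442))) (.node (.node (.node (.leaf 0) (.leaf 414)) (.leaf 522)) (.node (.node (.leaf 0) (.leaf 1629)) (.leaf 1121)))) (.node (.node (.node (.node (.leaf 0) (.leaf 1235)) (.leaf 526)) (.node (.node (.leaf 1119) (.leaf 1804)) (.leaf 697))) (.node (.node (.node (.leaf 0) (.leaf 938)) (.leaf 1264)) (.node (.leaf 1069) (.leaf 0)))))) (.node (.node (.node (.node (.node (.node (.leaf 2) (.leaf 1368)) (.leaf 0)) (.node (.node (.leaf 0) (.leaf 1371)) (.leaf 1018))) (.node (.node (.node (.leaf 0) (.leaf 52)) (.leaf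 1482)) (.node (.node (.leaf 0) (.leaf 944)) (.leaf 1340)))) (.node (.node (.node (.node (.leaf 0) (.leaf 1891)) (.leaf 1593)) (.node (.node (.leaf 0) (.leaf 1162)) (.leaf 799))) (.node (.node (.node (.leaf 0) (.leaf 1516)) (.leaf 215)) (.node (.leaf 0) (.leaf 1261))))) (.node (.node (.node (.node (.node (.leaf 0) (.leaf 114)) (.leaf 1472)) (.node (.node (.leaf 0) (.leaf 1724)) (.leaf 1586))) (.node (.node (.node (.leaf 0) (.leaf 1165)) (.leaf 132)) (.node (.leaf 0) (.leaf 486)))) (.node (.node (.node (.node (.leaf 0) (.leaf 751)) (.leaf 1500)) (.node (.node (.leaf 399) (.leaf 1913)) (.leaf 1746))) (.node (.node (.node (.leaf 0) (.leaf 640)) (.leaf 0)) (.node (.leaf 0) (.leaf 0)))))))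

/-- data -/
def rank1p9 : Trie (ℕ) := .node (.node (.node (.node (.node (.node (.node (.node (.leaf 0) (.leaf 104)) (.leaf 0)) (.node (.node (.leaf 0) (.leaf 1722)) (.leaf 0))) (.node (.node (.node (.leaf 419) (.leaf 843)) (.leaf 1122)) (.node (.node (.leaf 0) (.leaf 1237)) (.leaf 220)))) (.node (.node (.node (.node (.leaf 0) (.leaf 1386)) (.leaf 0)) (.node (.node (.leaf 97) (.leaf 848)) (.leaf 609))) (.node (.node (.node (.leaf 0) (.leaf 313)) (.leaf 0)) (.node (.leaf 0) (.leaf 0))))) (.node (.node (.node (.node (.node (.leaf 0) (.leaf 1875)) (.leaf 1112)) (.node (.node (.leaf 254) (.leaf 1664)) (.leaf 273))) (.node (.node (.node (.leaf 0) (.leaf 1474)) (.leaf 1314)) (.node (.node (.leaf 1282) (.leaf 1944)) (.leaf 124)))) (.node (.node (.node (.node (.leaf 0) (.leaf 396)) (.leaf 903)) (.node (.node (.leaf 0) (.leaf 1233)) (.leaf 1507))) (.node (.node (.node (.leaf 0) (.leaf 1837)) (.leaf 740)) (.node (.leaf 0) (.leaf 1689)))))) (.node (.node (.node (.node (.node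 (.node (.leaf 0) (.leaf 1884)) (.leaf 1423)) (.node (.node (.leaf 0) (.leaf 1100)) (.leaf 1699))) (.node (.node (.node (.leaf 0) (.leaf 277)) (.leaf 1651)) (.node (.node (.leaf 0) (.leaf 948)) (.leaf 0)))) (.node (.node (.node (.node (.leaf 0) (.leaf 598)) (.leaf 0)) (.node (.node (.leaf 0) (.leaf 1688)) (.leaf 914))) (.node (.node (.node (.leaf 0) (.leaf 1241)) (.leaf 0)) (.node (.leaf 839) (.leaf 1104))))) (.node (.node (.node (.node (.node (.leaf 0) (.leaf 1715)) (.leaf 73)) (.node (.node (.leaf 1151) (.leaf 1561)) (.leaf 1626))) (.node (.node (.node (.leaf 0) (.leaf 1435)) (.leaf 1337)) (.node (.node (.leaf 1066) (.leaf 1662)) (.leaf 699)))) (.node (.node (.node (.node (.leaf 0) (.leaf 364)) (.leaf 0)) (.node (.node (.leaf 0) (.leaf 1155)) (.leaf 1508))) (.node (.node (.node (.leaf 0) (.leaf 990)) (.leaf 744)) (.node (.leaf 791) (.leaf 0))))))) (.node (.node (.node (.node (.node (.node (.node (.leaf 0) (.leaf 0)) (.leaf 0)) (.node (.node (.leaf 1695) (.leaf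 1902)) (.leaf 0))) (.node (.node (.node (.leaf 0) (.leaf 721)) (.leaf 472)) (.node (.node (.leaf 0) (.leaf 1201)) (.leaf 0)))) (.node (.node (.node (.node (.leaf 0) (.leaf 51)) (.leaf 370)) (.node (.node (.leaf 130) (.leaf 1231)) (.leaf 175))) (.node (.node (.node (.leaf 505) (.leaf 1363)) (.leaf 0)) (.node (.leaf 420) (.leaf 0))))) (.node (.node (.node (.node (.node (.leaf 0) (.leaf 0)) (.leaf 718)) (.node (.node (.leaf 0) (.leaf 1645)) (.leaf 1218))) (.node (.node (.node (.leaf 0) (.leaf 563)) (.leaf 656)) (.node (.node (.leaf 459) (.leaf 557)) (.leaf 1658)))) (.node (.node (.node (.node (.leaf 0) (.leaf 1579)) (.leaf 781)) (.node (.node (.leaf 1141) (.leaf 1802)) (.leaf 652))) (.node (.node (.node (.leaf 0) (.leaf 1249)) (.leaf 1298)) (.node (.leaf 0) (.leaf 1159)))))) (.node (.node (.node (.node (.node (.node (.leaf 0) (.leaf 1297)) (.leaf 525)) (.node (.node (.leaf 0) (.leaf 1654)) (.leaf 0))) (.node (.node (.node (.leaf 0) (.leaf 1675)) (.leaf 1178)) (.node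 (.node (.leaf 1583) (.leaf 1028)) (.leaf 1685)))) (.node (.node (.node (.node (.leaf 0) (.leaf 0)) (.leaf 0)) (.node (.node (.leaf 0) (.leaf 1825)) (.leaf 462))) (.node (.node (.node (.leaf 0) (.leaf 1607)) (.leaf 95)) (.node (.leaf 0) (.leaf 1879))))) (.node (.node (.node (.node (.node (.leaf 0) (.leaf 1655)) (.leaf 1009)) (.node (.node (.leaf 0) (.leaf 1621)) (.leaf 1547))) (.node (.node (.node (.leaf 0) (.leaf 1226)) (.leaf 1139)) (.node (.leaf 873) (.leaf 1269)))) (.node (.node (.node (.node (.leaf 5) (.leaf 750)) (.leaf 1575)) (.node (.node (.leaf 1047) (.leaf 1844)) (.leaf 0))) (.node (.node (.node (.leaf 1224) (.leaf 894)) (.leaf 269)) (.node (.leaf 0) (.leaf 1044)))))))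

/-- data -/
def rank1p10 : Trie (ℕ) := .node (.node (.node (.node (.node (.node (.node (.node (.leaf 0) (.leaf 473)) (.leaf 0)) (.node (.node (.leaf 1703) (.leaf 1466)) (.leaf 1538))) (.node (.node (.node (.leaf 83) (.leaf 1543)) (.leaf 1073)) (.node (.node (.leaf 86) (.leaf 1912)) (.leaf 99)))) (.node (.node (.node (.node (.leaf 0) (.leaf 235)) (.leaf 1432)) (.node (.node (.leaf 0) (.leaf 117)) (.leaf 81))) (.node (.node (.node (.leaf 0) (.leaf 1551)) (.leaf 0)) (.node (.leaf 569) (.leaf 153))))) (.node (.node (.node (.node (.node (.leaf 0) (.leaf 489)) (.leaf 0)) (.node (.node (.leaf 0) (.leaf 1633)) (.leaf 103))) (.node (.node (.node (.leaf 0) (.leaf 1679)) (.leaf 0)) (.node (.node (.leaf 1595) (.leaf 1937)) (.leaf 246)))) (.node (.node (.node (.node (.leaf 1389) (.leaf 1563)) (.leaf 0)) (.node (.node (.leaf 0) (.leaf 586)) (.leaf 0))) (.node (.node (.node (.leaf 386) (.leaf 690)) (.leaf 1437)) (.node (.leaf 0) (.leaf 1158)))))) (.node (.node (.node (.node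 (.node (.node (.leaf 0) (.leaf 1896)) (.leaf 0)) (.node (.node (.leaf 0) (.leaf 849)) (.leaf 1641))) (.node (.node (.node (.leaf 0) (.leaf 889)) (.leaf 1175)) (.node (.node (.leaf 0) (.leaf 1012)) (.leaf 917)))) (.node (.node (.node (.node (.leaf 0) (.leaf 1267)) (.leaf 0)) (.node (.node (.leaf 0) (.leaf 1296)) (.leaf 1283))) (.node (.node (.node (.leaf 131) (.leaf 1652)) (.leaf 303)) (.node (.leaf 0) (.leaf 719))))) (.node (.node (.node (.node (.node (.leaf 0) (.leaf 1135)) (.leaf 808)) (.node (.node (.leaf 0) (.leaf 1322)) (.leaf 0))) (.node (.node (.node (.leaf 0) (.leaf 490)) (.leaf 0)) (.node (.node (.leaf 0) (.leaf 1714)) (.leaf 1299)))) (.node (.node (.node (.node (.leaf 0) (.leaf 1414)) (.leaf 883)) (.node (.node (.leaf 560) (.leaf 976)) (.leaf 1868))) (.node (.node (.node (.leaf 0) (.leaf 1443)) (.leaf 0)) (.node (.leaf 1882) (.leaf 102))))))) (.node (.node (.node (.node (.node (.node (.node (.leaf 0) (.leaf 1250)) (.leaf 0)) (.node (.node (.leaf 0) (.leaf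 1590)) (.leaf 0))) (.node (.node (.node (.leaf 0) (.leaf 862)) (.leaf 0)) (.node (.node (.leaf 0) (.leaf 685)) (.leaf 347)))) (.node (.node (.node (.node (.leaf 0) (.leaf 1287)) (.leaf 421)) (.node (.node (.leaf 57) (.leaf 1198)) (.leaf 344))) (.node (.node (.node (.leaf 0) (.leaf 1834)) (.leaf 1255)) (.node (.leaf 787) (.leaf 584))))) (.node (.node (.node (.node (.node (.leaf 0) (.leaf 982)) (.leaf 0)) (.node (.node (.leaf 0) (.leaf 1649)) (.leaf 1512))) (.node (.node (.node (.leaf 0) (.leaf 0)) (.leaf 716)) (.node (.node (.leaf 0) (.leaf 43)) (.leaf 1622)))) (.node (.node (.node (.node (.leaf 0) (.leaf 1328)) (.leaf 816)) (.node (.node (.leaf 0) (.leaf 1375)) (.leaf 717))) (.node (.node (.node (.leaf 0) (.leaf 312)) (.leaf 1188)) (.node (.leaf 0) (.leaf 1096)))))) (.node (.node (.node (.node (.node (.node (.leaf 351) (.leaf 1726)) (.leaf 0)) (.node (.node (.leaf 0) (.leaf 1739)) (.leaf 340))) (.node (.node (.node (.leaf 1120) (.leaf 1170)) (.leaf 1419)) (.node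 (.node (.leaf 0) (.leaf 830)) (.leaf 1597)))) (.node (.node (.node (.node (.leaf 0) (.leaf 1945)) (.leaf 0)) (.node (.node (.leaf 1105) (.leaf 614)) (.leaf 1329))) (.node (.node (.node (.leaf 0) (.leaf 832)) (.leaf 1343)) (.node (.leaf 0) (.leaf 1453))))) (.node (.node (.node (.node (.node (.leaf 0) (.leaf 374)) (.leaf 1307)) (.node (.node (.leaf 0) (.leaf 1733)) (.leaf 1537))) (.node (.node (.node (.leaf 46) (.leaf 1108)) (.leaf 548)) (.node (.leaf 725) (.leaf 636)))) (.node (.node (.node (.node (.leaf 0) (.leaf 642)) (.leaf 0)) (.node (.node (.leaf 1820) (.leaf 1736)) (.leaf 542))) (.node (.node (.node (.leaf 1145) (.leaf 1277)) (.leaf 1190)) (.node (.leaf 722) (.leaf 509)))))))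

/-- data -/
def rank1p11 : Trie (ℕ) := .node (.node (.node (.node (.node (.node (.node (.node (.leaf 0) (.leaf 0)) (.leaf 1550)) (.node (.node (.leaf 858) (.leaf 133)) (.leaf 1770))) (.node (.node (.node (.leaf 0) (.leaf 285)) (.leaf 1434)) (.node (.node (.leaf 0) (.leaf 1404)) (.leaf 1014)))) (.node (.node (.node (.node (.leaf 0) (.leaf 349)) (.leaf 1604)) (.node (.node (.leaf 0) (.leaf 956)) (.leaf 422))) (.node (.node (.node (.leaf 0) (.leaf 1227)) (.leaf 1076)) (.node (.leaf 680) (.leaf 464))))) (.node (.node (.node (.node (.node (.leaf 0) (.leaf 0)) (.leaf 0)) (.node (.node (.leaf 0) (.leaf 1494)) (.leaf 552))) (.node (.node (.node (.leaf 0) (.leaf 945)) (.leaf 1027)) (.node (.node (.leaf 0) (.leaf 1938)) (.leaf 925)))) (.node (.node (.node (.node (.leaf 0) (.leaf 1760)) (.leaf 0)) (.node (.node (.leaf 1445) (.leaf 1167)) (.leaf 1351))) (.node (.node (.node (.leaf 0) (.leaf 1180)) (.leaf 1672)) (.node (.leaf 980) (.leaf 1134)))))) (.node (.node (.node (.node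 (.node (.node (.leaf 0) (.leaf 1863)) (.leaf 229)) (.node (.node (.leaf 0) (.leaf 1663)) (.leaf 1753))) (.node (.node (.node (.leaf 0) (.leaf 1311)) (.leaf 0)) (.node (.node (.leaf 0) (.leaf 1091)) (.leaf 137)))) (.node (.node (.node (.node (.leaf 0) (.leaf 999)) (.leaf 519)) (.node (.node (.leaf 0) (.leaf 1023)) (.leaf 814))) (.node (.node (.node (.leaf 337) (.leaf 1870)) (.leaf 1143)) (.node (.leaf 0) (.leaf 1862))))) (.node (.node (.node (.node (.node (.leaf 0) (.leaf 1483)) (.leaf 172)) (.node (.node (.leaf 0) (.leaf 1721)) (.leaf 0))) (.node (.node (.node (.leaf 0) (.leaf 1199)) (.leaf 141)) (.node (.node (.leaf 864) (.leaf 1571)) (.leaf 67)))) (.node (.node (.node (.node (.leaf 0) (.leaf 1855)) (.leaf 993)) (.node (.node (.leaf 554) (.leaf 380)) (.leaf 947))) (.node (.node (.node (.leaf 0) (.leaf 1403)) (.leaf 0)) (.node (.leaf 1428) (.leaf 334))))))) (.node (.node (.node (.node (.node (.node (.node (.leaf 0) (.leaf 1300)) (.leaf 0)) (.node (.node (.leaf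 818) (.leaf 882)) (.leaf 1935))) (.node (.node (.node (.leaf 0) (.leaf 410)) (.leaf 322)) (.node (.node (.leaf 0) (.leaf 638)) (.leaf 687)))) (.node (.node (.node (.node (.leaf 0) (.leaf 1480)) (.leaf 0)) (.node (.node (.leaf 515) (.leaf 1569)) (.leaf 149))) (.node (.node (.node (.leaf 482) (.leaf 1411)) (.leaf 600)) (.node (.leaf 362) (.leaf 1370))))) (.node (.node (.node (.node (.node (.leaf 0) (.leaf 1888)) (.leaf 0)) (.node (.node (.leaf 0) (.leaf 1795)) (.leaf 0))) (.node (.node (.node (.leaf 0) (.leaf 916)) (.leaf 1057)) (.node (.node (.leaf 424) (.leaf 1874)) (.leaf 1625)))) (.node (.node (.node (.node (.leaf 0) (.leaf 1114)) (.leaf 0)) (.node (.node (.leaf 985) (.leaf 1234)) (.leaf 786))) (.node (.node (.node (.leaf 0) (.leaf 330)) (.leaf 457)) (.node (.leaf 865) (.leaf 1524)))))) (.node (.node (.node (.node (.node (.node (.leaf 0) (.leaf 1696)) (.leaf 0)) (.node (.node (.leaf 0) (.leaf 1079)) (.leaf 231))) (.node (.node (.node (.leaf 0) (.leaf 1323)) (.leaf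 1176)) (.node (.node (.leaf 0) (.leaf 1532)) (.leaf 0)))) (.node (.node (.node (.node (.leaf 0) (.leaf 810)) (.leaf 760)) (.node (.node (.leaf 382) (.leaf 585)) (.leaf 753))) (.node (.node (.node (.leaf 361) (.leaf 281)) (.leaf 1814)) (.node (.leaf 0) (.leaf 1766))))) (.node (.node (.node (.node (.node (.leaf 790) (.leaf 407)) (.leaf 0)) (.node (.node (.leaf 0) (.leaf 1835)) (.leaf 1303))) (.node (.node (.node (.leaf 0) (.leaf 1898)) (.leaf 692)) (.node (.leaf 1920) (.leaf 93)))) (.node (.node (.node (.node (.leaf 0) (.leaf 1700)) (.leaf 1826)) (.node (.node (.leaf 0) (.leaf 1943)) (.leaf 0))) (.node (.node (.node (.leaf 1075) (.leaf 1928)) (.leaf 0)) (.node (.leaf 823) (.leaf 0)))))))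

/-- data -/
def rank1p12 : Trie (ℕ) := .node (.node (.node (.node (.node (.node (.node (.node (.leaf 0) (.leaf 257)) (.leaf 0)) (.node (.node (.leaf 0) (.leaf 1022)) (.leaf 1496))) (.node (.node (.node (.leaf 0) (.leaf 234)) (.leaf 1274)) (.node (.node (.leaf 213) (.leaf 1719)) (.leaf 831)))) (.node (.node (.node (.node (.leaf 0) (.leaf 0)) (.leaf 1548)) (.node (.node (.leaf 96) (.leaf 1097)) (.leaf 245))) (.node (.node (.node (.leaf 0) (.leaf 1609)) (.leaf 333)) (.node (.leaf 0) (.leaf 533))))) (.node (.node (.node (.node (.node (.leaf 0) (.leaf 1531)) (.leaf 723)) (.node (.node (.leaf 0) (.leaf 1748)) (.leaf 936))) (.node (.node (.node (.leaf 453) (.leaf 1202)) (.leaf 1485)) (.node (.node (.leaf 0) (.leaf 29)) (.leaf 463)))) (.node (.node (.node (.node (.leaf 0) (.leaf 1648)) (.leaf 797)) (.node (.node (.leaf 1716) (.leaf 142)) (.leaf 926))) (.node (.node (.node (.leaf 0) (.leaf 1906)) (.leaf 458)) (.node (.leaf 332) (.leaf 1798)))))) (.node (.node (.node (.node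 (.node (.node (.leaf 0) (.leaf 0)) (.leaf 624)) (.node (.node (.leaf 0) (.leaf 1026)) (.leaf 1585))) (.node (.node (.node (.leaf 0) (.leaf 973)) (.leaf 906)) (.node (.node (.leaf 0) (.leaf 1803)) (.leaf 1339)))) (.node (.node (.node (.node (.leaf 0) (.leaf 1539)) (.leaf 0)) (.node (.node (.leaf 0) (.leaf 967)) (.leaf 736))) (.node (.node (.node (.leaf 196) (.leaf 1805)) (.leaf 1060)) (.node (.leaf 0) (.leaf 0))))) (.node (.node (.node (.node (.node (.leaf 0) (.leaf 1038)) (.leaf 0)) (.node (.node (.leaf 0) (.leaf 784)) (.leaf 536))) (.node (.node (.node (.leaf 0) (.leaf 853)) (.leaf 36)) (.node (.node (.leaf 0) (.leaf 1628)) (.leaf 502)))) (.node (.node (.node (.node (.leaf 0) (.leaf 1275)) (.leaf 1127)) (.node (.node (.leaf 0) (.leaf 449)) (.leaf 975))) (.node (.node (.node (.leaf 0) (.leaf 1413)) (.leaf 341)) (.node (.leaf 1142) (.leaf 475))))))) (.node (.node (.node (.node (.node (.node (.node (.leaf 0) (.leaf 1830)) (.leaf 0)) (.node (.node (.leaf 0) (.leaf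 1186)) (.leaf 1840))) (.node (.node (.node (.leaf 0) (.leaf 817)) (.leaf 0)) (.node (.node (.leaf 562) (.leaf 28)) (.leaf 1788)))) (.node (.node (.node (.node (.leaf 0) (.leaf 628)) (.leaf 398)) (.node (.node (.leaf 1638) (.leaf 75)) (.leaf 1936))) (.node (.node (.node (.leaf 0) (.leaf 793)) (.leaf 0)) (.node (.leaf 0) (.leaf 803))))) (.node (.node (.node (.node (.node (.leaf 0) (.leaf 1782)) (.leaf 14)) (.node (.node (.leaf 986) (.leaf 1915)) (.leaf 0))) (.node (.node (.node (.leaf 0) (.leaf 1211)) (.leaf 0)) (.node (.node (.leaf 385) (.leaf 1747)) (.leaf 0)))) (.node (.node (.node (.node (.leaf 0) (.leaf 615)) (.leaf 631)) (.node (.node (.leaf 0) (.leaf 1509)) (.leaf 1849))) (.node (.node (.node (.leaf 0) (.leaf 346)) (.leaf 558)) (.node (.leaf 943) (.leaf 1640)))))) (.node (.node (.node (.node (.node (.node (.leaf 0) (.leaf 1661)) (.leaf 476)) (.node (.node (.leaf 0) (.leaf 480)) (.leaf 1078))) (.node (.node (.node (.leaf 0) (.leaf 1680)) (.leaf 1251)) (.node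 (.node (.leaf 0) (.leaf 1001)) (.leaf 1769)))) (.node (.node (.node (.node (.leaf 1240) (.leaf 1398)) (.leaf 0)) (.node (.node (.leaf 1353) (.leaf 619)) (.leaf 1195))) (.node (.node (.node (.leaf 456) (.leaf 1776)) (.leaf 208)) (.node (.leaf 1756) (.leaf 1528))))) (.node (.node (.node (.node (.node (.leaf 0) (.leaf 19)) (.leaf 62)) (.node (.node (.leaf 0) (.leaf 80)) (.leaf 110))) (.node (.node (.node (.leaf 0) (.leaf 1478)) (.leaf 1058)) (.node (.leaf 0) (.leaf 0)))) (.node (.node (.node (.node (.leaf 0) (.leaf 65)) (.leaf 1792)) (.node (.node (.leaf 0) (.leaf 1918)) (.leaf 1082))) (.node (.node (.node (.leaf 800) (.leaf 970)) (.leaf 714)) (.node (.leaf 0) (.leaf 922)))))))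

/-- data -/
def rank1p13 : Trie (ℕ) := .node (.node (.node (.node (.node (.node (.node (.node (.leaf 0) (.leaf 1089)) (.leaf 88)) (.node (.node (.leaf 746) (.leaf 1469)) (.leaf 1310))) (.node (.node (.node (.leaf 0) (.leaf 658)) (.leaf 278)) (.node (.node (.leaf 0) (.leaf 27)) (.leaf 233)))) (.node (.node (.node (.node (.leaf 0) (.leaf 1877)) (.leaf 0)) (.node (.node (.leaf 378) (.leaf 1408)) (.leaf 1430))) (.node (.node (.node (.leaf 0) (.leaf 963)) (.leaf 1793)) (.node (.leaf 50) (.leaf 0))))) (.node (.node (.node (.node (.node (.leaf 0) (.leaf 952)) (.leaf 0)) (.node (.node (.leaf 0) (.leaf 847)) (.leaf 1209))) (.node (.node (.node (.leaf 0) (.leaf 1230)) (.leaf 870)) (.node (.node (.leaf 834) (.leaf 1745)) (.leaf 606)))) (.node (.node (.node (.node (.leaf 0) (.leaf 841)) (.leaf 568)) (.node (.node (.leaf 294) (.leaf 1263)) (.leaf 1761))) (.node (.node (.node (.leaf 0) (.leaf 1717)) (.leaf 618)) (.node (.leaf 0) (.leaf 764)))))) (.node (.node (.node (.node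 (.node (.node (.leaf 0) (.leaf 1787)) (.leaf 547)) (.node (.node (.leaf 634) (.leaf 493)) (.leaf 16))) (.node (.node (.node (.leaf 121) (.leaf 230)) (.leaf 1030)) (.node (.node (.leaf 455) (.leaf 1755)) (.leaf 1487)))) (.node (.node (.node (.node (.leaf 0) (.leaf 1462)) (.leaf 0)) (.node (.node (.leaf 666) (.leaf 953)) (.leaf 1115))) (.node (.node (.node (.leaf 120) (.leaf 1783)) (.leaf 776)) (.node (.leaf 0) (.leaf 298))))) (.node (.node (.node (.node (.node (.leaf 0) (.leaf 1556)) (.leaf 126)) (.node (.node (.leaf 0) (.leaf 1660)) (.leaf 734))) (.node (.node (.node (.leaf 0) (.leaf 155)) (.leaf 910)) (.node (.leaf 0) (.leaf 529)))) (.node (.node (.node (.node (.leaf 0) (.leaf 417)) (.leaf 1256)) (.node (.node (.leaf 0) (.leaf 492)) (.leaf 0))) (.node (.node (.node (.leaf 0) (.leaf 1144)) (.leaf 965)) (.node (.leaf 0) (.leaf 977))))))) (.node (.node (.node (.node (.node (.node (.node (.leaf 0) (.leaf 1692)) (.leaf 276)) (.node (.node (.leaf 0) (.leaf 123)) (.leaf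 0))) (.node (.node (.node (.leaf 0) (.leaf 755)) (.leaf 670)) (.node (.node (.leaf 77) (.leaf 811)) (.leaf 446)))) (.node (.node (.node (.node (.leaf 0) (.leaf 1889)) (.leaf 350)) (.node (.node (.leaf 0) (.leaf 1791)) (.leaf 1905))) (.node (.node (.node (.leaf 0) (.leaf 620)) (.leaf 1317)) (.node (.leaf 352) (.leaf 1301))))) (.node (.node (.node (.node (.node (.leaf 0) (.leaf 1665)) (.leaf 0)) (.node (.node (.leaf 0) (.leaf 1892)) (.leaf 192))) (.node (.node (.node (.leaf 0) (.leaf 1873)) (.leaf 1647)) (.node (.node (.leaf 0) (.leaf 1775)) (.leaf 1359)))) (.node (.node (.node (.node (.leaf 0) (.leaf 1794)) (.leaf 674)) (.node (.node (.leaf 0) (.leaf 55)) (.leaf 0))) (.node (.node (.node (.leaf 0) (.leaf 416)) (.leaf 354)) (.node (.leaf 0) (.leaf 0)))))) (.node (.node (.node (.node (.node (.node (.leaf 0) (.leaf 932)) (.leaf 1021)) (.node (.node (.leaf 0) (.leaf 1757)) (.leaf 0))) (.node (.node (.node (.leaf 87) (.leaf 0)) (.leaf 1687)) (.node (.node (.leaf 0) (.leaf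 1581)) (.leaf 1636)))) (.node (.node (.node (.node (.leaf 0) (.leaf 1600)) (.leaf 1140)) (.node (.node (.leaf 1610) (.leaf 1321)) (.leaf 1934))) (.node (.node (.node (.leaf 0) (.leaf 68)) (.leaf 0)) (.node (.leaf 0) (.leaf 1799))))) (.node (.node (.node (.node (.node (.leaf 0) (.leaf 549)) (.leaf 423)) (.node (.node (.leaf 0) (.leaf 1562)) (.leaf 1103))) (.node (.node (.node (.leaf 0) (.leaf 1273)) (.leaf 0)) (.node (.leaf 0) (.leaf 566)))) (.node (.node (.node (.node (.leaf 0) (.leaf 920)) (.leaf 0)) (.node (.node (.leaf 1063) (.leaf 1924)) (.leaf 384))) (.node (.node (.node (.leaf 0) (.leaf 156)) (.leaf 265)) (.node (.leaf 0) (.leaf 1602)))))))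

/-- data -/
def rank1p14 : Trie (ℕ) := .node (.node (.node (.node (.node (.node (.node (.node (.leaf 0) (.leaf 287)) (.leaf 0)) (.node (.node (.leaf 0) (.leaf 924)) (.leaf 1147))) (.node (.node (.node (.leaf 0) (.leaf 310)) (.leaf 651)) (.node (.node (.leaf 771) (.leaf 527)) (.leaf 1242)))) (.node (.node (.node (.node (.leaf 0) (.leaf 1192)) (.leaf 1677)) (.node (.node (.leaf 0) (.leaf 1217)) (.leaf 1674))) (.node (.node (.node (.leaf 0) (.leaf 856)) (.leaf 316)) (.node (.leaf 188) (.leaf 512))))) (.node (.node (.node (.node (.node (.leaf 0) (.leaf 1223)) (.leaf 1387)) (.node (.node (.leaf 0) (.leaf 319)) (.leaf 448))) (.node (.node (.node (.leaf 0) (.leaf 1546)) (.leaf 0)) (.node (.node (.leaf 445) (.leaf 752)) (.leaf 1754)))) (.node (.node (.node (.node (.leaf 0) (.leaf 641)) (.leaf 0)) (.node (.node (.leaf 0) (.leaf 1084)) (.leaf 383))) (.node (.node (.node (.leaf 801) (.leaf 0)) (.leaf 1247)) (.node (.leaf 0) (.leaf 1881)))))) (.node (.node (.node (.node (.node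 (.node (.leaf 0) (.leaf 0)) (.leaf 0)) (.node (.node (.leaf 0) (.leaf 777)) (.leaf 647))) (.node (.node (.node (.leaf 0) (.leaf 0)) (.leaf 0)) (.node (.node (.leaf 0) (.leaf 1860)) (.leaf 703)))) (.node (.node (.node (.node (.leaf 0) (.leaf 1578)) (.leaf 1473)) (.node (.node (.leaf 0) (.leaf 709)) (.leaf 0))) (.node (.node (.node (.leaf 0) (.leaf 1555)) (.leaf 508)) (.node (.leaf 1068) (.leaf 539))))) (.node (.node (.node (.node (.node (.leaf 0) (.leaf 991)) (.leaf 622)) (.node (.node (.leaf 0) (.leaf 25)) (.leaf 561))) (.node (.node (.node (.leaf 0) (.leaf 98)) (.leaf 321)) (.node (.leaf 125) (.leaf 898)))) (.node (.node (.node (.node (.leaf 0) (.leaf 1071)) (.leaf 0)) (.node (.node (.leaf 10) (.leaf 1194)) (.leaf 0))) (.node (.node (.node (.leaf 0) (.leaf 961)) (.leaf 0)) (.node (.leaf 1929) (.leaf 307))))))) (.node (.node (.node (.node (.node (.node (.node (.leaf 0) (.leaf 1376)) (.leaf 388)) (.node (.node (.leaf 0) (.leaf 1395)) (.leaf 1710))) (.node (.node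 (.node (.leaf 0) (.leaf 897)) (.leaf 992)) (.node (.node (.leaf 0) (.leaf 441)) (.leaf 264)))) (.node (.node (.node (.node (.leaf 426) (.leaf 1816)) (.leaf 1262)) (.node (.node (.leaf 0) (.leaf 1285)) (.leaf 1917))) (.node (.node (.node (.leaf 0) (.leaf 765)) (.leaf 0)) (.node (.leaf 393) (.leaf 1848))))) (.node (.node (.node (.node (.node (.leaf 0) (.leaf 1588)) (.leaf 0)) (.node (.node (.leaf 863) (.leaf 1925)) (.leaf 1407))) (.node (.node (.node (.leaf 0) (.leaf 1894)) (.leaf 1458)) (.node (.node (.leaf 0) (.leaf 30)) (.leaf 0)))) (.node (.node (.node (.node (.leaf 0) (.leaf 761)) (.leaf 1644)) (.node (.node (.leaf 667) (.leaf 1676)) (.leaf 0))) (.node (.node (.node (.leaf 0) (.leaf 1908)) (.leaf 516)) (.node (.leaf 1070) (.leaf 796)))))) (.node (.node (.node (.node (.node (.node (.leaf 0) (.leaf 681)) (.leaf 0)) (.node (.node (.leaf 0) (.leaf 845)) (.leaf 451))) (.node (.node (.node (.leaf 119) (.leaf 1801)) (.leaf 0)) (.node (.node (.leaf 0) (.leaf 1052))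 (.leaf 698)))) (.node (.node (.node (.node (.leaf 0) (.leaf 0)) (.leaf 1125)) (.node (.node (.leaf 0) (.leaf 227)) (.leaf 1244))) (.node (.node (.node (.leaf 0) (.leaf 984)) (.leaf 1342)) (.node (.leaf 335) (.leaf 1773))))) (.node (.node (.node (.node (.node (.leaf 0) (.leaf 1608)) (.leaf 379)) (.node (.node (.leaf 0) (.leaf 1319)) (.leaf 69))) (.node (.node (.node (.leaf 0) (.leaf 1942)) (.leaf 0)) (.node (.leaf 1054) (.leaf 169)))) (.node (.node (.node (.node (.leaf 589) (.leaf 1123)) (.leaf 1164)) (.node (.node (.leaf 1620) (.leaf 1037)) (.leaf 401))) (.node (.node (.node (.leaf 0) (.leaf 42)) (.leaf 0)) (.node (.leaf 0) (.leaf 930)))))))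

/-- data -/
def rank1p15 : Trie (ℕ) := .node (.node (.node (.node (.node (.node (.node (.node (.leaf 0) (.leaf 1113)) (.leaf 946)) (.node (.node (.leaf 0) (.leaf 1940)) (.leaf 1061))) (.node (.node (.node (.leaf 0) (.leaf 260)) (.leaf 713)) (.node (.node (.leaf 326) (.leaf 1418)) (.leaf 369)))) (.node (.node (.node (.node (.leaf 0) (.leaf 283)) (.leaf 1691)) (.node (.node (.leaf 0) (.leaf 1831)) (.leaf 70))) (.node (.node (.node (.leaf 0) (.leaf 778)) (.leaf 794)) (.node (.leaf 0) (.leaf 1521))))) (.node (.node (.node (.node (.node (.leaf 0) (.leaf 1352)) (.leaf 1570)) (.node (.node (.leaf 0) (.leaf 343)) (.leaf 767))) (.node (.node (.node (.leaf 0) (.leaf 1279)) (.leaf 368)) (.node (.node (.leaf 0) (.leaf 1728)) (.leaf 39)))) (.node (.node (.node (.node (.leaf 0) (.leaf 1131)) (.leaf 497)) (.node (.node (.leaf 0) (.leaf 1574)) (.leaf 1541))) (.node (.node (.node (.leaf 0) (.leaf 1421)) (.leaf 683)) (.node (.leaf 13) (.leaf 1856)))))) (.node (.node (.node (.node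 (.node (.node (.leaf 0) (.leaf 1456)) (.leaf 0)) (.node (.node (.leaf 0) (.leaf 1077)) (.leaf 195))) (.node (.node (.node (.leaf 0) (.leaf 748)) (.leaf 0)) (.node (.node (.leaf 389) (.leaf 1858)) (.leaf 0)))) (.node (.node (.node (.node (.leaf 0) (.leaf 427)) (.leaf 1639)) (.node (.node (.leaf 163) (.leaf 739)) (.leaf 827))) (.node (.node (.node (.leaf 0) (.leaf 1481)) (.leaf 207)) (.node (.leaf 1333) (.leaf 989))))) (.node (.node (.node (.node (.node (.leaf 157) (.leaf 1630)) (.leaf 518)) (.node (.node (.leaf 1124) (.leaf 437)) (.leaf 1824))) (.node (.node (.node (.leaf 0) (.leaf 22)) (.leaf 0)) (.node (.leaf 937) (.leaf 833)))) (.node (.node (.node (.node (.leaf 0) (.leaf 0)) (.leaf 1930)) (.node (.node (.leaf 0) (.leaf 494)) (.leaf 1109))) (.node (.node (.node (.leaf 0) (.leaf 1784)) (.leaf 331)) (.node (.leaf 0) (.leaf 0))))))) (.node (.node (.node (.node (.node (.node (.node (.leaf 0) (.leaf 1349)) (.leaf 0)) (.node (.node (.leaf 8) (.leaf 199)) (.leaf 1697)))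 (.node (.node (.node (.leaf 0) (.leaf 408)) (.leaf 323)) (.node (.node (.leaf 0) (.leaf 460)) (.leaf 626)))) (.node (.node (.node (.node (.leaf 217) (.leaf 1163)) (.leaf 0)) (.node (.node (.leaf 90) (.leaf 1734)) (.leaf 1429))) (.node (.node (.node (.leaf 0) (.leaf 1513)) (.leaf 0)) (.node (.leaf 0) (.leaf 1384))))) (.node (.node (.node (.node (.node (.leaf 0) (.leaf 1491)) (.leaf 491)) (.node (.node (.leaf 0) (.leaf 1907)) (.leaf 360))) (.node (.node (.node (.leaf 0) (.leaf 1909)) (.leaf 0)) (.node (.node (.leaf 581) (.leaf 809)) (.leaf 1573)))) (.node (.node (.node (.node (.leaf 0) (.leaf 664)) (.leaf 545)) (.node (.node (.leaf 1288) (.leaf 974)) (.leaf 678))) (.node (.node (.node (.leaf 0) (.leaf 1932)) (.leaf 1080)) (.node (.leaf 314) (.leaf 471)))))) (.node (.node (.node (.node (.node (.node (.leaf 0) (.leaf 844)) (.leaf 438)) (.node (.node (.leaf 1290) (.leaf 835)) (.leaf 1215))) (.node (.node (.node (.leaf 0) (.leaf 1294)) (.leaf 682)) (.node (.node (.leaf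 0) (.leaf 1582)) (.leaf 649)))) (.node (.node (.node (.node (.leaf 481) (.leaf 1865)) (.leaf 1309)) (.node (.node (.leaf 0) (.leaf 1248)) (.leaf 1536))) (.node (.node (.node (.leaf 0) (.leaf 772)) (.leaf 140)) (.node (.leaf 1040) (.leaf 1880))))) (.node (.node (.node (.node (.node (.leaf 0) (.leaf 822)) (.leaf 1016)) (.node (.node (.leaf 0) (.leaf 60)) (.leaf 461))) (.node (.node (.node (.leaf 0) (.leaf 1774)) (.leaf 824)) (.node (.leaf 1818) (.leaf 355)))) (.node (.node (.node (.node (.leaf 1424) (.leaf 988)) (.leaf 1152)) (.node (.node (.leaf 1653) (.leaf 1245)) (.leaf 551))) (.node (.node (.node (.leaf 0) (.leaf 708)) (.leaf 37)) (.node (.leaf 0) (.leaf 537)))))))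

/-- data -/
def rank1 : Trie (ℕ) := .node (.node (.node (.node (rank1p0) (rank1p8)) (.node (rank1p4) (rank1p12))) (.node (.node (rank1p2) (rank1p10)) (.node (rank1p6) (rank1p14)))) (.node (.node (.node (rank1p1) (rank1p9)) (.node (rank1p5) (rank1p13))) (.node (.node (rank1p3) (rank1p11)) (.node (rank1p7) (rank1p15))))

/-- data -/
def tree1p0 : Trie (ℕ × ℕ) := .node (.node (.node (.node (.node (.node (.leaf (0, 0)) (.leaf (206, 0))) (.node (.leaf (94, 1)) (.leaf (382, 1)))) (.node (.node (.leaf (45, 1)) (.leaf (283, 1))) (.node (.leaf (146, 2)) (.leaf (545, 2))))) (.node (.node (.node (.leaf (22, 2)) (.leaf (239, 1))) (.node (.leaf (119, 0)) (.leaf (455, 0)))) (.node (.node (.leaf (69, 0)) (.leaf (323, 1))) (.node (.leaf (172, 2)) (.leaf (722, 0)))))) (.node (.node (.node (.node (.leaf (11, 0)) (.leaf (220, 1))) (.node (.leaf (107, 0)) (.leaf (411, 1)))) (.node (.node (.leaf (57, 0)) (.leaf (301, 2))) (.node (.leaf (159, 0)) (.leaf (631, 2))))) (.node (.node (.node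 (.leaf (33, 1)) (.leaf (264, 2))) (.node (.leaf (131, 1)) (.leaf (489, 2)))) (.node (.node (.leaf (81, 0)) (.leaf (350, 2))) (.leaf (190, 1)))))) (.node (.node (.node (.node (.node (.leaf (5, 0)) (.leaf (213, 1))) (.node (.leaf (100, 0)) (.leaf (397, 2)))) (.node (.node (.leaf (50, 2)) (.leaf (292, 1))) (.node (.leaf (153, 1)) (.leaf (592, 2))))) (.node (.node (.node (.leaf (28, 0)) (.leaf (253, 0))) (.node (.leaf (125, 0)) (.leaf (472, 1)))) (.node (.node (.leaf (75, 0)) (.leaf (339, 0))) (.leaf (182, 0))))) (.node (.node (.node (.node (.leaf (16, 2)) (.leaf (230, 0))) (.node (.leaf (113, 0)) (.leaf (434, 1)))) (.node (.node (.leaf (63, 0)) (.leaf (313, 1))) (.node (.leaf (164, 2)) (.leaf (675, 0))))) (.node (.node (.node (.leaf (39, 1)) (.leaf (274, 2))) (.node (.leaf (137, 2)) (.leaf (515, 0)))) (.node (.node (.leaf (87, 1)) (.leaf (366, 0))) (.leaf (198, 1))))))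

/-- data -/
def tree1p1 : Trie (ℕ × ℕ) := .node (.node (.node (.node (.node (.node (.leaf (0, 0)) (.leaf (206, 1))) (.node (.leaf (94, 2)) (.leaf (384, 2)))) (.node (.node (.leaf (45, 2)) (.leaf (283, 2))) (.node (.leaf (147, 0)) (.leaf (547, 1))))) (.node (.node (.node (.leaf (23, 0)) (.leaf (239, 2))) (.node (.leaf (119, 1)) (.leaf (457, 1)))) (.node (.node (.leaf (69, 1)) (.leaf (324, 1))) (.node (.leaf (173, 0)) (.leaf (729, 1)))))) (.node (.node (.node (.node (.leaf (11, 1)) (.leaf (220, 2))) (.node (.leaf (107, 1)) (.leaf (412, 2)))) (.node (.node (.leaf (57, 1)) (.leaf (302, 2))) (.node (.leaf (159, 1)) (.leaf (638, 2))))) (.node (.node (.node (.leaf (33, 2)) (.leaf (265, 0))) (.node (.leaf (131, 2)) (.leaf (496, 1)))) (.node (.node (.leaf (81, 1)) (.leaf (351, 2))) (.leaf (190, 2)))))) (.node (.node (.node (.node (.node (.leaf (5, 1)) (.leaf (214, 0))) (.node (.leaf (100, 2)) (.leaf (398, 0)))) (.node (.node (.leaf (51, 0)) (.leaf (293, 1))) (.node (.leaf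 (153, 2)) (.leaf (595, 0))))) (.node (.node (.node (.leaf (28, 1)) (.leaf (254, 1))) (.node (.leaf (125, 1)) (.leaf (472, 2)))) (.node (.node (.leaf (75, 2)) (.leaf (340, 0))) (.leaf (183, 0))))) (.node (.node (.node (.node (.leaf (17, 0)) (.leaf (230, 1))) (.node (.leaf (113, 1)) (.leaf (435, 1)))) (.node (.node (.leaf (63, 1)) (.leaf (313, 2))) (.node (.leaf (165, 0)) (.leaf (677, 0))))) (.node (.node (.node (.leaf (39, 2)) (.leaf (275, 1))) (.node (.leaf (138, 0)) (.leaf (517, 2)))) (.node (.node (.leaf (87, 2)) (.leaf (366, 1))) (.leaf (198, 2))))))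

/-- data -/
def tree1p2 : Trie (ℕ × ℕ) := .node (.node (.node (.node (.node (.node (.leaf (0, 1)) (.leaf (206, 2))) (.node (.leaf (95, 0)) (.leaf (385, 0)))) (.node (.node (.leaf (46, 0)) (.leaf (284, 1))) (.node (.leaf (147, 1)) (.leaf (547, 2))))) (.node (.node (.node (.leaf (23, 1)) (.leaf (240, 0))) (.node (.leaf (119, 2)) (.leaf (458, 1)))) (.node (.node (.leaf (69, 2)) (.leaf (324, 2))) (.node (.leaf (173, 1)) (.leaf (742, 0)))))) (.node (.node (.node (.node (.leaf (11, 2)) (.leaf (221, 0))) (.node (.leaf (107, 2)) (.leaf (414, 1)))) (.node (.node (.leaf (57, 2)) (.leaf (303, 2))) (.node (.leaf (159, 2)) (.leaf (640, 0))))) (.node (.node (.node (.leaf (34, 0)) (.leaf (266, 0))) (.node (.leaf (132, 0)) (.leaf (496, 2)))) (.node (.node (.leaf (81, 2)) (.leaf (352, 1))) (.leaf (191, 0)))))) (.node (.node (.node (.node (.node (.leaf (5, 2)) (.leaf (214, 1))) (.node (.leaf (101, 0)) (.leaf (398, 2)))) (.node (.node (.leaf (51, 1)) (.leaf (293, 2))) (.node (.leaf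 (154, 1)) (.leaf (595, 2))))) (.node (.node (.node (.leaf (28, 2)) (.leaf (254, 2))) (.node (.leaf (125, 2)) (.leaf (475, 1)))) (.node (.node (.leaf (76, 0)) (.leaf (340, 1))) (.leaf (183, 1))))) (.node (.node (.node (.node (.leaf (17, 1)) (.leaf (231, 0))) (.node (.leaf (114, 0)) (.leaf (436, 0)))) (.node (.node (.leaf (64, 0)) (.leaf (315, 0))) (.node (.leaf (165, 1)) (.leaf (679, 2))))) (.node (.node (.node (.leaf (40, 0)) (.leaf (275, 2))) (.node (.leaf (138, 1)) (.leaf (520, 1)))) (.node (.node (.leaf (88, 0)) (.leaf (367, 0))) (.leaf (199, 0))))))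

/-- data -/
def tree1p3 : Trie (ℕ × ℕ) := .node (.node (.node (.node (.node (.node (.leaf (0, 2)) (.leaf (207, 0))) (.node (.leaf (95, 1)) (.leaf (385, 1)))) (.node (.node (.leaf (46, 1)) (.leaf (285, 0))) (.node (.leaf (148, 1)) (.leaf (551, 1))))) (.node (.node (.node (.leaf (23, 2)) (.leaf (240, 1))) (.node (.leaf (120, 1)) (.leaf (459, 1)))) (.node (.node (.leaf (70, 0)) (.leaf (327, 1))) (.node (.leaf (173, 2)) (.leaf (744, 1)))))) (.node (.node (.node (.node (.leaf (12, 0)) (.leaf (223, 0))) (.node (.leaf (108, 0)) (.leaf (416, 1)))) (.node (.node (.leaf (58, 0)) (.leaf (304, 1))) (.node (.leaf (160, 0)) (.leaf (642, 2))))) (.node (.node (.node (.leaf (34, 1)) (.leaf (266, 1))) (.node (.leaf (132, 1)) (.leaf (497, 1)))) (.node (.node (.leaf (82, 0)) (.leaf (353, 0))) (.leaf (191, 1)))))) (.node (.node (.node (.node (.node (.leaf (6, 0)) (.leaf (214, 2))) (.node (.leaf (101, 1)) (.leaf (399, 0)))) (.node (.node (.leaf (51, 2)) (.leaf (294, 0))) (.node (.leaf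 (154, 2)) (.leaf (602, 2))))) (.node (.node (.node (.leaf (29, 0)) (.leaf (256, 1))) (.node (.leaf (126, 1)) (.leaf (475, 2)))) (.node (.node (.leaf (76, 1)) (.leaf (340, 2))) (.leaf (183, 2))))) (.node (.node (.node (.node (.leaf (17, 2)) (.leaf (231, 2))) (.node (.leaf (114, 2)) (.leaf (437, 2)))) (.node (.node (.leaf (64, 1)) (.leaf (316, 0))) (.node (.leaf (166, 0)) (.leaf (680, 0))))) (.node (.node (.node (.leaf (40, 1)) (.leaf (276, 0))) (.node (.leaf (138, 2)) (.leaf (520, 2)))) (.node (.node (.leaf (89, 0)) (.leaf (368, 0))) (.leaf (199, 2))))))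

/-- data -/
def tree1p4 : Trie (ℕ × ℕ) := .node (.node (.node (.node (.node (.node (.leaf (1, 0)) (.leaf (207, 1))) (.node (.leaf (95, 2)) (.leaf (385, 2)))) (.node (.node (.leaf (46, 2)) (.leaf (285, 1))) (.node (.leaf (148, 2)) (.leaf (555, 0))))) (.node (.node (.node (.leaf (24, 0)) (.leaf (240, 2))) (.node (.leaf (120, 2)) (.leaf (460, 1)))) (.node (.node (.leaf (70, 1)) (.leaf (328, 1))) (.node (.leaf (174, 2)) (.leaf (746, 0)))))) (.node (.node (.node (.node (.leaf (12, 1)) (.leaf (223, 1))) (.node (.leaf (108, 1)) (.leaf (418, 2)))) (.node (.node (.leaf (58, 1)) (.leaf (304, 2))) (.node (.leaf (160, 1)) (.leaf (643, 0))))) (.node (.node (.node (.leaf (34, 2)) (.leaf (267, 0))) (.node (.leaf (132, 2)) (.leaf (502, 2)))) (.node (.node (.leaf (82, 1)) (.leaf (354, 0))) (.leaf (192, 2)))))) (.node (.node (.node (.node (.node (.leaf (6, 2)) (.leaf (215, 0))) (.node (.leaf (101, 2)) (.leaf (401, 0)))) (.node (.node (.leaf (52, 0)) (.leaf (294, 2))) (.node (.leaf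 (155, 0)) (.leaf (605, 2))))) (.node (.node (.node (.leaf (29, 1)) (.leaf (257, 0))) (.node (.leaf (126, 2)) (.leaf (476, 2)))) (.node (.node (.leaf (76, 2)) (.leaf (341, 0))) (.leaf (184, 0))))) (.node (.node (.node (.node (.leaf (18, 0)) (.leaf (232, 0))) (.node (.leaf (115, 0)) (.leaf (439, 0)))) (.node (.node (.leaf (64, 2)) (.leaf (316, 1))) (.node (.leaf (166, 1)) (.leaf (681, 0))))) (.node (.node (.node (.leaf (40, 2)) (.leaf (276, 1))) (.node (.leaf (139, 0)) (.leaf (521, 2)))) (.node (.node (.leaf (89, 1)) (.leaf (370, 2))) (.leaf (200, 0))))))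

/-- data -/
def tree1p5 : Trie (ℕ × ℕ) := .node (.node (.node (.node (.node (.node (.leaf (1, 1)) (.leaf (208, 0))) (.node (.leaf (96, 0)) (.leaf (386, 2)))) (.node (.node (.leaf (47, 0)) (.leaf (286, 0))) (.node (.leaf (149, 0)) (.leaf (560, 0))))) (.node (.node (.node (.leaf (24, 1)) (.leaf (241, 2))) (.node (.leaf (121, 0)) (.leaf (460, 2)))) (.node (.node (.leaf (71, 0)) (.leaf (328, 2))) (.node (.leaf (175, 1)) (.leaf (762, 1)))))) (.node (.node (.node (.node (.leaf (12, 2)) (.leaf (224, 1))) (.node (.leaf (109, 0)) (.leaf (419, 0)))) (.node (.node (.leaf (58, 2)) (.leaf (305, 0))) (.node (.leaf (160, 2)) (.leaf (644, 1))))) (.node (.node (.node (.leaf (35, 0)) (.leaf (267, 1))) (.node (.leaf (133, 0)) (.leaf (503, 0)))) (.node (.node (.leaf (82, 2)) (.leaf (355, 1))) (.leaf (193, 2)))))) (.node (.node (.node (.node (.node (.leaf (7, 0)) (.leaf (215, 1))) (.node (.leaf (102, 0)) (.leaf (402, 0)))) (.node (.node (.leaf (52, 1)) (.leaf (295, 0))) (.node (.leaf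 (155, 1)) (.leaf (609, 2))))) (.node (.node (.node (.leaf (29, 2)) (.leaf (259, 0))) (.node (.leaf (127, 0)) (.leaf (477, 2)))) (.node (.node (.leaf (77, 0)) (.leaf (342, 2))) (.leaf (184, 1))))) (.node (.node (.node (.node (.leaf (18, 1)) (.leaf (232, 1))) (.node (.leaf (115, 1)) (.leaf (439, 2)))) (.node (.node (.leaf (65, 0)) (.leaf (316, 2))) (.node (.leaf (167, 0)) (.leaf (685, 0))))) (.node (.node (.node (.leaf (41, 1)) (.leaf (276, 2))) (.node (.leaf (140, 2)) (.leaf (523, 0)))) (.node (.node (.leaf (89, 2)) (.leaf (371, 1))) (.leaf (200, 1))))))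

/-- data -/
def tree1p6 : Trie (ℕ × ℕ) := .node (.node (.node (.node (.node (.node (.leaf (1, 2)) (.leaf (209, 1))) (.node (.leaf (96, 1)) (.leaf (387, 0)))) (.node (.node (.leaf (47, 1)) (.leaf (287, 0))) (.node (.leaf (149, 1)) (.leaf (561, 1))))) (.node (.node (.node (.leaf (24, 2)) (.leaf (243, 1))) (.node (.leaf (121, 1)) (.leaf (461, 0)))) (.node (.node (.leaf (71, 1)) (.leaf (329, 2))) (.node (.leaf (175, 2)) (.leaf (770, 2)))))) (.node (.node (.node (.node (.leaf (13, 1)) (.leaf (225, 0))) (.node (.leaf (109, 1)) (.leaf (420, 2)))) (.node (.node (.leaf (59, 1)) (.leaf (305, 1))) (.node (.leaf (161, 0)) (.leaf (647, 0))))) (.node (.node (.node (.leaf (35, 1)) (.leaf (268, 1))) (.node (.leaf (133, 1)) (.leaf (503, 1)))) (.node (.node (.leaf (83, 1)) (.leaf (356, 2))) (.leaf (194, 0)))))) (.node (.node (.node (.node (.node (.leaf (7, 2)) (.leaf (215, 2))) (.node (.leaf (102, 1)) (.leaf (403, 0)))) (.node (.node (.leaf (53, 1)) (.leaf (295, 1))) (.node (.leaf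 (155, 2)) (.leaf (611, 0))))) (.node (.node (.node (.leaf (30, 0)) (.leaf (259, 2))) (.node (.leaf (127, 1)) (.leaf (478, 2)))) (.node (.node (.leaf (77, 1)) (.leaf (344, 1))) (.leaf (184, 2))))) (.node (.node (.node (.node (.leaf (19, 0)) (.leaf (234, 0))) (.node (.leaf (115, 2)) (.leaf (441, 0)))) (.node (.node (.leaf (65, 1)) (.leaf (317, 1))) (.node (.leaf (167, 1)) (.leaf (686, 1))))) (.node (.node (.node (.leaf (41, 2)) (.leaf (277, 0))) (.node (.leaf (141, 0)) (.leaf (523, 1)))) (.node (.node (.leaf (90, 0)) (.leaf (371, 2))) (.leaf (200, 2))))))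

/-- data -/
def tree1p7 : Trie (ℕ × ℕ) := .node (.node (.node (.node (.node (.node (.leaf (2, 0)) (.leaf (210, 1))) (.node (.leaf (96, 2)) (.leaf (388, 1)))) (.node (.node (.leaf (47, 2)) (.leaf (287, 1))) (.node (.leaf (149, 2)) (.leaf (570, 0))))) (.node (.node (.node (.leaf (25, 0)) (.leaf (244, 0))) (.node (.leaf (121, 2)) (.leaf (462, 0)))) (.node (.node (.leaf (72, 0)) (.leaf (330, 2))) (.node (.leaf (176, 0)) (.leaf (783, 1)))))) (.node (.node (.node (.node (.leaf (13, 2)) (.leaf (225, 1))) (.node (.leaf (109, 2)) (.leaf (421, 2)))) (.node (.node (.leaf (59, 2)) (.leaf (305, 2))) (.node (.leaf (161, 1)) (.leaf (648, 1))))) (.node (.node (.node (.leaf (35, 2)) (.leaf (269, 0))) (.node (.leaf (133, 2)) (.leaf (504, 0)))) (.node (.node (.leaf (83, 2)) (.leaf (357, 0))) (.leaf (194, 2)))))) (.node (.node (.node (.node (.node (.leaf (8, 0)) (.leaf (216, 0))) (.node (.leaf (102, 2)) (.leaf (403, 1)))) (.node (.node (.leaf (53, 2)) (.leaf (296, 0))) (.node (.leaf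 (156, 0)) (.leaf (613, 0))))) (.node (.node (.node (.leaf (30, 1)) (.leaf (260, 1))) (.node (.leaf (127, 2)) (.leaf (479, 1)))) (.node (.node (.leaf (77, 2)) (.leaf (344, 2))) (.leaf (185, 0))))) (.node (.node (.node (.node (.leaf (19, 2)) (.leaf (234, 1))) (.node (.leaf (116, 0)) (.leaf (442, 0)))) (.node (.node (.leaf (65, 2)) (.leaf (317, 2))) (.node (.leaf (167, 2)) (.leaf (690, 0))))) (.node (.node (.node (.leaf (42, 0)) (.leaf (277, 1))) (.node (.leaf (141, 2)) (.leaf (525, 1)))) (.node (.node (.leaf (90, 1)) (.leaf (372, 1))) (.leaf (201, 0))))))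

/-- data -/
def tree1p8 : Trie (ℕ × ℕ) := .node (.node (.node (.node (.node (.node (.leaf (2, 1)) (.leaf (210, 2))) (.node (.leaf (97, 0)) (.leaf (390, 0)))) (.node (.node (.leaf (48, 0)) (.leaf (288, 1))) (.node (.leaf (150, 0)) (.leaf (572, 1))))) (.node (.node (.node (.leaf (25, 1)) (.leaf (244, 1))) (.node (.leaf (122, 0)) (.leaf (463, 2)))) (.node (.node (.leaf (72, 1)) (.leaf (331, 0))) (.node (.leaf (176, 1)) (.leaf (784, 2)))))) (.node (.node (.node (.node (.leaf (14, 0)) (.leaf (226, 0))) (.node (.leaf (110, 0)) (.leaf (422, 2)))) (.node (.node (.leaf (60, 0)) (.leaf (306, 1))) (.node (.leaf (162, 0)) (.leaf (650, 2))))) (.node (.node (.node (.leaf (36, 0)) (.leaf (269, 2))) (.node (.leaf (134, 0)) (.leaf (504, 2)))) (.node (.node (.leaf (84, 0)) (.leaf (359, 0))) (.leaf (195, 1)))))) (.node (.node (.node (.node (.node (.leaf (8, 1)) (.leaf (216, 2))) (.node (.leaf (103, 0)) (.leaf (404, 0)))) (.node (.node (.leaf (54, 0)) (.leaf (297, 1))) (.node (.leaf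 (156, 1)) (.leaf (613, 1))))) (.node (.node (.node (.leaf (30, 2)) (.leaf (261, 1))) (.node (.leaf (128, 0)) (.leaf (479, 2)))) (.node (.node (.leaf (78, 0)) (.leaf (345, 1))) (.leaf (185, 1))))) (.node (.node (.node (.node (.leaf (20, 0)) (.leaf (234, 2))) (.node (.leaf (116, 1)) (.leaf (442, 1)))) (.node (.node (.leaf (66, 0)) (.leaf (318, 0))) (.node (.leaf (168, 0)) (.leaf (690, 1))))) (.node (.node (.node (.leaf (42, 1)) (.leaf (278, 0))) (.node (.leaf (143, 1)) (.leaf (531, 0)))) (.node (.node (.leaf (90, 2)) (.leaf (372, 2))) (.leaf (201, 2))))))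

/-- data -/
def tree1p9 : Trie (ℕ × ℕ) := .node (.node (.node (.node (.node (.node (.leaf (2, 2)) (.leaf (211, 0))) (.node (.leaf (97, 1)) (.leaf (391, 2)))) (.node (.node (.leaf (48, 1)) (.leaf (289, 0))) (.node (.leaf (150, 1)) (.leaf (579, 1))))) (.node (.node (.node (.leaf (25, 2)) (.leaf (248, 1))) (.node (.leaf (122, 1)) (.leaf (465, 2)))) (.node (.node (.leaf (72, 2)) (.leaf (335, 0))) (.node (.leaf (178, 0)) (.leaf (788, 1)))))) (.node (.node (.node (.node (.leaf (14, 1)) (.leaf (226, 2))) (.node (.leaf (110, 1)) (.leaf (424, 2)))) (.node (.node (.leaf (60, 1)) (.leaf (308, 0))) (.node (.leaf (162, 1)) (.leaf (651, 1))))) (.node (.node (.node (.leaf (36, 1)) (.leaf (270, 0))) (.node (.leaf (134, 1)) (.leaf (505, 0)))) (.node (.node (.leaf (84, 1)) (.leaf (359, 1))) (.leaf (195, 2)))))) (.node (.node (.node (.node (.node (.leaf (8, 2)) (.leaf (217, 0))) (.node (.leaf (103, 2)) (.leaf (405, 1)))) (.node (.node (.leaf (54, 1)) (.leaf (297, 2))) (.node (.leaf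 (156, 2)) (.leaf (614, 0))))) (.node (.node (.node (.leaf (31, 0)) (.leaf (261, 2))) (.node (.leaf (128, 1)) (.leaf (480, 2)))) (.node (.node (.leaf (78, 1)) (.leaf (346, 0))) (.leaf (186, 0))))) (.node (.node (.node (.node (.leaf (20, 1)) (.leaf (235, 1))) (.node (.leaf (116, 2)) (.leaf (443, 2)))) (.node (.node (.leaf (66, 1)) (.leaf (318, 1))) (.node (.leaf (169, 2)) (.leaf (691, 0))))) (.node (.node (.node (.leaf (43, 0)) (.leaf (278, 2))) (.node (.leaf (143, 2)) (.leaf (532, 1)))) (.node (.node (.leaf (91, 2)) (.leaf (373, 2))) (.leaf (202, 1))))))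

/-- data -/
def tree1p10 : Trie (ℕ × ℕ) := .node (.node (.node (.node (.node (.node (.leaf (3, 0)) (.leaf (211, 1))) (.node (.leaf (97, 2)) (.leaf (393, 0)))) (.node (.node (.leaf (48, 2)) (.leaf (289, 1))) (.node (.leaf (150, 2)) (.leaf (583, 2))))) (.node (.node (.node (.leaf (26, 0)) (.leaf (249, 1))) (.node (.leaf (122, 2)) (.leaf (468, 1)))) (.node (.node (.leaf (73, 0)) (.leaf (335, 2))) (.node (.leaf (178, 2)) (.leaf (798, 0)))))) (.node (.node (.node (.node (.leaf (14, 2)) (.leaf (227, 0))) (.node (.leaf (111, 0)) (.leaf (425, 2)))) (.node (.node (.leaf (60, 2)) (.leaf (309, 0))) (.node (.leaf (162, 2)) (.leaf (654, 2))))) (.node (.node (.node (.leaf (36, 2)) (.leaf (270, 1))) (.node (.leaf (134, 2)) (.leaf (506, 0)))) (.node (.node (.leaf (85, 1)) (.leaf (360, 0))) (.leaf (196, 0)))))) (.node (.node (.node (.node (.node (.leaf (9, 0)) (.leaf (218, 0))) (.node (.leaf (104, 0)) (.leaf (406, 2)))) (.node (.node (.leaf (54, 2)) (.leaf (298, 2))) (.node (.leaf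 (157, 0)) (.leaf (617, 0))))) (.node (.node (.node (.leaf (31, 1)) (.leaf (262, 0))) (.node (.leaf (128, 2)) (.leaf (481, 2)))) (.node (.node (.leaf (78, 2)) (.leaf (346, 2))) (.leaf (186, 1))))) (.node (.node (.node (.node (.leaf (20, 2)) (.leaf (235, 2))) (.node (.leaf (117, 0)) (.leaf (444, 1)))) (.node (.node (.leaf (66, 2)) (.leaf (319, 0))) (.node (.leaf (170, 0)) (.leaf (697, 1))))) (.node (.node (.node (.leaf (43, 1)) (.leaf (279, 0))) (.node (.leaf (144, 0)) (.leaf (535, 0)))) (.node (.node (.leaf (92, 0)) (.leaf (374, 0))) (.leaf (202, 2))))))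

/-- data -/
def tree1p11 : Trie (ℕ × ℕ) := .node (.node (.node (.node (.node (.node (.leaf (3, 1)) (.leaf (211, 2))) (.node (.leaf (98, 1)) (.leaf (394, 1)))) (.node (.node (.leaf (49, 0)) (.leaf (289, 2))) (.node (.leaf (151, 0)) (.leaf (585, 2))))) (.node (.node (.node (.leaf (26, 1)) (.leaf (249, 2))) (.node (.leaf (123, 1)) (.leaf (468, 2)))) (.node (.node (.leaf (73, 1)) (.leaf (336, 0))) (.node (.leaf (179, 1)) (.leaf (802, 1)))))) (.node (.node (.node (.node (.leaf (15, 0)) (.leaf (227, 1))) (.node (.leaf (111, 1)) (.leaf (427, 0)))) (.node (.node (.leaf (61, 0)) (.leaf (309, 1))) (.node (.leaf (163, 0)) (.leaf (656, 2))))) (.node (.node (.node (.leaf (37, 1)) (.leaf (270, 2))) (.node (.leaf (135, 1)) (.leaf (507, 2)))) (.node (.node (.leaf (85, 2)) (.leaf (360, 2))) (.leaf (196, 1)))))) (.node (.node (.node (.node (.node (.leaf (9, 1)) (.leaf (218, 1))) (.node (.leaf (104, 1)) (.leaf (407, 2)))) (.node (.node (.leaf (55, 0)) (.leaf (299, 0))) (.node (.leaf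 (157, 1)) (.leaf (619, 0))))) (.node (.node (.node (.leaf (31, 2)) (.leaf (262, 2))) (.node (.leaf (129, 0)) (.leaf (483, 0)))) (.node (.node (.leaf (79, 0)) (.leaf (348, 0))) (.leaf (187, 1))))) (.node (.node (.node (.node (.leaf (21, 0)) (.leaf (236, 0))) (.node (.leaf (117, 1)) (.leaf (447, 1)))) (.node (.node (.leaf (67, 0)) (.leaf (320, 0))) (.node (.leaf (170, 1)) (.leaf (698, 0))))) (.node (.node (.node (.leaf (43, 2)) (.leaf (279, 1))) (.node (.leaf (144, 1)) (.leaf (536, 0)))) (.node (.node (.leaf (92, 1)) (.leaf (374, 1))) (.leaf (203, 0))))))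

/-- data -/
def tree1p12 : Trie (ℕ × ℕ) := .node (.node (.node (.node (.node (.node (.leaf (3, 2)) (.leaf (212, 0))) (.node (.leaf (98, 2)) (.leaf (395, 0)))) (.node (.node (.leaf (49, 1)) (.leaf (290, 1))) (.node (.leaf (151, 1)) (.leaf (586, 0))))) (.node (.node (.node (.leaf (26, 2)) (.leaf (250, 1))) (.node (.leaf (123, 2)) (.leaf (470, 0)))) (.node (.node (.leaf (73, 2)) (.leaf (336, 2))) (.node (.leaf (180, 0)) (.leaf (816, 0)))))) (.node (.node (.node (.node (.leaf (15, 1)) (.leaf (227, 2))) (.node (.leaf (111, 2)) (.leaf (428, 0)))) (.node (.node (.leaf (61, 1)) (.leaf (310, 1))) (.node (.leaf (163, 1)) (.leaf (663, 0))))) (.node (.node (.node (.leaf (37, 2)) (.leaf (271, 1))) (.node (.leaf (135, 2)) (.leaf (508, 1)))) (.node (.node (.leaf (86, 0)) (.leaf (361, 0))) (.leaf (196, 2)))))) (.node (.node (.node (.node (.node (.leaf (9, 2)) (.leaf (219, 0))) (.node (.leaf (105, 0)) (.leaf (408, 2)))) (.node (.node (.leaf (55, 1)) (.leaf (299, 1))) (.node (.leaf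 (157, 2)) (.leaf (625, 0))))) (.node (.node (.node (.leaf (32, 0)) (.leaf (263, 1))) (.node (.leaf (129, 2)) (.leaf (485, 2)))) (.node (.node (.leaf (79, 1)) (.leaf (348, 1))) (.leaf (188, 2))))) (.node (.node (.node (.node (.leaf (21, 1)) (.leaf (236, 2))) (.node (.leaf (117, 2)) (.leaf (451, 1)))) (.node (.node (.leaf (67, 2)) (.leaf (320, 1))) (.node (.leaf (171, 0)) (.leaf (700, 1))))) (.node (.node (.node (.leaf (44, 0)) (.leaf (279, 2))) (.node (.leaf (145, 0)) (.leaf (539, 2)))) (.node (.node (.leaf (93, 0)) (.leaf (375, 0))) (.leaf (203, 1))))))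

/-- data -/
def tree1p13 : Trie (ℕ × ℕ) := .node (.node (.node (.node (.node (.node (.leaf (4, 0)) (.leaf (212, 1))) (.node (.leaf (99, 0)) (.leaf (395, 2)))) (.node (.node (.leaf (49, 2)) (.leaf (290, 2))) (.node (.leaf (151, 2)) (.leaf (591, 0))))) (.node (.node (.node (.leaf (27, 0)) (.leaf (252, 0))) (.node (.leaf (124, 0)) (.leaf (470, 1)))) (.node (.node (.leaf (74, 0)) (.leaf (337, 0))) (.node (.leaf (180, 1)) (.leaf (836, 2)))))) (.node (.node (.node (.node (.leaf (15, 2)) (.leaf (228, 0))) (.node (.leaf (112, 0)) (.leaf (429, 1)))) (.node (.node (.leaf (61, 2)) (.leaf (311, 2))) (.node (.leaf (163, 2)) (.leaf (668, 2))))) (.node (.node (.node (.leaf (38, 1)) (.leaf (272, 0))) (.node (.leaf (136, 0)) (.leaf (509, 1)))) (.node (.node (.leaf (86, 1)) (.leaf (362, 0))) (.leaf (197, 0)))))) (.node (.node (.node (.node (.node (.leaf (10, 0)) (.leaf (219, 1))) (.node (.leaf (105, 1)) (.leaf (409, 0)))) (.node (.node (.leaf (55, 2)) (.leaf (300, 1))) (.node (.leaf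 (158, 0)) (.leaf (626, 1))))) (.node (.node (.node (.leaf (32, 1)) (.leaf (263, 2))) (.node (.leaf (130, 1)) (.leaf (486, 0)))) (.node (.node (.leaf (79, 2)) (.leaf (349, 2))) (.leaf (189, 1))))) (.node (.node (.node (.node (.leaf (21, 2)) (.leaf (237, 1))) (.node (.leaf (118, 0)) (.leaf (452, 2)))) (.node (.node (.leaf (68, 0)) (.leaf (321, 1))) (.node (.leaf (171, 1)) (.leaf (707, 2))))) (.node (.node (.node (.leaf (44, 1)) (.leaf (281, 0))) (.node (.leaf (145, 1)) (.leaf (541, 0)))) (.node (.node (.leaf (93, 1)) (.leaf (377, 1))) (.leaf (203, 2))))))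

/-- data -/
def tree1p14 : Trie (ℕ × ℕ) := .node (.node (.node (.node (.node (.node (.leaf (4, 1)) (.leaf (212, 2))) (.node (.leaf (99, 1)) (.leaf (396, 0)))) (.node (.node (.leaf (50, 0)) (.leaf (291, 1))) (.node (.leaf (152, 1)) (.leaf (591, 1))))) (.node (.node (.node (.leaf (27, 1)) (.leaf (252, 1))) (.node (.leaf (124, 1)) (.leaf (470, 2)))) (.node (.node (.leaf (74, 1)) (.leaf (337, 2))) (.node (.leaf (180, 2)) (.leaf (909, 1)))))) (.node (.node (.node (.node (.leaf (16, 0)) (.leaf (228, 2))) (.node (.leaf (112, 1)) (.leaf (432, 0)))) (.node (.node (.leaf (62, 0)) (.leaf (312, 2))) (.node (.leaf (164, 0)) (.leaf (669, 1))))) (.node (.node (.node (.leaf (38, 2)) (.leaf (272, 1))) (.node (.leaf (136, 2)) (.leaf (510, 1)))) (.node (.node (.leaf (86, 2)) (.leaf (362, 2))) (.leaf (197, 1)))))) (.node (.node (.node (.node (.node (.leaf (10, 1)) (.leaf (219, 2))) (.node (.leaf (106, 1)) (.leaf (410, 0)))) (.node (.node (.leaf (56, 1)) (.leaf (300, 2))) (.node (.leaf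 (158, 1)) (.leaf (628, 0))))) (.node (.node (.node (.leaf (32, 2)) (.leaf (264, 0))) (.node (.leaf (130, 2)) (.leaf (486, 1)))) (.node (.node (.leaf (80, 0)) (.leaf (350, 0))) (.leaf (189, 2))))) (.node (.node (.node (.node (.leaf (22, 0)) (.leaf (237, 2))) (.node (.leaf (118, 1)) (.leaf (453, 1)))) (.node (.node (.leaf (68, 1)) (.leaf (322, 0))) (.node (.leaf (171, 2)) (.leaf (710, 1))))) (.node (.node (.node (.leaf (44, 2)) (.leaf (281, 1))) (.node (.leaf (145, 2)) (.leaf (542, 1)))) (.node (.node (.leaf (93, 2)) (.leaf (378, 2))) (.leaf (204, 0))))))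

/-- data -/
def tree1p15 : Trie (ℕ × ℕ) := .node (.node (.node (.node (.node (.node (.leaf (4, 2)) (.leaf (213, 0))) (.node (.leaf (99, 2)) (.leaf (396, 2)))) (.node (.node (.leaf (50, 1)) (.leaf (292, 0))) (.node (.leaf (153, 0)) (.leaf (592, 0))))) (.node (.node (.node (.leaf (27, 2)) (.leaf (252, 2))) (.node (.leaf (124, 2)) (.leaf (471, 2)))) (.node (.node (.leaf (74, 2)) (.leaf (338, 2))) (.leaf (181, 2))))) (.node (.node (.node (.node (.leaf (16, 1)) (.leaf (229, 1))) (.node (.leaf (112, 2)) (.leaf (433, 1)))) (.node (.node (.leaf (62, 1)) (.leaf (313, 0))) (.node (.leaf (164, 1)) (.leaf (671, 0))))) (.node (.node (.node (.leaf (39, 0)) (.leaf (273, 2))) (.node (.leaf (137, 1)) (.leaf (511, 1)))) (.node (.node (.leaf (87, 0)) (.leaf (364, 0))) (.leaf (197, 2)))))) (.node (.node (.node (.node (.node (.leaf (10, 2)) (.leaf (220, 0))) (.node (.leaf (106, 2)) (.leaf (411, 0)))) (.node (.node (.leaf (56, 2)) (.leaf (301, 0))) (.node (.leaf (158, 2)) (.leaf (628,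 2))))) (.node (.node (.node (.leaf (33, 0)) (.leaf (264, 1))) (.node (.leaf (131, 0)) (.leaf (487, 0)))) (.node (.node (.leaf (80, 2)) (.leaf (350, 1))) (.leaf (190, 0))))) (.node (.node (.node (.node (.leaf (22, 1)) (.leaf (238, 0))) (.node (.leaf (118, 2)) (.leaf (453, 2)))) (.node (.node (.leaf (68, 2)) (.leaf (323, 0))) (.node (.leaf (172, 1)) (.leaf (712, 1))))) (.node (.node (.node (.leaf (45, 0)) (.leaf (282, 1))) (.node (.leaf (146, 1)) (.leaf (542, 2)))) (.node (.node (.leaf (94, 0)) (.leaf (381, 0))) (.leaf (204, 2))))))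

/-- data -/
def tree1 : Trie (ℕ × ℕ) := .node (.node (.node (.node (tree1p0) (tree1p8)) (.node (tree1p4) (tree1p12))) (.node (.node (tree1p2) (tree1p10)) (.node (tree1p6) (tree1p14)))) (.node (.node (.node (tree1p1) (tree1p9)) (.node (tree1p5) (tree1p13))) (.node (.node (tree1p3) (tree1p11)) (.node (tree1p7) (tree1p15))))

/-- data -/
def cert1p0 : Trie (ℕ × ℕ × ℕ) := .node (.node (.node (.node (.node (.node (.node (.leaf (0, 0, 2)) (.leaf (13, 499, 4))) (.node (.leaf (10, 5, 3)) (.leaf (7, 733, 3)))) (.node (.node (.leaf (4, 27, 3)) (.leaf (5, 208, 6))) (.node (.leaf (9, 351, 6)) (.leaf (9, 615, 1))))) (.node (.node (.node (.leaf (9, 78, 1)) (.leaf (4, 261, 6))) (.node (.leaf (5, 749, 2)) (.leaf (8, 508, 2)))) (.node (.node (.leaf (4, 106, 1)) (.leaf (6, 624, 5))) (.node (.leaf (12, 110, 3)) (.leaf (11, 119, 2)))))) (.node (.node (.node (.node (.leaf (5, 144, 6)) (.leaf (2, 313, 2))) (.node (.leaf (2, 265, 0)) (.leaf (8, 129, 9)))) (.node (.node (.leaf (13, 346,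 4)) (.leaf (5, 653, 4))) (.node (.leaf (10, 611, 1)) (.leaf (10, 478, 6))))) (.node (.node (.node (.leaf (13, 14, 7)) (.leaf (4, 742, 1))) (.node (.leaf (8, 39, 6)) (.leaf (8, 882, 9)))) (.node (.node (.leaf (2, 285, 1)) (.leaf (7, 399, 0))) (.leaf (13, 3, 6)))))) (.node (.node (.node (.node (.node (.leaf (3, 2, 0)) (.leaf (2, 64, 1))) (.node (.leaf (12, 56, 2)) (.leaf (7, 905, 8)))) (.node (.node (.leaf (10, 393, 1)) (.leaf (5, 449, 1))) (.node (.leaf (10, 154, 0)) (.leaf (10, 224, 2))))) (.node (.node (.node (.leaf (8, 57, 8)) (.leaf (4, 483, 2))) (.node (.leaf (7, 225, 7)) (.leaf (8, 709, 0)))) (.node (.node (.leaf (9, 761, 0)) (.leaf (7, 210, 8))) (.leaf (12, 485, 3))))) (.node (.node (.node (.node (.leaf (7, 78, 7)) (.leaf (4, 37, 3))) (.node (.leaf (5, 20, 4)) (.leaf (8, 331, 3)))) (.node (.node (.leaf (7, 40, 2)) (.leaf (5, 939, 8))) (.node (.leaf (11, 182, 4)) (.leaf (10, 735, 0))))) (.node (.node (.node (.leaf (2, 113, 0)) (.leaf (5, 55, 5))) (.node (.leaf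 (8, 595, 8)) (.leaf (9, 162, 9)))) (.node (.node (.leaf (7, 9, 6)) (.leaf (7, 569, 2))) (.leaf (13, 244, 3))))))) (.node (.node (.node (.node (.node (.node (.leaf (2, 30, 0)) (.leaf (13, 759, 1))) (.node (.leaf (10, 534, 6)) (.leaf (7, 816, 7)))) (.node (.node (.leaf (12, 216, 8)) (.leaf (5, 309, 0))) (.node (.leaf (10, 0, 5)) (.leaf (10, 55, 2))))) (.node (.node (.node (.leaf (10, 705, 0)) (.leaf (4, 392, 8))) (.node (.leaf (6, 273, 5)) (.leaf (8, 590, 3)))) (.node (.node (.leaf (7, 17, 5)) (.leaf (7, 88, 7))) (.node (.leaf (12, 282, 9)) (.leaf (11, 625, 5)))))) (.node (.node (.node (.node (.leaf (7, 13, 2)) (.leaf (3, 109, 2))) (.node (.leaf (4, 225, 1)) (.leaf (8, 211, 8)))) (.node (.node (.leaf (10, 45, 1)) (.leaf (5, 778, 1))) (.node (.leaf (10, 948, 5)) (.leaf (10, 624, 2))))) (.node (.node (.node (.leaf (9, 122, 2)) (.leaf (4, 920, 0))) (.node (.leaf (8, 302, 7)) (.leaf (8, 964, 9)))) (.node (.node (.leaf (4, 727, 0)) (.leaf (7, 478, 4))) (.leaf (13, 116,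 4)))))) (.node (.node (.node (.node (.node (.leaf (4, 28, 3)) (.leaf (2, 164, 2))) (.node (.leaf (13, 360, 7)) (.leaf (8, 10, 4)))) (.node (.node (.leaf (7, 483, 7)) (.leaf (5, 574, 8))) (.node (.leaf (10, 415, 5)) (.leaf (10, 367, 2))))) (.node (.node (.node (.leaf (4, 248, 2)) (.leaf (4, 592, 2))) (.node (.leaf (7, 439, 1)) (.leaf (8, 817, 2)))) (.node (.node (.leaf (12, 8, 5)) (.leaf (7, 324, 1))) (.leaf (12, 721, 7))))) (.node (.node (.node (.node (.leaf (9, 386, 1)) (.leaf (4, 135, 5))) (.node (.leaf (5, 287, 7)) (.leaf (8, 432, 0)))) (.node (.node (.leaf (10, 506, 1)) (.leaf (6, 85, 3))) (.node (.leaf (11, 609, 2)) (.leaf (10, 824, 5))))) (.node (.node (.node (.leaf (9, 17, 5)) (.leaf (5, 122, 6))) (.node (.leaf (9, 105, 2)) (.leaf (9, 354, 9)))) (.node (.node (.leaf (8, 40, 7)) (.leaf (7, 645, 8))) (.leaf (13, 348, 5)))))))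

/-- data -/
def cert1p1 : Trie (ℕ × ℕ × ℕ) := .node (.node (.node (.node (.node (.node (.node (.leaf (1, 0, 3)) (.leaf (13, 509, 8))) (.node (.leaf (10, 31, 1)) (.leaf (7, 734, 1)))) (.node (.node (.leaf (4, 100, 6)) (.leaf (5, 209, 2))) (.node (.leaf (9, 374, 8)) (.leaf (9, 618, 6))))) (.node (.node (.node (.leaf (9, 204, 3)) (.leaf (4, 281, 6))) (.node (.leaf (5, 769, 3)) (.leaf (8, 509, 6)))) (.node (.node (.leaf (4, 122, 8)) (.leaf (7, 25, 4))) (.node (.leaf (12, 114, 6)) (.leaf (11, 169, 4)))))) (.node (.node (.node (.node (.leaf (5, 241, 8)) (.leaf (2, 315, 1))) (.node (.leaf (2, 346, 1)) (.leaf (8, 140, 5)))) (.node (.node (.leaf (13, 435, 9)) (.leaf (5, 662, 8))) (.node (.leaf (10, 638, 6)) (.leaf (10, 490, 5))))) (.node (.node (.node (.leaf (13, 25, 7)) (.leaf (4, 749, 4))) (.node (.leaf (8, 50, 7)) (.leaf (8, 883, 0)))) (.node (.node (.leaf (2, 594, 0)) (.leaf (7, 404, 7))) (.leaf (13, 8, 1)))))) (.node (.node (.node (.node (.node (.leaf (3, 4, 0)) (.leaf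 (2, 66, 1))) (.node (.leaf (12, 80, 6)) (.leaf (7, 907, 3)))) (.node (.node (.leaf (10, 417, 1)) (.leaf (5, 451, 8))) (.node (.leaf (10, 182, 1)) (.leaf (10, 226, 2))))) (.node (.node (.node (.leaf (8, 309, 1)) (.leaf (4, 486, 1))) (.node (.leaf (7, 228, 2)) (.leaf (8, 712, 6)))) (.node (.node (.leaf (10, 28, 3)) (.leaf (7, 219, 1))) (.leaf (12, 506, 6))))) (.node (.node (.node (.node (.leaf (7, 96, 6)) (.leaf (4, 38, 3))) (.node (.leaf (5, 31, 6)) (.leaf (8, 342, 6)))) (.node (.node (.leaf (7, 200, 7)) (.leaf (5, 971, 5))) (.node (.leaf (11, 191, 3)) (.leaf (10, 739, 4))))) (.node (.node (.node (.leaf (2, 147, 0)) (.leaf (5, 56, 2))) (.node (.leaf (8, 644, 3)) (.leaf (9, 173, 8)))) (.node (.node (.leaf (7, 30, 2)) (.leaf (7, 572, 8))) (.leaf (13, 249, 8))))))) (.node (.node (.node (.node (.node (.node (.leaf (2, 42, 0)) (.leaf (13, 761, 7))) (.node (.leaf (10, 539, 0)) (.leaf (7, 824, 8)))) (.node (.node (.leaf (12, 258, 6)) (.leaf (5, 311, 3))) (.node (.leaf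 (10, 11, 2)) (.leaf (10, 111, 1))))) (.node (.node (.node (.leaf (10, 865, 0)) (.leaf (4, 401, 5))) (.node (.leaf (7, 8, 4)) (.leaf (8, 591, 4)))) (.node (.node (.leaf (7, 20, 2)) (.leaf (7, 99, 7))) (.node (.leaf (12, 288, 5)) (.leaf (11, 626, 6)))))) (.node (.node (.node (.node (.leaf (7, 250, 1)) (.leaf (3, 117, 2))) (.node (.leaf (4, 267, 8)) (.leaf (8, 231, 2)))) (.node (.node (.leaf (10, 105, 1)) (.leaf (5, 798, 6))) (.node (.leaf (10, 950, 0)) (.leaf (10, 625, 2))))) (.node (.node (.node (.leaf (9, 656, 5)) (.leaf (4, 926, 0))) (.node (.leaf (8, 339, 9)) (.leaf (8, 968, 1)))) (.node (.node (.leaf (4, 961, 8)) (.leaf (7, 482, 1))) (.leaf (13, 117, 8)))))) (.node (.node (.node (.node (.node (.leaf (4, 39, 2)) (.leaf (2, 165, 2))) (.node (.leaf (13, 494, 6)) (.leaf (8, 23, 3)))) (.node (.node (.leaf (8, 348, 8)) (.leaf (5, 580, 6))) (.node (.leaf (10, 459, 6)) (.leaf (10, 368, 4))))) (.node (.node (.node (.leaf (5, 73, 2)) (.leaf (4, 600, 5))) (.node (.leaf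 (7, 459, 1)) (.leaf (8, 818, 3)))) (.node (.node (.leaf (12, 17, 4)) (.leaf (7, 336, 2))) (.leaf (12, 747, 4))))) (.node (.node (.node (.node (.leaf (9, 722, 0)) (.leaf (4, 138, 5))) (.node (.leaf (5, 305, 6)) (.leaf (8, 436, 5)))) (.node (.node (.leaf (11, 115, 5)) (.leaf (6, 104, 2))) (.node (.leaf (11, 675, 5)) (.leaf (10, 836, 0))))) (.node (.node (.node (.leaf (9, 150, 1)) (.leaf (5, 125, 6))) (.node (.leaf (9, 115, 5)) (.leaf (9, 371, 6)))) (.node (.node (.leaf (8, 80, 6)) (.leaf (7, 656, 8))) (.leaf (13, 356, 8)))))))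

/-- data -/
def cert1p2 : Trie (ℕ × ℕ × ℕ) := .node (.node (.node (.node (.node (.node (.node (.leaf (2, 0, 0)) (.leaf (13, 510, 0))) (.node (.leaf (10, 47, 1)) (.leaf (7, 740, 8)))) (.node (.node (.leaf (4, 131, 8)) (.leaf (5, 214, 4))) (.node (.leaf (9, 395, 3)) (.leaf (9, 635, 3))))) (.node (.node (.node (.leaf (2, 50, 2)) (.leaf (4, 284, 2))) (.node (.leaf (5, 777, 1)) (.leaf (8, 513, 5)))) (.node (.node (.leaf (4, 150, 8)) (.leaf (7, 26, 6))) (.node (.leaf (12, 115, 4)) (.leaf (11, 170, 6)))))) (.node (.node (.node (.node (.leaf (5, 633, 8)) (.leaf (2, 316, 1))) (.node (.leaf (2, 487, 1)) (.leaf (8, 143, 5)))) (.node (.node (.leaf (2, 167, 2)) (.leaf (5, 668, 8))) (.node (.leaf (10, 640, 1)) (.leaf (10, 503, 2))))) (.node (.node (.node (.leaf (13, 70, 7)) (.leaf (4, 751, 3))) (.node (.leaf (8, 53, 7)) (.leaf (8, 887, 9)))) (.node (.node (.leaf (3, 99, 2)) (.leaf (7, 412, 2))) (.leaf (13, 22, 8)))))) (.node (.node (.node (.node (.node (.leaf (3, 5, 0)) (.leaf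 (2, 67, 0))) (.node (.leaf (12, 132, 8)) (.leaf (7, 909, 1)))) (.node (.node (.leaf (10, 711, 2)) (.leaf (5, 455, 6))) (.node (.leaf (10, 215, 1)) (.leaf (10, 234, 2))))) (.node (.node (.node (.leaf (10, 229, 0)) (.leaf (4, 496, 5))) (.node (.leaf (7, 231, 2)) (.leaf (8, 737, 5)))) (.node (.node (.leaf (10, 87, 5)) (.leaf (7, 233, 2))) (.leaf (12, 508, 2))))) (.node (.node (.node (.node (.leaf (3, 56, 0)) (.leaf (4, 44, 5))) (.node (.leaf (5, 37, 5)) (.leaf (8, 356, 6)))) (.node (.node (.leaf (7, 313, 5)) (.leaf (5, 972, 2))) (.node (.leaf (11, 225, 5)) (.leaf (10, 744, 0))))) (.node (.node (.node (.leaf (3, 96, 1)) (.leaf (5, 61, 6))) (.node (.leaf (8, 647, 8)) (.leaf (9, 174, 3)))) (.node (.node (.leaf (7, 114, 6)) (.leaf (7, 579, 8))) (.leaf (13, 256, 1))))))) (.node (.node (.node (.node (.node (.node (.leaf (2, 45, 0)) (.leaf (13, 765, 3))) (.node (.leaf (10, 571, 7)) (.leaf (7, 826, 8)))) (.node (.node (.leaf (13, 674, 6)) (.leaf (5, 314, 4))) (.node (.leaf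 (10, 18, 5)) (.leaf (10, 124, 1))))) (.node (.node (.node (.leaf (5, 441, 7)) (.leaf (4, 404, 8))) (.node (.leaf (7, 16, 3)) (.leaf (8, 612, 8)))) (.node (.node (.leaf (7, 130, 1)) (.leaf (7, 107, 2))) (.node (.leaf (12, 291, 2)) (.leaf (11, 779, 2)))))) (.node (.node (.node (.node (.leaf (3, 13, 0)) (.leaf (3, 130, 1))) (.node (.leaf (4, 343, 0)) (.leaf (8, 234, 3)))) (.node (.node (.leaf (10, 284, 0)) (.leaf (5, 819, 8))) (.node (.leaf (11, 6, 6)) (.leaf (10, 628, 2))))) (.node (.node (.node (.leaf (10, 225, 1)) (.leaf (4, 949, 8))) (.node (.leaf (8, 340, 1)) (.leaf (8, 969, 9)))) (.node (.node (.leaf (5, 25, 7)) (.leaf (7, 495, 1))) (.leaf (13, 118, 8)))))) (.node (.node (.node (.node (.node (.leaf (4, 48, 3)) (.leaf (2, 169, 3))) (.node (.leaf (13, 511, 3)) (.leaf (8, 28, 4)))) (.node (.node (.leaf (8, 418, 1)) (.leaf (5, 582, 2))) (.node (.leaf (10, 461, 1)) (.leaf (10, 369, 6))))) (.node (.node (.node (.leaf (6, 25, 2)) (.leaf (4, 602, 3))) (.node (.leaf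 (7, 465, 8)) (.leaf (8, 829, 8)))) (.node (.node (.leaf (12, 32, 3)) (.leaf (7, 337, 7))) (.leaf (12, 765, 4))))) (.node (.node (.node (.node (.leaf (4, 340, 5)) (.leaf (4, 141, 2))) (.node (.leaf (5, 338, 8)) (.leaf (8, 440, 9)))) (.node (.node (.leaf (11, 142, 7)) (.leaf (6, 136, 1))) (.node (.leaf (12, 6, 5)) (.leaf (10, 840, 2))))) (.node (.node (.node (.leaf (9, 466, 7)) (.leaf (5, 137, 5))) (.node (.leaf (9, 127, 4)) (.leaf (9, 384, 7)))) (.node (.node (.leaf (8, 106, 2)) (.leaf (7, 669, 8))) (.leaf (13, 369, 3)))))))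

/-- data -/
def cert1p3 : Trie (ℕ × ℕ × ℕ) := .node (.node (.node (.node (.node (.node (.node (.leaf (2, 2, 0)) (.leaf (13, 554, 3))) (.node (.leaf (10, 77, 4)) (.leaf (7, 743, 5)))) (.node (.node (.leaf (4, 147, 2)) (.leaf (5, 217, 6))) (.node (.leaf (9, 453, 1)) (.leaf (9, 639, 7))))) (.node (.node (.node (.leaf (4, 183, 1)) (.leaf (4, 291, 8))) (.node (.leaf (5, 781, 5)) (.leaf (8, 517, 2)))) (.node (.node (.leaf (4, 268, 5)) (.leaf (7, 31, 2))) (.node (.leaf (12, 122, 3)) (.leaf (11, 192, 6)))))) (.node (.node (.node (.node (.leaf (5, 831, 8)) (.leaf (2, 319, 1))) (.node (.leaf (2, 685, 1)) (.leaf (8, 148, 8)))) (.node (.node (.leaf (3, 121, 3)) (.leaf (5, 677, 2))) (.node (.leaf (10, 642, 4)) (.leaf (10, 513, 2))))) (.node (.node (.node (.leaf (13, 97, 7)) (.leaf (4, 758, 3))) (.node (.leaf (8, 105, 6)) (.leaf (8, 895, 0)))) (.node (.node (.leaf (3, 305, 0)) (.leaf (7, 417, 1))) (.leaf (13, 24, 3)))))) (.node (.node (.node (.node (.node (.leaf (3, 7, 0))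 (.leaf (2, 73, 1))) (.node (.leaf (12, 183, 8)) (.leaf (7, 910, 2)))) (.node (.node (.leaf (11, 24, 3)) (.leaf (5, 470, 7))) (.node (.leaf (10, 240, 5)) (.leaf (10, 267, 2))))) (.node (.node (.node (.leaf (2, 37, 0)) (.leaf (4, 499, 0))) (.node (.leaf (7, 240, 3)) (.leaf (8, 752, 0)))) (.node (.node (.leaf (10, 146, 2)) (.leaf (7, 237, 8))) (.leaf (12, 511, 3))))) (.node (.node (.node (.node (.leaf (4, 30, 6)) (.leaf (4, 50, 3))) (.node (.leaf (5, 50, 0)) (.leaf (8, 362, 5)))) (.node (.node (.leaf (7, 333, 8)) (.leaf (5, 973, 8))) (.node (.leaf (11, 236, 1)) (.leaf (10, 746, 5))))) (.node (.node (.node (.leaf (4, 94, 1)) (.leaf (5, 66, 5))) (.node (.leaf (8, 741, 8)) (.leaf (9, 187, 4)))) (.node (.node (.leaf (7, 142, 2)) (.leaf (7, 582, 3))) (.leaf (13, 272, 3))))))) (.node (.node (.node (.node (.node (.node (.leaf (2, 47, 0)) (.leaf (13, 783, 6))) (.node (.leaf (10, 576, 5)) (.leaf (7, 827, 2)))) (.node (.node (.leaf (2, 34, 0)) (.leaf (5, 316, 7))) (.node (.leaf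 (10, 30, 1)) (.leaf (10, 125, 1))))) (.node (.node (.node (.leaf (6, 23, 1)) (.leaf (4, 407, 2))) (.node (.leaf (7, 34, 2)) (.leaf (8, 615, 0)))) (.node (.node (.leaf (7, 131, 2)) (.leaf (7, 124, 1))) (.node (.leaf (12, 302, 5)) (.leaf (12, 49, 4)))))) (.node (.node (.node (.node (.leaf (4, 97, 5)) (.leaf (3, 164, 1))) (.node (.leaf (4, 348, 6)) (.leaf (8, 238, 0)))) (.node (.node (.leaf (10, 324, 7)) (.leaf (5, 820, 0))) (.node (.leaf (11, 12, 2)) (.leaf (10, 635, 2))))) (.node (.node (.node (.leaf (10, 250, 7)) (.leaf (4, 959, 8))) (.node (.leaf (8, 341, 8)) (.leaf (9, 1, 3)))) (.node (.node (.leaf (5, 131, 6)) (.leaf (7, 499, 1))) (.leaf (13, 128, 5)))))) (.node (.node (.node (.node (.node (.leaf (4, 55, 3)) (.leaf (2, 186, 2))) (.node (.leaf (13, 559, 7)) (.leaf (8, 47, 6)))) (.node (.node (.leaf (8, 465, 9)) (.leaf (5, 586, 7))) (.node (.leaf (10, 466, 4)) (.leaf (10, 372, 7))))) (.node (.node (.node (.leaf (6, 80, 2)) (.leaf (4, 610, 2))) (.node (.leaf (7,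 488, 6)) (.leaf (8, 833, 1)))) (.node (.node (.leaf (12, 221, 4)) (.leaf (7, 338, 2))) (.leaf (12, 797, 4))))) (.node (.node (.node (.node (.leaf (4, 418, 6)) (.leaf (4, 157, 5))) (.node (.leaf (5, 350, 7)) (.leaf (8, 442, 8)))) (.node (.node (.leaf (12, 25, 6)) (.leaf (6, 151, 2))) (.node (.leaf (12, 13, 4)) (.leaf (10, 842, 0))))) (.node (.node (.node (.leaf (9, 600, 3)) (.leaf (5, 138, 1))) (.node (.leaf (9, 129, 7)) (.leaf (9, 406, 3)))) (.node (.node (.leaf (8, 130, 1)) (.leaf (7, 670, 0))) (.leaf (13, 370, 0)))))))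

/-- data -/
def cert1p4 : Trie (ℕ × ℕ × ℕ) := .node (.node (.node (.node (.node (.node (.node (.leaf (2, 3, 0)) (.leaf (13, 557, 6))) (.node (.leaf (10, 106, 2)) (.leaf (7, 762, 2)))) (.node (.node (.leaf (4, 345, 8)) (.leaf (5, 224, 3))) (.node (.leaf (9, 495, 9)) (.leaf (9, 645, 6))))) (.node (.node (.node (.leaf (5, 857, 8)) (.leaf (4, 293, 8))) (.node (.leaf (5, 800, 8)) (.leaf (8, 530, 9)))) (.node (.node (.leaf (4, 353, 3)) (.leaf (7, 33, 3))) (.node (.leaf (12, 123, 2)) (.leaf (11, 195, 2)))))) (.node (.node (.node (.node (.leaf (2, 82, 1)) (.leaf (2, 340, 2))) (.node (.leaf (3, 36, 2)) (.leaf (8, 152, 3)))) (.node (.node (.leaf (4, 62, 8)) (.leaf (5, 693, 8))) (.node (.leaf (10, 684, 0)) (.leaf (10, 515, 1))))) (.node (.node (.node (.leaf (13, 130, 8)) (.leaf (4, 763, 8))) (.node (.leaf (8, 127, 7)) (.leaf (8, 902, 6)))) (.node (.node (.leaf (4, 6, 3)) (.leaf (7, 418, 6))) (.leaf (13, 37, 5)))))) (.node (.node (.node (.node (.node (.leaf (3, 8, 0)) (.leaf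 (2, 75, 1))) (.node (.leaf (12, 285, 5)) (.leaf (7, 917, 2)))) (.node (.node (.leaf (12, 43, 6)) (.leaf (5, 479, 8))) (.node (.leaf (10, 244, 1)) (.leaf (10, 287, 2))))) (.node (.node (.node (.leaf (4, 70, 3)) (.leaf (4, 506, 5))) (.node (.leaf (7, 244, 7)) (.leaf (8, 753, 6)))) (.node (.node (.leaf (10, 176, 4)) (.leaf (7, 238, 0))) (.leaf (12, 531, 3))))) (.node (.node (.node (.node (.leaf (5, 181, 2)) (.leaf (4, 52, 8))) (.node (.leaf (5, 62, 5)) (.leaf (8, 365, 5)))) (.node (.node (.leaf (7, 729, 1)) (.leaf (6, 4, 1))) (.node (.leaf (11, 264, 2)) (.leaf (10, 754, 2))))) (.node (.node (.node (.leaf (4, 132, 1)) (.leaf (5, 67, 7))) (.node (.leaf (8, 747, 2)) (.leaf (9, 188, 3)))) (.node (.node (.leaf (7, 227, 1)) (.leaf (7, 591, 6))) (.leaf (13, 295, 9))))))) (.node (.node (.node (.node (.node (.node (.leaf (2, 55, 0)) (.leaf (13, 838, 6))) (.node (.leaf (10, 607, 2)) (.leaf (7, 833, 8)))) (.node (.node (.leaf (3, 131, 1)) (.leaf (5, 331, 6))) (.node (.leaf (10,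 39, 1)) (.leaf (10, 128, 2))))) (.node (.node (.node (.leaf (9, 44, 4)) (.leaf (4, 410, 7))) (.node (.leaf (7, 48, 2)) (.leaf (8, 616, 9)))) (.node (.node (.leaf (7, 149, 7)) (.leaf (7, 133, 2))) (.node (.leaf (12, 307, 4)) (.leaf (12, 107, 2)))))) (.node (.node (.node (.node (.leaf (4, 231, 0)) (.leaf (3, 252, 3))) (.node (.leaf (4, 355, 1)) (.leaf (8, 253, 2)))) (.node (.node (.leaf (10, 505, 1)) (.leaf (5, 827, 8))) (.node (.leaf (11, 14, 4)) (.leaf (10, 643, 4))))) (.node (.node (.node (.leaf (10, 260, 0)) (.leaf (5, 2, 4))) (.node (.leaf (8, 351, 2)) (.leaf (9, 8, 5)))) (.node (.node (.leaf (5, 257, 1)) (.leaf (7, 502, 2))) (.leaf (13, 131, 8)))))) (.node (.node (.node (.node (.node (.leaf (4, 61, 2)) (.leaf (2, 201, 1))) (.node (.leaf (13, 605, 6)) (.leaf (8, 52, 2)))) (.node (.node (.leaf (8, 688, 6)) (.leaf (5, 587, 2))) (.node (.leaf (10, 470, 7)) (.leaf (10, 381, 2))))) (.node (.node (.node (.leaf (7, 21, 6)) (.leaf (4, 611, 7))) (.node (.leaf (7, 492,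 0)) (.leaf (8, 836, 9)))) (.node (.node (.leaf (12, 770, 5)) (.leaf (7, 348, 2))) (.leaf (12, 812, 9))))) (.node (.node (.node (.node (.leaf (6, 28, 1)) (.leaf (4, 166, 2))) (.node (.leaf (5, 412, 8)) (.leaf (8, 449, 1)))) (.node (.node (.leaf (12, 51, 6)) (.leaf (6, 155, 0))) (.node (.leaf (12, 14, 4)) (.leaf (10, 843, 6))))) (.node (.node (.node (.leaf (9, 871, 8)) (.leaf (5, 146, 4))) (.node (.leaf (9, 130, 2)) (.leaf (9, 408, 2)))) (.node (.node (.leaf (8, 267, 6)) (.leaf (7, 671, 6))) (.leaf (13, 376, 0)))))))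

/-- data -/
def cert1p5 : Trie (ℕ × ℕ × ℕ) := .node (.node (.node (.node (.node (.node (.node (.leaf (2, 5, 0)) (.leaf (13, 592, 3))) (.node (.leaf (10, 112, 1)) (.leaf (7, 763, 6)))) (.node (.node (.leaf (4, 545, 0)) (.leaf (5, 233, 0))) (.node (.leaf (9, 544, 3)) (.leaf (9, 698, 6))))) (.node (.node (.node (.leaf (5, 866, 8)) (.leaf (4, 297, 1))) (.node (.leaf (5, 890, 3)) (.leaf (8, 533, 2)))) (.node (.node (.leaf (4, 384, 7)) (.leaf (7, 35, 6))) (.node (.leaf (12, 138, 6)) (.leaf (11, 330, 2)))))) (.node (.node (.node (.node (.leaf (3, 14, 0)) (.leaf (2, 342, 3))) (.node (.leaf (3, 63, 2)) (.leaf (8, 153, 8)))) (.node (.node (.leaf (4, 263, 6)) (.leaf (5, 701, 8))) (.node (.leaf (10, 712, 2)) (.leaf (10, 523, 1))))) (.node (.node (.node (.leaf (13, 218, 6)) (.leaf (4, 767, 2))) (.node (.leaf (8, 135, 8)) (.leaf (8, 906, 9)))) (.node (.node (.leaf (4, 17, 3)) (.leaf (7, 430, 1))) (.leaf (13, 38, 7)))))) (.node (.node (.node (.node (.node (.leaf (3, 10, 0))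 (.leaf (2, 93, 1))) (.node (.leaf (12, 344, 1)) (.leaf (7, 922, 0)))) (.node (.node (.leaf (12, 113, 6)) (.leaf (5, 482, 2))) (.node (.leaf (10, 249, 4)) (.leaf (10, 288, 2))))) (.node (.node (.node (.leaf (4, 167, 1)) (.leaf (4, 511, 6))) (.node (.leaf (7, 249, 1)) (.leaf (8, 768, 9)))) (.node (.node (.leaf (10, 348, 3)) (.leaf (7, 246, 6))) (.leaf (12, 534, 7))))) (.node (.node (.node (.node (.leaf (7, 304, 1)) (.leaf (4, 63, 1))) (.node (.leaf (5, 65, 5)) (.leaf (8, 367, 8)))) (.node (.node (.leaf (8, 33, 5)) (.leaf (6, 13, 2))) (.node (.leaf (11, 272, 3)) (.leaf (10, 759, 1))))) (.node (.node (.node (.leaf (4, 151, 2)) (.leaf (5, 68, 3))) (.node (.leaf (8, 769, 1)) (.leaf (9, 197, 5)))) (.node (.node (.leaf (7, 281, 7)) (.leaf (7, 593, 8))) (.leaf (13, 300, 8))))))) (.node (.node (.node (.node (.node (.node (.leaf (2, 57, 0)) (.leaf (13, 840, 8))) (.node (.leaf (10, 841, 7)) (.leaf (7, 834, 8)))) (.node (.node (.leaf (4, 8, 6)) (.leaf (5, 344, 2))) (.node (.leaf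 (10, 41, 0)) (.leaf (10, 132, 2))))) (.node (.node (.node (.leaf (11, 3, 5)) (.leaf (4, 411, 6))) (.node (.leaf (7, 50, 4)) (.leaf (8, 618, 2)))) (.node (.node (.leaf (7, 253, 7)) (.leaf (7, 144, 2))) (.node (.leaf (12, 310, 1)) (.leaf (12, 190, 6)))))) (.node (.node (.node (.node (.leaf (7, 95, 1)) (.leaf (3, 259, 2))) (.node (.leaf (4, 395, 6)) (.leaf (8, 254, 7)))) (.node (.node (.leaf (11, 17, 5)) (.leaf (5, 830, 3))) (.node (.leaf (11, 20, 6)) (.leaf (10, 650, 4))))) (.node (.node (.node (.leaf (10, 303, 6)) (.leaf (5, 4, 2))) (.node (.leaf (8, 379, 9)) (.leaf (9, 25, 2)))) (.node (.node (.leaf (5, 258, 4)) (.leaf (7, 510, 1))) (.leaf (13, 137, 5)))))) (.node (.node (.node (.node (.node (.leaf (4, 85, 2)) (.leaf (2, 215, 2))) (.node (.leaf (13, 638, 8)) (.leaf (8, 70, 6)))) (.node (.node (.leaf (9, 304, 8)) (.leaf (5, 588, 0))) (.node (.leaf (10, 474, 2)) (.leaf (10, 389, 3))))) (.node (.node (.node (.leaf (7, 65, 7)) (.leaf (4, 618, 2))) (.node (.leaf (7,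 507, 1)) (.leaf (8, 841, 4)))) (.node (.node (.leaf (13, 40, 6)) (.leaf (7, 354, 7))) (.leaf (12, 815, 5))))) (.node (.node (.node (.node (.leaf (6, 56, 1)) (.leaf (4, 189, 4))) (.node (.leaf (5, 436, 7)) (.leaf (8, 454, 0)))) (.node (.node (.leaf (12, 340, 8)) (.leaf (6, 188, 3))) (.node (.leaf (12, 29, 6)) (.leaf (10, 848, 2))))) (.node (.node (.node (.leaf (10, 3, 2)) (.leaf (5, 149, 5))) (.node (.leaf (9, 131, 7)) (.leaf (9, 429, 9)))) (.node (.node (.leaf (8, 534, 0)) (.leaf (7, 678, 3))) (.leaf (13, 403, 8)))))))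

/-- data -/
def cert1p6 : Trie (ℕ × ℕ × ℕ) := .node (.node (.node (.node (.node (.node (.node (.leaf (2, 6, 0)) (.leaf (13, 596, 7))) (.node (.leaf (10, 116, 3)) (.leaf (7, 771, 0)))) (.node (.node (.leaf (4, 731, 4)) (.leaf (5, 242, 3))) (.node (.leaf (9, 551, 2)) (.leaf (9, 754, 9))))) (.node (.node (.node (.leaf (2, 79, 1)) (.leaf (4, 300, 1))) (.node (.leaf (5, 916, 2)) (.leaf (8, 537, 3)))) (.node (.node (.leaf (4, 760, 2)) (.leaf (7, 38, 2))) (.node (.leaf (12, 142, 4)) (.leaf (11, 336, 6)))))) (.node (.node (.node (.node (.leaf (5, 710, 8)) (.leaf (2, 363, 3))) (.node (.leaf (3, 115, 3)) (.leaf (8, 165, 4)))) (.node (.node (.leaf (4, 429, 3)) (.leaf (5, 705, 0))) (.node (.leaf (10, 726, 3)) (.leaf (10, 524, 2))))) (.node (.node (.node (.leaf (13, 263, 7)) (.leaf (4, 779, 4))) (.node (.leaf (8, 147, 2)) (.leaf (8, 911, 6)))) (.node (.node (.leaf (4, 34, 2)) (.leaf (7, 433, 7))) (.leaf (13, 39, 5)))))) (.node (.node (.node (.node (.node (.leaf (3, 11, 0))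 (.leaf (2, 94, 2))) (.node (.leaf (12, 393, 6)) (.leaf (7, 924, 4)))) (.node (.node (.leaf (12, 263, 4)) (.leaf (5, 497, 5))) (.node (.leaf (10, 272, 1)) (.leaf (10, 312, 2))))) (.node (.node (.node (.leaf (12, 0, 4)) (.leaf (4, 519, 6))) (.node (.leaf (7, 287, 1)) (.leaf (8, 771, 6)))) (.node (.node (.leaf (10, 383, 0)) (.leaf (7, 252, 7))) (.leaf (12, 547, 8))))) (.node (.node (.node (.node (.leaf (8, 11, 5)) (.leaf (4, 65, 6))) (.node (.leaf (5, 82, 3)) (.leaf (8, 383, 4)))) (.node (.node (.leaf (8, 525, 8)) (.leaf (6, 35, 1))) (.node (.leaf (11, 287, 7)) (.leaf (10, 768, 2))))) (.node (.node (.node (.leaf (4, 220, 3)) (.leaf (5, 69, 3))) (.node (.leaf (8, 770, 6)) (.leaf (9, 211, 1)))) (.node (.node (.leaf (7, 284, 4)) (.leaf (7, 596, 5))) (.leaf (13, 301, 7))))))) (.node (.node (.node (.node (.node (.node (.leaf (2, 58, 0)) (.leaf (13, 841, 7))) (.node (.leaf (10, 966, 6)) (.leaf (7, 850, 8)))) (.node (.node (.leaf (5, 14, 3)) (.leaf (5, 347, 3))) (.node (.leaf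 (10, 46, 6)) (.leaf (10, 145, 5))))) (.node (.node (.node (.leaf (11, 8, 2)) (.leaf (4, 433, 8))) (.node (.leaf (7, 53, 3)) (.leaf (8, 621, 6)))) (.node (.node (.leaf (7, 262, 6)) (.leaf (7, 147, 4))) (.node (.leaf (12, 333, 6)) (.leaf (12, 289, 7)))))) (.node (.node (.node (.node (.leaf (8, 36, 8)) (.leaf (3, 297, 2))) (.node (.leaf (4, 455, 8)) (.leaf (8, 256, 3)))) (.node (.node (.leaf (11, 313, 2)) (.leaf (5, 852, 2))) (.node (.leaf (11, 21, 4)) (.leaf (10, 659, 0))))) (.node (.node (.node (.leaf (10, 488, 0)) (.leaf (5, 8, 5))) (.node (.leaf (8, 390, 2)) (.leaf (9, 46, 7)))) (.node (.node (.leaf (5, 301, 7)) (.leaf (7, 512, 8))) (.leaf (13, 170, 5)))))) (.node (.node (.node (.node (.node (.leaf (4, 276, 2)) (.leaf (2, 229, 1))) (.node (.leaf (13, 733, 7)) (.leaf (8, 83, 8)))) (.node (.node (.leaf (9, 418, 3)) (.leaf (5, 589, 0))) (.node (.leaf (10, 482, 6)) (.leaf (10, 396, 2))))) (.node (.node (.node (.leaf (7, 139, 6)) (.leaf (4, 648, 7))) (.node (.leaf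 (7, 576, 2)) (.leaf (8, 845, 2)))) (.node (.node (.leaf (13, 51, 7)) (.leaf (7, 357, 7))) (.leaf (12, 849, 0))))) (.node (.node (.node (.node (.leaf (7, 28, 2)) (.leaf (4, 191, 1))) (.node (.leaf (5, 450, 0)) (.leaf (8, 457, 6)))) (.node (.node (.leaf (12, 454, 8)) (.leaf (6, 189, 1))) (.node (.leaf (12, 33, 4)) (.leaf (10, 849, 0))))) (.node (.node (.node (.leaf (10, 220, 1)) (.leaf (5, 150, 5))) (.node (.leaf (9, 138, 8)) (.leaf (9, 443, 1)))) (.node (.node (.leaf (8, 760, 7)) (.leaf (7, 700, 8))) (.leaf (13, 410, 9)))))))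

/-- data -/
def cert1p7 : Trie (ℕ × ℕ × ℕ) := .node (.node (.node (.node (.node (.node (.node (.leaf (2, 8, 0)) (.leaf (13, 602, 8))) (.node (.leaf (10, 127, 1)) (.leaf (7, 791, 8)))) (.node (.node (.leaf (5, 946, 1)) (.leaf (5, 245, 8))) (.node (.leaf (9, 734, 6)) (.leaf (9, 757, 5))))) (.node (.node (.node (.leaf (4, 542, 5)) (.leaf (4, 323, 1))) (.node (.leaf (6, 19, 1)) (.leaf (8, 542, 0)))) (.node (.node (.leaf (5, 40, 0)) (.leaf (7, 42, 6))) (.node (.leaf (12, 152, 3)) (.leaf (11, 363, 2)))))) (.node (.node (.node (.node (.leaf (6, 0, 0)) (.leaf (2, 536, 1))) (.node (.leaf (3, 120, 1)) (.leaf (8, 168, 2)))) (.node (.node (.leaf (5, 97, 5)) (.leaf (5, 709, 8))) (.node (.leaf (10, 736, 0)) (.leaf (10, 541, 2))))) (.node (.node (.node (.leaf (13, 377, 6)) (.leaf (4, 802, 5))) (.node (.leaf (8, 158, 6)) (.leaf (8, 918, 1)))) (.node (.node (.leaf (4, 47, 6)) (.leaf (7, 436, 1))) (.leaf (13, 50, 3)))))) (.node (.node (.node (.node (.node (.leaf (3, 16, 0)) (.leaf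 (2, 102, 1))) (.node (.leaf (12, 428, 6)) (.leaf (7, 929, 1)))) (.node (.node (.leaf (2, 87, 0)) (.leaf (5, 501, 5))) (.node (.leaf (10, 306, 4)) (.leaf (10, 318, 1))))) (.node (.node (.node (.leaf (12, 2, 4)) (.leaf (4, 528, 7))) (.node (.leaf (7, 309, 4)) (.leaf (8, 779, 5)))) (.node (.node (.leaf (10, 385, 3)) (.leaf (7, 257, 2))) (.leaf (12, 557, 8))))) (.node (.node (.node (.node (.leaf (5, 116, 6)) (.leaf (4, 89, 5))) (.node (.leaf (5, 98, 2)) (.leaf (8, 387, 8)))) (.node (.node (.leaf (8, 711, 5)) (.leaf (6, 37, 2))) (.node (.leaf (11, 325, 4)) (.leaf (10, 772, 6))))) (.node (.node (.node (.leaf (4, 966, 0)) (.leaf (5, 71, 2))) (.node (.leaf (8, 776, 0)) (.leaf (9, 212, 9)))) (.node (.node (.leaf (7, 286, 7)) (.leaf (7, 599, 2))) (.leaf (13, 302, 4))))))) (.node (.node (.node (.node (.node (.node (.leaf (2, 63, 0)) (.leaf (13, 853, 4))) (.node (.leaf (11, 143, 4)) (.leaf (7, 869, 0)))) (.node (.node (.leaf (6, 22, 3)) (.leaf (5, 348, 7))) (.node (.leaf (10,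 50, 3)) (.leaf (10, 173, 5))))) (.node (.node (.node (.leaf (11, 28, 6)) (.leaf (4, 446, 0))) (.node (.leaf (7, 54, 2)) (.leaf (8, 637, 1)))) (.node (.node (.leaf (7, 393, 7)) (.leaf (7, 148, 1))) (.node (.leaf (12, 377, 6)) (.leaf (12, 447, 3)))))) (.node (.node (.node (.node (.leaf (8, 128, 8)) (.leaf (3, 306, 2))) (.node (.leaf (4, 478, 0)) (.leaf (8, 260, 8)))) (.node (.node (.leaf (12, 181, 4)) (.leaf (5, 853, 5))) (.node (.leaf (11, 23, 3)) (.leaf (10, 661, 0))))) (.node (.node (.node (.leaf (10, 678, 0)) (.leaf (5, 22, 7))) (.node (.leaf (8, 391, 9)) (.leaf (9, 53, 2)))) (.node (.node (.leaf (5, 435, 8)) (.leaf (7, 516, 8))) (.leaf (13, 181, 6)))))) (.node (.node (.node (.node (.node (.leaf (4, 327, 2)) (.leaf (2, 234, 0))) (.node (.leaf (13, 786, 7)) (.leaf (8, 87, 7)))) (.node (.node (.leaf (9, 732, 3)) (.leaf (5, 604, 6))) (.node (.leaf (10, 492, 2)) (.leaf (10, 404, 2))))) (.node (.node (.node (.leaf (7, 181, 2)) (.leaf (4, 649, 2))) (.node (.leaf (7,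 577, 2)) (.leaf (8, 846, 6)))) (.node (.node (.leaf (13, 307, 6)) (.leaf (7, 367, 7))) (.leaf (12, 859, 4))))) (.node (.node (.node (.node (.leaf (7, 143, 8)) (.leaf (4, 194, 2))) (.node (.leaf (5, 496, 7)) (.leaf (8, 458, 7)))) (.node (.node (.leaf (13, 94, 8)) (.leaf (6, 205, 5))) (.node (.leaf (12, 40, 7)) (.leaf (10, 861, 2))))) (.node (.node (.node (.leaf (11, 22, 6)) (.leaf (5, 154, 1))) (.node (.leaf (9, 154, 1)) (.leaf (9, 471, 1)))) (.node (.node (.leaf (8, 891, 6)) (.leaf (7, 703, 2))) (.leaf (13, 415, 7)))))))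

/-- data -/
def cert1p8 : Trie (ℕ × ℕ × ℕ) := .node (.node (.node (.node (.node (.node (.node (.leaf (2, 9, 0)) (.leaf (13, 633, 4))) (.node (.leaf (10, 130, 6)) (.leaf (7, 793, 2)))) (.node (.node (.leaf (7, 58, 2)) (.leaf (5, 249, 5))) (.node (.leaf (9, 737, 3)) (.leaf (9, 760, 3))))) (.node (.node (.node (.leaf (9, 273, 7)) (.leaf (4, 338, 5))) (.node (.leaf (6, 34, 2)) (.leaf (8, 545, 3)))) (.node (.node (.leaf (5, 115, 7)) (.leaf (7, 44, 6))) (.node (.leaf (12, 157, 8)) (.leaf (11, 369, 5)))))) (.node (.node (.node (.node (.leaf (6, 1, 0)) (.leaf (2, 555, 2))) (.node (.leaf (3, 278, 1)) (.leaf (8, 171, 1)))) (.node (.node (.leaf (5, 372, 3)) (.leaf (5, 724, 2))) (.node (.leaf (10, 751, 0)) (.leaf (10, 560, 5))))) (.node (.node (.node (.leaf (13, 603, 9)) (.leaf (4, 803, 8))) (.node (.leaf (8, 164, 8)) (.leaf (8, 922, 3)))) (.node (.node (.leaf (4, 51, 3)) (.leaf (7, 444, 1))) (.leaf (13, 68, 7)))))) (.node (.node (.node (.node (.node (.leaf (3, 19, 0)) (.leaf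 (2, 106, 1))) (.node (.leaf (12, 641, 3)) (.leaf (7, 945, 2)))) (.node (.node (.leaf (2, 185, 2)) (.leaf (5, 528, 2))) (.node (.leaf (10, 338, 7)) (.leaf (10, 319, 2))))) (.node (.node (.node (.leaf (12, 3, 4)) (.leaf (4, 547, 8))) (.node (.leaf (7, 323, 7)) (.leaf (8, 780, 8)))) (.node (.node (.leaf (10, 544, 1)) (.leaf (7, 260, 6))) (.leaf (12, 584, 6))))) (.node (.node (.node (.node (.leaf (6, 40, 2)) (.leaf (4, 91, 4))) (.node (.leaf (5, 100, 1)) (.leaf (8, 392, 6)))) (.node (.node (.leaf (9, 18, 8)) (.leaf (6, 43, 0))) (.node (.leaf (11, 385, 3)) (.leaf (10, 775, 0))))) (.node (.node (.node (.leaf (5, 96, 6)) (.leaf (5, 74, 0))) (.node (.leaf (8, 820, 3)) (.leaf (9, 223, 6)))) (.node (.node (.leaf (7, 327, 1)) (.leaf (7, 600, 2))) (.leaf (13, 305, 7))))))) (.node (.node (.node (.node (.node (.node (.leaf (2, 78, 0)) (.leaf (13, 864, 8))) (.node (.leaf (11, 157, 5)) (.leaf (7, 888, 0)))) (.node (.node (.leaf (6, 62, 2)) (.leaf (5, 373, 7))) (.node (.leaf (10,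 78, 2)) (.leaf (10, 185, 2))))) (.node (.node (.node (.leaf (11, 30, 5)) (.leaf (4, 451, 1))) (.node (.leaf (7, 71, 2)) (.leaf (8, 664, 9)))) (.node (.node (.leaf (7, 453, 6)) (.leaf (7, 161, 1))) (.node (.leaf (12, 389, 5)) (.leaf (12, 543, 2)))))) (.node (.node (.node (.node (.leaf (8, 179, 8)) (.leaf (3, 323, 2))) (.node (.leaf (4, 536, 3)) (.leaf (8, 261, 2)))) (.node (.node (.leaf (12, 348, 3)) (.leaf (5, 854, 8))) (.node (.leaf (11, 39, 2)) (.leaf (10, 666, 0))))) (.node (.node (.node (.leaf (11, 53, 0)) (.leaf (5, 26, 1))) (.node (.leaf (8, 402, 8)) (.leaf (9, 76, 2)))) (.node (.node (.leaf (5, 686, 8)) (.leaf (7, 517, 0))) (.leaf (13, 186, 5)))))) (.node (.node (.node (.node (.node (.leaf (2, 28, 1)) (.leaf (2, 248, 1))) (.node (.leaf (13, 797, 8)) (.leaf (8, 88, 1)))) (.node (.node (.leaf (9, 813, 0)) (.leaf (5, 609, 7))) (.node (.leaf (10, 496, 4)) (.leaf (10, 411, 1))))) (.node (.node (.node (.leaf (8, 2, 5)) (.leaf (4, 653, 3))) (.node (.leaf (7, 584,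 8)) (.leaf (8, 855, 6)))) (.node (.node (.leaf (13, 506, 7)) (.leaf (7, 368, 0))) (.leaf (12, 860, 7))))) (.node (.node (.node (.node (.leaf (9, 11, 2)) (.leaf (4, 197, 8))) (.node (.leaf (5, 605, 3)) (.leaf (8, 460, 7)))) (.node (.node (.leaf (13, 531, 2)) (.leaf (6, 208, 2))) (.node (.leaf (12, 53, 6)) (.leaf (10, 868, 2))))) (.node (.node (.node (.leaf (11, 145, 1)) (.leaf (5, 162, 6))) (.node (.leaf (9, 165, 8)) (.leaf (9, 499, 8)))) (.node (.node (.leaf (9, 38, 2)) (.leaf (7, 704, 8))) (.leaf (13, 434, 6)))))))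

/-- data -/
def cert1p9 : Trie (ℕ × ℕ × ℕ) := .node (.node (.node (.node (.node (.node (.node (.leaf (2, 11, 0)) (.leaf (13, 636, 8))) (.node (.leaf (10, 166, 2)) (.leaf (7, 794, 8)))) (.node (.node (.leaf (7, 545, 2)) (.leaf (5, 255, 0))) (.node (.leaf (9, 748, 3)) (.leaf (9, 788, 1))))) (.node (.node (.node (.leaf (4, 144, 1)) (.leaf (4, 346, 3))) (.node (.leaf (6, 49, 1)) (.leaf (8, 559, 9)))) (.node (.node (.leaf (5, 151, 5)) (.leaf (7, 47, 6))) (.node (.leaf (12, 169, 8)) (.leaf (11, 421, 0)))))) (.node (.node (.node (.node (.leaf (6, 3, 1)) (.leaf (2, 611, 0))) (.node (.leaf (3, 283, 0)) (.leaf (8, 174, 1)))) (.node (.node (.leaf (5, 841, 8)) (.leaf (5, 729, 4))) (.node (.leaf (10, 763, 0)) (.leaf (10, 573, 0))))) (.node (.node (.node (.leaf (13, 673, 6)) (.leaf (4, 808, 0))) (.node (.leaf (8, 172, 2)) (.leaf (8, 924, 7)))) (.node (.node (.leaf (4, 73, 4)) (.leaf (7, 445, 0))) (.leaf (13, 82, 8)))))) (.node (.node (.node (.node (.node (.leaf (3, 23, 0))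 (.leaf (2, 108, 2))) (.node (.leaf (12, 643, 3)) (.leaf (7, 948, 3)))) (.node (.node (.leaf (2, 292, 2)) (.leaf (5, 531, 7))) (.node (.leaf (10, 340, 2)) (.leaf (10, 330, 3))))) (.node (.node (.node (.leaf (12, 7, 5)) (.leaf (4, 549, 8))) (.node (.leaf (7, 351, 3)) (.leaf (8, 782, 0)))) (.node (.node (.leaf (11, 5, 2)) (.leaf (7, 274, 2))) (.leaf (12, 602, 7))))) (.node (.node (.node (.node (.leaf (3, 112, 2)) (.leaf (4, 98, 4))) (.node (.leaf (5, 140, 3)) (.leaf (8, 396, 8)))) (.node (.node (.leaf (9, 97, 3)) (.leaf (6, 45, 2))) (.node (.leaf (11, 395, 1)) (.leaf (10, 784, 2))))) (.node (.node (.node (.leaf (5, 772, 8)) (.leaf (5, 84, 5))) (.node (.leaf (8, 828, 3)) (.leaf (9, 233, 1)))) (.node (.node (.leaf (7, 416, 1)) (.leaf (7, 611, 2))) (.leaf (13, 310, 7))))))) (.node (.node (.node (.node (.node (.node (.leaf (2, 110, 0)) (.leaf (13, 874, 4))) (.node (.leaf (11, 199, 6)) (.leaf (7, 895, 8)))) (.node (.node (.leaf (7, 536, 1)) (.leaf (5, 391, 5))) (.node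 (.leaf (10, 99, 1)) (.leaf (10, 186, 1))))) (.node (.node (.node (.leaf (11, 72, 1)) (.leaf (4, 454, 4))) (.node (.leaf (7, 82, 1)) (.leaf (8, 678, 7)))) (.node (.node (.leaf (8, 376, 3)) (.leaf (7, 164, 7))) (.node (.leaf (12, 390, 5)) (.leaf (12, 564, 7)))))) (.node (.node (.node (.node (.leaf (8, 193, 1)) (.leaf (3, 349, 2))) (.node (.leaf (4, 577, 5)) (.leaf (8, 292, 6)))) (.node (.node (.leaf (13, 600, 4)) (.leaf (5, 865, 3))) (.node (.leaf (11, 59, 7)) (.leaf (10, 679, 2))))) (.node (.node (.node (.leaf (11, 58, 4)) (.leaf (5, 27, 3))) (.node (.leaf (8, 428, 2)) (.leaf (9, 100, 2)))) (.node (.node (.leaf (5, 758, 8)) (.leaf (7, 540, 1))) (.leaf (13, 192, 4)))))) (.node (.node (.node (.node (.node (.leaf (2, 33, 1)) (.leaf (2, 257, 2))) (.node (.leaf (13, 866, 6)) (.leaf (8, 95, 5)))) (.node (.node (.leaf (10, 239, 7)) (.leaf (5, 610, 2))) (.node (.leaf (10, 530, 0)) (.leaf (10, 419, 1))))) (.node (.node (.node (.leaf (9, 311, 3)) (.leaf (4, 661, 0))) (.node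 (.leaf (7, 618, 8)) (.leaf (8, 856, 9)))) (.node (.node (.leaf (13, 580, 6)) (.leaf (7, 369, 6))) (.leaf (12, 876, 6))))) (.node (.node (.node (.node (.leaf (2, 24, 1)) (.leaf (4, 203, 2))) (.node (.leaf (5, 611, 4)) (.leaf (8, 466, 3)))) (.node (.node (.leaf (13, 544, 5)) (.leaf (6, 254, 4))) (.node (.leaf (12, 58, 2)) (.leaf (10, 880, 0))))) (.node (.node (.node (.leaf (13, 96, 8)) (.leaf (5, 164, 7))) (.node (.leaf (9, 215, 2)) (.leaf (9, 517, 5)))) (.node (.node (.leaf (9, 50, 3)) (.leaf (7, 706, 7))) (.leaf (13, 453, 7)))))))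

/-- data -/
def cert1p10 : Trie (ℕ × ℕ × ℕ) := .node (.node (.node (.node (.node (.node (.node (.leaf (2, 12, 0)) (.leaf (13, 662, 9))) (.node (.leaf (10, 183, 7)) (.leaf (7, 796, 1)))) (.node (.node (.leaf (8, 370, 9)) (.leaf (5, 268, 5))) (.node (.leaf (9, 770, 3)) (.leaf (9, 833, 2))))) (.node (.node (.node (.leaf (8, 69, 7)) (.leaf (4, 350, 1))) (.node (.leaf (6, 58, 3)) (.leaf (8, 561, 6)))) (.node (.node (.leaf (5, 251, 2)) (.leaf (7, 56, 2))) (.node (.leaf (12, 175, 3)) (.leaf (11, 432, 4)))))) (.node (.node (.node (.node (.leaf (6, 10, 0)) (.leaf (2, 756, 1))) (.node (.leaf (3, 465, 1)) (.leaf (8, 178, 5)))) (.node (.node (.leaf (6, 395, 3)) (.leaf (5, 732, 4))) (.node (.leaf (10, 771, 0)) (.leaf (10, 584, 2))))) (.node (.node (.node (.leaf (13, 939, 9)) (.leaf (4, 814, 0))) (.node (.leaf (8, 203, 6)) (.leaf (8, 927, 8)))) (.node (.node (.leaf (4, 105, 1)) (.leaf (7, 449, 1))) (.leaf (13, 83, 7)))))) (.node (.node (.node (.node (.node (.leaf (3, 53, 0))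 (.leaf (2, 109, 1))) (.node (.leaf (12, 811, 3)) (.leaf (7, 950, 2)))) (.node (.node (.leaf (4, 165, 1)) (.leaf (5, 543, 4))) (.node (.leaf (10, 351, 3)) (.leaf (10, 331, 3))))) (.node (.node (.node (.leaf (12, 10, 6)) (.leaf (4, 551, 3))) (.node (.leaf (7, 361, 6)) (.leaf (8, 787, 0)))) (.node (.node (.leaf (11, 32, 4)) (.leaf (7, 279, 1))) (.leaf (12, 609, 8))))) (.node (.node (.node (.node (.leaf (9, 27, 2)) (.leaf (4, 99, 3))) (.node (.leaf (5, 152, 3)) (.leaf (8, 403, 8)))) (.node (.node (.leaf (9, 146, 6)) (.leaf (6, 48, 3))) (.node (.leaf (11, 436, 6)) (.leaf (10, 790, 0))))) (.node (.node (.node (.leaf (5, 863, 0)) (.leaf (5, 87, 2))) (.node (.leaf (8, 848, 8)) (.leaf (9, 236, 3)))) (.node (.node (.leaf (7, 505, 2)) (.leaf (7, 612, 1))) (.leaf (13, 315, 9))))))) (.node (.node (.node (.node (.node (.node (.leaf (2, 112, 0)) (.leaf (13, 906, 9))) (.node (.leaf (11, 292, 1)) (.leaf (7, 896, 2)))) (.node (.node (.leaf (8, 163, 0)) (.leaf (5, 397, 3))) (.node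 (.leaf (10, 120, 0)) (.leaf (10, 189, 3))))) (.node (.node (.node (.leaf (11, 96, 3)) (.leaf (4, 458, 1))) (.node (.leaf (7, 134, 3)) (.leaf (8, 685, 6)))) (.node (.node (.leaf (8, 694, 9)) (.leaf (7, 175, 2))) (.node (.leaf (12, 391, 6)) (.leaf (12, 568, 6)))))) (.node (.node (.node (.node (.leaf (8, 229, 0)) (.leaf (3, 370, 2))) (.node (.leaf (4, 633, 6)) (.leaf (8, 293, 0)))) (.node (.node (.leaf (2, 97, 1)) (.leaf (5, 872, 8))) (.node (.leaf (11, 67, 2)) (.leaf (10, 685, 2))))) (.node (.node (.node (.leaf (11, 166, 2)) (.leaf (5, 29, 0))) (.node (.leaf (8, 483, 3)) (.leaf (9, 102, 3)))) (.node (.node (.leaf (5, 801, 3)) (.leaf (7, 546, 1))) (.leaf (13, 200, 6)))))) (.node (.node (.node (.node (.node (.leaf (2, 100, 1)) (.leaf (2, 260, 0))) (.node (.leaf (2, 51, 1)) (.leaf (8, 97, 4)))) (.node (.node (.leaf (10, 268, 6)) (.leaf (5, 612, 8))) (.node (.leaf (10, 569, 5)) (.leaf (10, 423, 0))))) (.node (.node (.node (.leaf (9, 477, 8)) (.leaf (4, 677, 3))) (.node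 (.leaf (7, 632, 0)) (.leaf (8, 863, 8)))) (.node (.node (.leaf (13, 686, 4)) (.leaf (7, 370, 6))) (.leaf (12, 879, 3))))) (.node (.node (.node (.node (.leaf (4, 80, 6)) (.leaf (4, 207, 1))) (.node (.leaf (5, 623, 2)) (.leaf (8, 467, 6)))) (.node (.node (.leaf (13, 758, 1)) (.leaf (6, 266, 2))) (.node (.leaf (12, 78, 6)) (.leaf (10, 884, 0))))) (.node (.node (.node (.leaf (13, 229, 1)) (.leaf (5, 172, 2))) (.node (.leaf (9, 259, 1)) (.leaf (9, 519, 7)))) (.node (.node (.leaf (9, 262, 5)) (.leaf (7, 708, 8))) (.leaf (13, 459, 7)))))))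

/-- data -/
def cert1p11 : Trie (ℕ × ℕ × ℕ) := .node (.node (.node (.node (.node (.node (.node (.leaf (2, 14, 0)) (.leaf (13, 678, 9))) (.node (.leaf (10, 198, 0)) (.leaf (7, 797, 2)))) (.node (.node (.leaf (9, 24, 3)) (.leaf (5, 284, 3))) (.node (.leaf (9, 773, 5)) (.leaf (9, 867, 2))))) (.node (.node (.node (.leaf (10, 8, 1)) (.leaf (4, 351, 6))) (.node (.leaf (6, 89, 3)) (.leaf (8, 562, 7)))) (.node (.node (.leaf (5, 362, 7)) (.leaf (7, 66, 5))) (.node (.leaf (12, 237, 7)) (.leaf (11, 437, 5)))))) (.node (.node (.node (.node (.leaf (6, 12, 0)) (.leaf (2, 793, 0))) (.node (.leaf (3, 472, 0)) (.leaf (8, 195, 6)))) (.node (.node (.leaf (7, 769, 2)) (.leaf (5, 737, 8))) (.node (.leaf (10, 831, 6)) (.leaf (10, 590, 0))))) (.node (.node (.node (.leaf (3, 43, 2)) (.leaf (4, 818, 3))) (.node (.leaf (8, 239, 5)) (.leaf (8, 929, 3)))) (.node (.node (.leaf (4, 112, 6)) (.leaf (7, 450, 5))) (.leaf (13, 100, 5)))))) (.node (.node (.node (.node (.node (.leaf (4, 3, 3)) (.leaf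 (2, 117, 2))) (.node (.leaf (13, 144, 8)) (.leaf (7, 956, 8)))) (.node (.node (.leaf (4, 313, 3)) (.leaf (5, 545, 4))) (.node (.leaf (10, 370, 0)) (.leaf (10, 333, 6))))) (.node (.node (.node (.leaf (12, 108, 3)) (.leaf (4, 558, 2))) (.node (.leaf (7, 383, 2)) (.leaf (8, 793, 3)))) (.node (.node (.leaf (11, 95, 5)) (.leaf (7, 293, 1))) (.leaf (12, 638, 8))))) (.node (.node (.node (.node (.leaf (9, 28, 9)) (.leaf (4, 102, 7))) (.node (.leaf (5, 165, 2)) (.leaf (8, 415, 9)))) (.node (.node (.leaf (9, 412, 9)) (.leaf (6, 61, 0))) (.node (.leaf (11, 455, 1)) (.leaf (10, 799, 2))))) (.node (.node (.node (.leaf (6, 73, 2)) (.leaf (5, 108, 2))) (.node (.leaf (8, 899, 2)) (.leaf (9, 284, 1)))) (.node (.node (.leaf (7, 643, 7)) (.leaf (7, 621, 1))) (.leaf (13, 323, 6))))))) (.node (.node (.node (.node (.node (.node (.leaf (2, 115, 0)) (.leaf (13, 945, 1))) (.node (.leaf (11, 450, 0)) (.leaf (7, 897, 8)))) (.node (.node (.leaf (8, 313, 8)) (.leaf (5, 398, 7))) (.node (.leaf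 (10, 129, 1)) (.leaf (10, 199, 2))))) (.node (.node (.node (.leaf (11, 196, 3)) (.leaf (4, 459, 1))) (.node (.leaf (7, 157, 2)) (.leaf (8, 692, 9)))) (.node (.node (.leaf (9, 33, 5)) (.leaf (7, 182, 2))) (.node (.leaf (12, 395, 7)) (.leaf (12, 619, 4)))))) (.node (.node (.node (.node (.leaf (8, 411, 8)) (.leaf (4, 10, 3))) (.node (.leaf (4, 678, 1)) (.leaf (8, 295, 1)))) (.node (.node (.leaf (2, 305, 1)) (.leaf (5, 873, 3))) (.node (.leaf (11, 91, 0)) (.leaf (10, 694, 1))))) (.node (.node (.node (.leaf (12, 5, 4)) (.leaf (5, 32, 2))) (.node (.leaf (8, 496, 2)) (.leaf (9, 110, 7)))) (.node (.node (.leaf (6, 6, 1)) (.leaf (7, 553, 2))) (.leaf (13, 202, 7)))))) (.node (.node (.node (.node (.node (.leaf (3, 60, 0)) (.leaf (2, 270, 1))) (.node (.leaf (2, 156, 0)) (.leaf (8, 103, 1)))) (.node (.node (.leaf (10, 536, 2)) (.leaf (5, 616, 8))) (.node (.leaf (10, 583, 0)) (.leaf (10, 432, 4))))) (.node (.node (.node (.leaf (12, 112, 8)) (.leaf (4, 680, 1))) (.node (.leaf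 (7, 641, 8)) (.leaf (8, 864, 7)))) (.node (.node (.leaf (13, 946, 9)) (.leaf (7, 372, 1))) (.leaf (12, 899, 9))))) (.node (.node (.node (.node (.leaf (4, 488, 8)) (.leaf (4, 215, 1))) (.node (.leaf (5, 638, 8)) (.leaf (8, 476, 1)))) (.node (.node (.leaf (13, 931, 9)) (.leaf (6, 300, 3))) (.node (.leaf (12, 79, 3)) (.leaf (10, 887, 0))))) (.node (.node (.node (.leaf (13, 728, 0)) (.leaf (5, 180, 2))) (.node (.leaf (9, 297, 1)) (.leaf (9, 522, 8)))) (.node (.node (.leaf (9, 302, 3)) (.leaf (7, 710, 1))) (.leaf (13, 462, 3)))))))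

/-- data -/
def cert1p12 : Trie (ℕ × ℕ × ℕ) := .node (.node (.node (.node (.node (.node (.node (.leaf (2, 15, 0)) (.leaf (13, 707, 8))) (.node (.leaf (10, 246, 7)) (.leaf (7, 803, 3)))) (.node (.node (.leaf (9, 82, 8)) (.leaf (5, 285, 5))) (.node (.leaf (9, 831, 8)) (.leaf (9, 926, 9))))) (.node (.node (.node (.leaf (10, 83, 7)) (.leaf (4, 365, 2))) (.node (.leaf (6, 94, 2)) (.leaf (8, 567, 2)))) (.node (.node (.leaf (5, 418, 8)) (.leaf (7, 68, 2))) (.node (.leaf (12, 244, 6)) (.leaf (11, 447, 4)))))) (.node (.node (.node (.node (.leaf (7, 0, 3)) (.leaf (3, 35, 0))) (.node (.leaf (4, 12, 4)) (.leaf (8, 197, 5)))) (.node (.node (.leaf (8, 139, 7)) (.leaf (5, 747, 6))) (.node (.leaf (10, 874, 0)) (.leaf (10, 594, 7))))) (.node (.node (.node (.leaf (3, 195, 2)) (.leaf (4, 862, 8))) (.node (.leaf (8, 244, 8)) (.leaf (8, 932, 5)))) (.node (.node (.leaf (4, 229, 5)) (.leaf (7, 452, 8))) (.leaf (13, 105, 7)))))) (.node (.node (.node (.node (.node (.leaf (4, 9, 3)) (.leaf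 (2, 122, 2))) (.node (.leaf (13, 152, 2)) (.leaf (7, 959, 8)))) (.node (.node (.leaf (5, 78, 3)) (.leaf (5, 548, 3))) (.node (.leaf (10, 376, 0)) (.leaf (10, 335, 2))))) (.node (.node (.node (.leaf (12, 229, 4)) (.leaf (4, 566, 0))) (.node (.leaf (7, 386, 4)) (.leaf (8, 795, 9)))) (.node (.node (.leaf (11, 132, 1)) (.leaf (7, 294, 7))) (.leaf (12, 646, 3))))) (.node (.node (.node (.node (.leaf (9, 36, 3)) (.leaf (4, 103, 5))) (.node (.leaf (5, 194, 7)) (.leaf (8, 417, 3)))) (.node (.node (.leaf (9, 935, 0)) (.leaf (6, 67, 5))) (.node (.leaf (11, 466, 4)) (.leaf (10, 802, 0))))) (.node (.node (.node (.leaf (7, 251, 6)) (.leaf (5, 109, 6))) (.node (.leaf (8, 967, 9)) (.leaf (9, 294, 1)))) (.node (.node (.leaf (7, 932, 1)) (.leaf (7, 624, 8))) (.leaf (13, 331, 0))))))) (.node (.node (.node (.node (.node (.node (.leaf (2, 134, 0)) (.leaf (13, 948, 0))) (.node (.leaf (12, 9, 6)) (.leaf (7, 900, 6)))) (.node (.node (.leaf (8, 385, 8)) (.leaf (5, 405, 8))) (.node (.leaf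 (10, 134, 3)) (.leaf (10, 202, 1))))) (.node (.node (.node (.leaf (4, 108, 7)) (.leaf (4, 467, 2))) (.node (.leaf (7, 165, 2)) (.leaf (8, 695, 2)))) (.node (.node (.leaf (9, 217, 3)) (.leaf (7, 188, 2))) (.node (.leaf (12, 411, 8)) (.leaf (12, 775, 1)))))) (.node (.node (.node (.node (.leaf (8, 638, 9)) (.leaf (4, 13, 6))) (.node (.leaf (4, 683, 5)) (.leaf (8, 296, 6)))) (.node (.node (.leaf (4, 730, 6)) (.leaf (5, 907, 6))) (.node (.leaf (11, 100, 6)) (.leaf (10, 695, 0))))) (.node (.node (.node (.leaf (12, 804, 6)) (.leaf (5, 35, 5))) (.node (.leaf (8, 501, 7)) (.leaf (9, 116, 3)))) (.node (.node (.leaf (6, 31, 1)) (.leaf (7, 556, 2))) (.leaf (13, 204, 7)))))) (.node (.node (.node (.node (.node (.leaf (5, 34, 6)) (.leaf (2, 279, 0))) (.node (.leaf (2, 166, 1)) (.leaf (8, 104, 1)))) (.node (.node (.leaf (10, 779, 3)) (.leaf (5, 619, 7))) (.node (.leaf (10, 595, 1)) (.leaf (10, 442, 1))))) (.node (.node (.node (.leaf (5, 6, 5)) (.leaf (4, 681, 6))) (.node (.leaf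 (7, 655, 5)) (.leaf (8, 869, 0)))) (.node (.node (.leaf (2, 36, 1)) (.leaf (7, 374, 6))) (.leaf (12, 962, 0))))) (.node (.node (.node (.node (.leaf (7, 2, 3)) (.leaf (4, 216, 5))) (.node (.leaf (5, 651, 8)) (.leaf (8, 480, 4)))) (.node (.node (.leaf (2, 44, 0)) (.leaf (6, 317, 0))) (.node (.leaf (12, 89, 3)) (.leaf (10, 892, 6))))) (.node (.node (.node (.leaf (13, 773, 4)) (.leaf (5, 182, 2))) (.node (.leaf (9, 303, 5)) (.leaf (9, 523, 9)))) (.node (.node (.leaf (9, 345, 8)) (.leaf (7, 715, 8))) (.leaf (13, 467, 7)))))))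

/-- data -/
def cert1p13 : Trie (ℕ × ℕ × ℕ) := .node (.node (.node (.node (.node (.node (.node (.leaf (2, 17, 0)) (.leaf (13, 718, 9))) (.node (.leaf (10, 264, 1)) (.leaf (7, 813, 2)))) (.node (.node (.leaf (10, 22, 1)) (.leaf (5, 290, 3))) (.node (.leaf (9, 841, 2)) (.leaf (9, 943, 2))))) (.node (.node (.node (.leaf (10, 228, 1)) (.leaf (4, 370, 7))) (.node (.leaf (6, 97, 2)) (.leaf (8, 570, 3)))) (.node (.node (.leaf (6, 18, 2)) (.leaf (7, 83, 2))) (.node (.leaf (12, 245, 6)) (.leaf (11, 487, 4)))))) (.node (.node (.node (.node (.leaf (7, 1, 3)) (.leaf (3, 41, 0))) (.node (.leaf (4, 49, 5)) (.leaf (8, 205, 4)))) (.node (.node (.leaf (8, 304, 8)) (.leaf (5, 748, 2))) (.node (.leaf (10, 876, 0)) (.leaf (10, 617, 2))))) (.node (.node (.node (.leaf (3, 220, 2)) (.leaf (4, 868, 3))) (.node (.leaf (8, 245, 3)) (.leaf (8, 940, 8)))) (.node (.node (.leaf (4, 237, 1)) (.leaf (7, 457, 1))) (.leaf (13, 106, 7)))))) (.node (.node (.node (.node (.node (.leaf (4, 15, 2))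 (.leaf (2, 140, 2))) (.node (.leaf (13, 158, 8)) (.leaf (7, 967, 3)))) (.node (.node (.leaf (5, 509, 8)) (.leaf (5, 555, 5))) (.node (.leaf (10, 377, 2)) (.leaf (10, 341, 5))))) (.node (.node (.node (.leaf (12, 266, 5)) (.leaf (4, 568, 3))) (.node (.leaf (7, 402, 7)) (.leaf (8, 798, 6)))) (.node (.node (.leaf (11, 214, 4)) (.leaf (7, 300, 2))) (.leaf (12, 683, 3))))) (.node (.node (.node (.node (.leaf (9, 37, 9)) (.leaf (4, 110, 2))) (.node (.leaf (5, 200, 3)) (.leaf (8, 423, 7)))) (.node (.node (.leaf (10, 265, 3)) (.leaf (6, 68, 0))) (.node (.leaf (11, 471, 7)) (.leaf (10, 807, 4))))) (.node (.node (.node (.leaf (8, 220, 3)) (.leaf (5, 110, 3))) (.node (.leaf (9, 12, 7)) (.leaf (9, 314, 2)))) (.node (.node (.leaf (7, 933, 8)) (.leaf (7, 630, 0))) (.leaf (13, 339, 1))))))) (.node (.node (.node (.node (.node (.node (.leaf (2, 157, 0)) (.leaf (2, 38, 0))) (.node (.leaf (12, 15, 4)) (.leaf (7, 902, 8)))) (.node (.node (.leaf (10, 97, 1)) (.leaf (5, 415, 5))) (.node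 (.leaf (10, 140, 1)) (.leaf (10, 208, 2))))) (.node (.node (.node (.leaf (7, 72, 2)) (.leaf (4, 471, 0))) (.node (.leaf (7, 166, 1)) (.leaf (8, 699, 8)))) (.node (.node (.leaf (9, 258, 9)) (.leaf (7, 194, 2))) (.node (.leaf (12, 466, 3)) (.leaf (12, 816, 5)))))) (.node (.node (.node (.node (.leaf (3, 69, 2)) (.leaf (4, 24, 5))) (.node (.leaf (4, 866, 2)) (.leaf (8, 312, 5)))) (.node (.node (.leaf (5, 95, 0)) (.leaf (5, 918, 5))) (.node (.leaf (11, 113, 6)) (.leaf (10, 696, 0))))) (.node (.node (.node (.leaf (12, 864, 0)) (.leaf (5, 42, 6))) (.node (.leaf (8, 548, 9)) (.leaf (9, 126, 9)))) (.node (.node (.leaf (6, 95, 2)) (.leaf (7, 557, 5))) (.leaf (13, 217, 5)))))) (.node (.node (.node (.node (.node (.leaf (5, 51, 6)) (.leaf (2, 287, 2))) (.node (.leaf (2, 191, 2)) (.leaf (8, 114, 3)))) (.node (.node (.leaf (10, 946, 7)) (.leaf (5, 620, 3))) (.node (.leaf (10, 597, 2)) (.leaf (10, 443, 0))))) (.node (.node (.node (.leaf (5, 603, 8)) (.leaf (4, 684, 0))) (.node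 (.leaf (7, 694, 5)) (.leaf (8, 876, 3)))) (.node (.node (.leaf (2, 105, 1)) (.leaf (7, 375, 7))) (.leaf (12, 966, 7))))) (.node (.node (.node (.node (.leaf (3, 143, 3)) (.leaf (4, 221, 3))) (.node (.leaf (5, 680, 7)) (.leaf (8, 488, 5)))) (.node (.node (.leaf (2, 203, 0)) (.leaf (6, 347, 2))) (.node (.leaf (12, 90, 3)) (.leaf (10, 908, 5))))) (.node (.node (.node (.leaf (2, 70, 2)) (.leaf (5, 189, 3))) (.node (.leaf (9, 307, 4)) (.leaf (9, 548, 5)))) (.node (.node (.leaf (9, 353, 2)) (.leaf (7, 716, 0))) (.leaf (13, 486, 6)))))))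

/-- data -/
def cert1p14 : Trie (ℕ × ℕ × ℕ) := .node (.node (.node (.node (.node (.node (.node (.leaf (2, 25, 0)) (.leaf (13, 732, 4))) (.node (.leaf (10, 286, 1)) (.leaf (7, 814, 8)))) (.node (.node (.leaf (10, 877, 0)) (.leaf (5, 295, 7))) (.node (.leaf (9, 874, 3)) (.leaf (10, 10, 5))))) (.node (.node (.node (.leaf (10, 434, 0)) (.leaf (4, 372, 6))) (.node (.leaf (6, 127, 2)) (.leaf (8, 574, 1)))) (.node (.node (.leaf (6, 32, 3)) (.leaf (7, 84, 2))) (.node (.leaf (12, 248, 2)) (.leaf (11, 521, 0)))))) (.node (.node (.node (.node (.leaf (7, 3, 6)) (.leaf (3, 81, 2))) (.node (.leaf (4, 82, 3)) (.leaf (8, 207, 2)))) (.node (.node (.leaf (9, 41, 2)) (.leaf (5, 771, 5))) (.node (.leaf (10, 879, 0)) (.leaf (10, 619, 7))))) (.node (.node (.node (.leaf (5, 485, 8)) (.leaf (4, 904, 0))) (.node (.leaf (8, 247, 3)) (.leaf (8, 955, 0)))) (.node (.node (.leaf (4, 272, 1)) (.leaf (7, 466, 1))) (.leaf (13, 110, 3)))))) (.node (.node (.node (.node (.node (.leaf (4, 18, 3))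 (.leaf (2, 141, 1))) (.node (.leaf (13, 223, 7)) (.leaf (7, 972, 2)))) (.node (.node (.leaf (6, 191, 4)) (.leaf (5, 558, 5))) (.node (.leaf (10, 378, 1)) (.leaf (10, 359, 1))))) (.node (.node (.node (.leaf (12, 462, 3)) (.leaf (4, 571, 4))) (.node (.leaf (7, 413, 1)) (.leaf (8, 800, 6)))) (.node (.node (.leaf (11, 251, 6)) (.leaf (7, 307, 2))) (.leaf (12, 703, 4))))) (.node (.node (.node (.node (.leaf (9, 58, 9)) (.leaf (4, 125, 2))) (.node (.leaf (5, 201, 7)) (.leaf (8, 426, 2)))) (.node (.node (.leaf (10, 386, 0)) (.leaf (6, 74, 3))) (.node (.leaf (11, 508, 5)) (.leaf (10, 816, 4))))) (.node (.node (.node (.leaf (8, 250, 7)) (.leaf (5, 113, 4))) (.node (.leaf (9, 14, 6)) (.leaf (9, 319, 5)))) (.node (.node (.leaf (7, 966, 7)) (.leaf (7, 631, 8))) (.leaf (13, 341, 6))))))) (.node (.node (.node (.node (.node (.node (.leaf (3, 0, 0)) (.leaf (2, 60, 1))) (.node (.leaf (12, 16, 4)) (.leaf (7, 903, 3)))) (.node (.node (.leaf (10, 158, 1)) (.leaf (5, 431, 2))) (.node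 (.leaf (10, 149, 3)) (.leaf (10, 209, 6))))) (.node (.node (.node (.leaf (7, 305, 1)) (.leaf (4, 479, 4))) (.node (.leaf (7, 183, 1)) (.leaf (8, 700, 6)))) (.node (.node (.leaf (9, 348, 3)) (.leaf (7, 198, 2))) (.node (.leaf (12, 478, 8)) (.leaf (13, 278, 3)))))) (.node (.node (.node (.node (.leaf (5, 28, 1)) (.leaf (4, 25, 3))) (.node (.leaf (4, 896, 0)) (.leaf (8, 322, 9)))) (.node (.node (.leaf (5, 324, 2)) (.leaf (5, 926, 8))) (.node (.leaf (11, 114, 4)) (.leaf (10, 698, 2))))) (.node (.node (.node (.leaf (13, 28, 6)) (.leaf (5, 44, 5))) (.node (.leaf (8, 556, 8)) (.leaf (9, 133, 6)))) (.node (.node (.leaf (6, 106, 0)) (.leaf (7, 561, 8))) (.leaf (13, 231, 6)))))) (.node (.node (.node (.node (.node (.leaf (5, 118, 6)) (.leaf (2, 302, 0))) (.node (.leaf (2, 193, 3)) (.leaf (8, 121, 8)))) (.node (.node (.leaf (12, 37, 4)) (.leaf (5, 625, 0))) (.node (.leaf (10, 600, 5)) (.leaf (10, 465, 2))))) (.node (.node (.node (.leaf (6, 79, 3)) (.leaf (4, 721, 6))) (.node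 (.leaf (7, 866, 3)) (.leaf (8, 877, 9)))) (.node (.node (.leaf (2, 128, 2)) (.leaf (7, 377, 5))) (.leaf (12, 968, 4))))) (.node (.node (.node (.node (.leaf (4, 5, 6)) (.leaf (4, 224, 8))) (.node (.leaf (5, 689, 3)) (.leaf (8, 497, 8)))) (.node (.node (.leaf (4, 78, 3)) (.leaf (6, 433, 1))) (.node (.leaf (12, 94, 6)) (.leaf (11, 48, 4))))) (.node (.node (.node (.leaf (2, 159, 1)) (.leaf (5, 195, 1))) (.node (.leaf (9, 312, 2)) (.leaf (9, 606, 3)))) (.node (.node (.leaf (9, 671, 9)) (.leaf (7, 721, 2))) (.leaf (13, 492, 2)))))))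

/-- data -/
def cert1p15 : Trie (ℕ × ℕ × ℕ) := .node (.node (.node (.node (.node (.node (.node (.leaf (2, 27, 0)) (.leaf (13, 747, 3))) (.node (.leaf (10, 361, 1)) (.leaf (7, 815, 5)))) (.node (.node (.leaf (12, 4, 5)) (.leaf (5, 300, 3))) (.node (.leaf (9, 911, 2)) (.leaf (10, 19, 2))))) (.node (.node (.node (.leaf (10, 604, 0)) (.leaf (4, 388, 1))) (.node (.leaf (6, 176, 4)) (.leaf (8, 584, 3)))) (.node (.node (.leaf (6, 51, 1)) (.leaf (7, 85, 8))) (.node (.leaf (12, 264, 5)) (.leaf (11, 564, 0)))))) (.node (.node (.node (.node (.leaf (7, 7, 3)) (.leaf (3, 107, 2))) (.node (.leaf (4, 200, 6)) (.leaf (8, 208, 8)))) (.node (.node (.leaf (9, 688, 2)) (.leaf (5, 773, 3))) (.node (.leaf (10, 899, 0)) (.leaf (10, 621, 2))))) (.node (.node (.node (.leaf (5, 498, 2)) (.leaf (4, 912, 2))) (.node (.leaf (8, 259, 6)) (.leaf (8, 961, 3)))) (.node (.node (.leaf (4, 638, 8)) (.leaf (7, 470, 7))) (.leaf (13, 112, 2)))))) (.node (.node (.node (.node (.node (.leaf (4, 20, 3))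 (.leaf (2, 161, 1))) (.node (.leaf (13, 248, 9)) (.leaf (7, 973, 0)))) (.node (.node (.leaf (7, 239, 1)) (.leaf (5, 569, 5))) (.node (.leaf (10, 390, 2)) (.leaf (10, 360, 1))))) (.node (.node (.node (.leaf (2, 69, 2)) (.leaf (4, 587, 0))) (.node (.leaf (7, 428, 6)) (.leaf (8, 811, 3)))) (.node (.node (.leaf (12, 1, 8)) (.leaf (7, 319, 7))) (.leaf (12, 707, 8))))) (.node (.node (.node (.node (.leaf (9, 107, 2)) (.leaf (4, 127, 5))) (.node (.leaf (5, 271, 3)) (.leaf (8, 430, 1)))) (.node (.node (.leaf (10, 453, 0)) (.leaf (6, 83, 2))) (.node (.leaf (11, 554, 6)) (.leaf (10, 823, 0))))) (.node (.node (.node (.leaf (8, 262, 3)) (.leaf (5, 121, 4))) (.node (.leaf (9, 40, 3)) (.leaf (9, 327, 8)))) (.node (.node (.leaf (8, 22, 1)) (.leaf (7, 644, 3))) (.leaf (13, 345, 3))))))) (.node (.node (.node (.node (.node (.node (.leaf (3, 1, 0)) (.leaf (2, 61, 1))) (.node (.leaf (12, 19, 6)) (.leaf (7, 904, 8)))) (.node (.node (.leaf (10, 196, 3)) (.leaf (5, 445, 8))) (.node (.leaf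 (10, 150, 1)) (.leaf (10, 221, 2))))) (.node (.node (.node (.leaf (8, 9, 2)) (.leaf (4, 480, 5))) (.node (.leaf (7, 224, 6)) (.leaf (8, 702, 9)))) (.node (.node (.leaf (9, 465, 1)) (.leaf (7, 206, 7))) (.leaf (12, 484, 6))))) (.node (.node (.node (.node (.leaf (6, 9, 2)) (.leaf (4, 26, 8))) (.node (.leaf (5, 18, 5)) (.leaf (8, 329, 3)))) (.node (.node (.leaf (5, 783, 2)) (.leaf (5, 932, 0))) (.node (.leaf (11, 127, 2)) (.leaf (10, 713, 0))))) (.node (.node (.node (.leaf (13, 871, 7)) (.leaf (5, 45, 3))) (.node (.leaf (8, 569, 9)) (.leaf (9, 134, 2)))) (.node (.node (.leaf (6, 202, 3)) (.leaf (7, 567, 8))) (.leaf (13, 243, 0)))))) (.node (.node (.node (.node (.node (.leaf (5, 130, 0)) (.leaf (2, 310, 0))) (.node (.leaf (2, 217, 0)) (.leaf (8, 124, 1)))) (.node (.node (.leaf (12, 165, 3)) (.leaf (5, 641, 3))) (.node (.leaf (10, 606, 2)) (.leaf (10, 473, 5))))) (.node (.node (.node (.leaf (12, 27, 6)) (.leaf (4, 737, 0))) (.node (.leaf (8, 25, 2)) (.leaf (8, 878,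 6)))) (.node (.node (.leaf (2, 218, 2)) (.leaf (7, 381, 0))) (.leaf (12, 971, 9))))) (.node (.node (.node (.node (.leaf (5, 143, 6)) (.leaf (4, 245, 5))) (.node (.leaf (5, 694, 0)) (.leaf (8, 507, 4)))) (.node (.node (.leaf (4, 96, 5)) (.leaf (6, 439, 0))) (.node (.leaf (12, 106, 6)) (.leaf (11, 117, 4))))) (.node (.node (.node (.leaf (3, 214, 0)) (.leaf (5, 203, 6))) (.node (.leaf (9, 329, 1)) (.leaf (9, 613, 6)))) (.node (.node (.leaf (9, 804, 7)) (.leaf (7, 730, 5))) (.leaf (13, 496, 7)))))))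

/-- data -/
def cert1 : Trie (ℕ × ℕ × ℕ) := .node (.node (.node (.node (cert1p0) (cert1p8)) (.node (cert1p4) (cert1p12))) (.node (.node (cert1p2) (cert1p10)) (.node (cert1p6) (cert1p14)))) (.node (.node (.node (cert1p1) (cert1p9)) (.node (cert1p5) (cert1p13))) (.node (.node (cert1p3) (cert1p11)) (.node (cert1p7) (cert1p15))))

/-- data -/
def pot1p0 : Trie (ℕ) := .node (.node (.node (.node (.node (.node (.leaf 0x100) (.leaf 0x8a0402)) (.node (.leaf 0x8a0402) (.leaf 0xcc0402))) (.node (.node (.leaf 0x4c0402) (.leaf 0xca0402)) (.node (.leaf 0xca0402) (.leaf 0x1900502)))) (.node (.node (.node (.leaf 0x4a0402) (.leaf 0xc80402)) (.node (.leaf 0x4c0402) (.leaf 0x8c0402))) (.node (.node (.leaf 0x2020502) (.leaf 0x2080502)) (.node (.leaf 0x8c0402) (.leaf 0x1120502))))) (.node (.node (.node (.node (.leaf 0x260302) (.leaf 0x2080502)) (.node (.leaf 0x4e0402) (.leaf 0x1100502))) (.node (.node (.leaf 0x4c0402) (.leaf 0x900502)) (.node (.leaf 0x120501) (.leaf 0x1100502))))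 (.node (.node (.node (.leaf 0xc40402) (.leaf 0x8e0402)) (.node (.leaf 0xc60402) (.leaf 0xce0402))) (.node (.node (.leaf 0x8a0402) (.leaf 0x900502)) (.leaf 0x2820502))))) (.node (.node (.node (.node (.node (.leaf 0x240302) (.leaf 0xc80402)) (.node (.leaf 0x4e0402) (.leaf 0x1120502))) (.node (.node (.leaf 0xc60402) (.leaf 0x1100502)) (.node (.leaf 0x8a0402) (.leaf 0xcc0402)))) (.node (.node (.node (.leaf 0x4a0402) (.leaf 0xc80402)) (.node (.leaf 0x8a0402) (.leaf 0x3020502))) (.node (.node (.leaf 0x880402) (.leaf 0x8e0402)) (.leaf 0xc60402)))) (.node (.node (.node (.node (.leaf 0x480402) (.leaf 0x4c0402)) (.node (.leaf 0x100501) (.leaf 0x1120502))) (.node (.node (.leaf 0x880402) (.leaf 0x8e0402)) (.node (.leaf 0x920502) (.leaf 0x920502)))) (.node (.node (.node (.leaf 0x4a0402) (.leaf 0x120501)) (.node (.leaf 0x8c0402) (.leaf 0x900502))) (.node (.node (.leaf 0xc60402) (.leaf 0x900502)) (.leaf 0x2060502)))))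

/-- data -/
def pot1p1 : Trie (ℕ) := .node (.node (.node (.node (.node (.node (.leaf 0x20201) (.leaf 0xc80402)) (.node (.leaf 0x4e0402) (.leaf 0xce0402))) (.node (.node (.leaf 0x100501) (.leaf 0x8e0402)) (.node (.leaf 0x8c0402) (.leaf 0x1100502)))) (.node (.node (.node (.leaf 0x840402) (.leaf 0x8c0402)) (.node (.leaf 0x8a0402) (.leaf 0x8e0402))) (.node (.node (.leaf 0x2800502) (.leaf 0xcc0402)) (.node (.leaf 0x4e0402) (.leaf 0x1120502))))) (.node (.node (.node (.node (.leaf 0x840402) (.leaf 0xcc0402)) (.node (.leaf 0x8c0402) (.leaf 0x180501))) (.node (.node (.leaf 0x8a0402) (.leaf 0x8e0402)) (.node (.leaf 0x900502) (.leaf 0x960502)))) (.node (.node (.node (.leaf 0x880402) (.leaf 0xca0402)) (.node (.leaf 0x8a0402) (.leaf 0x2860502))) (.node (.node (.leaf 0xc80402) (.leaf 0x8c0402)) (.leaf 0x2060502))))) (.node (.node (.node (.node (.node (.leaf 0x820402) (.leaf 0xc80402)) (.node (.leaf 0x900502) (.leaf 0x4e0402))) (.node (.node (.leaf 0x880402) (.leaf 0xc80402))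 (.node (.leaf 0x4e0402) (.leaf 0xcc0402)))) (.node (.node (.node (.leaf 0x880402) (.leaf 0xca0402)) (.node (.leaf 0xc80402) (.leaf 0x2860502))) (.node (.node (.leaf 0x8a0402) (.leaf 0x920502)) (.leaf 0x8a0402)))) (.node (.node (.node (.node (.leaf 0x840402) (.leaf 0x8a0402)) (.node (.leaf 0x4e0402) (.leaf 0xc80402))) (.node (.node (.leaf 0xc60402) (.leaf 0x920502)) (.node (.leaf 0x140501) (.leaf 0x920502)))) (.node (.node (.node (.leaf 0xe0401) (.leaf 0x8c0402)) (.node (.leaf 0x4e0402) (.leaf 0x8e0402))) (.node (.node (.leaf 0x8a0402) (.leaf 0x8e0402)) (.leaf 0xca0402)))))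

/-- data -/
def pot1p2 : Trie (ℕ) := .node (.node (.node (.node (.node (.node (.leaf 0x200302) (.leaf 0x8c0402)) (.node (.leaf 0x880402) (.leaf 0x8e0402))) (.node (.node (.leaf 0x480402) (.leaf 0xca0402)) (.node (.leaf 0xca0402) (.leaf 0x940502)))) (.node (.node (.node (.leaf 0xc20402) (.leaf 0xc80402)) (.node (.leaf 0x4e0402) (.leaf 0x1100502))) (.node (.node (.leaf 0x2040502) (.leaf 0x1100502)) (.node (.leaf 0x8c0402) (.leaf 0x940502))))) (.node (.node (.node (.node (.leaf 0x480402) (.leaf 0x8e0402)) (.node (.leaf 0x900502) (.leaf 0xcc0402))) (.node (.node (.leaf 0x4e0402) (.leaf 0x920502)) (.node (.leaf 0x140501) (.leaf 0xcc0402)))) (.node (.node (.node (.leaf 0x4a0402) (.leaf 0x8e0402)) (.node (.leaf 0x4c0402) (.leaf 0x20a0502))) (.node (.node (.leaf 0x8c0402) (.leaf 0x2060502)) (.leaf 0xc80402))))) (.node (.node (.node (.node (.node (.leaf 0x260302) (.leaf 0x2060502)) (.node (.leaf 0xe0401) (.leaf 0x900502))) (.node (.node (.leaf 0xc60402) (.leaf 0x8c0402))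 (.node (.leaf 0x4e0402) (.leaf 0xce0402)))) (.node (.node (.node (.leaf 0x4c0402) (.leaf 0x8e0402)) (.node (.leaf 0x8c0402) (.leaf 0x2080502))) (.node (.node (.leaf 0x4c0402) (.leaf 0x1100502)) (.leaf 0xc80402)))) (.node (.node (.node (.node (.leaf 0xc20402) (.leaf 0x100501)) (.node (.leaf 0x4a0402) (.leaf 0xc80402))) (.node (.node (.leaf 0x4c0402) (.leaf 0x2060502)) (.node (.leaf 0x920502) (.leaf 0x960502)))) (.node (.node (.node (.leaf 0x480402) (.leaf 0x900502)) (.node (.leaf 0x8c0402) (.leaf 0x1100502))) (.node (.node (.leaf 0x4c0402) (.leaf 0xca0402)) (.leaf 0xc80402)))))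

/-- data -/
def pot1p3 : Trie (ℕ) := .node (.node (.node (.node (.node (.node (.leaf 0x40301) (.leaf 0x4e0402)) (.node (.leaf 0xc60402) (.leaf 0xcc0402))) (.node (.node (.leaf 0x860402) (.leaf 0xca0402)) (.node (.leaf 0x8a0402) (.leaf 0x2880502)))) (.node (.node (.node (.leaf 0x860402) (.leaf 0x2060502)) (.node (.leaf 0xc80402) (.leaf 0x20a0502))) (.node (.node (.leaf 0xc60402) (.leaf 0x900502)) (.node (.leaf 0x900502) (.leaf 0xcc0402))))) (.node (.node (.node (.node (.leaf 0xa0401) (.leaf 0x900502)) (.node (.leaf 0x120501) (.leaf 0x920502))) (.node (.node (.leaf 0x100501) (.leaf 0x900502)) (.node (.leaf 0x4e0402) (.leaf 0xce0402)))) (.node (.node (.node (.leaf 0x880402) (.leaf 0xcc0402)) (.node (.leaf 0x8a0402) (.leaf 0x20a0502))) (.node (.node (.leaf 0x4e0402) (.leaf 0x8c0402)) (.leaf 0x2060502))))) (.node (.node (.node (.node (.node (.leaf 0x80401) (.leaf 0xca0402)) (.node (.leaf 0x4c0402) (.leaf 0x4e0402))) (.node (.node (.leaf 0x8a0402) (.leaf 0xc80402))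 (.node (.leaf 0x120501) (.leaf 0x20a0502)))) (.node (.node (.node (.leaf 0xa0401) (.leaf 0xca0402)) (.node (.leaf 0x8c0402) (.leaf 0xcc0402))) (.node (.node (.leaf 0x8a0402) (.leaf 0x940502)) (.leaf 0x8c0402)))) (.node (.node (.node (.node (.leaf 0x860402) (.leaf 0x120501)) (.node (.leaf 0x4c0402) (.leaf 0x900502))) (.node (.node (.leaf 0x8a0402) (.leaf 0xca0402)) (.node (.leaf 0x880402) (.leaf 0x8c0402)))) (.node (.node (.node (.leaf 0x860402) (.leaf 0x120501)) (.node (.leaf 0x900502) (.leaf 0x940502))) (.node (.node (.leaf 0xe0401) (.leaf 0x8e0402)) (.leaf 0xca0402)))))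

/-- data -/
def pot1p4 : Trie (ℕ) := .node (.node (.node (.node (.node (.node (.leaf 0x40301) (.leaf 0x8c0402)) (.node (.leaf 0x8a0402) (.leaf 0x1100502))) (.node (.node (.leaf 0x4a0402) (.leaf 0x2080502)) (.node (.leaf 0x4e0402) (.leaf 0x1100502)))) (.node (.node (.node (.leaf 0xc20402) (.leaf 0xca0402)) (.node (.leaf 0x8c0402) (.leaf 0x1100502))) (.node (.node (.leaf 0x2040502) (.leaf 0x8c0402)) (.node (.leaf 0x4e0402) (.leaf 0xca0402))))) (.node (.node (.node (.node (.leaf 0x480402) (.leaf 0x8e0402)) (.node (.leaf 0x900502) (.leaf 0x180501))) (.node (.node (.leaf 0x4e0402) (.leaf 0x140501)) (.node (.leaf 0x8c0402) (.leaf 0xcc0402)))) (.node (.node (.node (.leaf 0x4c0402) (.leaf 0x8c0402)) (.node (.leaf 0x4e0402) (.leaf 0x20c0502))) (.node (.node (.leaf 0x8c0402) (.leaf 0x4e0402)) (.leaf 0x2060502))))) (.node (.node (.node (.node (.node (.leaf 0xa0401) (.leaf 0x8c0402)) (.node (.leaf 0x100501) (.leaf 0x900502))) (.node (.node (.leaf 0x4a0402) (.leaf 0xca0402))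 (.node (.leaf 0x100501) (.leaf 0x1900502)))) (.node (.node (.node (.leaf 0x480402) (.leaf 0x900502)) (.node (.leaf 0x900502) (.leaf 0x1120502))) (.node (.node (.leaf 0x4e0402) (.leaf 0x120501)) (.leaf 0xc60402)))) (.node (.node (.node (.node (.leaf 0x480402) (.leaf 0x4c0402)) (.node (.leaf 0x880402) (.leaf 0x900502))) (.node (.node (.leaf 0x4e0402) (.leaf 0x2080502)) (.node (.leaf 0xc60402) (.leaf 0x8c0402)))) (.node (.node (.node (.leaf 0x4a0402) (.leaf 0x900502)) (.node (.leaf 0x880402) (.leaf 0x1100502))) (.node (.node (.leaf 0x4c0402) (.leaf 0x1100502)) (.leaf 0x2060502)))))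

/-- data -/
def pot1p5 : Trie (ℕ) := .node (.node (.node (.node (.node (.node (.leaf 0x220302) (.leaf 0x8a0402)) (.node (.leaf 0xc60402) (.leaf 0xce0402))) (.node (.node (.leaf 0x860402) (.leaf 0x8e0402)) (.node (.leaf 0x8a0402) (.leaf 0x4e0402)))) (.node (.node (.node (.leaf 0x2000502) (.leaf 0x8e0402)) (.node (.leaf 0xe0401) (.leaf 0x940502))) (.node (.node (.leaf 0x880402) (.leaf 0x900502)) (.node (.leaf 0xc80402) (.leaf 0xcc0402))))) (.node (.node (.node (.node (.leaf 0xc0401) (.leaf 0xca0402)) (.node (.leaf 0x880402) (.leaf 0x900502))) (.node (.node (.leaf 0x120501) (.leaf 0x900502)) (.node (.leaf 0x900502) (.leaf 0x2880502)))) (.node (.node (.node (.leaf 0xc0401) (.leaf 0xca0402)) (.node (.leaf 0x880402) (.leaf 0xcc0402))) (.node (.node (.leaf 0x900502) (.leaf 0xca0402)) (.leaf 0x2840502))))) (.node (.node (.node (.node (.node (.leaf 0x240302) (.leaf 0xca0402)) (.node (.leaf 0x4c0402) (.leaf 0x900502))) (.node (.node (.leaf 0x880402) (.leaf 0x8c0402)) (.node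 (.leaf 0x4e0402) (.leaf 0xce0402)))) (.node (.node (.node (.leaf 0xc0401) (.leaf 0xc80402)) (.node (.leaf 0x100501) (.leaf 0x2080502))) (.node (.node (.leaf 0x880402) (.leaf 0x920502)) (.leaf 0x2040502)))) (.node (.node (.node (.node (.leaf 0x860402) (.leaf 0x8a0402)) (.node (.leaf 0xc60402) (.leaf 0x920502))) (.node (.node (.leaf 0x860402) (.leaf 0xcc0402)) (.node (.leaf 0x4c0402) (.leaf 0x920502)))) (.node (.node (.node (.leaf 0xc40402) (.leaf 0x140501)) (.node (.leaf 0xc80402) (.leaf 0x1100502))) (.node (.node (.leaf 0x100501) (.leaf 0x1100502)) (.leaf 0x2840502)))))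

/-- data -/
def pot1p6 : Trie (ℕ) := .node (.node (.node (.node (.node (.node (.leaf 0x60301) (.leaf 0xca0402)) (.node (.leaf 0x2040502) (.leaf 0x8c0402))) (.node (.node (.leaf 0xc40402) (.leaf 0x920502)) (.node (.leaf 0xc80402) (.leaf 0xca0402)))) (.node (.node (.node (.leaf 0xc40402) (.leaf 0x4e0402)) (.node (.leaf 0x4c0402) (.leaf 0x1100502))) (.node (.node (.leaf 0xc60402) (.leaf 0x8e0402)) (.node (.leaf 0x8c0402) (.leaf 0x1120502))))) (.node (.node (.node (.node (.leaf 0x260302) (.leaf 0xca0402)) (.node (.leaf 0xc60402) (.leaf 0x1100502))) (.node (.node (.leaf 0x860402) (.leaf 0x8e0402)) (.node (.leaf 0x8c0402) (.leaf 0x1120502)))) (.node (.node (.node (.leaf 0x4a0402) (.leaf 0x8e0402)) (.node (.leaf 0xc60402) (.leaf 0x20a0502))) (.node (.node (.leaf 0x4a0402) (.leaf 0x920502)) (.leaf 0x2060502))))) (.node (.node (.node (.node (.node (.leaf 0x260302) (.leaf 0x8e0402)) (.node (.leaf 0x8a0402) (.leaf 0x140501))) (.node (.node (.leaf 0xc60402) (.leaf 0xca0402))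 (.node (.leaf 0x120501) (.leaf 0xce0402)))) (.node (.node (.node (.leaf 0x480402) (.leaf 0xca0402)) (.node (.leaf 0x4e0402) (.leaf 0xcc0402))) (.node (.node (.leaf 0xc60402) (.leaf 0x8e0402)) (.leaf 0xc80402)))) (.node (.node (.node (.node (.leaf 0xa0401) (.leaf 0x4e0402)) (.node (.leaf 0x8a0402) (.leaf 0xca0402))) (.node (.node (.leaf 0xc40402) (.leaf 0xca0402)) (.node (.leaf 0x8a0402) (.leaf 0xce0402)))) (.node (.node (.node (.leaf 0x880402) (.leaf 0x4e0402)) (.node (.leaf 0x8a0402) (.leaf 0xce0402))) (.node (.node (.leaf 0x4c0402) (.leaf 0x940502)) (.leaf 0x2080502)))))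

/-- data -/
def pot1p7 : Trie (ℕ) := .node (.node (.node (.node (.node (.node (.leaf 0x220302) (.leaf 0x8c0402)) (.node (.leaf 0xc80402) (.leaf 0x8e0402))) (.node (.node (.leaf 0x880402) (.leaf 0x1100502)) (.node (.leaf 0x8c0402) (.leaf 0x160501)))) (.node (.node (.node (.leaf 0x860402) (.leaf 0x4e0402)) (.node (.leaf 0x100501) (.leaf 0x940502))) (.node (.node (.leaf 0xc60402) (.leaf 0x920502)) (.node (.leaf 0x8a0402) (.leaf 0x20e0502))))) (.node (.node (.node (.node (.leaf 0xa0401) (.leaf 0x2080502)) (.node (.leaf 0x8a0402) (.leaf 0x940502))) (.node (.node (.leaf 0x4a0402) (.leaf 0x920502)) (.node (.leaf 0xca0402) (.leaf 0xce0402)))) (.node (.node (.node (.leaf 0xe0401) (.leaf 0x8c0402)) (.node (.leaf 0x8a0402) (.leaf 0xce0402))) (.node (.node (.leaf 0xe0401) (.leaf 0x8a0402)) (.leaf 0x2080502))))) (.node (.node (.node (.node (.node (.leaf 0x820402) (.leaf 0xc80402)) (.node (.leaf 0x4e0402) (.leaf 0x920502))) (.node (.node (.leaf 0x8a0402) (.leaf 0x4e0402)) (.node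 (.leaf 0x4e0402) (.leaf 0xcc0402)))) (.node (.node (.node (.leaf 0x860402) (.leaf 0xca0402)) (.node (.leaf 0x120501) (.leaf 0x2840502))) (.node (.node (.leaf 0x8a0402) (.leaf 0x920502)) (.leaf 0x2040502)))) (.node (.node (.node (.node (.leaf 0xc0401) (.leaf 0x8c0402)) (.node (.leaf 0x4c0402) (.leaf 0x8c0402))) (.node (.node (.leaf 0x880402) (.leaf 0x8e0402)) (.node (.leaf 0x4e0402) (.leaf 0x2080502)))) (.node (.node (.node (.leaf 0x4a0402) (.leaf 0x8c0402)) (.node (.leaf 0x8c0402) (.leaf 0xce0402))) (.node (.node (.leaf 0x8a0402) (.leaf 0xc80402)) (.leaf 0xca0402)))))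

/-- data -/
def pot1p8 : Trie (ℕ) := .node (.node (.node (.node (.node (.node (.leaf 0x800402) (.leaf 0x900502)) (.node (.leaf 0x8a0402) (.leaf 0xca0402))) (.node (.node (.leaf 0x4a0402) (.leaf 0x8e0402)) (.node (.leaf 0xc80402) (.leaf 0x8e0402)))) (.node (.node (.node (.leaf 0xc40402) (.leaf 0x8c0402)) (.node (.leaf 0x4c0402) (.leaf 0x8e0402))) (.node (.node (.leaf 0x2040502) (.leaf 0x900502)) (.node (.leaf 0xc80402) (.leaf 0x1160502))))) (.node (.node (.node (.node (.leaf 0x260302) (.leaf 0x8e0402)) (.node (.leaf 0x4c0402) (.leaf 0x1100502))) (.node (.node (.leaf 0x860402) (.leaf 0x8a0402)) (.node (.leaf 0x900502) (.leaf 0x1900502)))) (.node (.node (.node (.leaf 0x4a0402) (.leaf 0x8e0402)) (.node (.leaf 0xc60402) (.leaf 0x1900502))) (.node (.node (.leaf 0x4a0402) (.leaf 0x8c0402)) (.leaf 0x2060502))))) (.node (.node (.node (.node (.node (.leaf 0xc00402) (.leaf 0xca0402)) (.node (.leaf 0x100501) (.leaf 0x120501))) (.node (.node (.leaf 0xc0401) (.leaf 0xca0402))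 (.node (.leaf 0x8c0402) (.leaf 0x20a0502)))) (.node (.node (.node (.leaf 0x4a0402) (.leaf 0x2060502)) (.node (.leaf 0x4e0402) (.leaf 0x2080502))) (.node (.node (.leaf 0xc60402) (.leaf 0xcc0402)) (.leaf 0x2820502)))) (.node (.node (.node (.node (.leaf 0xc0401) (.leaf 0x900502)) (.node (.leaf 0x8a0402) (.leaf 0xca0402))) (.node (.node (.leaf 0xc40402) (.leaf 0xca0402)) (.node (.leaf 0x880402) (.leaf 0x2860502)))) (.node (.node (.node (.leaf 0x880402) (.leaf 0x8c0402)) (.node (.leaf 0x2820502) (.leaf 0xcc0402))) (.node (.node (.leaf 0x4e0402) (.leaf 0x8c0402)) (.leaf 0xcc0402)))))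

/-- data -/
def pot1p9 : Trie (ℕ) := .node (.node (.node (.node (.node (.node (.leaf 0x240302) (.leaf 0x8c0402)) (.node (.leaf 0xc80402) (.leaf 0x1100502))) (.node (.node (.leaf 0x880402) (.leaf 0x8e0402)) (.node (.leaf 0x2060502) (.leaf 0x2860502)))) (.node (.node (.node (.leaf 0x880402) (.leaf 0x8e0402)) (.node (.leaf 0x8a0402) (.leaf 0x8e0402))) (.node (.node (.leaf 0xc80402) (.leaf 0x900502)) (.node (.leaf 0x4e0402) (.leaf 0x1100502))))) (.node (.node (.node (.node (.leaf 0x840402) (.leaf 0x1100502)) (.node (.leaf 0x8a0402) (.leaf 0x940502))) (.node (.node (.leaf 0xc40402) (.leaf 0x8a0402)) (.node (.leaf 0x8e0402) (.leaf 0x1900502)))) (.node (.node (.node (.leaf 0x880402) (.leaf 0xca0402)) (.node (.leaf 0x2040502) (.leaf 0xcc0402))) (.node (.node (.leaf 0x880402) (.leaf 0xca0402)) (.leaf 0xca0402))))) (.node (.node (.node (.node (.node (.leaf 0x840402) (.leaf 0x2060502)) (.node (.leaf 0x120501) (.leaf 0x8e0402))) (.node (.node (.leaf 0x4a0402) (.leaf 0x8e0402))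 (.node (.leaf 0x900502) (.leaf 0x1100502)))) (.node (.node (.node (.leaf 0xc0401) (.leaf 0xca0402)) (.node (.leaf 0x8c0402) (.leaf 0x2860502))) (.node (.node (.leaf 0x2040502) (.leaf 0x920502)) (.leaf 0xc80402)))) (.node (.node (.node (.node (.leaf 0x4a0402) (.leaf 0x900502)) (.node (.leaf 0x4e0402) (.leaf 0xcc0402))) (.node (.node (.leaf 0x2020502) (.leaf 0x2080502)) (.node (.leaf 0xc80402) (.leaf 0xcc0402)))) (.node (.node (.node (.leaf 0xc0401) (.leaf 0x8e0402)) (.node (.leaf 0x2060502) (.leaf 0xcc0402))) (.node (.node (.leaf 0x120501) (.leaf 0xcc0402)) (.leaf 0xca0402)))))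

/-- data -/
def pot1p10 : Trie (ℕ) := .node (.node (.node (.node (.node (.node (.leaf 0x60301) (.leaf 0xca0402)) (.node (.leaf 0x8c0402) (.leaf 0x2080502))) (.node (.node (.leaf 0x4c0402) (.leaf 0xcc0402)) (.node (.leaf 0xca0402) (.leaf 0x920502)))) (.node (.node (.node (.leaf 0x480402) (.leaf 0x920502)) (.node (.leaf 0x4e0402) (.leaf 0x2060502))) (.node (.node (.leaf 0x8a0402) (.leaf 0x920502)) (.node (.leaf 0x900502) (.leaf 0x160501))))) (.node (.node (.node (.node (.leaf 0x480402) (.leaf 0x900502)) (.node (.leaf 0xe0401) (.leaf 0x1120502))) (.node (.node (.leaf 0x880402) (.leaf 0xc80402)) (.node (.leaf 0x920502) (.leaf 0x960502)))) (.node (.node (.node (.leaf 0x4c0402) (.leaf 0x2080502)) (.node (.leaf 0xc80402) (.leaf 0x1100502))) (.node (.node (.leaf 0x4c0402) (.leaf 0xc80402)) (.leaf 0x2060502))))) (.node (.node (.node (.node (.node (.leaf 0x260302) (.leaf 0xca0402)) (.node (.leaf 0x4c0402) (.leaf 0x160501))) (.node (.node (.leaf 0xe0401) (.leaf 0x120501))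 (.node (.leaf 0x120501) (.leaf 0xcc0402)))) (.node (.node (.node (.leaf 0x4a0402) (.leaf 0x2060502)) (.node (.leaf 0x900502) (.leaf 0x20a0502))) (.node (.node (.leaf 0xc80402) (.leaf 0x940502)) (.leaf 0x2060502)))) (.node (.node (.node (.node (.leaf 0xe0401) (.leaf 0x140501)) (.node (.leaf 0xc60402) (.leaf 0x8c0402))) (.node (.node (.leaf 0xc60402) (.leaf 0x8e0402)) (.node (.leaf 0x8a0402) (.leaf 0x2880502)))) (.node (.node (.node (.leaf 0x4a0402) (.leaf 0x900502)) (.node (.leaf 0xc80402) (.leaf 0xca0402))) (.node (.node (.leaf 0x4a0402) (.leaf 0x8c0402)) (.leaf 0x8e0402)))))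

/-- data -/
def pot1p11 : Trie (ℕ) := .node (.node (.node (.node (.node (.node (.leaf 0x240302) (.leaf 0x8e0402)) (.node (.leaf 0x8a0402) (.leaf 0x20a0502))) (.node (.node (.leaf 0x860402) (.leaf 0x1100502)) (.node (.leaf 0x8c0402) (.leaf 0x1120502)))) (.node (.node (.node (.leaf 0x860402) (.leaf 0x160501)) (.node (.leaf 0x4e0402) (.leaf 0xca0402))) (.node (.node (.leaf 0xc80402) (.leaf 0x8c0402)) (.node (.leaf 0xca0402) (.leaf 0x20c0502))))) (.node (.node (.node (.node (.leaf 0xa0401) (.leaf 0x8e0402)) (.node (.leaf 0x4c0402) (.leaf 0x140501))) (.node (.node (.leaf 0x4a0402) (.leaf 0x2060502)) (.node (.leaf 0x120501) (.leaf 0x1140502)))) (.node (.node (.node (.leaf 0x4c0402) (.leaf 0xcc0402)) (.node (.leaf 0xc80402) (.leaf 0xce0402))) (.node (.node (.leaf 0x100501) (.leaf 0xca0402)) (.leaf 0x2840502))))) (.node (.node (.node (.node (.node (.leaf 0x840402) (.leaf 0x2080502)) (.node (.leaf 0x8a0402) (.leaf 0x920502))) (.node (.node (.leaf 0xe0401) (.leaf 0x4e0402))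 (.node (.leaf 0x900502) (.leaf 0xce0402)))) (.node (.node (.node (.leaf 0xe0401) (.leaf 0x2080502)) (.node (.leaf 0x120501) (.leaf 0x2080502))) (.node (.node (.leaf 0x8a0402) (.leaf 0x160501)) (.leaf 0xc80402)))) (.node (.node (.node (.node (.leaf 0x260302) (.leaf 0x4c0402)) (.node (.leaf 0x2040502) (.leaf 0x2080502))) (.node (.node (.leaf 0x880402) (.leaf 0x4e0402)) (.node (.leaf 0xc80402) (.leaf 0x1100502)))) (.node (.node (.node (.leaf 0xe0401) (.leaf 0x8e0402)) (.node (.leaf 0x2060502) (.leaf 0xcc0402))) (.node (.node (.leaf 0x880402) (.leaf 0xca0402)) (.leaf 0xca0402)))))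

/-- data -/
def pot1p12 : Trie (ℕ) := .node (.node (.node (.node (.node (.node (.leaf 0x80401) (.leaf 0x900502)) (.node (.leaf 0x4e0402) (.leaf 0x8e0402))) (.node (.node (.leaf 0xc40402) (.leaf 0x1100502)) (.node (.leaf 0xca0402) (.leaf 0x940502)))) (.node (.node (.node (.leaf 0x4a0402) (.leaf 0x8a0402)) (.node (.leaf 0x120501) (.leaf 0xca0402))) (.node (.node (.leaf 0x8c0402) (.leaf 0x8e0402)) (.node (.leaf 0x900502) (.leaf 0x1140502))))) (.node (.node (.node (.node (.leaf 0x480402) (.leaf 0x920502)) (.node (.leaf 0x100501) (.leaf 0x920502))) (.node (.node (.leaf 0x880402) (.leaf 0xca0402)) (.node (.leaf 0x900502) (.leaf 0x900502)))) (.node (.node (.node (.leaf 0x100501) (.leaf 0xcc0402)) (.node (.leaf 0x8c0402) (.leaf 0x2880502))) (.node (.node (.leaf 0x4a0402) (.leaf 0x2060502)) (.leaf 0x2080502))))) (.node (.node (.node (.node (.node (.leaf 0x480402) (.leaf 0x8c0402)) (.node (.leaf 0x8a0402) (.leaf 0x1100502))) (.node (.node (.leaf 0x4c0402) (.leaf 0x8c0402))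 (.node (.leaf 0x140501) (.leaf 0x8e0402)))) (.node (.node (.node (.leaf 0x480402) (.leaf 0x2080502)) (.node (.leaf 0x140501) (.leaf 0x2880502))) (.node (.node (.leaf 0xc80402) (.leaf 0x940502)) (.leaf 0x8e0402)))) (.node (.node (.node (.node (.leaf 0x840402) (.leaf 0x4e0402)) (.node (.leaf 0xc80402) (.leaf 0x1100502))) (.node (.node (.leaf 0x8a0402) (.leaf 0x8c0402)) (.node (.leaf 0x4c0402) (.leaf 0xcc0402)))) (.node (.node (.node (.leaf 0x4a0402) (.leaf 0x920502)) (.node (.leaf 0x8a0402) (.leaf 0x20c0502))) (.node (.node (.leaf 0x880402) (.leaf 0x8e0402)) (.leaf 0x2080502)))))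

/-- data -/
def pot1p13 : Trie (ℕ) := .node (.node (.node (.node (.node (.node (.leaf 0x60301) (.leaf 0x8e0402)) (.node (.leaf 0x8a0402) (.leaf 0x1100502))) (.node (.node (.leaf 0x880402) (.leaf 0x940502)) (.node (.leaf 0x8e0402) (.leaf 0x8e0402)))) (.node (.node (.node (.leaf 0x860402) (.leaf 0x8a0402)) (.node (.leaf 0x4c0402) (.leaf 0x2080502))) (.node (.node (.leaf 0x4a0402) (.leaf 0xca0402)) (.node (.leaf 0x8e0402) (.leaf 0x1140502))))) (.node (.node (.node (.node (.leaf 0xc0401) (.leaf 0x8e0402)) (.node (.leaf 0x4c0402) (.leaf 0x940502))) (.node (.node (.leaf 0x4c0402) (.leaf 0x900502)) (.node (.leaf 0x140501) (.leaf 0x1100502)))) (.node (.node (.node (.leaf 0x860402) (.leaf 0x900502)) (.node (.leaf 0x4c0402) (.leaf 0x20c0502))) (.node (.node (.leaf 0x880402) (.leaf 0xca0402)) (.leaf 0x8a0402))))) (.node (.node (.node (.node (.node (.leaf 0x80401) (.leaf 0xca0402)) (.node (.leaf 0xc80402) (.leaf 0x920502))) (.node (.node (.leaf 0x100501) (.leaf 0x900502))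 (.node (.leaf 0x4e0402) (.leaf 0x1100502)))) (.node (.node (.node (.leaf 0x860402) (.leaf 0xcc0402)) (.node (.leaf 0x880402) (.leaf 0x2080502))) (.node (.node (.leaf 0x8c0402) (.leaf 0x8c0402)) (.leaf 0x2040502)))) (.node (.node (.node (.node (.leaf 0x480402) (.leaf 0xc80402)) (.node (.leaf 0x8a0402) (.leaf 0x920502))) (.node (.node (.leaf 0xc40402) (.leaf 0xca0402)) (.node (.leaf 0x8a0402) (.leaf 0x940502)))) (.node (.node (.node (.leaf 0x880402) (.leaf 0x140501)) (.node (.leaf 0xc80402) (.leaf 0xcc0402))) (.node (.node (.leaf 0xc60402) (.leaf 0x2860502)) (.leaf 0xcc0402)))))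

/-- data -/
def pot1p14 : Trie (ℕ) := .node (.node (.node (.node (.node (.node (.leaf 0x240302) (.leaf 0x920502)) (.node (.leaf 0xc80402) (.leaf 0xcc0402))) (.node (.node (.leaf 0xc40402) (.leaf 0x920502)) (.node (.leaf 0x4c0402) (.leaf 0xcc0402)))) (.node (.node (.node (.leaf 0xc40402) (.leaf 0xc80402)) (.node (.leaf 0x8a0402) (.leaf 0xcc0402))) (.node (.node (.leaf 0x880402) (.leaf 0xcc0402)) (.node (.leaf 0x920502) (.leaf 0xce0402))))) (.node (.node (.node (.node (.leaf 0x260302) (.leaf 0x1100502)) (.node (.leaf 0x8a0402) (.leaf 0x940502))) (.node (.node (.leaf 0x4a0402) (.leaf 0x8e0402)) (.node (.leaf 0x900502) (.leaf 0x1100502)))) (.node (.node (.node (.leaf 0x4a0402) (.leaf 0x8e0402)) (.node (.leaf 0x4e0402) (.leaf 0xce0402))) (.node (.node (.leaf 0x4c0402) (.leaf 0xcc0402)) (.leaf 0xc80402))))) (.node (.node (.node (.node (.node (.leaf 0x260302) (.leaf 0x8e0402)) (.node (.leaf 0x8c0402) (.leaf 0x140501))) (.node (.node (.leaf 0x4c0402) (.leaf 0x140501))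 (.node (.leaf 0x8c0402) (.leaf 0x920502)))) (.node (.node (.node (.leaf 0x4a0402) (.leaf 0x8c0402)) (.node (.leaf 0x4c0402) (.leaf 0x2860502))) (.node (.node (.leaf 0x4c0402) (.leaf 0x4e0402)) (.leaf 0xc80402)))) (.node (.node (.node (.node (.leaf 0x480402) (.leaf 0x8c0402)) (.node (.leaf 0xc80402) (.leaf 0x2080502))) (.node (.node (.leaf 0x2020502) (.leaf 0x900502)) (.node (.leaf 0x4e0402) (.leaf 0xce0402)))) (.node (.node (.node (.leaf 0x4c0402) (.leaf 0x920502)) (.node (.leaf 0x8c0402) (.leaf 0xce0402))) (.node (.node (.leaf 0x8a0402) (.leaf 0xcc0402)) (.leaf 0x8e0402)))))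

/-- data -/
def pot1p15 : Trie (ℕ) := .node (.node (.node (.node (.node (.node (.leaf 0x80401) (.leaf 0x8a0402)) (.node (.leaf 0x8c0402) (.leaf 0xce0402))) (.node (.node (.leaf 0x2020502) (.leaf 0x920502)) (.node (.leaf 0x4c0402) (.leaf 0xca0402)))) (.node (.node (.node (.leaf 0x880402) (.leaf 0x8c0402)) (.node (.leaf 0x4e0402) (.leaf 0x2080502))) (.node (.node (.leaf 0x4c0402) (.leaf 0x1100502)) (.leaf 0x8a0402)))) (.node (.node (.node (.node (.leaf 0x840402) (.leaf 0x1100502)) (.node (.leaf 0x4e0402) (.leaf 0x940502))) (.node (.node (.leaf 0x880402) (.leaf 0x900502)) (.node (.leaf 0x8e0402) (.leaf 0x900502)))) (.node (.node (.node (.leaf 0xc0401) (.leaf 0x940502)) (.node (.leaf 0xc80402) (.leaf 0x1900502))) (.node (.node (.leaf 0x880402) (.leaf 0x8e0402)) (.leaf 0x8c0402))))) (.node (.node (.node (.node (.node (.leaf 0xa0401) (.leaf 0xca0402)) (.node (.leaf 0x900502) (.leaf 0x920502))) (.node (.node (.leaf 0x100501) (.leaf 0x4e0402)) (.node (.leaf 0x900502)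 (.leaf 0x940502)))) (.node (.node (.node (.leaf 0x860402) (.leaf 0xca0402)) (.node (.leaf 0x880402) (.leaf 0x20a0502))) (.node (.node (.leaf 0x4e0402) (.leaf 0x8c0402)) (.leaf 0x2040502)))) (.node (.node (.node (.node (.leaf 0x860402) (.leaf 0x4e0402)) (.node (.leaf 0x8c0402) (.leaf 0xcc0402))) (.node (.node (.leaf 0xc60402) (.leaf 0xca0402)) (.node (.leaf 0xc80402) (.leaf 0x1100502)))) (.node (.node (.node (.leaf 0xe0401) (.leaf 0x8c0402)) (.node (.leaf 0x2060502) (.leaf 0x1120502))) (.node (.node (.leaf 0x4c0402) (.leaf 0xca0402)) (.leaf 0x1100502)))))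

/-- data -/
def pot1 : Trie (ℕ) := .node (.node (.node (.node (pot1p0) (pot1p8)) (.node (pot1p4) (pot1p12))) (.node (.node (pot1p2) (pot1p10)) (.node (pot1p6) (pot1p14)))) (.node (.node (.node (pot1p1) (pot1p9)) (.node (pot1p5) (pot1p13))) (.node (.node (pot1p3) (pot1p11)) (.node (pot1p7) (pot1p15))))

/-- table 1 -/
def table1 : Table where
  size := 975
  ngen := 3
  next g x := next1.get (3 * g + x)
  prev g x := prev1.get (3 * g + x)
  lab g x := unWord (lab1.get (3 * g + x))
  val g x := unVec (val1.get (3 * g + x))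
  rank g x := rank1.get (3 * g + x)
  tree g := tree1.get g
  cert j := cert1.get j
  nded := 1951
  rels := [⟨unWord 0x8cb004, unWord 0x1001, unVec 0x100⟩,
    ⟨unWord 0x112b59007, unWord 0x3001, unVec 0x100⟩,
    ⟨unWord 0x4, unWord 0x0, unVec 0x2000205⟩,
    ⟨unWord 0x4924005, unWord 0x0, unVec 0x8000206⟩,
    ⟨unWord 0x501486b009, unWord 0x0, unVec 0x20000207⟩,
    ⟨unWord 0x91c094009, unWord 0x0, unVec 0x80000208⟩,
    ⟨unWord 0x12492006, unWord 0x0, unVec 0x200000209⟩,
    ⟨unWord 0x56a81b009, unWord 0x0, unVec 0x80000020a⟩,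
    ⟨unWord 0x1466412200a, unWord 0x0, unVec 0x200000020b⟩,
    ⟨unWord 0x1dae48ed00a, unWord 0x0, unVec 0x800000020c⟩,
    ⟨unWord 0x715411008, unWord 0x0, unVec 0x2000000020d⟩,
    ⟨unWord 0x719719008, unWord 0x0, unVec 0x8000000020e⟩,
    ⟨unWord 0x2201236b00a, unWord 0x0, unVec 0x20000000020f⟩,
    ⟨unWord 0x218eba9400a, unWord 0x0, unVec 0x800000000210⟩]
  pot g := unVec (pot1.get g)
  innerSize := 8
  innerGen := 2

/-- level 1 -/
def level1 : ChainLevel where
  table := table1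
  gexp := [[1, 0], [0, 2], [2, 0]]
  perm := []
  pinv := []
  defs := [unWord 0x8cb004, unWord 0x112b59007]
  eqs := [(2, 386, unVec 0x8000304), (11, 2, unVec 0x2001010e), (4, 389, unVec 0xa89a08000210), (5, 0, unVec 0x82109098000030f), (10, 829, unVec 0xb000400000021040d), (5, 134, unVec 0x11742510008030e), (8, 656, unVec 0x8103429008080310), (8, 455, unVec 0x1076a502081030e), (4, 772, unVec 0x98983340042030f), (8, 303, unVec 0x88c10b0988000310), (12, 239, unVec 0x24551008200201040e), (3, 182, unVec 0x2308844982210310), (10, 728, unVec 0x314800047004114040f)]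
  pts := []

end CfsgLib.Sporadic.RuMult.TitsChain
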