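import Cfsg.Agent.Lib.Sporadic.RuMult.TitsCode

/-!
# Coset table 2 of the Tits subgroup of the Rudvalis group
-/

set_option autoImplicit false
set_option maxRecDepth 100000
set_option maxHeartbeats 0
set_option Elab.async false

namespace CfsgLib.Sporadic.RuMult.TitsChain

open CfsgLib.Schur.Cert CfsgLib.Sporadic

/-- data -/
def next2 : Trie (ℕ) := .node (.node (.node (.leaf 0) (.leaf 1)) (.node (.leaf 2) (.leaf 3))) (.node (.node (.leaf 1) (.leaf 0)) (.node (.leaf 3) (.leaf 2)))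

/-- data -/
def prev2 : Trie (ℕ) := .node (.node (.node (.leaf 0) (.leaf 1)) (.node (.leaf 2) (.leaf 3))) (.node (.node (.leaf 2) (.leaf 3)) (.node (.leaf 0) (.leaf 1)))

/-- data -/
def lab2 : Trie (ℕ) := .node (.node (.node (.leaf 0x1001) (.leaf 0x0)) (.node (.leaf 0x0) (.leaf 0x1001))) (.node (.node (.leaf 0x0) (.leaf 0x1001)) (.node (.leaf 0x0) (.leaf 0x1001)))

/-- data -/
def val2 : Trie (ℕ) := .node (.node (.node (.leaf 0x100) (.leaf 0x20102)) (.node (.leaf 0x100) (.leaf 0x80104))) (.node (.node (.leaf 0x100) (.leaf 0x160203)) (.node (.leaf 0x100) (.leaf 0x520204)))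

/-- data -/
def rank2 : Trie (ℕ) := .node (.node (.node (.leaf 1) (.leaf 2)) (.node (.leaf 0) (.leaf 4))) (.node (.node (.leaf 0) (.leaf 3)) (.node (.leaf 0) (.leaf 5)))

/-- data -/
def tree2 : Trie (ℕ × ℕ) := .node (.node (.leaf (0, 0)) (.leaf (1, 0))) (.node (.leaf (0, 1)) (.leaf (1, 1)))

/-- data -/
def cert2 : Trie (ℕ × ℕ × ℕ) := .node (.node (.node (.leaf (0, 0, 0)) (.leaf (3, 1, 4))) (.leaf (2, 0, 0))) (.node (.leaf (1, 1, 0)) (.leaf (3, 0, 3)))

/-- data -/
def pot2 : Trie (ℕ) := .node (.node (.leaf 0x100) (.leaf 0x240302)) (.node (.leaf 0x1e0302) (.leaf 0x7c0402))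

/-- table 2 -/
def table2 : Table where
  size := 4
  ngen := 2
  next g x := next2.get (2 * g + x)
  prev g x := prev2.get (2 * g + x)
  lab g x := unWord (lab2.get (2 * g + x))
  val g x := unVec (val2.get (2 * g + x))
  rank g x := rank2.get (2 * g + x)
  tree g := tree2.get g
  cert j := cert2.get j
  nded := 5
  rels := [⟨unWord 0x1001, unWord 0x1001, unVec 0x100⟩,
    ⟨unWord 0x2, unWord 0x0, unVec 0x80202⟩,
    ⟨unWord 0x8a004, unWord 0x0, unVec 0x200203⟩,
    ⟨unWord 0x120d9006, unWord 0x0, unVec 0x800204⟩]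
  pot g := unVec (pot2.get g)
  innerSize := 2
  innerGen := 1

/-- level 2 -/
def level2 : ChainLevel where
  table := table2
  gexp := [[(-1), 4], [3, (-2)]]
  perm := []
  pinv := []
  defs := [unWord 0x1001]
  eqs := []
  pts := []

end CfsgLib.Sporadic.RuMult.TitsChain
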