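import Cfsg.Agent.Lib.Sporadic.RuMult.TitsCode

/-!
# Coset table 3 of the Tits subgroup of the Rudvalis group
-/

set_option autoImplicit false
set_option maxRecDepth 100000
set_option maxHeartbeats 0
set_option Elab.async false

namespace CfsgLib.Sporadic.RuMult.TitsChain

open CfsgLib.Schur.Cert CfsgLib.Sporadic

/-- data -/
def next3 : Trie (ℕ) := .node (.leaf 1) (.leaf 0)

/-- data -/
def prev3 : Trie (ℕ) := .node (.leaf 1) (.leaf 0)

/-- data -/
def lab3 : Trie (ℕ) := .node (.leaf 0x0) (.leaf 0x0)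

/-- data -/
def val3 : Trie (ℕ) := .node (.leaf 0x100) (.leaf 0x10101)

/-- data -/
def rank3 : Trie (ℕ) := .node (.leaf 0) (.leaf 1)

/-- data -/
def tree3 : Trie (ℕ × ℕ) := .node (.leaf (0, 0)) (.leaf (0, 0))

/-- data -/
def cert3 : Trie (ℕ × ℕ × ℕ) := .leaf (0, 0, 0)

/-- data -/
def pot3 : Trie (ℕ) := .node (.leaf 0x100) (.leaf 0x810402)

/-- table 3 -/
def table3 : Table where
  size := 2
  ngen := 1
  next g x := next3.get (1 * g + x)
  prev g x := prev3.get (1 * g + x)
  lab g x := unWord (lab3.get (1 * g + x))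
  val g x := unVec (val3.get (1 * g + x))
  rank g x := rank3.get (1 * g + x)
  tree g := tree3.get g
  cert j := cert3.get j
  nded := 1
  rels := [⟨unWord 0x2, unWord 0x0, unVec 0x20201⟩]
  pot g := unVec (pot3.get g)
  innerSize := 1
  innerGen := 0

/-- level 3 -/
def level3 : ChainLevel where
  table := table3
  gexp := [[(-1), 4]]
  perm := []
  pinv := []
  defs := []
  eqs := []
  pts := []

end CfsgLib.Sporadic.RuMult.TitsChain
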