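import Cfsg.Agent.Lib.Sporadic.RuMult.Outer
import Cfsg.Agent.Lib.Sporadic.RuMult.CocTheory
import Cfsg.Agent.Lib.Sporadic.RuMult.CocChecks
import Cfsg.Agent.Lib.Sporadic.RuMult.TableChecks
import Cfsg.Agent.Lib.Schur.CentralLift

/-!
# The two-part of the multiplier

With the outer lift squaring into the Tits part, the coset table on the 4060 points shows that a stem
extension with kernel of exponent two is trivial.
-/

set_option autoImplicit false
set_option maxRecDepth 100000
set_option maxHeartbeats 1000000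

namespace CfsgLib.Sporadic.RuMult

open CfsgLib.Sporadic CfsgLib.Sporadic.RuMod CocData

section generic

variable {Γ : Type*} [Group Γ]

theorem evm_mem {v : ℕ → Γ} {H : Subgroup Γ} (h : ∀ j, v j ∈ H) : ∀ N m, evm v N m ∈ H
  | 0, _ => one_mem H
  | N + 1, m => mul_mem (evm_mem h N m) (by split_ifs; exacts [h N, one_mem H])

theorem prod_gauge (f g : ℕ → Γ) (a b : Γ) (ha : ∀ γ, Commute γ a) (hb : ∀ γ, Commute γ b)
    (hg : ∀ x, g x = f x * (if x = 3 then a else if x = 4 then b else 1)) :
    ∀ w : List ℕ, (w.map g).prod = (w.map f).prod * (a ^ w.count 3 * b ^ w.count 4)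
  | [] => by simp
  | x :: w => by
    rw [List.map_cons, List.prod_cons, List.map_cons, List.prod_cons, prod_gauge f g a b ha hb hg w, hg x]
    rcases eq_or_ne x 3 with rfl | h3
    · rw [if_pos rfl, List.count_cons_self, List.count_cons_of_ne (by norm_num), pow_succ']
      rw [mul_assoc (f 3), ← mul_assoc a (List.map f w).prod, ← (ha _).eq]
      simp only [mul_assoc]
    rcases eq_or_ne x 4 with rfl | h4
    · rw [if_neg h3, if_pos rfl, List.count_cons_of_ne (by norm_num), List.count_cons_self, pow_succ']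
      rw [mul_assoc (f 4), ← mul_assoc b (List.map f w).prod, ← (hb _).eq]
      simp only [mul_assoc]
      rw [← mul_assoc b, ← (hb _).eq, mul_assoc]
    · rw [if_neg h3, if_neg h4, mul_one, List.count_cons_of_ne h3, List.count_cons_of_ne h4, mul_assoc]

theorem sq_pow_even {q : Γ} (h : q * q = 1) {n : ℕ} (hn : n % 2 = 0) : q ^ n = 1 := by
  rw [← Nat.div_add_mod n 2, hn, add_zero, pow_mul, pow_two, h, one_pow]

theorem sq_pow_odd {q : Γ} (h : q * q = 1) {n : ℕ} (hn : n % 2 = 1) : q ^ n = q := by
  rw [← Nat.div_add_mod n 2, hn, pow_succ, pow_mul, pow_two, h, one_pow, one_mul]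

end generic

/-- The vector of the first point. -/
noncomputable def basePt : Mat := dec (g0.img 0)

theorem rel_el {r : ℕ} (hr : r < coc.rels.length) : ((coc.rels.getD r []).reverse.map el).prod = 1 := by
  have h := forallLt_elim rel_pts hr
  simp only [relPt, Bool.and_eq_true, List.all_eq_true, Nat.blt_eq, Nat.beq_eq] at h
  obtain ⟨⟨⟨h1, h2⟩, h3⟩, -⟩ := h
  have e : (coc.rels.getD r []).reverse.map el =
      (coc.rels.getD r []).reverse.map fun x => el ([0, 1, 2, 3, 4].getD x 0) := by
    refine List.map_congr_left fun x hx => ?_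
    have := h2 x (List.mem_reverse.1 hx)
    interval_cases x <;> rfl
  rw [e]
  exact Units.ext (by rw [← wel, wel_val h1, h3, dec_one, Units.val_one])

theorem R_zero : dec (g0.R 0) = 1 := by
  have h := Valid.g0_base
  simp only [Level.baseOK, Bool.and_eq_true, Nat.beq_eq] at h
  rw [h.1.1.1, dec_one]

attribute [local irreducible] mm dec Level.R in
theorem basePt_eq : basePt = dec g0.base := by
  rw [basePt, img_eq, R_zero, one_mul]

attribute [local irreducible] mm dec Level.R in
theorem fix_basePt {g : G28} (hg : g ∈ RK) : (g : Mat) * basePt = basePt := by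
  rw [basePt_eq]
  exact RuOut.fix_base hg

attribute [local irreducible] mm dec Level.R Level.img in
theorem mem_RK_of_fix {g : G28} (hg : g ∈ RG) (h : (g : Mat) * basePt = basePt) : g ∈ RK := by
  obtain ⟨h1, -, -⟩ := chain_spec gChain gChain_ok
  obtain ⟨h2, -, -⟩ := chain_spec [g1, g2, g3, g4] gChain_ok.2
  obtain ⟨i, hi, k, hk, e⟩ := (h1 g).1 hg
  have hkK : k ∈ RK := (h2 k).2 hk
  have himg : dec (g0.img i) = dec (g0.img 0) := by
    show dec (g0.img i) = basePt
    rw [← h, e, mul_assoc, fix_basePt hkK, basePt_eq, img_eq]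
  have h0 := forallLt_elim base_only (show i < 4060 from hi)
  simp only [Bool.or_eq_true, Bool.not_eq_true', Nat.beq_eq] at h0
  rcases h0 with rfl | h0
  · rwa [show g = k from Units.ext (by rw [e, R_zero, one_mul])]
  · rw [img_inj himg, ← Bool.not_eq_true, Nat.beq_eq] at h0
    exact absurd rfl h0

theorem oldPt_lt {q : ℕ} (hq : q < 4060) : oldPt q < 4060 := by
  have h := tree_pts q hq
  simp only [treePt, Bool.and_eq_true, Nat.blt_eq] at h
  exact h.1

theorem oldPt_zero : oldPt 0 = 0 := by
  have h := tree_pts 0 (by norm_num)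
  simp only [treePt, Bool.and_eq_true, Bool.or_eq_true, Nat.beq_eq, Nat.blt_eq] at h
  rcases h.2 with h' | h'
  · exact h'.2
  · exact absurd h'.2.1.1 (Nat.not_lt_zero _)

theorem oldPt_eq_zero {q : ℕ} (hq : q < 4060) (h0 : oldPt q = 0) : q = 0 := by
  have h := tree_pts q hq
  simp only [treePt, Bool.and_eq_true, Bool.or_eq_true, Nat.beq_eq, Bool.not_eq_true'] at h
  rcases h.2 with h' | h'
  · exact h'.1
  · rw [h0] at h'; simp at h'

attribute [local irreducible] mm dec Level.R Level.img in
/-- The representatives move the first point along the table. -/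
theorem rep_point {Γ : Type*} [Group Γ] (φ : Γ →* G28) (t : ℕ → Γ) (ht : ∀ x < 5, φ (t x) = el x) :
    ∀ c < 4060, (φ (coc.rep t c) : Mat) * basePt = dec (ptVec c) := by
  intro c
  induction c using Nat.strong_induction_on with
  | _ q ih =>
    intro hq
    rcases Nat.eq_zero_or_pos q with rfl | hpos
    · rw [Coc.rep_zero, map_one, Units.val_one, one_mul, ptVec, oldPt_zero]
      rfl
    have h := tree_pts q hq
    simp only [treePt, Bool.and_eq_true, Bool.or_eq_true, Nat.beq_eq, Nat.blt_eq] at h
    rcases h.2 with h' | h'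
    · omega
    obtain ⟨-, ⟨hp, hx⟩, hc⟩ := h'
    set p := Nat.div (coc.tree q) 16 with hpdef
    set x := Nat.div (Nat.mod (coc.tree q) 16) 2 with hxdef
    have ep : p = coc.tree q / 16 := rfl
    have ex : x = coc.tree q % 16 / 2 := rfl
    have hel : ∀ v, dec (mm (code x) v) = ((el x : G28) : Mat) * dec v := fun v => by
      rw [dec_mm, el_val (by omega)]
    cases hb : Nat.beq (Nat.mod (coc.tree q) 2) 1
    · rw [hb, cond_false, Nat.beq_eq] at hc
      have hb' : coc.tree q % 2 = 0 := by
        rcases Nat.mod_two_eq_zero_or_one (coc.tree q) with e | e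
        · exact e
        · rw [show Nat.mod (coc.tree q) 2 = 1 from e] at hb; exact absurd hb (by decide)
      have er := coc.rep_bwd t (show x < 8 by omega) hp (show coc.tree q = p * 16 + 2 * x by omega)
      have e1 := ih p hp (by omega)
      rw [← er, map_mul, Units.val_mul, ht x hx, mul_assoc, ← hc, hel] at e1
      have e2 := congrArg (fun M => (((el x)⁻¹ : G28) : Mat) * M) e1
      simpa only [Units.inv_mul_cancel_left] using e2
    · rw [hb, cond_true, Nat.beq_eq] at hc
      have hb' : coc.tree q % 2 = 1 := Nat.eq_of_beq_eq_true hb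
      have er := coc.rep_fwd t (show x < 8 by omega) hp (show coc.tree q = p * 16 + (2 * x + 1) by omega)
      rw [← er, map_mul, Units.val_mul, ht x hx, mul_assoc, ih p hp (by omega), ← hel, hc]

attribute [local irreducible] mm dec Level.R Level.img wcode wel in
/-- A stem extension with kernel of exponent two and an outer lift squaring into the Tits part is trivial. -/
theorem two_part {Γ : Type*} [Group Γ] [Finite Γ] (σ : Γ →* RG) (hσ : Cfsg.IsStemExtension σ)
    (he : ∀ z ∈ σ.ker, z * z = 1) (u : Γ) (hu : σ u = gE 5) (hu2 : u * u ∈ titsPart σ) : σ.ker = ⊥ := by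
  classical
  have hs := hσ.1
  have hc := hσ.2.1
  obtain ⟨hmap, -⟩ := tits_lift σ hs hc
  set φ : Γ →* G28 := RG.subtype.comp σ with hφ
  have hφk : ∀ γ, φ γ = 1 ↔ γ ∈ σ.ker := fun γ => by
    rw [MonoidHom.mem_ker]
    exact ⟨fun h => Subtype.ext h, fun h => congrArg Subtype.val h⟩
  have hcomm : ∀ z ∈ σ.ker, ∀ γ, Commute γ z := fun z hz γ => Subgroup.mem_center_iff.1 (hc hz) γ
  -- the lifts
  have hlift : ∀ x, ∃ γ, (x < 3 → γ ∈ titsPart σ) ∧ (x < 5 → φ γ = el x) := by
    intro x
    by_cases h3 : x < 3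
    · obtain ⟨γ, hγ, e⟩ : gE x ∈ (titsPart σ).map σ := by rw [hmap]; exact gE_TS (members.2.2.1 x h3)
      exact ⟨γ, fun _ => hγ, fun h5 => (congrArg Subtype.val e).trans (gE_val (members.1 x h5))⟩
    · obtain ⟨γ, e⟩ := hs (gE x)
      exact ⟨γ, fun h => absurd h h3, fun h5 => (congrArg Subtype.val e).trans (gE_val (members.1 x h5))⟩
  choose s hsT hsφ using hlift
  obtain ⟨hel0, -, hmap0⟩ := outer_lift σ hs hc u hu hu2
  obtain ⟨l3, hl3, e3⟩ : ∃ l ∈ titsPart σ, φ (l * u) = el 3 := by
    have h3 : gE 3 ∈ KS := by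
      rw [Subgroup.mem_subgroupOf, gE_val (members.1 3 (by norm_num))]
      exact members.2.1 3 (by norm_num)
    rw [← hmap0] at h3
    obtain ⟨γ, hγ, e⟩ := h3
    rcases hel0 γ hγ with hl | ⟨l, hl, rfl⟩
    · have : gE 3 ∈ TS := by rw [← hmap]; exact ⟨γ, hl, e⟩
      rw [Subgroup.mem_subgroupOf, gE_val (members.1 3 (by norm_num))] at this
      exact absurd this el3_not_RT
    · exact ⟨l, hl, (congrArg Subtype.val e).trans (gE_val (members.1 3 (by norm_num)))⟩
  let t0 : ℕ → Γ := fun x => if x = 3 then l3 * u else s x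
  have ht0 : ∀ x < 5, φ (t0 x) = el x := fun x hx => by
    show φ (if x = 3 then l3 * u else s x) = el x
    split_ifs with h
    · rw [h, e3]
    · exact hsφ x hx
  have hval : ∀ (f : ℕ → Γ), (∀ x < 5, φ (f x) = el x) → ∀ r < coc.rels.length,
      ((coc.rels.getD r []).reverse.map f).prod ∈ σ.ker := by
    intro f hf r hr
    rw [← hφk, map_list_prod, List.map_map, ← rel_el hr]
    refine congrArg List.prod (List.map_congr_left fun x hx => hf x ?_)
    have h := forallLt_elim rel_pts hr
    simp only [relPt, Bool.and_eq_true, List.all_eq_true, Nat.blt_eq] at h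
    exact h.1.1.2 x (List.mem_reverse.1 hx)
  -- the gauge
  obtain ⟨hgauge, hg0, hg1, p03, p04, p13, p14⟩ := gauge_facts
  set r0 := Elts.gaugeAt.getD 0 0
  set r1 := Elts.gaugeAt.getD 1 0
  set q2 := ((coc.rels.getD r0 []).reverse.map t0).prod with hq2def
  set q1 := ((coc.rels.getD r1 []).reverse.map t0).prod with hq1def
  have hq2 : q2 ∈ σ.ker := hval t0 ht0 r0 hg0
  have hq1 : q1 ∈ σ.ker := hval t0 ht0 r1 hg1
  let t : ℕ → Γ := fun x => t0 x * (if x = 3 then q1 else if x = 4 then q2 else 1)
  have ht : ∀ x < 5, φ (t x) = el x := fun x hx => by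
    show φ (t0 x * _) = el x
    rw [map_mul, ht0 x hx, (hφk _).2 (by split_ifs <;> first | exact hq1 | exact hq2 | exact one_mem _), mul_one]
  have hprod : ∀ w : List ℕ, (w.reverse.map t).prod =
      (w.reverse.map t0).prod * (q1 ^ w.count 3 * q2 ^ w.count 4) := fun w => by
    rw [prod_gauge t0 t q1 q2 (hcomm _ hq1) (hcomm _ hq2) (fun _ => rfl) w.reverse, List.count_reverse,
      List.count_reverse]
  have hR0 : ((coc.rels.getD r0 []).reverse.map t).prod = 1 := by
    rw [hprod, ← hq2def, sq_pow_even (he _ hq1) p03, sq_pow_odd (he _ hq2) p04, one_mul, he _ hq2]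
  have hR1 : ((coc.rels.getD r1 []).reverse.map t).prod = 1 := by
    rw [hprod, ← hq1def, sq_pow_odd (he _ hq1) p13, sq_pow_even (he _ hq2) p14, mul_one, he _ hq1]
  -- the complement
  set u' := u * q1 with hu'def
  have hu' : σ u' = gE 5 := by rw [hu'def, map_mul, MonoidHom.mem_ker.1 hq1, mul_one, hu]
  have hu'2 : u' * u' ∈ titsPart σ := by
    rw [hu'def, mul_assoc, ← mul_assoc q1, ← (hcomm _ hq1 u).eq, mul_assoc, ← mul_assoc, he _ hq1, mul_one]
    exact hu2
  obtain ⟨-, hbot, hmapL⟩ := outer_lift σ hs hc u' hu' hu'2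
  set L := Subgroup.closure ((titsPart σ : Set Γ) ∪ {u'}) with hL
  have hfree : ∀ γ ∈ L, γ ∈ σ.ker → γ = 1 := fun γ h1 h2 => by
    have : γ ∈ L ⊓ σ.ker := ⟨h1, h2⟩
    rwa [hbot, Subgroup.mem_bot] at this
  have hlow : ∀ x < 4, t x ∈ L := by
    intro x hx
    rcases Nat.lt_succ_iff_lt_or_eq.1 hx with h | rfl
    · refine Subgroup.subset_closure (Or.inl ?_)
      show (if x = 3 then l3 * u else s x) * (if x = 3 then q1 else if x = 4 then q2 else 1) ∈ titsPart σ
      rw [if_neg (by omega), if_neg (by omega), if_neg (by omega), mul_one]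
      exact hsT x h
    · show (if (3 : ℕ) = 3 then l3 * u else s 3) * (if (3 : ℕ) = 3 then q1 else if (3 : ℕ) = 4 then q2 else 1) ∈ L
      rw [if_pos rfl, if_pos rfl, mul_assoc, ← hu'def]
      exact mul_mem (Subgroup.subset_closure (Or.inl hl3)) (Subgroup.subset_closure (Or.inr rfl))
  -- the free unknowns
  have hedge : ∀ i, ∃ z ∈ σ.ker, i < coc.free.length → coc.free.getD i 0 % 8 < 5 →
      ∃ l ∈ L, t (coc.free.getD i 0 % 8) * coc.rep t (coc.free.getD i 0 / 8) =
        coc.rep t (coc.tab (coc.free.getD i 0 / 8) (coc.free.getD i 0 % 8)) * z * l := by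
    intro i
    by_cases hi : i < coc.free.length ∧ coc.free.getD i 0 % 8 < 5
    · obtain ⟨hi, hx⟩ := hi
      set x := coc.free.getD i 0 % 8 with hxdef
      set c := coc.free.getD i 0 / 8 with hcdef
      have h := forallLt_elim free_pts hi
      simp only [freePt, Bool.and_eq_true, Nat.blt_eq, Nat.beq_eq] at h
      obtain ⟨⟨hc4, hd⟩, hmove⟩ := h
      change c < 4060 at hc4
      change coc.tab c x < 4060 at hd
      change mm (code x) (ptVec c) = ptVec (coc.tab c x) at hmove
      set g := (coc.rep t (coc.tab c x))⁻¹ * (t x * coc.rep t c) with hgdef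
      have hfix : φ g ∈ RK := by
        refine mem_RK_of_fix (σ g).2 ?_
        rw [hgdef, map_mul, map_inv, Units.val_mul, mul_assoc, map_mul, Units.val_mul, mul_assoc,
          rep_point φ t ht c hc4, ht x hx, el_val (by omega), ← dec_mm, hmove, ← rep_point φ t ht _ hd,
          Units.inv_mul_cancel_left]
      have hK : σ g ∈ KS := Subgroup.mem_subgroupOf.2 hfix
      rw [← hmapL] at hK
      obtain ⟨l, hl, el_eq⟩ := hK
      refine ⟨g * l⁻¹, ?_, fun _ _ => ⟨l, hl, ?_⟩⟩
      · rw [MonoidHom.mem_ker, map_mul, map_inv, el_eq, mul_inv_cancel]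
      · rw [hgdef]; group
    · exact ⟨1, one_mem _, fun h1 h2 => absurd ⟨h1, h2⟩ hi⟩
  choose z hzk hzl using hedge
  let v : ℕ → Γ := fun j => if j < coc.ns then
      ((coc.rels.getD (coc.rv.idxOf (Nat.shiftLeft 1 j)) []).reverse.map t).prod else z (j - coc.ns)
  have hvk : ∀ j, v j ∈ σ.ker := fun j => by
    show (if j < coc.ns then _ else _) ∈ σ.ker
    split_ifs with h
    · refine hval t ht _ ?_
      have := forallLt_elim slot_lengths.2 h
      simpa only [Nat.blt_eq] using this
    · exact hzk _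
  have hrel : ∀ r < coc.rels.length, ((coc.rels.getD r []).reverse.map t).prod = evm v coc.nu (coc.rv.getD r 0) := by
    intro r hr
    have h := forallLt_elim rel_pts hr
    simp only [relPt, Bool.and_eq_true, List.all_eq_true, Nat.blt_eq, Nat.beq_eq] at h
    obtain ⟨-, h⟩ := h
    cases hb : Nat.beq (coc.rv.getD r 0) 0
    · rw [hb, cond_false] at h
      simp only [List.any_eq_true, List.mem_range, Bool.and_eq_true, Nat.beq_eq] at h
      obtain ⟨j, hj, e, hidx⟩ := h
      rw [e, evm_bit (show j < coc.nu by unfold Coc.nu; omega)]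
      show _ = if j < coc.ns then _ else _
      rw [if_pos hj, hidx]
    · rw [hb, cond_true] at h
      simp only [List.all_eq_true, Nat.blt_eq] at h
      rw [Nat.eq_of_beq_eq_true hb, evm_zero]
      refine hfree _ (Subgroup.list_prod_mem _ fun y hy => ?_) (hval t ht r hr)
      obtain ⟨x, hx, rfl⟩ := List.mem_map.1 hy
      exact hlow x (h x (List.mem_reverse.1 hx))
  have F : CocFit coc L t v :=
    { central := fun j γ => hcomm _ (hvk j) γ
      sq := fun j => he _ (hvk j)
      free := fun m hm => hfree _ hm (evm_mem hvk _ _)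
      low := fun x hx => hlow x hx
      small := by decide +kernel
      rel := hrel
      var := by
        intro i hi c x hx e
        have hx5 : x < 5 := hx
        have ec : coc.free.getD i 0 / 8 = c := by omega
        have exx : coc.free.getD i 0 % 8 = x := by omega
        have h := hzl i hi (by omega)
        rw [ec, exx] at h
        show ∃ l ∈ L, _ = _ * (if coc.ns + i < coc.ns then _ else z (coc.ns + i - coc.ns)) * l
        rw [if_neg (by omega), Nat.add_sub_cancel_left]
        exact h }
  have hg : ∀ m ∈ CocData.gauge, evm v coc.nu m = 1 := by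
    intro m hm
    rw [hgauge] at hm
    simp only [List.mem_cons, List.not_mem_nil, or_false] at hm
    rcases hm with rfl | rfl
    · rw [← hrel r0 hg0, hR0]
    · rw [← hrel r1 hg1, hR1]
  obtain ⟨-, hcover⟩ := F.cover edges_check (by decide +kernel) eqs_check hg combos_check
  -- everything is covered
  have htop : Subgroup.closure (t '' {x | x < coc.k}) = ⊤ := by
    refine CfsgLib.Schur.eq_top_of_stem σ hσ _ (eq_top_iff.2 fun g _ => ?_)
    have hle : RG ≤ (Subgroup.closure (t '' {x | x < coc.k})).map φ := by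
      refine RG_gen.trans ((Subgroup.closure_le _).2 ?_)
      rintro y ⟨x, hx, rfl⟩
      exact ⟨t x, Subgroup.subset_closure ⟨x, hx, rfl⟩, ht x hx⟩
    obtain ⟨y, hy, e⟩ := hle g.2
    exact ⟨y, hy, Subtype.ext e⟩
  refine (Subgroup.eq_bot_iff_forall _).2 fun γ hγ => ?_
  obtain ⟨c, hc', l, hl, rfl⟩ := hcover γ (htop ▸ Subgroup.mem_top γ)
  have hc4 : c < 4060 := hc'
  have hlK : φ l ∈ RK := by
    have : σ l ∈ KS := hmapL ▸ ⟨l, hl, rfl⟩
    exact Subgroup.mem_subgroupOf.1 this
  have e0 : dec (ptVec c) = dec (g0.img 0) := by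
    show _ = basePt
    rw [← rep_point φ t ht c hc4]
    conv_lhs => rw [← fix_basePt hlK]
    rw [← mul_assoc, ← Units.val_mul, ← map_mul, (hφk _).2 hγ, Units.val_one, one_mul]
  have hb := forallLt_elim base_only (oldPt_lt hc4)
  simp only [Bool.or_eq_true, Bool.not_eq_true', Nat.beq_eq] at hb
  have h0 : oldPt c = 0 := by
    rcases hb with hb | hb
    · exact hb
    · rw [ptVec] at e0
      rw [img_inj e0, ← Bool.not_eq_true, Nat.beq_eq] at hb
      exact absurd rfl hb
  obtain rfl := oldPt_eq_zero hc4 h0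
  rw [Coc.rep_zero, one_mul] at hγ ⊢
  exact hfree l hl hγ

end CfsgLib.Sporadic.RuMult
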