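import Cfsg.Agent.Lib.Sporadic.RuGroup
import Cfsg.Agent.Lib.Sporadic.RuMult.Elts
import Cfsg.Agent.Lib.Sporadic.RuMult.TitsCode

/-!
# Elements of `GL(28,2)` from codes, and words in them
-/

set_option autoImplicit false
set_option maxRecDepth 100000

namespace CfsgLib.Sporadic.RuMult

open CfsgLib.Sporadic CfsgLib.Sporadic.RuMod

/-- The code of a listed element. -/
noncomputable def code (i : ℕ) : ℕ := Elts.codes.getD i one

/-- The code of the inverse of a listed element. -/
noncomputable def codeInv (i : ℕ) : ℕ := Elts.invs.getD i one

/-- The codes are inverse to each other. -/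
noncomputable def invertible (i : ℕ) : Bool :=
  Nat.beq (mm (code i) (codeInv i)) one && Nat.beq (mm (codeInv i) (code i)) one

theorem invertible_all : forallLt 12 invertible = true := by decide +kernel

/-- A listed element. -/
noncomputable def el (i : ℕ) : G28 :=
  if h : i < 12 then
    ⟨dec (code i), dec (codeInv i),
      by
        have := forallLt_elim invertible_all h
        simp only [invertible, Bool.and_eq_true, Nat.beq_eq] at this
        rw [← dec_mm, this.1, dec_one],
      by
        have := forallLt_elim invertible_all h
        simp only [invertible, Bool.and_eq_true, Nat.beq_eq] at this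
        rw [← dec_mm, this.2, dec_one]⟩
  else 1

theorem el_val {i : ℕ} (h : i < 12) : ((el i : G28) : Mat) = dec (code i) := by
  rw [el, dif_pos h]

theorem el_inv_val {i : ℕ} (h : i < 12) : (((el i)⁻¹ : G28) : Mat) = dec (codeInv i) := by
  rw [el, dif_pos h]; rfl

/-- The product of a list of codes. -/
noncomputable def wmat (l : List ℕ) : ℕ :=
  List.rec (motive := fun _ => ℕ) one (fun x _ m => mm x m) l

attribute [local irreducible] mm dec in
theorem val_prod {ι : Type*} (f : ι → G28) (g : ι → ℕ) : ∀ (l : List ι), (∀ x ∈ l, ((f x : G28) : Mat) = dec (g x)) →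
    (((l.map f).prod : G28) : Mat) = dec (wmat (l.map g))
  | [], _ => by rw [List.map_nil, List.prod_nil, List.map_nil, Units.val_one]; exact dec_one.symm
  | x :: l, h => by
    rw [List.map_cons, List.prod_cons, Units.val_mul, h x List.mem_cons_self,
      val_prod f g l fun y hy => h y (List.mem_cons_of_mem _ hy), ← dec_mm, List.map_cons]
    rfl

/-- The code of a word read from the right. -/
noncomputable def wcode (is : List ℕ) (w : List ℕ) : ℕ := wmat (w.reverse.map fun x => code (is.getD x 0))

/-- A word read from the right. -/
noncomputable def wel (is : List ℕ) (w : List ℕ) : G28 := (w.reverse.map fun x => el (is.getD x 0)).prod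

/-- The letters of a word are below a bound and the listed places are proper. -/
noncomputable def lettersOK (is : List ℕ) (w : List ℕ) : Bool := w.all fun x => Nat.blt (is.getD x 0) 12

theorem wel_val {is w : List ℕ} (h : lettersOK is w = true) : ((wel is w : G28) : Mat) = dec (wcode is w) := by
  refine val_prod _ _ _ fun x hx => el_val ?_
  simp only [lettersOK, List.all_eq_true, Nat.blt_eq] at h
  exact h x (List.mem_reverse.1 hx)

theorem wel_mem {is w : List ℕ} (H : Subgroup G28) (h : ∀ x ∈ w, el (is.getD x 0) ∈ H) : wel is w ∈ H := by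
  refine Subgroup.list_prod_mem _ fun g hg => ?_
  obtain ⟨x, hx, rfl⟩ := List.mem_map.1 hg
  exact h x (List.mem_reverse.1 hx)

/-- The packed fields give the code. -/
noncomputable def siftOK (Ls : List Level) (c e : ℕ) : Bool := fieldsOK Ls e && Nat.beq (prodFrom Ls e) c

attribute [local irreducible] mm dec prodFrom in
theorem mem_of_sift {Ls : List Level} (hok : ChainOK Ls) {c e : ℕ} (h : siftOK Ls c e = true) {g : G28}
    (hg : (g : Mat) = dec c) : g ∈ genGroup (nextGens Ls) := by
  simp only [siftOK, Bool.and_eq_true, Nat.beq_eq] at h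
  obtain ⟨h1, -, h3⟩ := chain_spec Ls hok
  exact (h1 g).2 (prodFrom_mem Ls e h.1 (by rw [hg, h.2]) h3)

attribute [local irreducible] mm dec in
theorem el_mul_eq {i j k : ℕ} (hi : i < 12) (hj : j < 12) {g : G28} (hg : (g : Mat) = dec k)
    (h : Nat.beq (mm (code i) (code j)) k = true) : el i * el j = g :=
  Units.ext (by rw [Units.val_mul, el_val hi, el_val hj, ← dec_mm, Nat.eq_of_beq_eq_true h, hg])

theorem RK_ok : ChainOK [g1, g2, g3, g4] := gChain_ok.2

/-- A word over some listed elements is a listed generator. -/
noncomputable def genWord (is : List ℕ) (S : List ℕ) (ws : List (List ℕ)) : Bool :=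
  Nat.beq ws.length S.length &&
    forallLt S.length (fun k => lettersOK is (ws.getD k []) && Nat.beq (wcode is (ws.getD k [])) (S.getD k 0))

attribute [local irreducible] mm dec wcode in
theorem genGroup_le {is : List ℕ} {S : List ℕ} {ws : List (List ℕ)} (h : genWord is S ws = true) (H : Subgroup G28)
    (hH : ∀ x, el (is.getD x 0) ∈ H) : genGroup S ≤ H := by
  refine (Subgroup.closure_le _).2 ?_
  rintro g ⟨k, hk, hg⟩
  simp only [genWord, Bool.and_eq_true] at h
  have h' := forallLt_elim h.2 hk
  simp only [Bool.and_eq_true, Nat.beq_eq] at h'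
  have e : g = wel is (ws.getD k []) := Units.ext (by rw [hg, wel_val h'.1, h'.2])
  rw [e]
  exact wel_mem H fun x _ => hH x

end CfsgLib.Sporadic.RuMult
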